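import Groth.Agent.H19Mult.Field

/-!
Groups of multiplicative type are stable under base change.
-/

set_option autoImplicit false
set_option linter.style.haveILetI false
set_option backward.isDefEq.respectTransparency false

universe u

open TensorProduct

namespace Groth.Agent.H19Mult

/-- Base change of a group of multiplicative type. -/
theorem isMultType_baseChange {R : Type u} [CommRing R] {A : Type u} [CommRing A] [HopfAlgebra R A]
    (h : SGA3b.IsMultType R A) (S : Type u) [CommRing S] [Algebra R S] : SGA3b.IsMultType S (S ⊗[R] A) := by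
  obtain ⟨s, hs, h⟩ := h
  refine ⟨algebraMap R S '' s, by rw [← Ideal.map_span, hs, Ideal.map_top], ?_⟩
  rintro _ ⟨f, hf, rfl⟩
  obtain ⟨T, _, _, hff, N, _, ⟨e⟩⟩ := h f hf
  let Sf := Localization.Away (algebraMap R S f)
  let Rf := Localization.Away f
  letI : Algebra Rf Sf := (IsLocalization.Away.map Rf Sf (algebraMap R S) f).toAlgebra
  haveI : IsScalarTower R Rf Sf := IsScalarTower.of_algebraMap_eq fun r => by
    show algebraMap R Sf r = IsLocalization.Away.map Rf Sf (algebraMap R S) f (algebraMap R Rf r)
    rw [IsLocalization.Away.map, IsLocalization.map_eq]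
    exact IsScalarTower.algebraMap_apply R S Sf r
  letI : Algebra R T := ((algebraMap Rf T).comp (algebraMap R Rf)).toAlgebra
  haveI : IsScalarTower R Rf T := IsScalarTower.of_algebraMap_eq' rfl
  haveI := hff
  let U := Sf ⊗[Rf] T
  letI : Algebra T U := Algebra.TensorProduct.rightAlgebra
  haveI : IsScalarTower R T U := IsScalarTower.of_algebraMap_eq fun r => by
    show algebraMap R U r = (1 : Sf) ⊗ₜ[Rf] (algebraMap R T r)
    rw [IsScalarTower.algebraMap_apply R Rf U, IsScalarTower.algebraMap_apply R Rf T,
      Algebra.TensorProduct.algebraMap_apply']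
  obtain ⟨eU⟩ := isDiag_baseChange ((cancelEquiv (R := R) (A := A) Rf T).symm.trans e) U
  haveI : IsScalarTower S Sf U := inferInstance
  haveI : IsScalarTower R S U := IsScalarTower.of_algebraMap_eq (R := R) (S := S) (A := U) fun r => by
    rw [IsScalarTower.algebraMap_apply S Sf U, ← IsScalarTower.algebraMap_apply R S Sf,
      ← IsScalarTower.algebraMap_apply R Sf U]
  exact ⟨U, inferInstance, inferInstance, inferInstance, N, inferInstance,
    ⟨((cancelEquiv (R := S) (A := S ⊗[R] A) Sf U).trans (cancelEquiv (R := R) (A := A) S U)).trans eU⟩⟩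

/-- Diagonalisability after a base change through a cover. -/
theorem isDiag_cancel {R : Type u} [CommRing R] {A : Type u} [CommRing A] [HopfAlgebra R A]
    (S : Type u) [CommRing S] [Algebra R S] (T : Type u) [CommRing T] [Algebra S T] [Algebra R T]
    [IsScalarTower R S T] : SGA3b.IsDiag T (T ⊗[S] (S ⊗[R] A)) ↔ SGA3b.IsDiag T (T ⊗[R] A) :=
  ⟨fun ⟨M, _, ⟨e⟩⟩ => ⟨M, inferInstance, ⟨(cancelEquiv (R := R) (A := A) S T).symm.trans e⟩⟩,
    fun ⟨M, _, ⟨e⟩⟩ => ⟨M, inferInstance, ⟨(cancelEquiv (R := R) (A := A) S T).trans e⟩⟩⟩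

end Groth.Agent.H19Mult
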