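import Groth.Agent.H19Mult.LiftDiag

/-!
A group of multiplicative type of finite type over a field is split by a finite separable extension.
-/

set_option autoImplicit false
set_option linter.style.haveILetI false
set_option backward.isDefEq.respectTransparency false

universe u

open TensorProduct Coalgebra

namespace Groth.Agent.H19Mult

variable {k : Type u} [Field k] {A : Type u} [CommRing A] [HopfAlgebra k A]

theorem mapA_injective_field {T T' : Type u} [CommRing T] [Algebra k T] [CommRing T'] [Algebra k T']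
    (ι : T →ₐ[k] T') (hι : Function.Injective ι) : Function.Injective (mapA (A := A) ι) :=
  Module.Flat.rTensor_preserves_injective_linearMap (M := A) ι.toLinearMap hι

theorem mapA2_injective_field {T T' : Type u} [CommRing T] [Algebra k T] [CommRing T'] [Algebra k T']
    (ι : T →ₐ[k] T') (hι : Function.Injective ι) : Function.Injective (mapA2 (A := A) ι) :=
  Module.Flat.rTensor_preserves_injective_linearMap (M := A ⊗[k] A) ι.toLinearMap hι

theorem mapA_algebraMap {T T' : Type u} [CommRing T] [Algebra k T] [CommRing T'] [Algebra k T']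
    (ι : T →ₐ[k] T') (c : T) :
    mapA (A := A) ι (algebraMap T (T ⊗[k] A) c) = algebraMap T' (T' ⊗[k] A) (ι c) := rfl

theorem mapA_smul {T T' : Type u} [CommRing T] [Algebra k T] [CommRing T'] [Algebra k T']
    (ι : T →ₐ[k] T') (c : T) (x : T ⊗[k] A) : mapA ι (c • x) = ι c • mapA ι x := by
  rw [Algebra.smul_def, Algebra.smul_def, map_mul, mapA_algebraMap]

theorem repr_mapA {T T' : Type u} [CommRing T] [Algebra k T] [CommRing T'] [Algebra k T'] (ι : T →ₐ[k] T')
    {J : Type u} (b : Module.Basis J k A) (x : T ⊗[k] A) (j : J) :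
    (Algebra.TensorProduct.basis T' b).repr (mapA ι x) j = ι ((Algebra.TensorProduct.basis T b).repr x j) := by
  induction x using TensorProduct.induction_on with
  | zero => simp
  | tmul t a => simp [Algebra.TensorProduct.basis_repr_tmul]
  | add u w hu hw => simp only [map_add, Finsupp.add_apply, hu, hw]

theorem mem_range_mapA {T T' : Type u} [CommRing T] [Algebra k T] [CommRing T'] [Algebra k T'] (ι : T →ₐ[k] T')
    {J : Type u} (b : Module.Basis J k A) (x : T' ⊗[k] A)
    (h : ∀ j, (Algebra.TensorProduct.basis T' b).repr x j ∈ ι.range) : x ∈ (mapA (A := A) ι).range := by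
  rw [← (Algebra.TensorProduct.basis T' b).linearCombination_repr x, Finsupp.linearCombination_apply]
  refine Subalgebra.sum_mem _ fun j _ => ?_
  obtain ⟨t, ht⟩ := h j
  exact ⟨t ⊗ₜ b j, by
    show mapA ι (t ⊗ₜ b j) = _
    show _ = _ • Algebra.TensorProduct.basis T' b j
    rw [mapA_tmul, Algebra.TensorProduct.basis_apply, TensorProduct.smul_tmul', smul_eq_mul, _root_.mul_one]
    exact congrArg (· ⊗ₜ[k] b j) ht⟩

/-- Group-like generators defined over a subring give a homomorphism defined over it. -/
theorem exists_glHom_of_generators {T T' : Type u} [CommRing T] [Algebra k T] [CommRing T'] [Algebra k T']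
    (ι : T →ₐ[k] T') (hι : Function.Injective ι) {N : Type u} [CommGroup N]
    (e : (T' ⊗[k] A) ≃ₐc[T'] MonoidAlgebra T' N) (S : Set N) (hS : Subgroup.closure S = ⊤)
    (h₁ : ∀ n ∈ S, e.symm (MonoidAlgebra.single n 1) ∈ (mapA (A := A) ι).range)
    (h₂ : ∀ n ∈ S, e.symm (MonoidAlgebra.single n⁻¹ 1) ∈ (mapA (A := A) ι).range) :
    ∃ f : MonoidAlgebra T N →ₐc[T] T ⊗[k] A, Function.Injective f ∧
      ∀ w, mapA ι (f w) = e.symm (MonoidAlgebra.mapRingHom N ι.toRingHom w) := by
  let H : Submonoid N :=
    { carrier := {n | e.symm (MonoidAlgebra.single n 1) ∈ (mapA (A := A) ι).range}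
      one_mem' := by
        show e.symm (MonoidAlgebra.single 1 1) ∈ (mapA (A := A) ι).range
        rw [← MonoidAlgebra.one_def, map_one]; exact one_mem _
      mul_mem' := fun {a b} ha hb => by
        show e.symm (MonoidAlgebra.single (a * b) 1) ∈ (mapA (A := A) ι).range
        rw [show MonoidAlgebra.single (a * b) (1 : T') = MonoidAlgebra.single a 1 * MonoidAlgebra.single b 1 by
          rw [MonoidAlgebra.single_mul_single, _root_.one_mul], map_mul]
        exact mul_mem ha hb }
  have hH : ∀ n, e.symm (MonoidAlgebra.single n 1) ∈ (mapA (A := A) ι).range := fun n => by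
    have hn : n ∈ (Subgroup.closure S).toSubmonoid := by rw [hS]; trivial
    rw [Subgroup.closure_toSubmonoid] at hn
    refine (Submonoid.closure_le.2 ?_ : Submonoid.closure (S ∪ S⁻¹) ≤ H) hn
    rintro m (hm | hm)
    · exact h₁ m hm
    · show e.symm (MonoidAlgebra.single m 1) ∈ (mapA (A := A) ι).range
      rw [show m = (m⁻¹)⁻¹ from (inv_inv m).symm]
      exact h₂ _ hm
  choose x hx using hH
  change ∀ n, mapA ι (x n) = e.symm (MonoidAlgebra.single n 1) at hx
  have hinj := mapA_injective_field (A := A) ι hι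
  have hgl : ∀ n, IsGroupLikeElem T (x n) := fun n => (isGL_iff _).1 (IsGL.of_mapA_injective ι hι
    (mapA2_injective_field (A := A) ι hι) (by
      rw [hx]; exact (isGL_iff _).2 ((MonoidAlgebra.isGroupLikeElem_single_one n).map e.symm)))
  let y : N →* GroupLike T (T ⊗[k] A) :=
    { toFun n := ⟨x n, hgl n⟩
      map_one' := GroupLike.ext (hinj (by
        show mapA ι (x 1) = mapA ι 1
        rw [hx, map_one, ← MonoidAlgebra.one_def, map_one]))
      map_mul' a b := GroupLike.ext (hinj (by
        show mapA ι (x (a * b)) = mapA ι (x a * x b)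
        rw [map_mul, hx, hx, hx, ← map_mul, MonoidAlgebra.single_mul_single, _root_.one_mul])) }
  have hy : ∀ w, mapA ι (glHom y w) = e.symm (MonoidAlgebra.mapRingHom N ι.toRingHom w) := fun w => by
    induction w using MonoidAlgebra.induction_linear with
    | zero => simp
    | add u v hu hv => simp only [map_add, hu, hv]
    | single n r =>
      rw [glHom_single, mapA_smul]
      show ι r • mapA ι (x n) = _
      rw [hx, MonoidAlgebra.mapRingHom_single, ← map_smul, MonoidAlgebra.smul_single, smul_eq_mul, _root_.mul_one]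
      rfl
  refine ⟨glHom y, fun u v huv => ?_, hy⟩
  have h3 := EquivLike.injective e.symm ((hy u).symm.trans ((congrArg (mapA ι) huv).trans (hy v)))
  refine ext_coef fun n => hι ?_
  show ι.toRingHom _ = ι.toRingHom _
  rw [← coefL_mapRingHom, ← coefL_mapRingHom, h3]

/-- A group of multiplicative type of finite type over a field is split over an algebraic closure. -/
theorem exists_chart_algClosure (hft : Algebra.FiniteType k A) (h : SGA3b.IsMultType k A) :
    SGA3b.IsDiagFT (AlgebraicClosure k) (AlgebraicClosure k ⊗[k] A) := by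
  classical
  obtain ⟨R', _, _, -, ⟨q, -⟩, N, _, ⟨e⟩⟩ := exists_chart h ⟨⊥, Ideal.isPrime_bot⟩
  haveI : Nontrivial R' := nontrivial_of_ne 1 0 fun h10 => q.isPrime.ne_top
    ((Ideal.eq_top_iff_one _).2 (h10 ▸ zero_mem _))
  haveI hN := fg_of_chart hft e
  obtain ⟨S, hS⟩ := hN.out
  obtain ⟨gens, hgens⟩ := hft.out
  let b := Module.Free.chooseBasis k A
  let bR := Algebra.TensorProduct.basis R' b
  let cs : Finset R' := (S.biUnion fun n => (bR.repr (e.symm (MonoidAlgebra.single n 1))).frange ∪
    (bR.repr (e.symm (MonoidAlgebra.single n⁻¹ 1))).frange) ∪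
      gens.biUnion fun a => (e ((1 : R') ⊗ₜ a)).coeff.frange
  let R₁ := Algebra.adjoin k (cs : Set R')
  have hmem : ∀ (f : Module.Free.ChooseBasisIndex k A →₀ R'), f.frange ⊆ cs → ∀ j, f j ∈ R₁.val.range := by
    intro f hf j
    by_cases h0 : f j = 0
    · rw [h0]; exact zero_mem _
    · exact ⟨⟨f j, Algebra.subset_adjoin (hf (Finsupp.mem_frange.2 ⟨h0, j, rfl⟩))⟩, rfl⟩
  obtain ⟨f, hfi, hf⟩ := exists_glHom_of_generators R₁.val Subtype.val_injective e (S : Set N) hS
    (fun n hn => mem_range_mapA R₁.val b _ fun j => hmem _ (fun c hc => Finset.mem_union_left _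
      (Finset.mem_biUnion.2 ⟨n, hn, Finset.mem_union_left _ hc⟩)) j)
    (fun n hn => mem_range_mapA R₁.val b _ fun j => hmem _ (fun c hc => Finset.mem_union_left _
      (Finset.mem_biUnion.2 ⟨n, hn, Finset.mem_union_right _ hc⟩)) j)
  have hinj := mapA_injective_field (A := A) R₁.val Subtype.val_injective
  let inc : A →ₐ[k] R₁ ⊗[k] A := Algebra.TensorProduct.includeRight
  have hfs : Function.Surjective f := by
    have hgen : ∀ a ∈ gens, (1 : R₁) ⊗ₜ[k] a ∈ Set.range f := by
      intro a ha
      have hc : ∀ n, coefL n (e ((1 : R') ⊗ₜ a)) ∈ R₁ := fun n => by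
        show (e ((1 : R') ⊗ₜ a)).coeff n ∈ R₁
        by_cases h0 : (e ((1 : R') ⊗ₜ a)).coeff n = 0
        · rw [h0]; exact zero_mem _
        · exact Algebra.subset_adjoin (Finset.mem_union_right _
            (Finset.mem_biUnion.2 ⟨a, ha, Finsupp.mem_frange.2 ⟨h0, n, rfl⟩⟩))
      refine ⟨∑ n ∈ (e ((1 : R') ⊗ₜ a)).coeff.support, MonoidAlgebra.single n (⟨_, hc n⟩ : R₁), hinj ?_⟩
      rw [hf, mapA_tmul, map_one]
      apply EquivLike.injective e
      rw [BialgEquiv.apply_symm_apply, map_sum]
      simp only [MonoidAlgebra.mapRingHom_single]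
      exact MonoidAlgebra.sum_coeff_single _
    intro z
    induction z using TensorProduct.induction_on with
    | zero => exact ⟨0, map_zero _⟩
    | add u w hu hw =>
      obtain ⟨p, rfl⟩ := hu
      obtain ⟨q, rfl⟩ := hw
      exact ⟨p + q, map_add _ _ _⟩
    | tmul r a =>
      have ha : (1 : R₁) ⊗ₜ[k] a ∈ Set.range f := by
        have : a ∈ ((f : MonoidAlgebra R₁ N →ₐ[R₁] R₁ ⊗[k] A).range.restrictScalars k).comap inc := by
          refine (show (⊤ : Subalgebra k A) ≤ _ from ?_) Algebra.mem_top
          rw [← hgens]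
          exact Algebra.adjoin_le fun a ha => hgen a ha
        exact this
      obtain ⟨p, hp⟩ := ha
      exact ⟨r • p, by rw [map_smul, hp, TensorProduct.smul_tmul', smul_eq_mul, _root_.mul_one]⟩
  haveI : Algebra.FiniteType k R₁ := (Subalgebra.fg_iff_finiteType _).1 (Subalgebra.fg_adjoin_finset cs)
  obtain ⟨m, hm⟩ := Ideal.exists_maximal R₁
  letI : Field (R₁ ⧸ m) := Ideal.Quotient.field m
  haveI : Module.Finite k (R₁ ⧸ m) := finite_of_finite_type_of_isJacobsonRing k (R₁ ⧸ m)
  haveI : Algebra.IsAlgebraic k (R₁ ⧸ m) := Algebra.IsAlgebraic.of_finite k _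
  let φ : R₁ →ₐ[k] AlgebraicClosure k :=
    (IsAlgClosed.lift : (R₁ ⧸ m) →ₐ[k] AlgebraicClosure k).comp (Ideal.Quotient.mkₐ k m)
  letI : Algebra R₁ (AlgebraicClosure k) := φ.toRingHom.toAlgebra
  haveI : IsScalarTower k R₁ (AlgebraicClosure k) := IsScalarTower.of_algebraMap_eq fun r => (φ.commutes r).symm
  obtain ⟨eK⟩ := isDiag_baseChange (BialgEquiv.ofBijective f ⟨hfi, hfs⟩).symm (AlgebraicClosure k)
  exact ⟨N, inferInstance, hN, ⟨eK⟩⟩

/-- Group-like elements over an algebraic closure are defined over the separable closure. -/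
theorem repr_mem_separableClosure (h : SGA3b.IsMultType k A) {K : Type u} [Field K] [Algebra k K]
    [Algebra.IsAlgebraic k K] {x : K ⊗[k] A} (hx : IsGL x) {J : Type u} (b : Module.Basis J k A) (j : J) :
    (Algebra.TensorProduct.basis K b).repr x j ∈ separableClosure k K := by
  let L := separableClosure k K
  let T := K ⊗[L] K
  let g₁ : K →ₐ[k] T := (Algebra.TensorProduct.includeLeft : K →ₐ[L] T).restrictScalars k
  let g₂ : K →ₐ[k] T := (Algebra.TensorProduct.includeRight : K →ₐ[L] T).restrictScalars k
  let μ : T →ₐ[k] K := (Algebra.TensorProduct.lmul' L).restrictScalars k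
  have hker : ∀ z ∈ RingHom.ker μ, IsNilpotent z := by
    intro z hz
    have hz' : z ∈ Submodule.span K (Set.range fun s : K => (1 : K) ⊗ₜ[L] s - s ⊗ₜ[L] (1 : K)) := by
      rw [KaehlerDifferential.submodule_span_range_eq_ideal]
      exact hz
    refine mem_nilradical.1 (show z ∈ (nilradical T).restrictScalars K from Submodule.span_le.2 ?_ hz')
    rintro _ ⟨s, rfl⟩
    refine mem_nilradical.2 ?_
    obtain ⟨q, hq⟩ := ExpChar.exists L
    haveI := hq
    obtain ⟨n, l, hl⟩ := IsPurelyInseparable.pow_mem L q s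
    haveI : ExpChar T q := expChar_of_injective_algebraMap (algebraMap L T).injective q
    refine ⟨q ^ n, ?_⟩
    rw [sub_pow_expChar_pow, Algebra.TensorProduct.tmul_pow, Algebra.TensorProduct.tmul_pow, one_pow, ← hl,
      sub_eq_zero]
    exact (Algebra.TensorProduct.tmul_one_eq_one_tmul l).symm
  have hμ : Function.Surjective μ := fun z => ⟨g₁ z, by
    show Algebra.TensorProduct.lmul' L (z ⊗ₜ[L] (1 : K)) = z
    simp⟩
  have heq : mapA g₁ x = mapA g₂ x := by
    refine eq_of_isGL h μ hμ hker (hx.map g₁) (hx.map g₂) ?_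
    rw [mapA_mapA, mapA_mapA]
    congr 2
    refine AlgHom.ext fun z => ?_
    show Algebra.TensorProduct.lmul' L (z ⊗ₜ[L] (1 : K)) = Algebra.TensorProduct.lmul' L ((1 : K) ⊗ₜ[L] z)
    simp
  have hc := congrArg (fun w => (Algebra.TensorProduct.basis T b).repr w j) heq
  simp only [repr_mapA] at hc
  have := (Algebra.IsEffective.eqLocus_includeLeft_includeRight
    (Algebra.IsEffective.of_faithfullyFlat (R := L) (S := K))).subset hc
  obtain ⟨l, hl⟩ := this
  rw [← hl]
  exact l.2

/-- A group of multiplicative type of finite type over a field is split by a finite separable extension. -/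
theorem exists_split_separable (hft : Algebra.FiniteType k A) (h : SGA3b.IsMultType k A) :
    ∃ (k' : Type u) (_ : Field k') (_ : Algebra k k'), Module.Finite k k' ∧ Algebra.IsSeparable k k' ∧
      SGA3b.IsDiagFT k' (k' ⊗[k] A) := by
  classical
  obtain ⟨N, _, hN, ⟨e⟩⟩ := exists_chart_algClosure hft h
  haveI := hN
  obtain ⟨S, hS⟩ := hN.out
  let K := AlgebraicClosure k
  let b := Module.Free.chooseBasis k A
  let bK := Algebra.TensorProduct.basis K b
  let cs : Finset K := S.biUnion fun n => (bK.repr (e.symm (MonoidAlgebra.single n 1))).frange ∪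
    (bK.repr (e.symm (MonoidAlgebra.single n⁻¹ 1))).frange
  let E := IntermediateField.adjoin k (cs : Set K)
  have hmem : ∀ (f : Module.Free.ChooseBasisIndex k A →₀ K), f.frange ⊆ cs → ∀ j, f j ∈ E.val.range := by
    intro f hf j
    by_cases h0 : f j = 0
    · rw [h0]; exact zero_mem _
    · exact ⟨⟨f j, IntermediateField.subset_adjoin _ _ (hf (Finsupp.mem_frange.2 ⟨h0, j, rfl⟩))⟩, rfl⟩
  have hsep : E ≤ separableClosure k K := by
    refine IntermediateField.adjoin_le_iff.2 fun c hc => ?_
    obtain ⟨n, -, hn⟩ := Finset.mem_biUnion.1 hc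
    rcases Finset.mem_union.1 hn with hn | hn <;> obtain ⟨-, j, rfl⟩ := Finsupp.mem_frange.1 hn <;>
      exact repr_mem_separableClosure h
        ((isGL_iff _).2 ((MonoidAlgebra.isGroupLikeElem_single_one _).map e.symm)) b j
  haveI : Algebra.IsSeparable k E := (le_separableClosure_iff k K E).1 hsep
  haveI : Module.Finite k E := IntermediateField.finiteDimensional_adjoin fun x _ => (Algebra.IsAlgebraic.isAlgebraic x).isIntegral
  obtain ⟨f, hfi, hf⟩ := exists_glHom_of_generators E.val Subtype.val_injective e (S : Set N) hS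
    (fun n hn => mem_range_mapA E.val b _ fun j => hmem _ (fun c hc =>
      (Finset.mem_biUnion.2 ⟨n, hn, Finset.mem_union_left _ hc⟩)) j)
    (fun n hn => mem_range_mapA E.val b _ fun j => hmem _ (fun c hc =>
      (Finset.mem_biUnion.2 ⟨n, hn, Finset.mem_union_right _ hc⟩)) j)
  obtain ⟨s, hs⟩ := LinearMap.exists_leftInverse_of_injective (Algebra.linearMap E K)
    (LinearMap.ker_eq_bot.2 (FaithfulSMul.algebraMap_injective E K))
  let L : K ⊗[k] A →ₗ[k] E ⊗[k] A := LinearMap.rTensor A (s.restrictScalars k)
  have hL : ∀ (c : K) (w : E ⊗[k] A), L (c • mapA E.val w) = s c • w := by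
    intro c w
    induction w using TensorProduct.induction_on with
    | zero => simp
    | add u v hu hv => simp only [map_add, smul_add, hu, hv]
    | tmul t a =>
      rw [mapA_tmul, TensorProduct.smul_tmul', TensorProduct.smul_tmul']
      show s (c • (t : K)) ⊗ₜ[k] a = _
      rw [smul_eq_mul, smul_eq_mul, show c * (t : K) = t • c from _root_.mul_comm _ _, map_smul, smul_eq_mul,
        _root_.mul_comm]
  have hs1 : s 1 = 1 := by
    have := LinearMap.congr_fun hs 1
    simpa using this
  have hfs : Function.Surjective f := by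
    intro z
    refine ⟨∑ n ∈ (e (mapA E.val z)).coeff.support, MonoidAlgebra.single n (s (coefL n (e (mapA E.val z)))), ?_⟩
    have h1 : z = L (mapA E.val z) := by
      have := hL 1 z
      rwa [one_smul, hs1, one_smul, eq_comm] at this
    have h2 : mapA E.val z = ∑ n ∈ (e (mapA E.val z)).coeff.support,
        coefL n (e (mapA E.val z)) • mapA E.val (f (MonoidAlgebra.single n 1)) := by
      apply EquivLike.injective e
      rw [map_sum]
      conv_lhs => rw [← MonoidAlgebra.sum_coeff_single (e (mapA E.val z))]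
      refine Finset.sum_congr rfl fun n _ => ?_
      rw [map_smul, hf, BialgEquiv.apply_symm_apply, MonoidAlgebra.mapRingHom_single, map_one,
        MonoidAlgebra.smul_single, smul_eq_mul, _root_.mul_one]
      rfl
    conv_rhs => rw [h1, h2, map_sum]
    rw [map_sum]
    refine Finset.sum_congr rfl fun n _ => ?_
    rw [hL, ← map_smul, MonoidAlgebra.smul_single, smul_eq_mul, _root_.mul_one]
  exact ⟨E, inferInstance, inferInstance, inferInstance, inferInstance, N, inferInstance, hN,
    ⟨(BialgEquiv.ofBijective f ⟨hfi, hfs⟩).symm⟩⟩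

end Groth.Agent.H19Mult
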