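import Groth.Agent.H9Hens.PtField
import Mathlib.FieldTheory.IsSepClosed
import Mathlib.FieldTheory.SeparableClosure
import Mathlib.RingTheory.Etale.StandardEtale
import Mathlib.RingTheory.LocalRing.ResidueField.Ideal
import Mathlib.RingTheory.Polynomial.ScaleRoots
import Mathlib.RingTheory.Localization.Integer

/-!
For a prime `p` of any ring and a separable algebraic extension `k` of `κ(p)`, the colimit of étale
algebras pointed at `k` maps onto `k`.
-/

set_option autoImplicit false
set_option linter.style.haveILetI false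
set_option backward.isDefEq.respectTransparency false

universe u

open Polynomial

namespace Groth.Agent.H19Mult

variable {R : Type u} [CommRing R] {k : Type u} [Field k] [Algebra R k]
  {H : Type u} [CommRing H] [Algebra R H] {π : H →ₐ[R] k}

theorem surjective_of_isPtColim (p : Ideal R) [p.IsPrime] [Algebra p.ResidueField k]
    [IsScalarTower R p.ResidueField k] [Algebra.IsSeparable p.ResidueField k] (hH : H9Hens.IsPtColim π) : Function.Surjective π := by
  classical
  let K := p.ResidueField
  -- roots of separable monic polynomials over `R` are in the image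
  have hroot : ∀ (f : R[X]) (x : k), f.Monic → aeval x f = 0 → aeval x (derivative f) ≠ 0 → x ∈ π.range := by
    intro f x hf h0 hd
    let P : StandardEtalePair R := ⟨f, hf, derivative f, 1, 0, 1, by ring⟩
    obtain ⟨φ, hφ⟩ := hH.exists_map P.Ring (P.lift x ⟨h0, isUnit_iff_ne_zero.2 hd⟩)
    exact ⟨φ P.X, by
      show π (φ P.X) = x
      rw [← AlgHom.comp_apply, hφ, StandardEtalePair.lift_X]⟩
  intro x
  let q := minpoly K x
  have hint : IsIntegral K x := Algebra.IsSeparable.isIntegral K x
  have hq : q.Monic := minpoly.monic hint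
  obtain ⟨⟨b, hb⟩, hbc⟩ := IsLocalization.exist_integer_multiples (nonZeroDivisors (R ⧸ p))
    (Finset.range q.natDegree) q.coeff (S := K)
  obtain ⟨b, rfl⟩ := Ideal.Quotient.mk_surjective b
  have hbK : algebraMap R K b ≠ 0 := fun h0 => nonZeroDivisors.ne_zero hb
    ((injective_iff_map_eq_zero _).1 (IsFractionRing.injective (R ⧸ p) K) _ (by
      rw [← h0, IsScalarTower.algebraMap_apply R (R ⧸ p) K]; rfl))
  set q' := q.scaleRoots (algebraMap R K b) with hq'
  have hq'm : q'.Monic := (monic_scaleRoots_iff _).2 hq
  have hlift : q' ∈ lifts (algebraMap R K) := by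
    rw [lifts_iff_coeff_lifts]
    intro i
    rw [hq', coeff_scaleRoots]
    rcases lt_trichotomy i q.natDegree with hi | hi | hi
    · obtain ⟨c, hc⟩ := hbc i (Finset.mem_range.2 hi)
      obtain ⟨c, rfl⟩ := Ideal.Quotient.mk_surjective c
      refine ⟨c * b ^ (q.natDegree - i - 1), ?_⟩
      have hc' : algebraMap R K c = algebraMap R K b * q.coeff i := by
        rw [IsScalarTower.algebraMap_apply R (R ⧸ p) K c, IsScalarTower.algebraMap_apply R (R ⧸ p) K b,
          ← Algebra.smul_def]
        exact hc
      rw [map_mul, map_pow, hc', show q.natDegree - i = (q.natDegree - i - 1) + 1 by omega, pow_succ]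
      simp only [Nat.add_sub_cancel]
      ring
    · exact ⟨1, by rw [hi, hq.coeff_natDegree, map_one]; simp⟩
    · exact ⟨0, by rw [coeff_eq_zero_of_natDegree_lt hi, map_zero, zero_mul]⟩
  obtain ⟨f, hfmap, -, hfm⟩ := lifts_and_natDegree_eq_and_monic hlift hq'm
  set bk := algebraMap K k (algebraMap R K b) with hbk
  have hbk0 : bk ≠ 0 := (_root_.map_ne_zero _).2 hbK
  have hid : q'.comp (C (algebraMap R K b) * X) = C (algebraMap R K b ^ q.natDegree) * q := by
    rw [comp, hq', scaleRoots_eval₂_mul (C : K →+* K[X]), eval₂_C_X, map_pow]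
  have h0 : aeval (bk * x) f = 0 := by
    rw [← aeval_map_algebraMap K, hfmap]
    exact scaleRoots_aeval_eq_zero (minpoly.aeval K x)
  have hd : aeval (bk * x) (derivative f) ≠ 0 := by
    rw [← aeval_map_algebraMap K, ← derivative_map, hfmap]
    intro hz
    have h1 := congrArg (fun g => aeval x (derivative g)) hid
    simp only [derivative_comp, derivative_mul, derivative_C, derivative_X, zero_mul, zero_add, mul_one, map_mul,
      aeval_C, aeval_comp, aeval_X] at h1
    rw [map_pow, ← hbk, hz, mul_zero] at h1
    exact mul_ne_zero (pow_ne_zero _ hbk0) ((Algebra.IsSeparable.isSeparable K x).aeval_derivative_ne_zero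
      (minpoly.aeval K x)) h1.symm
  obtain ⟨y, hy⟩ := hroot f _ hfm h0 hd
  have hbu : IsUnit (algebraMap R H b) := hH.isUnit_of_isUnit (isUnit_iff_ne_zero.2 (by
    rw [π.commutes, IsScalarTower.algebraMap_apply R K k]; exact hbk0))
  obtain ⟨w, hw⟩ := hbu.exists_left_inv
  refine ⟨w * y, mul_left_cancel₀ hbk0 ?_⟩
  rw [← hy, hbk, ← IsScalarTower.algebraMap_apply R K k, ← π.commutes, ← map_mul, ← mul_assoc,
    mul_comm _ w, hw, one_mul]
  rfl

end Groth.Agent.H19Mult
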