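import Groth.Agent.H19Mult.LiftDiag

/-!
Multiplicative type from a finite flat covering family of charts with varying types; the type is
locally constant.
-/

set_option autoImplicit false
set_option linter.style.haveILetI false
set_option backward.isDefEq.respectTransparency false

universe u

open TensorProduct Coalgebra

namespace Groth.Agent.H19Mult

variable {R : Type u} [CommRing R] {A : Type u} [CommRing A] [HopfAlgebra R A]

/-- Renaming the type of a group algebra. -/
theorem isDiag_congr_type {T : Type u} [CommRing T] {B : Type u} [CommRing B] [HopfAlgebra T B] {M N : Type u}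
    [CommGroup M] [CommGroup N] (θ : M ≃* N) (e : B ≃ₐc[T] MonoidAlgebra T M) :
    Nonempty (B ≃ₐc[T] MonoidAlgebra T N) := by
  let f := MonoidAlgebra.mapDomainBialgHom T θ.toMonoidHom
  refine ⟨e.trans (BialgEquiv.ofBijective f (Function.bijective_iff_has_inverse.2
    ⟨MonoidAlgebra.mapDomainBialgHom T θ.symm.toMonoidHom, fun x => ?_, fun x => ?_⟩))⟩
  · induction x using MonoidAlgebra.induction_linear with
    | zero => simp
    | add u v hu hv => simp only [map_add, hu, hv]
    | single m r => simp [f]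
  · induction x using MonoidAlgebra.induction_linear with
    | zero => simp
    | add u v hu hv => simp only [map_add, hu, hv]
    | single m r => simp [f]

/-- A common field over two points with the same image. -/
theorem exists_field_of_points {P Q : Type u} [CommRing P] [Algebra R P] [CommRing Q] [Algebra R Q]
    (p : PrimeSpectrum P) (q : PrimeSpectrum Q)
    (hpq : PrimeSpectrum.comap (algebraMap R P) p = PrimeSpectrum.comap (algebraMap R Q) q) :
    ∃ (K : Type u) (_ : Field K) (gP : P →+* K) (gQ : Q →+* K),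
      gP.comp (algebraMap R P) = gQ.comp (algebraMap R Q) ∧ RingHom.ker gP = p.asIdeal ∧ RingHom.ker gQ = q.asIdeal := by
  have hr : (PrimeSpectrum.comap (algebraMap R P) p).asIdeal =
      (PrimeSpectrum.comap (algebraMap R Q) q).asIdeal := by rw [hpq]
  let r := (PrimeSpectrum.comap (algebraMap R P) p).asIdeal
  let fp := Ideal.ResidueField.map r p.asIdeal (algebraMap R P) rfl
  let fq := Ideal.ResidueField.map r q.asIdeal (algebraMap R Q) hr
  letI : Algebra r.ResidueField p.asIdeal.ResidueField := fp.toAlgebra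
  letI : Algebra r.ResidueField q.asIdeal.ResidueField := fq.toAlgebra
  let V := p.asIdeal.ResidueField ⊗[r.ResidueField] q.asIdeal.ResidueField
  haveI : Module.Free r.ResidueField p.asIdeal.ResidueField := Module.Free.of_divisionRing _ _
  haveI : Module.Flat r.ResidueField p.asIdeal.ResidueField := Module.Flat.of_free
  haveI : Nontrivial V := (Algebra.TensorProduct.includeLeft_injective
    (S := p.asIdeal.ResidueField) (RingHom.injective (algebraMap r.ResidueField q.asIdeal.ResidueField))).nontrivial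
  obtain ⟨m, hm⟩ := Ideal.exists_maximal V
  letI : Field (V ⧸ m) := Ideal.Quotient.field m
  let K := V ⧸ m
  let gP : P →+* K := (Ideal.Quotient.mk m).comp
    ((Algebra.TensorProduct.includeLeftRingHom : p.asIdeal.ResidueField →+* V).comp (algebraMap P _))
  let gQ : Q →+* K := (Ideal.Quotient.mk m).comp
    ((Algebra.TensorProduct.includeRight : q.asIdeal.ResidueField →ₐ[r.ResidueField] V).toRingHom.comp (algebraMap Q _))
  refine ⟨K, inferInstance, gP, gQ, ?_, ?_, ?_⟩
  · ext a
    show Ideal.Quotient.mk m ((algebraMap P p.asIdeal.ResidueField (algebraMap R P a)) ⊗ₜ[r.ResidueField] (1 : q.asIdeal.ResidueField)) =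
      Ideal.Quotient.mk m ((1 : p.asIdeal.ResidueField) ⊗ₜ[r.ResidueField] (algebraMap Q q.asIdeal.ResidueField (algebraMap R Q a)))
    congr 1
    rw [← Ideal.ResidueField.map_algebraMap r p.asIdeal (algebraMap R P) rfl a,
      ← Ideal.ResidueField.map_algebraMap r q.asIdeal (algebraMap R Q) hr a]
    exact Algebra.TensorProduct.tmul_one_eq_one_tmul (R := r.ResidueField) (algebraMap R r.ResidueField a)
  · ext z
    show ((Ideal.Quotient.mk m).comp (Algebra.TensorProduct.includeLeftRingHom : p.asIdeal.ResidueField →+* V))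
      (algebraMap P p.asIdeal.ResidueField z) = 0 ↔ _
    rw [map_eq_zero, Ideal.algebraMap_residueField_eq_zero]
  · ext z
    show ((Ideal.Quotient.mk m).comp
      (Algebra.TensorProduct.includeRight : q.asIdeal.ResidueField →ₐ[r.ResidueField] V).toRingHom)
      (algebraMap Q q.asIdeal.ResidueField z) = 0 ↔ _
    rw [map_eq_zero, Ideal.algebraMap_residueField_eq_zero]

/-- Two charts at points of the same point of the base have isomorphic types. -/
theorem nonempty_mulEquiv_of_points {P Q : Type u} [CommRing P] [Algebra R P] [CommRing Q] [Algebra R Q]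
    {M N : Type u} [CommGroup M] [CommGroup N] (e : (P ⊗[R] A) ≃ₐc[P] MonoidAlgebra P M)
    (e' : (Q ⊗[R] A) ≃ₐc[Q] MonoidAlgebra Q N) (p : PrimeSpectrum P) (q : PrimeSpectrum Q)
    (hpq : PrimeSpectrum.comap (algebraMap R P) p = PrimeSpectrum.comap (algebraMap R Q) q) :
    Nonempty (M ≃* N) := by
  obtain ⟨K, _, gP, gQ, hg, -, -⟩ := exists_field_of_points (R := R) p q hpq
  letI : Algebra R K := (gP.comp (algebraMap R P)).toAlgebra
  letI : Algebra P K := gP.toAlgebra
  letI : Algebra Q K := gQ.toAlgebra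
  haveI : IsScalarTower R P K := IsScalarTower.of_algebraMap_eq' rfl
  haveI : IsScalarTower R Q K := IsScalarTower.of_algebraMap_eq' hg
  obtain ⟨fP⟩ := isDiag_baseChange e K
  obtain ⟨fQ⟩ := isDiag_baseChange e' K
  let ρ : MonoidAlgebra K M ≃ₐc[K] MonoidAlgebra K N := fP.symm.trans fQ
  let θ := MonoidAlgebra.mapDomainOfBialgHom (ρ : MonoidAlgebra K M →ₐc[K] MonoidAlgebra K N)
  let θ' := MonoidAlgebra.mapDomainOfBialgHom (ρ.symm : MonoidAlgebra K N →ₐc[K] MonoidAlgebra K M)
  have hρ : ∀ m r, ρ (MonoidAlgebra.single m r) = MonoidAlgebra.single (θ m) r := fun m r =>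
    (MonoidAlgebra.single_mapDomainOfBialgHom (ρ : MonoidAlgebra K M →ₐc[K] MonoidAlgebra K N) m r).symm
  have hρ' : ∀ m r, ρ.symm (MonoidAlgebra.single m r) = MonoidAlgebra.single (θ' m) r := fun m r =>
    (MonoidAlgebra.single_mapDomainOfBialgHom (ρ.symm : MonoidAlgebra K N →ₐc[K] MonoidAlgebra K M) m r).symm
  refine ⟨{ θ with invFun := θ', left_inv := fun x => ?_, right_inv := fun x => ?_ }⟩
  · apply MonoidAlgebra.single_left_injective (R := K) one_ne_zero
    show MonoidAlgebra.single (θ' (θ x)) (1 : K) = MonoidAlgebra.single x 1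
    rw [← hρ', ← hρ, BialgEquiv.symm_apply_apply]
  · apply MonoidAlgebra.single_left_injective (R := K) one_ne_zero
    show MonoidAlgebra.single (θ (θ' x)) (1 : K) = MonoidAlgebra.single x 1
    rw [← hρ, ← hρ', BialgEquiv.apply_symm_apply]

/-- A finite product of charts with one type is a chart. -/
theorem isDiag_pi {ι : Type} [Fintype ι] (P : ι → Type u) [∀ i, CommRing (P i)] [∀ i, Algebra R (P i)]
    {M : Type u} [CommGroup M] (e : ∀ i, (P i ⊗[R] A) ≃ₐc[P i] MonoidAlgebra (P i) M) :
    Nonempty (((∀ i, P i) ⊗[R] A) ≃ₐc[∀ i, P i] MonoidAlgebra (∀ i, P i) M) := by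
  classical
  let T := ∀ i, P i
  let g : ∀ i, T →ₐ[R] P i := fun i => Pi.evalAlgHom R P i
  have hpl : ∀ (z : T ⊗[R] A) i, piLeftEquiv P A z i = mapA (g i) z := fun z i => by
    rw [piLeftEquiv_apply_eq]; rfl
  have hpl2 : ∀ (z : T ⊗[R] (A ⊗[R] A)) i, piLeftEquiv P (A ⊗[R] A) z i = mapA2 (g i) z := fun z i => by
    rw [piLeftEquiv_apply_eq]; rfl
  have hinj : ∀ z w : T ⊗[R] A, (∀ i, mapA (g i) z = mapA (g i) w) → z = w := fun z w h =>
    (piLeftEquiv P A).injective (funext fun i => by rw [hpl, hpl, h i])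
  let x : M → T ⊗[R] A := fun m => (piLeftEquiv P A).symm fun i => (e i).symm (MonoidAlgebra.single m 1)
  have hx : ∀ m i, mapA (g i) (x m) = (e i).symm (MonoidAlgebra.single m 1) := fun m i => by
    rw [← hpl, LinearEquiv.apply_symm_apply]
  have hgl : ∀ m, IsGL (x m) := fun m => by
    have hi : ∀ i, IsGL (mapA (g i) (x m)) := fun i => by
      rw [hx, isGL_iff]
      exact (MonoidAlgebra.isGroupLikeElem_single_one m).map (e i).symm
    refine ⟨funext fun i => ?_, (piLeftEquiv P (A ⊗[R] A)).injective (funext fun i => ?_)⟩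
    · have := (hi i).1
      rw [counit_mapA] at this
      exact this
    · rw [hpl2, hpl2, ← comulT_mapA, (hi i).2, map_mul, inl2_mapA, inr2_mapA]
  let Y : M →* GroupLike T (T ⊗[R] A) :=
    { toFun m := ⟨x m, (isGL_iff _).1 (hgl m)⟩
      map_one' := GroupLike.ext (hinj _ _ fun i => by
        show mapA (g i) (x 1) = mapA (g i) 1
        rw [hx, map_one, ← MonoidAlgebra.one_def, map_one])
      map_mul' a b := GroupLike.ext (hinj _ _ fun i => by
        show mapA (g i) (x (a * b)) = mapA (g i) (x a * x b)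
        rw [map_mul, hx, hx, hx, ← map_mul, MonoidAlgebra.single_mul_single, _root_.one_mul]) }
  have hf : ∀ y i, mapA (g i) (glHom Y y) = (e i).symm (MonoidAlgebra.mapRingHom M (g i).toRingHom y) := by
    intro y i
    induction y using MonoidAlgebra.induction_linear with
    | zero => simp
    | add u v hu hv => simp only [map_add, hu, hv]
    | single m r =>
      rw [glHom_single, Algebra.smul_def, map_mul]
      show algebraMap (P i) (P i ⊗[R] A) (g i r) * mapA (g i) (x m) = _
      rw [hx, ← Algebra.smul_def, ← map_smul, MonoidAlgebra.mapRingHom_single, MonoidAlgebra.smul_single,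
        smul_eq_mul, _root_.mul_one]
      rfl
  refine ⟨(BialgEquiv.ofBijective (glHom Y) ⟨fun y y' h => ?_, fun z => ?_⟩).symm⟩
  · refine ext_coef fun m => funext fun i => ?_
    have h1 := EquivLike.injective (e i).symm (((hf y i).symm.trans (congrArg (mapA (g i)) h)).trans (hf y' i))
    have h2 := congrArg (coefL m) h1
    rw [coefL_mapRingHom, coefL_mapRingHom] at h2
    exact h2
  · let S := Finset.univ.biUnion fun i => (e i (mapA (g i) z)).coeff.support
    refine ⟨∑ m ∈ S, MonoidAlgebra.single m (fun i => coefL m (e i (mapA (g i) z))), hinj _ _ fun i => ?_⟩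
    rw [hf]
    apply EquivLike.injective (e i)
    rw [BialgEquiv.apply_symm_apply, map_sum]
    refine ext_coef fun m => ?_
    rw [map_sum]
    simp only [MonoidAlgebra.mapRingHom_single, coefL_single]
    rw [Finset.sum_ite_eq' S m]
    split_ifs with hm
    · rfl
    · symm
      refine Finsupp.notMem_support_iff.1 fun h => hm ?_
      exact Finset.mem_biUnion.2 ⟨i, Finset.mem_univ i, h⟩

/-- The locus of one type in a finite flat family of charts is clopen. -/
theorem exists_idem_type {ι : Type} [Fintype ι] [DecidableEq ι] (P : ι → Type u) [∀ i, CommRing (P i)] [∀ i, Algebra R (P i)]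
    [∀ i, Module.Flat R (P i)]
    (hcov : ∀ p : PrimeSpectrum R, ∃ i, p ∈ Set.range (PrimeSpectrum.comap (algebraMap R (P i))))
    (Q : ι → Prop)
    (hQ : ∀ i j (p : PrimeSpectrum (P i)) (q : PrimeSpectrum (P j)),
      PrimeSpectrum.comap (algebraMap R (P i)) p = PrimeSpectrum.comap (algebraMap R (P j)) q → (Q i ↔ Q j)) :
    ∃ f : R, IsIdempotentElem f ∧ ∀ i (p : PrimeSpectrum (P i)),
      f ∉ (PrimeSpectrum.comap (algebraMap R (P i)) p).asIdeal ↔ Q i := by
  classical
  haveI := faithfullyFlat_pi P hcov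
  let T := ∀ i, P i
  let S : Set (PrimeSpectrum R) := {p | ∃ i, ∃ q : PrimeSpectrum (P i), Q i ∧ PrimeSpectrum.comap (algebraMap R (P i)) q = p}
  have hS : ∀ i (q : PrimeSpectrum (P i)), PrimeSpectrum.comap (algebraMap R (P i)) q ∈ S ↔ Q i := fun i q =>
    ⟨fun ⟨j, q', hj, h⟩ => (hQ j i q' q h).1 hj, fun h => ⟨i, q, h, rfl⟩⟩
  let c : T := fun i => if Q i then 1 else 0
  have hc : IsIdempotentElem c := funext fun i => by
    show (if Q i then (1 : P i) else 0) * (if Q i then 1 else 0) = _
    split <;> simp [c, *]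
  have hpre : PrimeSpectrum.comap (algebraMap R T) ⁻¹' S = PrimeSpectrum.basicOpen c := by
    ext w
    obtain ⟨⟨i, q⟩, rfl⟩ := (PrimeSpectrum.sigmaToPiHomeo P).surjective w
    show PrimeSpectrum.comap (algebraMap R T) (PrimeSpectrum.comap (Pi.evalRingHom P i) q) ∈ S ↔
      c i ∉ q.asIdeal
    rw [show PrimeSpectrum.comap (algebraMap R T) (PrimeSpectrum.comap (Pi.evalRingHom P i) q) =
      PrimeSpectrum.comap (algebraMap R (P i)) q from rfl, hS]
    by_cases h : Q i
    · simp only [c, if_pos h, h, true_iff]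
      exact fun h1 => q.isPrime.ne_top ((Ideal.eq_top_iff_one _).2 h1)
    · simp [c, h]
  have hq : Topology.IsQuotientMap (PrimeSpectrum.comap (algebraMap R T)) :=
    PrimeSpectrum.isQuotientMap_of_generalizingMap PrimeSpectrum.comap_surjective_of_faithfullyFlat
      (RingHom.Flat.generalizingMap_comap ((RingHom.flat_algebraMap_iff (R := R) (S := T)).2 inferInstance))
  have hclopen : IsClopen (PrimeSpectrum.comap (algebraMap R T) ⁻¹' S) := by
    rw [hpre]; exact PrimeSpectrum.isClopen_iff.2 ⟨c, hc, rfl⟩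
  have hclopenS : IsClopen S := ⟨hq.isClosed_preimage.1 hclopen.1, hq.isOpen_preimage.1 hclopen.2⟩
  obtain ⟨f, hf, hfS⟩ := PrimeSpectrum.isClopen_iff.1 hclopenS
  refine ⟨f, hf, fun i q => ?_⟩
  rw [← hS i q, hfS]
  rfl

/-- Multiplicative type from a finite flat covering family of charts. -/
theorem isMultType_of_charts {ι : Type} [Fintype ι] [DecidableEq ι] (P : ι → Type u) [∀ i, CommRing (P i)]
    [∀ i, Algebra R (P i)] [∀ i, Module.Flat R (P i)]
    (hcov : ∀ p : PrimeSpectrum R, ∃ i, p ∈ Set.range (PrimeSpectrum.comap (algebraMap R (P i))))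
    (hd : ∀ i, SGA3b.IsDiag (P i) (P i ⊗[R] A)) : SGA3b.IsMultType R A := by
  classical
  choose M iM e using hd
  have hloc : ∀ i, ∃ f : R, IsIdempotentElem f ∧ ∀ j (p : PrimeSpectrum (P j)),
      f ∉ (PrimeSpectrum.comap (algebraMap R (P j)) p).asIdeal ↔ Nonempty (M j ≃* M i) := fun i =>
    exists_idem_type P hcov (fun j => Nonempty (M j ≃* M i)) fun j k p q h => by
      obtain ⟨θ⟩ := nonempty_mulEquiv_of_points (e j).some (e k).some p q h
      exact ⟨fun ⟨η⟩ => ⟨θ.symm.trans η⟩, fun ⟨η⟩ => ⟨θ.trans η⟩⟩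
  choose f hf hfi using hloc
  refine ⟨Set.range f, ?_, ?_⟩
  · by_contra hne
    obtain ⟨m, hm, hle⟩ := Ideal.exists_le_maximal _ hne
    obtain ⟨i, q, hq⟩ := hcov ⟨m, hm.isPrime⟩
    have := (hfi i i q).2 ⟨MulEquiv.refl _⟩
    rw [hq] at this
    exact this (hle (Ideal.subset_span ⟨i, rfl⟩))
  · rintro _ ⟨i, rfl⟩
    let J := {j : ι // Nonempty (M j ≃* M i)}
    let Rf := Localization.Away (f i)
    let U : J → Type u := fun j => Rf ⊗[R] P j.1
    have hd' : ∀ j : J, Nonempty ((U j ⊗[Rf] (Rf ⊗[R] A)) ≃ₐc[U j] MonoidAlgebra (U j) (M i)) := fun j => by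
      letI : Algebra (P j.1) (U j) := Algebra.TensorProduct.rightAlgebra
      obtain ⟨eU⟩ := isDiag_baseChange (e j.1).some (U j)
      obtain ⟨eU'⟩ := isDiag_congr_type j.2.some eU
      exact ⟨(cancelEquiv (R := R) (A := A) Rf (U j)).trans eU'⟩
    refine ⟨∀ j, U j, inferInstance, inferInstance, ?_, M i, inferInstance,
      isDiag_pi (R := Rf) (A := Rf ⊗[R] A) U fun j => (hd' j).some⟩
    refine faithfullyFlat_pi U fun p => ?_
    obtain ⟨j, q, hq⟩ := hcov (PrimeSpectrum.comap (algebraMap R Rf) p)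
    have hfp : f i ∉ (PrimeSpectrum.comap (algebraMap R Rf) p).asIdeal := fun h =>
      p.isPrime.ne_top (Ideal.eq_top_of_isUnit_mem _ h (IsLocalization.Away.algebraMap_isUnit (f i)))
    refine ⟨⟨j, (hfi i j q).1 (by rw [hq]; exact hfp)⟩, ?_⟩
    have hu : IsUnit ((algebraMap (P j) q.asIdeal.ResidueField).comp (algebraMap R (P j)) (f i)) := by
      refine isUnit_iff_ne_zero.2 fun h => hfp ?_
      rw [← hq]
      show algebraMap R (P j) (f i) ∈ q.asIdeal
      exact (Ideal.algebraMap_residueField_eq_zero (I := q.asIdeal)).1 h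
    let gR : Rf →+* q.asIdeal.ResidueField := IsLocalization.Away.lift (f i) hu
    let gRa : Rf →ₐ[R] q.asIdeal.ResidueField := { gR with commutes' := fun r => IsLocalization.Away.lift_eq _ hu r }
    let g : Rf ⊗[R] P j →ₐ[R] q.asIdeal.ResidueField :=
      Algebra.TensorProduct.lift gRa (IsScalarTower.toAlgHom R (P j) q.asIdeal.ResidueField) fun _ _ => Commute.all _ _
    refine ⟨PrimeSpectrum.comap g.toRingHom ⟨⊥, Ideal.isPrime_bot⟩, ?_⟩
    refine PrimeSpectrum.localization_comap_injective Rf (Submonoid.powers (f i)) ?_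
    refine Eq.trans ?_ hq
    ext r
    show g ((algebraMap R Rf r) ⊗ₜ[R] (1 : P j)) = 0 ↔ algebraMap R (P j) r ∈ q.asIdeal
    rw [Algebra.TensorProduct.lift_tmul, map_one, _root_.mul_one, gRa.commutes, IsScalarTower.algebraMap_apply R (P j),
      Ideal.algebraMap_residueField_eq_zero]

end Groth.Agent.H19Mult
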