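import Groth.Agent.H19Mult.Quotient

/-!
Base change of diagonalisable groups; closed subgroups of groups of multiplicative type over a field.
-/

set_option autoImplicit false
set_option linter.style.haveILetI false
set_option backward.isDefEq.respectTransparency false

universe u v w

open TensorProduct WithConv Coalgebra

namespace Groth.Agent.H19Mult

/-- The base change of a group algebra, as bialgebras. -/
noncomputable def scalarBialgEquiv (R : Type u) [CommRing R] (K : Type u) [CommRing K] [Algebra R K]
    (M : Type u) [CommGroup M] : K ⊗[R] MonoidAlgebra R M ≃ₐc[K] MonoidAlgebra K M :=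
  BialgEquiv.ofAlgEquiv (MonoidAlgebra.scalarTensorEquiv R K)
    (by
      refine Algebra.TensorProduct.ext' fun t x => ?_
      induction x using MonoidAlgebra.induction_linear with
      | zero => simp
      | add u w hu hw => simp only [TensorProduct.tmul_add, map_add, hu, hw]
      | single m r =>
        show counit (R := K) (MonoidAlgebra.scalarTensorEquiv R K (t ⊗ₜ MonoidAlgebra.single m r)) =
          counit (R := K) (t ⊗ₜ[R] MonoidAlgebra.single m r)
        simp [MonoidAlgebra.scalarTensorEquiv_tmul, Algebra.smul_def, mul_comm])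
    (by
      refine Algebra.TensorProduct.ext' fun t x => ?_
      induction x using MonoidAlgebra.induction_linear with
      | zero => simp
      | add u w hu hw => simp only [TensorProduct.tmul_add, map_add, hu, hw]
      | single m r =>
        let f := (MonoidAlgebra.scalarTensorEquiv R K (M := M)).toAlgHom
        have hf : ∀ (t : K) (m : M) (r : R), f (t ⊗ₜ MonoidAlgebra.single m r) =
            MonoidAlgebra.single m (algebraMap R K r * t) := fun t m r => by
          simp [f, MonoidAlgebra.scalarTensorEquiv_tmul, mul_comm]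
        show Algebra.TensorProduct.map f f (comul (R := K) (t ⊗ₜ[R] MonoidAlgebra.single m r)) =
          comul (R := K) (f (t ⊗ₜ MonoidAlgebra.single m r))
        rw [hf]
        simp [TensorProduct.comul_tmul, hf, mul_comm])

/-- A chart after a further base change. -/
theorem isDiag_baseChange {R : Type u} [CommRing R] {A : Type u} [CommRing A] [HopfAlgebra R A]
    {R' : Type u} [CommRing R'] [Algebra R R'] {M : Type u} [CommGroup M]
    (e : (R' ⊗[R] A) ≃ₐc[R'] MonoidAlgebra R' M) (T : Type u) [CommRing T] [Algebra R T] [Algebra R' T]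
    [IsScalarTower R R' T] : Nonempty ((T ⊗[R] A) ≃ₐc[T] MonoidAlgebra T M) := by
  let F : (T ⊗[R'] (R' ⊗[R] A)) →ₐc[T] (T ⊗[R'] MonoidAlgebra R' M) :=
    Bialgebra.TensorProduct.map (BialgHom.id T T) (e : (R' ⊗[R] A) →ₐc[R'] MonoidAlgebra R' M)
  have hF : Function.Bijective F := by
    let G : (T ⊗[R'] MonoidAlgebra R' M) →ₐc[T] (T ⊗[R'] (R' ⊗[R] A)) :=
      Bialgebra.TensorProduct.map (BialgHom.id T T) (e.symm : MonoidAlgebra R' M →ₐc[R'] (R' ⊗[R] A))
    refine Function.bijective_iff_has_inverse.2 ⟨G, fun z => ?_, fun z => ?_⟩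
    · induction z using TensorProduct.induction_on with
      | zero => simp
      | tmul t x =>
        show t ⊗ₜ[R'] e.symm (e x) = t ⊗ₜ x
        rw [BialgEquiv.symm_apply_apply]
      | add u w hu hw => rw [map_add, map_add, hu, hw]
    · induction z using TensorProduct.induction_on with
      | zero => simp
      | tmul t x =>
        show t ⊗ₜ[R'] e (e.symm x) = t ⊗ₜ x
        rw [BialgEquiv.apply_symm_apply]
      | add u w hu hw => rw [map_add, map_add, hu, hw]
  exact ⟨((cancelEquiv (R := R) (A := A) R' T).symm.trans (BialgEquiv.ofBijective F hF)).trans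
    (scalarBialgEquiv R' T M)⟩

/-- A Hopf quotient of a diagonalisable Hopf algebra over a field is diagonalisable. -/
theorem isDiag_of_surjective {K : Type u} [Field K] {M : Type u} [CommGroup M] {D : Type u} [CommRing D]
    [HopfAlgebra K D] (ρ : MonoidAlgebra K M →ₐc[K] D) (hρ : Function.Surjective ρ) :
    SGA3b.IsDiag K D := by
  classical
  let g : M →* D := (ρ : MonoidAlgebra K M →ₐ[K] D).toMonoidHom.comp (MonoidAlgebra.of K M)
  let H : Subgroup M :=
    { carrier := {m | g m = 1}
      one_mem' := map_one g
      mul_mem' := fun {a b} (ha : g a = 1) (hb : g b = 1) => by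
        show g (a * b) = 1
        rw [map_mul, ha, hb, mul_one]
      inv_mem' := fun {a} (ha : g a = 1) => by
        show g a⁻¹ = 1
        calc g a⁻¹ = g a⁻¹ * g a := by rw [ha, mul_one]
          _ = 1 := by rw [← map_mul, inv_mul_cancel, map_one] }
  have hg : ∀ m, IsGroupLikeElem K (g m) := fun m =>
    (MonoidAlgebra.isGroupLikeElem_single_one (R := K) (A := K) m).map ρ
  let gb : M ⧸ H →* D := QuotientGroup.lift H g fun m hm => hm
  have hinj : Function.Injective gb := (injective_iff_map_eq_one gb).2 fun x hx => by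
    obtain ⟨m, rfl⟩ := QuotientGroup.mk'_surjective H x
    exact (QuotientGroup.eq_one_iff m).2 hx
  have hli : LinearIndependent K gb :=
    (linearIndepOn_isGroupLikeElem (R := K) (A := D)).linearIndependent.comp
      (fun x => (⟨gb x, by obtain ⟨m, rfl⟩ := QuotientGroup.mk'_surjective H x; exact hg m⟩ :
        {a : D | IsGroupLikeElem K a})) (fun x y h => hinj (congrArg Subtype.val h))
  have hfac : ∀ x : MonoidAlgebra K M,
      ρ x = MonoidAlgebra.lift K D (M ⧸ H) gb (MonoidAlgebra.mapDomainAlgHom K K (QuotientGroup.mk' H) x) := by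
    intro x
    induction x using MonoidAlgebra.induction_linear with
    | zero => simp
    | add u w hu hw => rw [map_add, map_add, map_add, hu, hw]
    | single m r =>
      rw [show MonoidAlgebra.mapDomainAlgHom K K (QuotientGroup.mk' H) (MonoidAlgebra.single m r) =
        MonoidAlgebra.single (QuotientGroup.mk m : M ⧸ H) r from MonoidAlgebra.mapDomain_single,
        MonoidAlgebra.lift_single]
      show _ = r • ρ (MonoidAlgebra.single m 1)
      rw [← map_smul, MonoidAlgebra.smul_single, smul_eq_mul, mul_one]
  have hlift : Function.Injective (MonoidAlgebra.lift K D (M ⧸ H) gb) := by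
    refine (injective_iff_map_eq_zero _).2 fun x hx => ?_
    have h0 : Finsupp.linearCombination K gb x.coeff = 0 := by
      rw [← hx, MonoidAlgebra.lift_apply]
      rfl
    exact (MonoidAlgebra.coeffLinearEquiv K).injective (by
      rw [map_zero]
      exact linearIndependent_iff.1 hli _ h0)
  refine ⟨M ⧸ H, inferInstance, ⟨bialgEquivOfKerEq ρ (MonoidAlgebra.mapDomainBialgHom K (QuotientGroup.mk' H)) hρ ?_ ?_⟩⟩
  · intro z
    induction z using MonoidAlgebra.induction_linear with
    | zero => exact ⟨0, map_zero _⟩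
    | add u w hu hw =>
      obtain ⟨p, rfl⟩ := hu
      obtain ⟨q, rfl⟩ := hw
      exact ⟨p + q, map_add _ _ _⟩
    | single x r =>
      obtain ⟨m, rfl⟩ := QuotientGroup.mk'_surjective H x
      exact ⟨MonoidAlgebra.single m r, MonoidAlgebra.mapDomainBialgHom_single _ _ _⟩
  · ext x
    show ρ x = 0 ↔ MonoidAlgebra.mapDomainAlgHom K K (QuotientGroup.mk' H) x = 0
    rw [hfac]
    exact map_eq_zero_iff _ hlift

/-- A closed subgroup of a group of multiplicative type over a field is of multiplicative type. -/
theorem isMultType_quotient_field {k : Type u} [Field k] {A : Type u} [CommRing A] [HopfAlgebra k A]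
    (h : SGA3b.IsMultType k A) (J : Ideal A) [J.IsHopfIdeal k] : SGA3b.IsMultType k (A ⧸ J) := by
  obtain ⟨R', _, _, -, ⟨q, -⟩, M, _, ⟨e⟩⟩ := exists_chart h ⟨⊥, Ideal.isPrime_bot⟩
  obtain ⟨P, hP, -⟩ := Ideal.exists_le_maximal q.asIdeal q.isPrime.ne_top
  letI : Field (R' ⧸ P) := Ideal.Quotient.field P
  let K := R' ⧸ P
  obtain ⟨eK⟩ := isDiag_baseChange e K
  let π : (K ⊗[k] A) →ₐc[K] (K ⊗[k] (A ⧸ J)) :=
    Bialgebra.TensorProduct.map (BialgHom.id K K) (Bialgebra.Quotient.mkBialgHom (R := k) J)
  have hπ : Function.Surjective π := by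
    intro z
    induction z using TensorProduct.induction_on with
    | zero => exact ⟨0, map_zero _⟩
    | tmul r x => obtain ⟨a, rfl⟩ := Ideal.Quotient.mk_surjective x; exact ⟨r ⊗ₜ a, rfl⟩
    | add u w hu hw =>
      obtain ⟨p, rfl⟩ := hu
      obtain ⟨q, rfl⟩ := hw
      exact ⟨p + q, map_add _ _ _⟩
  obtain ⟨N, _, ⟨eN⟩⟩ := isDiag_of_surjective
    (π.comp (eK.symm : MonoidAlgebra K M →ₐc[K] (K ⊗[k] A))) (hπ.comp (EquivLike.surjective eK.symm))
  refine ⟨{1}, Ideal.span_singleton_one, fun f hf => ?_⟩
  let T := Localization.Away f ⊗[k] K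
  letI : Algebra K T := Algebra.TensorProduct.rightAlgebra
  obtain ⟨eT⟩ := isDiag_baseChange eN T
  exact ⟨T, inferInstance, inferInstance, inferInstance, N, inferInstance,
    ⟨(cancelEquiv (R := k) (A := A ⧸ J) (Localization.Away f) T).trans eT⟩⟩

end Groth.Agent.H19Mult
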