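import Mathlib

/-!
Finitely generated commutative groups: finitely many elements are separated modulo `n`-th powers.
-/

set_option autoImplicit false
set_option linter.style.haveILetI false

universe u

namespace Groth.Agent.H19Mult

theorem exists_hom_finite_ne_zero {G : Type u} [AddCommGroup G] [AddGroup.FG G] {g : G} (hg : g ≠ 0) :
    ∃ (Q : Type u) (_ : AddCommGroup Q) (_ : Finite Q) (f : G →+ Q), f g ≠ 0 := by
  obtain ⟨n, ι, _, p, hp, e, ⟨eqv⟩⟩ := AddCommGroup.equiv_free_prod_directSum_zmod G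
  haveI : Finite (DirectSum ι fun i => ZMod (p i ^ e i)) := by
    haveI : ∀ i, NeZero (p i ^ e i) := fun i => ⟨pow_ne_zero _ (hp i).ne_zero⟩
    exact Finite.of_equiv _ (DFinsupp.equivFunOnFintype (β := fun i : ι => ZMod (p i ^ e i))).symm
  have hne : eqv g ≠ 0 := fun h => hg (eqv.injective (by rw [h, map_zero]))
  by_cases h2 : (eqv g).2 = 0
  · have h1 : (eqv g).1 ≠ 0 := fun h1 => hne (Prod.ext h1 h2)
    obtain ⟨i, hi⟩ := Finsupp.ne_iff.1 h1
    let c : ℤ := (eqv g).1 i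
    refine ⟨ULift.{u} (ZMod (c.natAbs + 1)), inferInstance, inferInstance,
      AddMonoidHom.mk' (fun x => ⟨(((eqv x).1 i : ℤ) : ZMod (c.natAbs + 1))⟩) (fun a b => by
        apply ULift.ext
        simp), fun h => ?_⟩
    have h' : ((c : ℤ) : ZMod (c.natAbs + 1)) = 0 := congrArg ULift.down h
    rw [ZMod.intCast_zmod_eq_zero_iff_dvd] at h'
    have h0 : c ≠ 0 := by simpa [c] using hi
    have := Int.natAbs_dvd_natAbs.2 h'
    simp only [Int.natAbs_natCast] at this
    have := Nat.le_of_dvd (Int.natAbs_pos.2 h0) this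
    omega
  · refine ⟨ULift.{u} (DirectSum ι fun i => ZMod (p i ^ e i)), inferInstance, inferInstance,
      AddMonoidHom.mk' (fun x => ⟨(eqv x).2⟩) (fun a b => by apply ULift.ext; simp), fun h => h2 ?_⟩
    exact congrArg ULift.down h

theorem exists_pow_separating {M : Type u} [CommGroup M] [Group.FG M] (F : Finset M) :
    ∃ n : ℕ, 0 < n ∧ ∀ a ∈ F, ∀ b ∈ F, b * a⁻¹ ∈ (powMonoidHom n : M →* M).range → a = b := by
  classical
  haveI : AddGroup.FG (Additive M) := inferInstance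
  let D : Finset M := ((F ×ˢ F).image fun q => q.2 * q.1⁻¹).filter fun d => d ≠ 1
  have key : ∀ d ∈ D, ∃ n : ℕ, 0 < n ∧ ∀ m : M, m ^ n ≠ d := by
    intro d hd
    obtain ⟨Q, _, _, f, hf⟩ := exists_hom_finite_ne_zero (g := Additive.ofMul d) (by
      simpa using (Finset.mem_filter.1 hd).2)
    refine ⟨Nat.card Q, Nat.card_pos, fun m hm => hf ?_⟩
    rw [← hm, ofMul_pow, map_nsmul]
    exact card_nsmul_eq_zero'
  choose! n hn0 hn using key
  refine ⟨∏ d ∈ D, n d, Finset.prod_pos hn0, fun a ha b hb hab => ?_⟩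
  by_contra hne
  obtain ⟨m, hm⟩ := hab
  have hd : b * a⁻¹ ∈ D := Finset.mem_filter.2 ⟨Finset.mem_image.2 ⟨(a, b), Finset.mem_product.2 ⟨ha, hb⟩, rfl⟩,
    fun h => hne (mul_inv_eq_one.1 h).symm⟩
  obtain ⟨q, hq⟩ : n (b * a⁻¹) ∣ ∏ d ∈ D, n d := Finset.dvd_prod_of_mem n hd
  refine hn _ hd (m ^ q) ?_
  rw [← pow_mul, mul_comm q, ← hq]
  exact hm

end Groth.Agent.H19Mult
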