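import Groth.Agent.H19Mult.LiftDiag
import Groth.Agent.H19Mult.FGSep
import Groth.Agent.H9Hens.Pair
import Groth.Agent.H9Hens.SchemeSections

/-!
Characters of groups of multiplicative type of finite type lift over henselian local rings.
-/

set_option autoImplicit false
set_option linter.style.haveILetI false
set_option backward.isDefEq.respectTransparency false

universe u

open TensorProduct Coalgebra

namespace Groth.Agent.H19Mult

variable {R : Type u} [CommRing R] {A : Type u} [CommRing A] [HopfAlgebra R A]
  {T : Type u} [CommRing T] [Algebra R T]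

/-- Extension of a functional to `T ⊗ A`. -/
noncomputable def evalT (T : Type u) [CommRing T] [Algebra R T] (φ : A →ₗ[R] R) : T ⊗[R] A →ₗ[T] T :=
  (TensorProduct.AlgebraTensorModule.rid R T T).toLinearMap ∘ₗ φ.baseChange T

@[simp] theorem evalT_tmul (φ : A →ₗ[R] R) (t : T) (a : A) : evalT T φ (t ⊗ₜ a) = algebraMap R T (φ a) * t := by
  simp [evalT, Algebra.smul_def]

/-- The pairing of two functionals on `T ⊗ (A ⊗ A)`. -/
noncomputable def eval2 (T : Type u) [CommRing T] [Algebra R T] (φ ψ : A →ₗ[R] R) : T ⊗[R] (A ⊗[R] A) →ₗ[T] T :=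
  (TensorProduct.AlgebraTensorModule.rid R T T).toLinearMap ∘ₗ
    (LinearMap.mul' R R ∘ₗ TensorProduct.map φ ψ).baseChange T

theorem eval2_mul (φ ψ : A →ₗ[R] R) (z z' : T ⊗[R] A) :
    eval2 T φ ψ (inl2 T z * inr2 T z') = evalT T φ z * evalT T ψ z' := by
  induction z using TensorProduct.induction_on with
  | zero => simp
  | add u w hu hw => simp only [map_add, add_mul, hu, hw]
  | tmul t a =>
    induction z' using TensorProduct.induction_on with
    | zero => simp
    | add u w hu hw => simp only [map_add, mul_add, hu, hw]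
    | tmul s b =>
      simp [inl2, inr2, eval2, Algebra.smul_def]
      ring

theorem evalT_conv (φ ψ : A →ₗ[R] R) {z : T ⊗[R] A} (hz : IsGL z) :
    evalT T (LinearMap.mul' R R ∘ₗ TensorProduct.map φ ψ ∘ₗ comul) z = evalT T φ z * evalT T ψ z := by
  rw [← eval2_mul, ← hz.2]
  clear hz
  induction z using TensorProduct.induction_on with
  | zero => simp
  | tmul t a => simp [eval2, comulT, Algebra.smul_def]
  | add u w hu hw => simp only [map_add, hu, hw]

section Chart

variable {N : Type u} [CommGroup N] (e : (T ⊗[R] A) ≃ₐc[T] MonoidAlgebra T N)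

/-- Values of a functional at the characters. -/
noncomputable def theta (φ : A →ₗ[R] R) (m : N) : T := evalT T φ (e.symm (MonoidAlgebra.single m 1))

theorem isGL_char (m : N) : IsGL (e.symm (MonoidAlgebra.single m 1)) :=
  (isGL_iff _).2 ((MonoidAlgebra.isGroupLikeElem_single_one m).map e.symm)

/-- The linear extension of a function on characters. -/
noncomputable def lext (g : N → T) : MonoidAlgebra T N →ₗ[T] T :=
  Finsupp.linearCombination T g ∘ₗ (MonoidAlgebra.coeffLinearEquiv T).toLinearMap

@[simp] theorem lext_single (g : N → T) (m : N) (t : T) : lext g (MonoidAlgebra.single m t) = t * g m := by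
  simp [lext]

theorem evalT_eq_lext (φ : A →ₗ[R] R) (z : T ⊗[R] A) : evalT T φ z = lext (theta e φ) (e z) := by
  obtain ⟨y, rfl⟩ := EquivLike.surjective e.symm z
  rw [BialgEquiv.apply_symm_apply]
  induction y using MonoidAlgebra.induction_linear with
  | zero => simp
  | add u w hu hw => simp only [map_add, hu, hw]
  | single m t =>
    rw [lext_single, show MonoidAlgebra.single m t = t • MonoidAlgebra.single m (1 : T) by simp, map_smul, map_smul]
    rfl

end Chart

theorem periodic_of_vanish {N : Type u} [CommGroup N] (e : (T ⊗[R] A) ≃ₐc[T] MonoidAlgebra T N) (n : ℕ)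
    (φ : A →ₗ[R] R) (hφ : ∀ j ∈ SGA3b.torsionIdeal R A n, φ j = 0) (m h : N)
    (hh : h ∈ (powMonoidHom n : N →* N).range) : theta e φ (m * h) = theta e φ m := by
  have hall : ∀ x ∈ Ideal.map (gmap e) (SGA3b.torsionIdeal R A n), ∀ y, lext (theta e φ) (y * x) = 0 := by
    intro x hx
    refine Submodule.span_induction ?_ (fun y => by rw [mul_zero, map_zero])
      (fun a b _ _ ha hb y => by rw [mul_add, map_add, ha, hb, add_zero])
      (fun c a _ ha y => by rw [smul_eq_mul, ← mul_assoc]; exact ha _) hx
    rintro _ ⟨j, hj, rfl⟩ y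
    obtain ⟨z, rfl⟩ := EquivLike.surjective e y
    induction z using TensorProduct.induction_on with
    | zero => simp
    | add u w hu hw => rw [map_add, add_mul, map_add, hu, hw, add_zero]
    | tmul t a =>
      rw [gmap_apply, ← map_mul, Algebra.TensorProduct.tmul_mul_tmul, mul_one, ← evalT_eq_lext, evalT_tmul,
        hφ _ (Ideal.mul_mem_left _ _ hj), map_zero, zero_mul]
  have hx : MonoidAlgebra.single h (1 : T) - 1 ∈ Ideal.map (gmap e) (SGA3b.torsionIdeal R A n) := by
    rw [map_gmap_torsionIdeal]
    exact Ideal.subset_span ⟨h, hh, rfl⟩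
  have := hall _ hx (MonoidAlgebra.single m 1)
  rw [mul_sub, mul_one, MonoidAlgebra.single_mul_single, map_sub, lext_single, lext_single] at this
  simpa [sub_eq_zero] using this

theorem isIdempotent_local {S : Type u} [CommRing S] [IsLocalRing S] {a : S} (ha : a * a = a) : a = 0 ∨ a = 1 := by
  rcases IsLocalRing.isUnit_or_isUnit_one_sub_self a with h | h
  · exact Or.inr (h.mul_left_cancel (by rw [ha, mul_one]))
  · exact Or.inl (h.mul_left_eq_zero.1 (by linear_combination -ha))

theorem free_quotient_torsion [IsLocalRing R] [Module.FaithfullyFlat R T] [Nontrivial T] {N : Type u} [CommGroup N]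
    (e : (T ⊗[R] A) ≃ₐc[T] MonoidAlgebra T N) (hft : Algebra.FiniteType R A) {n : ℕ} (hn : 0 < n) :
    Module.Free R (A ⧸ SGA3b.torsionIdeal R A n) ∧ Module.Finite R (A ⧸ SGA3b.torsionIdeal R A n) := by
  classical
  set J := SGA3b.torsionIdeal R A n
  haveI := fg_of_chart hft e
  set H := (powMonoidHom n : N →* N).range
  haveI : Finite (N ⧸ H) := finite_quotient_range_pow hn
  let π : T ⊗[R] A →ₐ[T] T ⊗[R] (A ⧸ J) := Algebra.TensorProduct.map (AlgHom.id T T) (Ideal.Quotient.mkₐ R J)
  have hπ : Function.Surjective π :=
    LinearMap.lTensor_surjective T (g := (Ideal.Quotient.mkₐ R J).toLinearMap) (Ideal.Quotient.mkₐ_surjective R J)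
  let e' : T ⊗[R] A ≃ₐ[T] MonoidAlgebra T N := AlgEquivClass.toAlgEquiv e
  let P := π.comp e'.symm.toAlgHom
  let Q := MonoidAlgebra.mapDomainAlgHom T T (QuotientGroup.mk' H)
  have hker : RingHom.ker Q = RingHom.ker P := by
    rw [ker_mapDomain, ← map_gmap_torsionIdeal e n]
    have hk : RingHom.ker π = J.map (Algebra.TensorProduct.includeRight : A →ₐ[R] T ⊗[R] A) := by
      have h1 := Algebra.TensorProduct.lTensor_ker (A := T) (Ideal.Quotient.mkₐ R J) (Ideal.Quotient.mkₐ_surjective R J)
      rw [show RingHom.ker (Ideal.Quotient.mkₐ R J) = J from Ideal.mk_ker] at h1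
      rw [← h1]
      ext z
      rfl
    show _ = RingHom.ker (π.toRingHom.comp e'.symm.toRingEquiv.toRingHom)
    rw [← RingHom.comap_ker, show RingHom.ker π.toRingHom = RingHom.ker π from rfl, hk]
    show _ = Ideal.comap e'.toRingEquiv.symm _
    rw [← Ideal.map_comap_of_equiv]
    show _ = Ideal.map e'.toRingEquiv.toRingHom (Ideal.map
      (Algebra.TensorProduct.includeRight : A →ₐ[R] T ⊗[R] A).toRingHom J)
    rw [Ideal.map_map]
    rfl
  have hQ : Function.Surjective Q := by
    intro z
    induction z using MonoidAlgebra.induction_linear with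
    | zero => exact ⟨0, map_zero _⟩
    | add u w hu hw =>
      obtain ⟨a, rfl⟩ := hu
      obtain ⟨b, rfl⟩ := hw
      exact ⟨a + b, map_add _ _ _⟩
    | single x r =>
      obtain ⟨m, rfl⟩ := QuotientGroup.mk'_surjective H x
      exact ⟨MonoidAlgebra.single m r, MonoidAlgebra.mapDomain_single⟩
  have hP : Function.Surjective P := hπ.comp e'.symm.surjective
  let E : (T ⊗[R] (A ⧸ J)) ≃ₗ[T] MonoidAlgebra T (N ⧸ H) :=
    (P.toLinearMap.quotKerEquivOfSurjective hP).symm.trans
      ((Submodule.quotEquivOfEq _ _ (by
        ext z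
        exact (SetLike.ext_iff.1 hker z).symm)).trans (Q.toLinearMap.quotKerEquivOfSurjective hQ))
  haveI : Module.Finite T (T ⊗[R] (A ⧸ J)) := Module.Finite.equiv E.symm
  haveI : Module.Flat T (T ⊗[R] (A ⧸ J)) :=
    Module.Flat.of_linearEquiv (E.trans (MonoidAlgebra.coeffLinearEquiv T))
  haveI : Module.Finite R (A ⧸ J) := Module.Finite.of_finite_tensorProduct_of_faithfullyFlat T
  haveI : Module.Flat R (A ⧸ J) := Module.Flat.of_flat_tensorProduct R (A ⧸ J) T
  exact ⟨Module.free_of_flat_of_isLocalRing, inferInstance⟩

open IsLocalRing in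
/-- Characters rational on the closed fibre lift over a henselian local ring. -/
theorem exists_character_lift [HenselianLocalRing R] [IsLocalRing T] [IsLocalHom (algebraMap R T)]
    [Module.Flat R T] (hft : Algebra.FiniteType R A) {N : Type u} [CommGroup N]
    (e : (T ⊗[R] A) ≃ₐc[T] MonoidAlgebra T N) (n₀ : N) (w : A)
    (hw₀ : coefL n₀ (e ((1 : T) ⊗ₜ w)) - 1 ∈ maximalIdeal T)
    (hrat : ∀ (a : A) (m : N), ∃ r : R, coefL m (e ((1 : T) ⊗ₜ a)) - algebraMap R T r ∈ maximalIdeal T) :
    ∃ x : A, IsGroupLikeElem R x ∧ e ((1 : T) ⊗ₜ x) = MonoidAlgebra.single n₀ 1 := by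
  classical
  haveI : Module.FaithfullyFlat R T := Module.FaithfullyFlat.of_flat_of_isLocalHom
  haveI := fg_of_chart hft e
  let F : Finset N := insert n₀ (e ((1 : T) ⊗ₜ w)).coeff.support
  obtain ⟨n, hn, hsep⟩ := exists_pow_separating F
  set J := SGA3b.torsionIdeal R A n
  set H := (powMonoidHom n : N →* N).range
  obtain ⟨hfree, hfin⟩ := free_quotient_torsion e hft hn
  haveI := hfree
  haveI := hfin
  let b := Module.Free.chooseBasis R (A ⧸ J)
  have hb : ∀ i, ∃ a : A, Ideal.Quotient.mk J a = b i := fun i => Ideal.Quotient.mk_surjective _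
  choose a ha using hb
  let ind : N → T := fun m => if m * n₀⁻¹ ∈ H then 1 else 0
  let E : A →ₗ[R] T := (lext ind).restrictScalars R ∘ₗ (gmap e).toLinearMap
  have hind : ∀ m h, h ∈ H → ind (m * h) = ind m := fun m h hh => by
    simp only [ind]
    rw [mul_right_comm, Subgroup.mul_mem_cancel_right H hh]
  have hEJ : ∀ j ∈ J, E j = 0 := by
    have key : ∀ x ∈ Ideal.span ((fun h => MonoidAlgebra.single h (1 : T) - 1) '' (H : Set N)), lext ind x = 0 := by
      intro x hx
      suffices ∀ y, lext ind (y * x) = 0 by simpa using this 1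
      refine Submodule.span_induction ?_ (fun y => by rw [mul_zero, map_zero])
        (fun p q _ _ hp hq y => by rw [mul_add, map_add, hp, hq, add_zero])
        (fun c p _ hp y => by rw [smul_eq_mul, ← mul_assoc]; exact hp _) hx
      rintro _ ⟨h, hh, rfl⟩ y
      induction y using MonoidAlgebra.induction_linear with
      | zero => simp
      | add u v hu hv => rw [add_mul, map_add, hu, hv, add_zero]
      | single m t =>
        rw [mul_sub, mul_one, MonoidAlgebra.single_mul_single, mul_one, map_sub, lext_single, lext_single,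
          hind m h hh, sub_self]
    intro j hj
    exact key _ (by rw [← map_gmap_torsionIdeal e n]; exact Ideal.mem_map_of_mem _ hj)
  have hr : ∀ z : A, ∃ r : R, E z - algebraMap R T r ∈ maximalIdeal T := by
    intro z
    choose r hr using hrat z
    let S := (e ((1 : T) ⊗ₜ[R] z)).coeff.support
    refine ⟨∑ m ∈ S, if m * n₀⁻¹ ∈ H then r m else 0, ?_⟩
    have hE : E z = ∑ m ∈ S, coefL m (e ((1 : T) ⊗ₜ z)) * ind m := by
      show lext ind (e ((1 : T) ⊗ₜ[R] z)) = _
      conv_lhs => rw [← MonoidAlgebra.sum_coeff_single (e ((1 : T) ⊗ₜ[R] z))]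
      rw [Finsupp.sum, map_sum]
      exact Finset.sum_congr rfl fun m _ => lext_single _ _ _
    rw [hE, map_sum, ← Finset.sum_sub_distrib]
    refine sum_mem fun m _ => ?_
    simp only [ind]
    split_ifs
    · rw [mul_one]; exact hr m
    · simp
  choose r hr using fun i => hr (a i)
  let φ₀ : (A ⧸ J) →ₗ[R] R := b.constr R r
  let φ : A →ₗ[R] R := φ₀ ∘ₗ (Ideal.Quotient.mkₐ R J).toLinearMap
  have hφJ : ∀ j ∈ J, φ j = 0 := fun j hj => by
    show φ₀ (Ideal.Quotient.mk J j) = 0
    rw [Ideal.Quotient.eq_zero_iff_mem.2 hj, map_zero]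
  have hφE : ∀ z, E z - algebraMap R T (φ z) ∈ maximalIdeal T := by
    intro z
    let z' : A := ∑ i, b.repr (Ideal.Quotient.mk J z) i • a i
    have hz' : z - z' ∈ J := by
      rw [← Ideal.Quotient.eq_zero_iff_mem, map_sub, map_sum, sub_eq_zero]
      conv_lhs => rw [← b.sum_repr (Ideal.Quotient.mk J z)]
      exact Finset.sum_congr rfl fun i _ => by rw [← ha]; rfl
    have h1 : E z = E z' := sub_eq_zero.1 (by rw [← map_sub]; exact hEJ _ hz')
    have h2 : φ z = φ z' := sub_eq_zero.1 (by rw [← map_sub]; exact hφJ _ hz')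
    rw [h1, h2, map_sum, map_sum, map_sum, ← Finset.sum_sub_distrib]
    refine sum_mem fun i _ => ?_
    rw [map_smul, map_smul, smul_eq_mul, map_mul, Algebra.smul_def, ← mul_sub]
    refine Ideal.mul_mem_left _ _ ?_
    show E (a i) - algebraMap R T (φ₀ (Ideal.Quotient.mk J (a i))) ∈ _
    rw [ha, show φ₀ (b i) = r i from b.constr_basis R r i]
    exact hr i
  have hθφ : ∀ m, theta e φ m - ind m ∈ maximalIdeal T := by
    intro m
    have hlin : ∀ z : T ⊗[R] A, lext ind (e z) - evalT T φ z ∈ maximalIdeal T := by
      intro z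
      induction z using TensorProduct.induction_on with
      | zero => simp
      | add u v hu hv => simp only [map_add]; rw [add_sub_add_comm]; exact add_mem hu hv
      | tmul t z =>
        have : e (t ⊗ₜ[R] z) = t • e ((1 : T) ⊗ₜ[R] z) := by
          rw [← map_smul, TensorProduct.smul_tmul', smul_eq_mul, mul_one]
        rw [this, map_smul, smul_eq_mul, evalT_tmul, mul_comm _ t, ← mul_sub]
        exact Ideal.mul_mem_left _ _ (hφE z)
    have h := hlin (e.symm (MonoidAlgebra.single m 1))
    rw [BialgEquiv.apply_symm_apply, lext_single, one_mul] at h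
    rw [← neg_sub]
    exact neg_mem h
  -- the algebra of periodic functionals, as functions on characters
  let Θ : Module.Dual R (A ⧸ J) →ₗ[R] (N → T) :=
    { toFun ψ := theta e (ψ ∘ₗ (Ideal.Quotient.mkₐ R J).toLinearMap)
      map_add' p q := by
        funext m
        have : ∀ z : T ⊗[R] A, evalT T ((p + q) ∘ₗ (Ideal.Quotient.mkₐ R J).toLinearMap) z =
            evalT T (p ∘ₗ (Ideal.Quotient.mkₐ R J).toLinearMap) z + evalT T (q ∘ₗ (Ideal.Quotient.mkₐ R J).toLinearMap) z := by
          intro z
          induction z using TensorProduct.induction_on with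
          | zero => simp
          | tmul t a => simp [add_mul]
          | add u v hu hv => simp only [map_add, hu, hv]; abel
        exact this _
      map_smul' c p := by
        funext m
        have : ∀ z : T ⊗[R] A, evalT T ((c • p) ∘ₗ (Ideal.Quotient.mkₐ R J).toLinearMap) z =
            c • evalT T (p ∘ₗ (Ideal.Quotient.mkₐ R J).toLinearMap) z := by
          intro z
          induction z using TensorProduct.induction_on with
          | zero => simp
          | tmul t a => simp [Algebra.smul_def, mul_assoc]
          | add u v hu hv => simp only [map_add, hu, hv, smul_add]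
        exact this _ }
  have hfac : ∀ χ : A →ₗ[R] R, (∀ j ∈ J, χ j = 0) →
      ∃ ψ : Module.Dual R (A ⧸ J), ψ ∘ₗ (Ideal.Quotient.mkₐ R J).toLinearMap = χ := fun χ hχ =>
    ⟨(J.restrictScalars R).liftQ χ (fun j hj => hχ j hj) ∘ₗ
      (Submodule.Quotient.restrictScalarsEquiv R J).symm.toLinearMap, LinearMap.ext fun z => rfl⟩
  have hlextθ : ∀ (χ : A →ₗ[R] R) (z : A), algebraMap R T (χ z) = lext (theta e χ) (e ((1 : T) ⊗ₜ z)) :=
    fun χ z => by rw [← evalT_eq_lext, evalT_tmul, mul_one]
  let B : Subalgebra R (N → T) :=
    { carrier := LinearMap.range Θ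
      mul_mem' := by
        rintro _ _ ⟨p, rfl⟩ ⟨q, rfl⟩
        let P := p ∘ₗ (Ideal.Quotient.mkₐ R J).toLinearMap
        let Q := q ∘ₗ (Ideal.Quotient.mkₐ R J).toLinearMap
        let PQ := LinearMap.mul' R R ∘ₗ TensorProduct.map P Q ∘ₗ comul
        have hθ : ∀ m, theta e PQ m = theta e P m * theta e Q m := fun m => evalT_conv P Q (isGL_char e m)
        have hJ' : ∀ j ∈ J, PQ j = 0 := by
          intro j hj
          refine FaithfulSMul.algebraMap_injective R T ?_
          rw [map_zero, hlextθ]
          have key : ∀ x ∈ Ideal.span ((fun h => MonoidAlgebra.single h (1 : T) - 1) '' (H : Set N)),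
              lext (theta e PQ) x = 0 := by
            intro x hx
            suffices ∀ y, lext (theta e PQ) (y * x) = 0 by simpa using this 1
            refine Submodule.span_induction ?_ (fun y => by rw [mul_zero, map_zero])
              (fun u v _ _ hu hv y => by rw [mul_add, map_add, hu, hv, add_zero])
              (fun c u _ hu y => by rw [smul_eq_mul, ← mul_assoc]; exact hu _) hx
            rintro _ ⟨h, hh, rfl⟩ y
            induction y using MonoidAlgebra.induction_linear with
            | zero => simp
            | add u v hu hv => rw [add_mul, map_add, hu, hv, add_zero]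
            | single m t =>
              have hP := periodic_of_vanish e n P (fun j hj => by
                show p (Ideal.Quotient.mk J j) = 0
                rw [Ideal.Quotient.eq_zero_iff_mem.2 hj, map_zero]) m h hh
              have hQ := periodic_of_vanish e n Q (fun j hj => by
                show q (Ideal.Quotient.mk J j) = 0
                rw [Ideal.Quotient.eq_zero_iff_mem.2 hj, map_zero]) m h hh
              rw [mul_sub, mul_one, MonoidAlgebra.single_mul_single, mul_one, map_sub, lext_single, lext_single,
                hθ, hθ, hP, hQ, sub_self]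
          exact key _ (by rw [← map_gmap_torsionIdeal e n]; exact Ideal.mem_map_of_mem _ hj)
        obtain ⟨ψ, hψ⟩ := hfac PQ hJ'
        refine ⟨ψ, funext fun m => ?_⟩
        show theta e _ m = theta e P m * theta e Q m
        rw [hψ, hθ]
      add_mem' := fun {x y} hx hy => Submodule.add_mem _ hx hy
      algebraMap_mem' := fun c => by
        have hε : ∀ j ∈ J, (c • counit (R := R) (A := A)) j = 0 := by
          intro j hj
          have : ∀ z : A, counit (R := R) (SGA3b.powConv R A n z) = counit (R := R) z := by
            intro z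
            apply FaithfulSMul.algebraMap_injective R T
            rw [hlextθ (counit (R := R)), hlextθ (counit (R := R)) z, ← gmap_apply e, ← gmap_apply e]
            show lext _ ((gmap e).toRingHom ((SGA3b.powConv R A n).toRingHom z)) = _
            rw [show (gmap e).toRingHom ((SGA3b.powConv R A n).toRingHom z) =
              (SGA3b.powConv T (MonoidAlgebra T N) n).toRingHom ((gmap e).toRingHom z) from gmap_powConv e n z]
            induction (gmap e).toRingHom z using MonoidAlgebra.induction_linear with
            | zero => simp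
            | add u v hu hv => simp only [map_add, hu, hv]
            | single m t =>
              show lext _ (SGA3b.powConv T (MonoidAlgebra T N) n (MonoidAlgebra.single m t)) = _
              rw [show MonoidAlgebra.single m t = t • MonoidAlgebra.single m (1 : T) by simp, map_smul,
                powConv_single, map_smul, map_smul, lext_single, lext_single]
              congr 2
              have hc : ∀ x, theta e (counit (R := R)) x = 1 := fun x => by
                have := (isGL_char e x).1
                refine Eq.trans ?_ this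
                show evalT T _ _ = _
                induction e.symm (MonoidAlgebra.single x 1) using TensorProduct.induction_on with
                | zero => simp
                | tmul t a => simp [Algebra.smul_def]
                | add u v hu hv => simp only [map_add, hu, hv]
              rw [hc, hc]
          refine Submodule.span_induction (p := fun x _ => ∀ y, (c • counit (R := R) (A := A)) (y * x) = 0) ?_
            (fun y => by rw [mul_zero, map_zero]) (fun u v _ _ hu hv y => by rw [mul_add, map_add, hu, hv, add_zero])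
            (fun d u _ hu y => by rw [smul_eq_mul, ← mul_assoc]; exact hu _) hj |> fun h => by simpa using h 1
          rintro _ ⟨z, hz, rfl⟩ y
          rw [LinearMap.smul_apply, Bialgebra.counit_mul, this, show counit (R := R) z = 0 from hz, mul_zero, smul_zero]
        obtain ⟨ψ, hψ⟩ := hfac _ hε
        refine ⟨ψ, funext fun m => ?_⟩
        show theta e _ m = algebraMap R T c
        rw [hψ]
        refine Eq.trans ?_ (show algebraMap R T c * counit (R := T) (e.symm (MonoidAlgebra.single m 1)) = _ by
          rw [(isGL_char e m).1, mul_one])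
        show evalT T _ _ = _
        induction e.symm (MonoidAlgebra.single m 1) using TensorProduct.induction_on with
        | zero => simp
        | tmul t a => simp [Algebra.smul_def]; ring
        | add u v hu hv => simp only [map_add, hu, hv, mul_add] }
  haveI : Module.Finite R B := Module.Finite.of_surjective
    (Θ.codRestrict B.toSubmodule fun ψ => ⟨ψ, rfl⟩) fun ⟨_, ψ, hψ⟩ => ⟨ψ, Subtype.ext hψ⟩
  haveI := H9Hens.henselianRing_maximalIdeal R
  let β : B := ⟨Θ φ₀, φ₀, rfl⟩
  have hββ : β * β - β ∈ (maximalIdeal R).map (algebraMap R B) := by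
    obtain ⟨ψ, hψ⟩ := (β * β - β).2
    have hψm : ∀ m, Θ ψ m ∈ maximalIdeal T := fun m => by
      rw [hψ]
      show Θ φ₀ m * Θ φ₀ m - Θ φ₀ m ∈ _
      have h := hθφ m
      have h2 : ind m * ind m = ind m := by simp only [ind]; split <;> simp
      rw [show Θ φ₀ m * Θ φ₀ m - Θ φ₀ m = (theta e φ m - ind m) * (theta e φ m + ind m - 1) +
        (ind m * ind m - ind m) by show theta e φ m * theta e φ m - theta e φ m = _; ring, h2, sub_self, add_zero]
      exact Ideal.mul_mem_right _ _ h
    have hval : ∀ i, ψ (b i) ∈ maximalIdeal R := fun i => by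
      rw [← ha, mem_maximalIdeal, mem_nonunits_iff]
      intro hu
      refine ((mem_maximalIdeal _).1 ?_) (hu.map (algebraMap R T))
      rw [show ψ (Ideal.Quotient.mk J (a i)) = (ψ ∘ₗ (Ideal.Quotient.mkₐ R J).toLinearMap) (a i) from rfl, hlextθ]
      generalize e ((1 : T) ⊗ₜ[R] a i) = y
      induction y using MonoidAlgebra.induction_linear with
      | zero => simp
      | add u v hu hv => rw [map_add]; exact add_mem hu hv
      | single m t => rw [lext_single]; exact Ideal.mul_mem_left _ _ (hψm m)
    have hsum : β * β - β = ∑ i, ψ (b i) • (⟨Θ (b.coord i), b.coord i, rfl⟩ : B) := by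
      apply Subtype.ext
      rw [AddSubmonoidClass.coe_finsetSum]
      rw [← hψ]
      conv_lhs => rw [← b.sum_dual_apply_smul_coord ψ]
      rw [map_sum]
      exact Finset.sum_congr rfl fun i _ => map_smul _ _ _
    rw [hsum]
    refine sum_mem fun i _ => ?_
    rw [Algebra.smul_def]
    exact Ideal.mul_mem_right _ _ (Ideal.mem_map_of_mem _ (hval i))
  obtain ⟨η, hη, hηβ⟩ := H9Hens.exists_idem_lift (I := maximalIdeal R) β hββ
  obtain ⟨ψ, hψ⟩ := η.2
  have hηm : ∀ x ∈ (maximalIdeal R).map (algebraMap R B), ∀ m, (x : N → T) m ∈ maximalIdeal T := by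
    intro x hx m
    have : (maximalIdeal R).map (algebraMap R B) ≤ (maximalIdeal T).comap ((Pi.evalRingHom (fun _ : N => T) m).comp B.val.toRingHom) :=
      Ideal.map_le_iff_le_comap.2 fun c hc => by
        show algebraMap R T c ∈ maximalIdeal T
        exact map_nonunit (algebraMap R T) c hc
    exact this hx
  have hval : ∀ m, Θ ψ m = ind m := fun m => by
    have h1 : (η : N → T) m * (η : N → T) m = (η : N → T) m := congrFun (congrArg Subtype.val hη.eq) m
    have h2 : (η : N → T) m - ind m ∈ maximalIdeal T := by
      have := add_mem (hηm _ hηβ m) (hθφ m)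
      rwa [show ((η - β : B) : N → T) m = (η : N → T) m - theta e φ m from rfl, sub_add_sub_cancel] at this
    rw [hψ]
    have hne : ¬ (1 : T) ∈ maximalIdeal T := fun h => (maximalIdeal.isMaximal T).ne_top ((Ideal.eq_top_iff_one _).2 h)
    simp only [ind] at h2 ⊢
    rcases isIdempotent_local h1 with h | h <;> split_ifs at h2 ⊢ <;> simp_all
  let χ := ψ ∘ₗ (Ideal.Quotient.mkₐ R J).toLinearMap
  let y : A := TensorProduct.lid R A (TensorProduct.map χ LinearMap.id (comul (R := R) w))
  let Ω : T ⊗[R] (A ⊗[R] A) →ₗ[T] MonoidAlgebra T N :=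
    (AlgEquivClass.toAlgEquiv e : T ⊗[R] A ≃ₐ[T] _).toLinearMap ∘ₗ
      ((TensorProduct.lid R A).toLinearMap ∘ₗ TensorProduct.map χ LinearMap.id).baseChange T
  have hΩ : ∀ z z' : T ⊗[R] A, Ω (inl2 T z * inr2 T z') = evalT T χ z • e z' := by
    intro z z'
    induction z using TensorProduct.induction_on with
    | zero => simp
    | add u v hu hv => simp only [map_add, add_mul, add_smul, hu, hv]
    | tmul t a =>
      induction z' using TensorProduct.induction_on with
      | zero => simp
      | add u v hu hv => simp only [map_add, mul_add, smul_add, hu, hv]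
      | tmul s a' =>
        rw [← map_smul, TensorProduct.smul_tmul', evalT_tmul]
        simp [Ω, inl2, inr2]
        congr 1
        rw [← Algebra.smul_def, TensorProduct.smul_tmul', Algebra.smul_def]
        congr 1
        rw [Algebra.smul_def]; ring
  have hy : e ((1 : T) ⊗ₜ[R] y) = coefL n₀ (e ((1 : T) ⊗ₜ w)) • MonoidAlgebra.single n₀ 1 := by
    have hlhs : e ((1 : T) ⊗ₜ[R] y) = Ω (comulT T ((1 : T) ⊗ₜ[R] w)) := rfl
    rw [hlhs]
    let W := e ((1 : T) ⊗ₜ[R] w)
    have hW : (1 : T) ⊗ₜ[R] w = ∑ m ∈ W.coeff.support, coefL m W • e.symm (MonoidAlgebra.single m 1) := by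
      apply EquivLike.injective e
      rw [map_sum]
      conv_lhs => rw [show e ((1 : T) ⊗ₜ[R] w) = W from rfl, ← MonoidAlgebra.sum_coeff_single W]
      refine Finset.sum_congr rfl fun m _ => ?_
      rw [map_smul, BialgEquiv.apply_symm_apply, MonoidAlgebra.smul_single, smul_eq_mul, mul_one]
      rfl
    rw [hW, map_sum, map_sum]
    have : ∀ m, Ω (comulT T (coefL m W • e.symm (MonoidAlgebra.single m 1))) =
        (coefL m W * ind m) • MonoidAlgebra.single m 1 := fun m => by
      rw [map_smul, map_smul, (isGL_char e m).2, hΩ, BialgEquiv.apply_symm_apply,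
        show evalT T χ (e.symm (MonoidAlgebra.single m 1)) = ind m from hval m, smul_smul]
    simp only [this]
    rw [← hW]
    rw [Finset.sum_eq_single n₀]
    · simp [ind, W, one_mem]
    · intro m hm hne
      rw [show ind m = 0 from if_neg fun h => hne (hsep n₀ (Finset.mem_insert_self _ _) m
        (Finset.mem_insert_of_mem hm) h).symm, mul_zero, zero_smul]
    · intro h
      rw [show coefL n₀ W = 0 from Finsupp.notMem_support_iff.1 h, zero_mul, zero_smul]
  have hc : algebraMap R T (counit (R := R) y) = coefL n₀ (e ((1 : T) ⊗ₜ w)) := by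
    have h1 : counit (R := T) (e ((1 : T) ⊗ₜ[R] y)) = algebraMap R T (counit (R := R) y) := by
      rw [CoalgHomClass.counit_comp_apply e, TensorProduct.counit_tmul, CommSemiring.counit_apply, Algebra.smul_def,
        mul_one]
    rw [← h1, hy, map_smul, MonoidAlgebra.counit_single, CommSemiring.counit_apply, smul_eq_mul, mul_one]
  have hu : IsUnit (counit (R := R) y) := by
    refine isUnit_of_map_unit (algebraMap R T) _ ?_
    rw [hc]
    by_contra hnu
    refine (maximalIdeal.isMaximal T).ne_top ((Ideal.eq_top_iff_one _).2 ?_)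
    have := sub_mem ((mem_maximalIdeal _).2 hnu) hw₀
    rwa [sub_sub_cancel] at this
  obtain ⟨u, hu⟩ := hu
  let x : A := ((u⁻¹ : Rˣ) : R) • y
  have hx : e ((1 : T) ⊗ₜ[R] x) = MonoidAlgebra.single n₀ 1 := by
    rw [TensorProduct.tmul_smul, ← algebraMap_smul T, map_smul, hy, ← hc, smul_smul, ← map_mul, ← hu, Units.inv_mul,
      map_one, one_smul]
  have hgl : IsGL ((1 : T) ⊗ₜ[R] x) := by
    rw [isGL_iff, ← e.symm_apply_apply ((1 : T) ⊗ₜ[R] x), hx]
    exact (MonoidAlgebra.isGroupLikeElem_single_one n₀).map e.symm
  refine ⟨x, ⟨FaithfulSMul.algebraMap_injective R T ?_,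
    Module.FaithfullyFlat.tensorProduct_mk_injective (A := R) (B := T) (A ⊗[R] A) ?_⟩, hx⟩
  · have := hgl.1
    rw [TensorProduct.counit_tmul, CommSemiring.counit_apply, Algebra.smul_def, mul_one] at this
    rw [this, map_one]
  · have := hgl.2
    simpa [comulT, inl2, inr2] using this

end Groth.Agent.H19Mult
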