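import Groth.Agent.H19Mult.Charts
import Groth.Agent.H19Mult.HenselSplit
import Groth.Agent.H19Mult.BaseChange
import Groth.Prelude.Def_CartDual

/-!
Finite groups of multiplicative type and étale Cartier duals.
-/

set_option autoImplicit false
set_option linter.style.haveILetI false
set_option backward.isDefEq.respectTransparency false

universe u

open TensorProduct Coalgebra WithConv

namespace Groth.Agent.H19Mult

variable {R : Type u} [CommRing R] {A : Type u} [CommRing A] [HopfAlgebra R A]

/-- Over a connected base a group of multiplicative type has one type. -/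
theorem exists_ff_chart [Nontrivial R] (hconn : ∀ e : R, IsIdempotentElem e → e = 0 ∨ e = 1)
    (h : SGA3b.IsMultType R A) :
    ∃ (T : Type u) (_ : CommRing T) (_ : Algebra R T), Module.FaithfullyFlat R T ∧ SGA3b.IsDiag T (T ⊗[R] A) := by
  classical
  obtain ⟨n, P, _, _, hfl, hcov, hd⟩ := exists_finite_charts h
  haveI := hfl
  choose M iM e using hd
  obtain ⟨p₀⟩ : Nonempty (PrimeSpectrum R) := inferInstance
  obtain ⟨i₀, q₀, -⟩ := hcov p₀
  obtain ⟨f, hf, hfi⟩ := exists_idem_type P hcov (fun j => Nonempty (M j ≃* M i₀)) (fun j k p q hpq => by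
    obtain ⟨θ⟩ := nonempty_mulEquiv_of_points (e j).some (e k).some p q hpq
    exact ⟨fun ⟨η⟩ => ⟨θ.symm.trans η⟩, fun ⟨η⟩ => ⟨θ.trans η⟩⟩)
  have hf1 : f = 1 := by
    rcases hconn f hf with rfl | rfl
    · exact absurd (zero_mem _) ((hfi i₀ q₀).2 ⟨MulEquiv.refl _⟩)
    · rfl
  let J := {j : Fin n // Nonempty (M j ≃* M i₀)}
  have he : ∀ j : J, Nonempty ((P j.1 ⊗[R] A) ≃ₐc[P j.1] MonoidAlgebra (P j.1) (M i₀)) := fun j =>
    isDiag_congr_type j.2.some (e j.1).some
  refine ⟨∀ j : J, P j.1, inferInstance, inferInstance, faithfullyFlat_pi (fun j : J => P j.1) fun p => ?_,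
    M i₀, inferInstance, isDiag_pi (fun j : J => P j.1) fun j => (he j).some⟩
  obtain ⟨j, q, hq⟩ := hcov p
  refine ⟨⟨j, (hfi j q).1 ?_⟩, q, hq⟩
  rw [hf1]
  exact fun h => (PrimeSpectrum.comap (algebraMap R (P j)) q).isPrime.ne_top ((Ideal.eq_top_iff_one _).2 h)

theorem connected_idem [ConnectedSpace (PrimeSpectrum R)] (e : R) (he : IsIdempotentElem e) : e = 0 ∨ e = 1 := by
  have h := isClopen_iff.1 (PrimeSpectrum.isClopen_iff.2 ⟨e, he, rfl⟩ :
    IsClopen (PrimeSpectrum.basicOpen e : Set (PrimeSpectrum R)))
  rcases h with h | h
  · left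
    obtain ⟨n, hn⟩ := (PrimeSpectrum.basicOpen_eq_bot_iff e).1 (TopologicalSpace.Opens.ext h)
    exact he.eq_zero_of_isNilpotent ⟨n, hn⟩
  · right
    have hu : IsUnit e := by
      by_contra hne
      obtain ⟨m, hm, hem⟩ := exists_max_ideal_of_mem_nonunits hne
      exact (Set.eq_univ_iff_forall.1 h ⟨m, hm.isPrime⟩ : _) hem
    exact hu.mul_left_cancel (by rw [he.eq, _root_.mul_one])

section Dual

variable (T : Type u) [CommRing T] [Algebra R T]

/-- The evaluation of functionals at a fixed element, linear in the functional. -/
noncomputable def evalL (z : T ⊗[R] A) : Module.Dual R A →ₗ[R] T where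
  toFun φ := evalT T φ z
  map_add' p q := by
    induction z using TensorProduct.induction_on with
    | zero => simp
    | tmul t a => simp [add_mul]
    | add u v hu hv => simp only [map_add, hu, hv]; abel
  map_smul' c p := by
    induction z using TensorProduct.induction_on with
    | zero => simp
    | tmul t a => simp [Algebra.smul_def, mul_assoc]
    | add u v hu hv => simp only [map_add, RingHom.id_apply, hu, hv, smul_add]

theorem evalL_bijective [Module.Finite R A] [Module.Projective R A] :
    Function.Bijective (evalL (R := R) (A := A) T) := by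
  let Φ : T ⊗[R] A ≃ₗ[R] (Module.Dual R A →ₗ[R] T) :=
    ((TensorProduct.congr (LinearEquiv.refl R T) (Module.evalEquiv R A)).trans (TensorProduct.comm R _ _)).trans
      (dualTensorHomEquiv R (Module.Dual R A) T)
  have h : ∀ z, evalL T z = Φ z := by
    intro z
    induction z using TensorProduct.induction_on with
    | zero => apply LinearMap.ext; intro φ; simp [evalL]
    | tmul t a =>
      apply LinearMap.ext; intro φ
      simp [evalL, Φ, dualTensorHomEquiv, Algebra.smul_def]
    | add u v hu hv =>
      rw [map_add, ← hu, ← hv]
      apply LinearMap.ext; intro φ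
      exact map_add (evalT T φ) u v
  rw [show evalL (R := R) (A := A) T = Φ from funext h]
  exact Φ.bijective

/-- The dual algebra after base change, mapped to functions on the characters of a chart. -/
noncomputable def charAlgHom [Coalgebra.IsCocomm R A] {N : Type u} [CommGroup N]
    (e : (T ⊗[R] A) ≃ₐc[T] MonoidAlgebra T N) : T ⊗[R] CartDual.D R A →ₐ[T] (N → T) :=
  Algebra.TensorProduct.lift (Algebra.ofId T (N → T))
    { toFun := fun φ m => theta e φ.ofConv m
      map_one' := by
        funext m
        show evalT T _ (e.symm (MonoidAlgebra.single m 1)) = 1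
        refine Eq.trans ?_ (isGL_char e m).1
        generalize e.symm (MonoidAlgebra.single m 1) = z
        induction z using TensorProduct.induction_on with
        | zero => simp
        | tmul t a => simp [LinearMap.convOne_def, Algebra.smul_def]
        | add u v hu hv => simp only [map_add, hu, hv]
      map_mul' := fun p q => funext fun m => evalT_conv p.ofConv q.ofConv (isGL_char e m)
      map_zero' := funext fun m => (evalL T (e.symm (MonoidAlgebra.single m 1))).map_zero
      map_add' := fun p q => funext fun m => (evalL T (e.symm (MonoidAlgebra.single m 1))).map_add p.ofConv q.ofConv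
      commutes' := fun c => by
        funext m
        show evalT T _ (e.symm (MonoidAlgebra.single m 1)) = algebraMap R T c
        refine Eq.trans ?_ (show algebraMap R T c * counit (R := T) (e.symm (MonoidAlgebra.single m 1)) = _ by
          rw [(isGL_char e m).1, _root_.mul_one])
        generalize e.symm (MonoidAlgebra.single m 1) = z
        induction z using TensorProduct.induction_on with
        | zero => simp
        | tmul t a =>
          rw [show (algebraMap R (CartDual.D R A) c).ofConv = c • counit (R := R) from by
            rw [Algebra.algebraMap_eq_smul_one]; ext x; simp [LinearMap.convOne_def]]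
          simp [Algebra.smul_def]
          ring
        | add u v hu hv => simp only [map_add, hu, hv, mul_add] }
    fun _ _ => Commute.all _ _

theorem charAlgHom_tmul [Coalgebra.IsCocomm R A] {N : Type u} [CommGroup N]
    (e : (T ⊗[R] A) ≃ₐc[T] MonoidAlgebra T N) (t : T) (φ : CartDual.D R A) (m : N) :
    charAlgHom T e (t ⊗ₜ φ) m = t * theta e φ.ofConv m := by
  simp [charAlgHom]

theorem charAlgHom_bijective [Coalgebra.IsCocomm R A] [Module.Finite R A] [Module.Projective R A]
    {N : Type u} [CommGroup N] (e : (T ⊗[R] A) ≃ₐc[T] MonoidAlgebra T N) :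
    Function.Bijective (charAlgHom T e) := by
  let Φ : T ⊗[R] CartDual.D R A ≃ₗ[R] (A →ₗ[R] T) :=
    ((TensorProduct.congr (LinearEquiv.refl R T) (CartDual.toDual R A)).trans (TensorProduct.comm R _ _)).trans
      (dualTensorHomEquiv R A T)
  have hΦ : ∀ w a, Φ w a = lext (charAlgHom T e w) (e ((1 : T) ⊗ₜ[R] a)) := by
    intro w a
    induction w using TensorProduct.induction_on with
    | zero =>
      rw [map_zero Φ, map_zero (charAlgHom T e)]
      generalize e ((1 : T) ⊗ₜ[R] a) = y
      induction y using MonoidAlgebra.induction_linear with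
      | zero => simp
      | add u v hu hv => rw [map_add, ← hu, ← hv]; simp
      | single m r => simp
    | tmul t φ =>
      have h1 : Φ (t ⊗ₜ φ) a = algebraMap R T (φ.ofConv a) * t := by
        simp [Φ, dualTensorHomEquiv, Algebra.smul_def]
      rw [h1, show algebraMap R T (φ.ofConv a) = evalT T φ.ofConv ((1 : T) ⊗ₜ[R] a) by simp, evalT_eq_lext e]
      generalize e ((1 : T) ⊗ₜ[R] a) = y
      induction y using MonoidAlgebra.induction_linear with
      | zero => simp
      | add u v hu hv => simp only [map_add, add_mul, hu, hv]
      | single m r => rw [lext_single, lext_single, charAlgHom_tmul]; ring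
    | add u v hu hv =>
      rw [map_add Φ, LinearMap.add_apply, hu, hv, map_add (charAlgHom T e)]
      generalize e ((1 : T) ⊗ₜ[R] a) = y
      induction y using MonoidAlgebra.induction_linear with
      | zero => simp
      | add p q hp hq => simp only [map_add]; rw [← hp, ← hq]; abel
      | single m r => simp [mul_add]
  refine ⟨fun v w h => Φ.injective (LinearMap.ext fun a => by rw [hΦ, hΦ, h]), fun g => ?_⟩
  let G : A →ₗ[R] T := (lext g).restrictScalars R ∘ₗ (gmap e).toLinearMap
  refine ⟨Φ.symm G, funext fun m => ?_⟩
  have key : ∀ y : MonoidAlgebra T N, lext (charAlgHom T e (Φ.symm G)) y = lext g y := by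
    intro y
    obtain ⟨z, rfl⟩ := EquivLike.surjective e y
    induction z using TensorProduct.induction_on with
    | zero => simp
    | add u v hu hv => simp only [map_add, hu, hv]
    | tmul t a =>
      rw [show e (t ⊗ₜ[R] a) = t • e ((1 : T) ⊗ₜ[R] a) by rw [← map_smul, TensorProduct.smul_tmul', smul_eq_mul, _root_.mul_one],
        map_smul, map_smul, ← hΦ, LinearEquiv.apply_symm_apply]
      rfl
  simpa using key (MonoidAlgebra.single m 1)

end Dual

section Finite

variable {T : Type u} [CommRing T] [Algebra R T]

theorem finite_type_of_chart [Module.Finite R A] [Nontrivial T] {N : Type u} [CommGroup N]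
    (e : (T ⊗[R] A) ≃ₐc[T] MonoidAlgebra T N) : Finite N := by
  haveI : Module.Finite T (N →₀ T) :=
    Module.Finite.equiv ((AlgEquivClass.toAlgEquiv e : T ⊗[R] A ≃ₐ[T] _).toLinearEquiv.trans (MonoidAlgebra.coeffLinearEquiv T))
  exact Module.Finite.finite_basis (Finsupp.basisSingleOne (R := T) (ι := N))

theorem projective_of_chart [Module.Finite R A] [Module.FaithfullyFlat R T] [Nontrivial T] {N : Type u}
    [CommGroup N] (e : (T ⊗[R] A) ≃ₐc[T] MonoidAlgebra T N) : Module.Projective R A := by
  haveI := finite_type_of_chart e
  let e' : T ⊗[R] A ≃ₐ[T] MonoidAlgebra T N := AlgEquivClass.toAlgEquiv e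
  haveI : Module.Free T (T ⊗[R] A) := Module.Free.of_equiv (e'.toLinearEquiv.trans (MonoidAlgebra.coeffLinearEquiv T)).symm
  haveI : Module.Flat R A := Module.Flat.of_flat_tensorProduct R A T
  haveI : Module.FinitePresentation T (T ⊗[R] A) := Module.finitePresentation_of_projective _ _
  haveI : Algebra.FinitePresentation T (T ⊗[R] A) := Algebra.FinitePresentation.of_finitePresentation T (T ⊗[R] A)
  haveI : Algebra.FinitePresentation R A :=
    Algebra.FinitePresentation.of_finitePresentation_tensorProduct_of_faithfullyFlat T
  haveI : Module.FinitePresentation R A := Module.FinitePresentation.of_finite_of_finitePresentation R A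
  exact Module.Flat.projective_of_finitePresentation

theorem isCocomm_of_chart [Module.FaithfullyFlat R T] {N : Type u} [CommGroup N]
    (e : (T ⊗[R] A) ≃ₐc[T] MonoidAlgebra T N) : Coalgebra.IsCocomm R A := by
  refine ⟨LinearMap.ext fun c => ?_⟩
  apply Module.FaithfullyFlat.tensorProduct_mk_injective (A := R) (B := T) (A ⊗[R] A)
  let S : T ⊗[R] (A ⊗[R] A) →ₗ[T] T ⊗[R] (A ⊗[R] A) := (TensorProduct.comm R A A).toLinearMap.baseChange T
  have hS : ∀ y : MonoidAlgebra T N, S (comulT T (e.symm y)) = comulT T (e.symm y) := by
    intro y
    induction y using MonoidAlgebra.induction_linear with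
    | zero => simp
    | add u v hu hv => simp only [map_add, hu, hv]
    | single m r =>
      rw [show MonoidAlgebra.single m r = r • MonoidAlgebra.single m (1 : T) by simp, map_smul, map_smul, map_smul,
        (isGL_char e m).2]
      congr 1
      have hsw : ∀ z w : T ⊗[R] A, S (inl2 T z * inr2 T w) = inl2 T w * inr2 T z := by
        intro z w
        induction z using TensorProduct.induction_on with
        | zero => simp
        | add u v hu hv => simp only [map_add, add_mul, mul_add, hu, hv]
        | tmul t a =>
          induction w using TensorProduct.induction_on with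
          | zero => simp
          | add u v hu hv => simp only [map_add, add_mul, mul_add, hu, hv]
          | tmul t' b => simp [S, inl2, inr2, _root_.mul_comm]
      exact hsw _ _
  have h := hS (e ((1 : T) ⊗ₜ[R] c))
  rw [BialgEquiv.symm_apply_apply] at h
  exact h

theorem etale_dual_of_chart [Module.Finite R A] [Module.Projective R A] [Coalgebra.IsCocomm R A]
    [Module.FaithfullyFlat R T] [Nontrivial T] {N : Type u} [CommGroup N]
    (e : (T ⊗[R] A) ≃ₐc[T] MonoidAlgebra T N) : Algebra.Etale R (CartDual.D R A) := by
  haveI := finite_type_of_chart e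
  haveI : Algebra.Etale T (T ⊗[R] CartDual.D R A) :=
    Algebra.Etale.of_equiv (AlgEquiv.ofBijective (charAlgHom T e) (charAlgHom_bijective T e)).symm
  exact Algebra.Etale.of_etale_tensorProduct_of_faithfullyFlat T

theorem evalT_ext {V : Type u} [AddCommGroup V] [Module R V] [Module.Finite R V] [Module.Projective R V]
    (z w : T ⊗[R] V)
    (h : ∀ χ : Module.Dual R V, (TensorProduct.rid R T) (χ.lTensor T z) = (TensorProduct.rid R T) (χ.lTensor T w)) :
    z = w := by
  let Φ : T ⊗[R] V ≃ₗ[R] (Module.Dual R V →ₗ[R] T) :=
    ((TensorProduct.congr (LinearEquiv.refl R T) (Module.evalEquiv R V)).trans (TensorProduct.comm R _ _)).trans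
      (dualTensorHomEquiv R (Module.Dual R V) T)
  have h' : ∀ z χ, Φ z χ = (TensorProduct.rid R T) (χ.lTensor T z) := by
    intro z χ
    induction z using TensorProduct.induction_on with
    | zero => simp
    | tmul t a => simp [Φ, dualTensorHomEquiv]
    | add u v hu hv => simp only [map_add, LinearMap.add_apply, hu, hv]
  exact Φ.injective (LinearMap.ext fun χ => by rw [h', h', h χ])

/-- A splitting of the dual algebra over a connected cover gives a splitting of the group. -/
theorem isDiag_of_dual_split [Module.Finite R A] [Module.Projective R A] [Coalgebra.IsCocomm R A] [Nontrivial T]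
    (hT : ∀ e : T, IsIdempotentElem e → e = 0 ∨ e = 1) {n : ℕ}
    (Φ : T ⊗[R] CartDual.D R A ≃ₐ[T] (Fin n → T)) : SGA3b.IsDiag T (T ⊗[R] A) := by
  classical
  let ξ : Fin n → Module.Dual R A →ₗ[R] T := fun i =>
    { toFun := fun φ => Φ ((1 : T) ⊗ₜ toConv φ) i
      map_add' := fun p q => by simp [TensorProduct.tmul_add]
      map_smul' := fun c p => by
        rw [show toConv (c • p) = c • toConv p from rfl, TensorProduct.tmul_smul, ← algebraMap_smul T c, map_smul]
        simp [Algebra.smul_def] }
  choose x hx using fun i => (evalL_bijective (R := R) (A := A) T).2 (ξ i)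
  have hev : ∀ i φ, evalT T φ (x i) = Φ ((1 : T) ⊗ₜ toConv φ) i := fun i φ => LinearMap.congr_fun (hx i) φ
  have hgl : ∀ i, IsGL (x i) := by
    intro i
    refine ⟨?_, ?_⟩
    · have h1 := hev i (1 : CartDual.D R A).ofConv
      rw [show toConv (1 : CartDual.D R A).ofConv = (1 : CartDual.D R A) from rfl,
        ← Algebra.TensorProduct.one_def, map_one, Pi.one_apply] at h1
      refine Eq.trans ?_ h1
      generalize x i = z
      induction z using TensorProduct.induction_on with
      | zero => simp
      | tmul t a => simp [LinearMap.convOne_def, Algebra.smul_def]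
      | add u v hu hv => simp only [map_add, hu, hv]
    · refine evalT_ext _ _ fun χ => ?_
      obtain ⟨w, rfl⟩ := (CartDual.dualTensorEquiv R A A).surjective χ
      induction w using TensorProduct.induction_on with
      | zero => simp
      | add u v hu hv => simp only [map_add, LinearMap.lTensor_add, LinearMap.add_apply, hu, hv]
      | tmul φ ψ =>
        have hcalc : ∀ z : T ⊗[R] (A ⊗[R] A),
            (TensorProduct.rid R T) ((CartDual.dualTensorEquiv R A A (φ ⊗ₜ ψ)).lTensor T z) = eval2 T φ ψ z := by
          intro z
          induction z using TensorProduct.induction_on with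
          | zero => simp
          | add u v hu hv => simp only [map_add, hu, hv]
          | tmul t ab =>
            induction ab using TensorProduct.induction_on with
            | zero => simp
            | add u v hu hv => simp only [TensorProduct.tmul_add, map_add, hu, hv]
            | tmul a b => simp [eval2, Algebra.smul_def, _root_.mul_comm]
        rw [hcalc, hcalc, eval2_mul, hev, hev]
        have hconv : evalT T (toConv φ * toConv ψ).ofConv (x i) = eval2 T φ ψ (comulT T (x i)) := by
          generalize x i = z
          induction z using TensorProduct.induction_on with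
          | zero => simp
          | tmul t a => simp [eval2, comulT, LinearMap.convMul_def, Algebra.smul_def]
          | add u v hu hv => simp only [map_add, hu, hv]
        rw [← hconv, hev]
        show Φ ((1 : T) ⊗ₜ (toConv φ * toConv ψ)) i = _
        rw [show (1 : T) ⊗ₜ[R] (toConv φ * toConv ψ) = ((1 : T) ⊗ₜ[R] toConv φ) * ((1 : T) ⊗ₜ[R] toConv ψ) by simp,
          map_mul, Pi.mul_apply]
  have hsurj : ∀ z : T ⊗[R] A, IsGL z → ∃ i, x i = z := by
    intro z hz
    let Z : T ⊗[R] CartDual.D R A →ₐ[T] T := Algebra.TensorProduct.lift (Algebra.ofId T T)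
      { toFun := fun φ => evalT T φ.ofConv z
        map_one' := by
          refine Eq.trans ?_ hz.1
          clear hz
          induction z using TensorProduct.induction_on with
          | zero => simp
          | tmul t a => simp [LinearMap.convOne_def, Algebra.smul_def]
          | add u v hu hv => simp only [map_add, hu, hv]
        map_mul' := fun p q => evalT_conv p.ofConv q.ofConv hz
        map_zero' := (evalL T z).map_zero
        map_add' := fun p q => (evalL T z).map_add p.ofConv q.ofConv
        commutes' := fun c => by
          show evalT T _ z = algebraMap R T c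
          refine Eq.trans ?_ (show algebraMap R T c * counit (R := T) z = _ by rw [hz.1, _root_.mul_one])
          clear hz
          induction z using TensorProduct.induction_on with
          | zero => simp
          | tmul t a =>
            rw [show (algebraMap R (CartDual.D R A) c).ofConv = c • counit (R := R) from by
              rw [Algebra.algebraMap_eq_smul_one]; ext y; simp [LinearMap.convOne_def]]
            simp [Algebra.smul_def]
            ring
          | add u v hu hv => simp only [map_add, hu, hv, mul_add] }
      fun _ _ => Commute.all _ _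
    let W := Z.comp Φ.symm.toAlgHom
    have hex : ∃ i, W (Pi.single i 1) = 1 := by
      by_contra hne
      push Not at hne
      have h0 : ∀ i, W (Pi.single i 1) = 0 := fun i =>
        (hT _ (by
          show W _ * W _ = W _
          rw [← map_mul, ← Pi.single_mul, _root_.mul_one])).resolve_right (hne i)
      have : W 1 = 0 := by
        rw [show (1 : Fin n → T) = ∑ i, Pi.single i 1 from (Finset.univ_sum_single (1 : Fin n → T)).symm, map_sum]
        exact Finset.sum_eq_zero fun i _ => h0 i
      rw [map_one] at this
      exact one_ne_zero this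
    obtain ⟨i, hi⟩ := hex
    refine ⟨i, (evalL_bijective (R := R) (A := A) T).1 (LinearMap.ext fun φ => ?_)⟩
    show evalT T φ (x i) = evalT T φ z
    rw [hev]
    set g := Φ ((1 : T) ⊗ₜ toConv φ) with hg
    have h2 : W g = g i := by
      calc W g = W g * W (Pi.single i 1) := by rw [hi, _root_.mul_one]
        _ = W (g i • Pi.single i 1) := by
          rw [← map_mul]
          congr 1
          funext j
          by_cases hj : j = i
          · subst hj; simp
          · simp [Pi.single_eq_of_ne hj]
        _ = g i := by rw [map_smul, hi, smul_eq_mul, _root_.mul_one]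
    rw [← h2, hg]
    show Z (Φ.symm (Φ _)) = _
    rw [AlgEquiv.symm_apply_apply]
    simp [Z]
  let M := GroupLike T (T ⊗[R] A)
  let toM : Fin n → M := fun i => ⟨x i, (isGL_iff _).1 (hgl i)⟩
  have hxinj : Function.Injective x := by
    intro i j h
    by_contra hne
    obtain ⟨v, hv⟩ := Φ.surjective (Pi.single i 1)
    have h1 : Φ v i = Φ v j := by
      clear hv
      induction v using TensorProduct.induction_on with
      | zero => simp
      | tmul t φ =>
        rw [show t ⊗ₜ[R] φ = t • ((1 : T) ⊗ₜ[R] φ) by rw [TensorProduct.smul_tmul', smul_eq_mul, _root_.mul_one],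
          map_smul, Pi.smul_apply, Pi.smul_apply]
        congr 1
        have e1 := hev i φ.ofConv
        have e2 := hev j φ.ofConv
        rw [h] at e1
        exact e1.symm.trans e2
      | add p q hp hq => simp only [map_add, Pi.add_apply, hp, hq]
    rw [hv, Pi.single_eq_same, Pi.single_eq_of_ne (Ne.symm hne)] at h1
    exact one_ne_zero h1
  let eM : Fin n ≃ M := Equiv.ofBijective toM ⟨fun i j h => hxinj (congrArg GroupLike.val h),
    fun m => (hsurj m.val ((isGL_iff _).2 m.isGroupLikeElem_val)).imp fun i hi => GroupLike.ext hi⟩
  refine ⟨M, inferInstance, ⟨(BialgEquiv.ofBijective (glHom (MonoidHom.id M)) ?_).symm⟩⟩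
  have hsum : ∀ (y : MonoidAlgebra T M) φ, evalT T φ (glHom (MonoidHom.id M) y) =
      ∑ i, coefL (eM i) y * Φ ((1 : T) ⊗ₜ toConv φ) i := by
    intro y φ
    induction y using MonoidAlgebra.induction_linear with
    | zero => simp
    | add u v hu hv => simp only [map_add, hu, hv, add_mul, Finset.sum_add_distrib]
    | single m r =>
      obtain ⟨j, rfl⟩ := eM.surjective m
      rw [glHom_single, map_smul, Finset.sum_eq_single j]
      · rw [coefL_single, if_pos rfl, smul_eq_mul]
        congr 1
        exact hev j φ
      · intro i _ hij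
        rw [coefL_single, if_neg fun h => hij (eM.injective h).symm, zero_mul]
      · simp
  refine ⟨fun y y' h => ext_coef fun m => ?_, fun z => ?_⟩
  · obtain ⟨j, rfl⟩ := eM.surjective m
    obtain ⟨v, hv⟩ := Φ.surjective (Pi.single j 1)
    have h1 : ∀ v : T ⊗[R] CartDual.D R A, (∑ i, coefL (eM i) y * Φ v i) = ∑ i, coefL (eM i) y' * Φ v i := by
      intro v
      induction v using TensorProduct.induction_on with
      | zero => simp
      | tmul t φ =>
        rw [show t ⊗ₜ[R] φ = t • ((1 : T) ⊗ₜ[R] φ) by rw [TensorProduct.smul_tmul', smul_eq_mul, _root_.mul_one],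
          map_smul]
        simp only [Pi.smul_apply, smul_eq_mul, mul_left_comm _ t, ← Finset.mul_sum]
        congr 1
        rw [show φ = toConv φ.ofConv from rfl, ← hsum, ← hsum, h]
      | add p q hp hq => simp only [map_add, Pi.add_apply, mul_add, Finset.sum_add_distrib, hp, hq]
    have h2 := h1 v
    rw [hv] at h2
    simpa [Pi.single_apply] using h2
  · let G : T ⊗[R] CartDual.D R A →ₗ[T] T :=
      (TensorProduct.AlgebraTensorModule.lift
        { toFun := fun t => t • ((evalL T z).comp (CartDual.toDual R A).toLinearMap)
          map_add' := fun a b => add_smul a b _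
          map_smul' := fun a b => by simp [smul_smul] })
    let c : Fin n → T := fun i => G (Φ.symm (Pi.single i 1))
    refine ⟨∑ i, MonoidAlgebra.single (eM i) (c i), (evalL_bijective (R := R) (A := A) T).1 (LinearMap.ext fun φ => ?_)⟩
    show evalT T φ _ = evalT T φ z
    rw [hsum]
    have hc : ∀ i, coefL (eM i) (∑ k, MonoidAlgebra.single (eM k) (c k)) = c i := fun i => by
      rw [map_sum, Finset.sum_eq_single i]
      · rw [coefL_single, if_pos rfl]
      · intro k _ hk
        rw [coefL_single, if_neg fun h => hk (eM.injective h)]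
      · simp
    simp only [hc]
    have h3 : G ((1 : T) ⊗ₜ toConv φ) = evalT T φ z := by simp [G, evalL]
    rw [← h3]
    conv_rhs => rw [← Φ.symm_apply_apply ((1 : T) ⊗ₜ[R] toConv φ)]
    generalize Φ ((1 : T) ⊗ₜ[R] toConv φ) = g
    conv_rhs => rw [← Finset.univ_sum_single g, map_sum, map_sum]
    refine Finset.sum_congr rfl fun i _ => ?_
    rw [show (Pi.single i (g i) : Fin n → T) = g i • Pi.single i 1 by
      rw [← Pi.single_smul, smul_eq_mul, _root_.mul_one], map_smul, map_smul, smul_eq_mul, _root_.mul_comm]

end Finite

/-- A finite projective Hopf algebra over a connected base with étale dual is isotrivial. -/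
theorem isIsotrivial_of_etale_dual [ConnectedSpace (PrimeSpectrum R)] [Module.Finite R A] [Module.Projective R A]
    [Coalgebra.IsCocomm R A] [Algebra.Etale R (CartDual.D R A)] : SGA3b.IsIsotrivial R A := by
  classical
  obtain ⟨p₀⟩ : Nonempty (PrimeSpectrum R) := ConnectedSpace.toNonempty
  haveI : Nontrivial R := nontrivial_of_ne 1 0 fun h10 => p₀.isPrime.ne_top
    ((Ideal.eq_top_iff_one _).2 (h10 ▸ zero_mem _))
  haveI : Module.FinitePresentation R (CartDual.D R A) := Module.finitePresentation_of_projective _ _
  have hrank : Module.rankAtStalk (R := R) (CartDual.D R A) = (Module.rankAtStalk (R := R) (CartDual.D R A) p₀ : ℕ) :=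
    funext fun p => (Module.isLocallyConstant_rankAtStalk).apply_eq_of_preconnectedSpace p p₀
  obtain ⟨m, hm⟩ := Ideal.exists_maximal R
  haveI := hm
  letI : Field (R ⧸ m) := Ideal.Quotient.field m
  let P : ℕ → Prop := fun d => ∃ (T : Type u) (_ : CommRing T) (_ : Algebra R T),
    Module.FaithfullyFlat R T ∧ Module.Finite R T ∧ Algebra.Etale R T ∧
      Algebra.IsFiniteSplit T (T ⊗[R] CartDual.D R A) ∧ Module.finrank (R ⧸ m) ((R ⧸ m) ⊗[R] T) = d
  have hP : ∃ d, P d := by
    obtain ⟨T, _, _, hff, hfin, het, hsp⟩ := Algebra.IsFiniteSplit.exists_tensorProduct_of_etale hrank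
    exact ⟨_, T, inferInstance, inferInstance, hff, hfin, het, hsp, rfl⟩
  obtain ⟨T, _, _, hff, hfin, het, hsp, hd⟩ := Nat.find_spec hP
  haveI := hff; haveI := hfin; haveI := het; haveI := hsp
  haveI : Nontrivial T := by
    obtain ⟨q, -⟩ := PrimeSpectrum.comap_surjective_of_faithfullyFlat (A := R) (B := T) p₀
    exact nontrivial_of_ne 1 0 fun h10 => q.isPrime.ne_top ((Ideal.eq_top_iff_one _).2 (h10 ▸ zero_mem _))
  have hconn : ∀ e : T, IsIdempotentElem e → e = 0 ∨ e = 1 := by
    intro e he
    by_contra hne
    push Not at hne
    obtain ⟨he0, he1⟩ := hne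
    have hffe : ∀ c : T, IsIdempotentElem c → c ≠ 0 → Module.FaithfullyFlat R (Localization.Away c) := by
      intro c hc hc0
      haveI : Module.Finite T (Localization.Away c) := Module.Finite.of_surjective
        (Algebra.linearMap T (Localization.Away c)) (IsLocalization.Away.algebraMap_surjective_of_isIdempotentElem c hc)
      haveI : Module.Finite R (Localization.Away c) := Module.Finite.trans T _
      haveI : Algebra.Etale T (Localization.Away c) := Algebra.Etale.of_isLocalizationAway c
      haveI : Algebra.Etale R (Localization.Away c) := Algebra.Etale.comp R T _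
      haveI : Module.Flat T (Localization.Away c) := IsLocalization.flat _ (Submonoid.powers c)
      haveI : Module.Flat R (Localization.Away c) := Module.Flat.trans R T _
      haveI : Module.FinitePresentation R (Localization.Away c) :=
        Module.FinitePresentation.of_finite_of_finitePresentation R _
      refine Module.FaithfullyFlat.of_comap_surjective fun p => ?_
      have hpos : 0 < Module.rankAtStalk (R := R) (Localization.Away c) p := by
        rw [(Module.isLocallyConstant_rankAtStalk (R := R) (M := Localization.Away c)).apply_eq_of_preconnectedSpace p p₀]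
        by_contra h0
        have hz : Module.rankAtStalk (R := R) (Localization.Away c) = 0 := funext fun q => by
          rw [(Module.isLocallyConstant_rankAtStalk (R := R) (M := Localization.Away c)).apply_eq_of_preconnectedSpace q p₀]
          simpa using h0
        rw [Module.rankAtStalk_eq_zero_iff_subsingleton] at hz
        have h1 : algebraMap T (Localization.Away c) 1 = 0 := Subsingleton.elim _ _
        rw [IsLocalization.map_eq_zero_iff (Submonoid.powers c)] at h1
        obtain ⟨⟨_, k, rfl⟩, hk⟩ := h1
        rw [mul_one] at hk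
        exact hc0 (hc.eq_zero_of_isNilpotent ⟨k, hk⟩)
      exact (PrimeSpectrum.rankAtStalk_pos_iff_mem_range_comap p).1 hpos
    haveI := hffe e he he0
    haveI := hffe (1 - e) he.one_sub (sub_ne_zero.2 (Ne.symm he1))
    let Te := Localization.Away e
    let Tf := Localization.Away (1 - e)
    haveI : Module.Finite T Te := Module.Finite.of_surjective
      (Algebra.linearMap T Te) (IsLocalization.Away.algebraMap_surjective_of_isIdempotentElem e he)
    haveI : Module.Finite R Te := Module.Finite.trans T Te
    haveI : Module.Finite T Tf := Module.Finite.of_surjective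
      (Algebra.linearMap T Tf) (IsLocalization.Away.algebraMap_surjective_of_isIdempotentElem (1 - e) he.one_sub)
    haveI : Module.Finite R Tf := Module.Finite.trans T Tf
    haveI : Algebra.Etale T Te := Algebra.Etale.of_isLocalizationAway e
    haveI : Algebra.Etale R Te := Algebra.Etale.comp R T Te
    haveI : Algebra.IsFiniteSplit Te (Te ⊗[R] CartDual.D R A) :=
      Algebra.IsFiniteSplit.of_algEquiv (Algebra.TensorProduct.cancelBaseChange R T Te Te (CartDual.D R A))
    refine Nat.find_min hP (?_ : Module.finrank (R ⧸ m) ((R ⧸ m) ⊗[R] Te) < Nat.find hP)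
      ⟨Te, inferInstance, inferInstance, inferInstance, inferInstance, inferInstance, inferInstance, rfl⟩
    rw [← hd]
    let π₁ : T →ₐ[R] Te := IsScalarTower.toAlgHom R T Te
    let π₂ : T →ₐ[R] Tf := IsScalarTower.toAlgHom R T Tf
    let π := (π₁.toLinearMap.prod π₂.toLinearMap)
    have hπ : Function.Surjective π := by
      rintro ⟨a, b⟩
      obtain ⟨a, rfl⟩ := IsLocalization.Away.algebraMap_surjective_of_isIdempotentElem (S := Te) e he a
      obtain ⟨b, rfl⟩ := IsLocalization.Away.algebraMap_surjective_of_isIdempotentElem (S := Tf) (1 - e) he.one_sub b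
      have u1 : algebraMap T Te e = 1 :=
        (IsLocalization.Away.algebraMap_isUnit e).mul_left_cancel (by rw [← map_mul, he.eq, mul_one])
      have u2 : algebraMap T Tf (1 - e) = 1 :=
        (IsLocalization.Away.algebraMap_isUnit (1 - e)).mul_left_cancel (by rw [← map_mul, he.one_sub.eq, mul_one])
      refine ⟨a * e + b * (1 - e), Prod.ext ?_ ?_⟩
      · show algebraMap T Te (a * e + b * (1 - e)) = algebraMap T Te a
        rw [map_add, map_mul, map_mul, u1, map_sub, map_one, u1, sub_self, mul_zero, add_zero, mul_one]
      · show algebraMap T Tf (a * e + b * (1 - e)) = algebraMap T Tf b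
        rw [map_add, map_mul, map_mul, u2, show algebraMap T Tf e = 0 by
          have := u2; rw [map_sub, map_one] at this; simpa using this, mul_zero, zero_add, mul_one]
    haveI : Module.Finite (R ⧸ m) ((R ⧸ m) ⊗[R] T) := Module.Finite.base_change R (R ⧸ m) T
    haveI : Module.Finite (R ⧸ m) ((R ⧸ m) ⊗[R] Te) := Module.Finite.base_change R (R ⧸ m) Te
    haveI : Module.Finite (R ⧸ m) ((R ⧸ m) ⊗[R] Tf) := Module.Finite.base_change R (R ⧸ m) Tf
    have hle : Module.finrank (R ⧸ m) ((R ⧸ m) ⊗[R] (Te × Tf)) ≤ Module.finrank (R ⧸ m) ((R ⧸ m) ⊗[R] T) :=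
      LinearMap.finrank_le_finrank_of_surjective (f := π.baseChange (R ⧸ m)) (LinearMap.lTensor_surjective _ hπ)
    rw [(TensorProduct.prodRight R (R ⧸ m) (R ⧸ m) Te Tf).finrank_eq, Module.finrank_prod] at hle
    have hposf : 0 < Module.finrank (R ⧸ m) ((R ⧸ m) ⊗[R] Tf) := by
      obtain ⟨q, hq⟩ := PrimeSpectrum.comap_surjective_of_faithfullyFlat (A := R) (B := Tf) ⟨m, hm.isPrime⟩
      haveI : Nontrivial ((R ⧸ m) ⊗[R] Tf) :=
        (Module.FaithfullyFlat.nontrivial_tensorProduct_iff_left (R := R) (M := R ⧸ m) (N := Tf)).mpr inferInstance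
      exact Module.finrank_pos
    omega
  obtain ⟨n, ⟨Φ⟩⟩ : ∃ n : ℕ, Nonempty (T ⊗[R] CartDual.D R A ≃ₐ[T] (Fin n → T)) := hsp.1
  exact ⟨T, inferInstance, inferInstance, inferInstance, inferInstance, inferInstance, isDiag_of_dual_split hconn Φ⟩

end Groth.Agent.H19Mult
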