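import Groth.Agent.H19Mult.Quotient
import Mathlib.RingTheory.Flat.Localization
import Mathlib.RingTheory.Flat.FaithfullyFlat.Algebra
import Mathlib.RingTheory.FinitePresentation

/-!
Groups of multiplicative type are flat, and finitely presented as soon as they are of finite type.
-/

set_option autoImplicit false
set_option linter.style.haveILetI false
set_option backward.isDefEq.respectTransparency false

universe u

open TensorProduct

namespace Groth.Agent.H19Mult

variable {R : Type u} [CommRing R] {A : Type u} [CommRing A] [HopfAlgebra R A]

theorem flat_of_isMultType (h : SGA3b.IsMultType R A) : Module.Flat R A := by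
  obtain ⟨s, hs, h⟩ := exists_cover h
  haveI : ∀ r : s, IsLocalizedModule.Away r.1 (TensorProduct.mk R (Localization.Away r.1) A 1) := fun r =>
    (isLocalizedModule_iff_isBaseChange (Submonoid.powers r.1) (Localization.Away r.1) _).2
      (TensorProduct.isBaseChange R A (Localization.Away r.1))
  refine Module.flat_of_isLocalized_span (R := R) (S := R) (M := A) s hs (fun r => Localization.Away r.1 ⊗[R] A)
    (fun r => TensorProduct.mk R (Localization.Away r.1) A 1) fun r => ?_
  obtain ⟨T, _, _, _, _, M, _, hff, ⟨e⟩⟩ := h r.1 r.2
  haveI := hff
  let e' : T ⊗[R] A ≃ₐ[T] MonoidAlgebra T M := AlgEquivClass.toAlgEquiv e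
  haveI : Module.Flat T (T ⊗[R] A) :=
    Module.Flat.of_linearEquiv (e'.toLinearEquiv.trans (MonoidAlgebra.coeffLinearEquiv T))
  haveI : Module.Flat T (T ⊗[Localization.Away r.1] (Localization.Away r.1 ⊗[R] A)) :=
    Module.Flat.of_linearEquiv (Algebra.TensorProduct.cancelBaseChange R (Localization.Away r.1) T T A).toLinearEquiv
  haveI : Module.Flat (Localization.Away r.1) (Localization.Away r.1 ⊗[R] A) :=
    Module.Flat.of_flat_tensorProduct (Localization.Away r.1) _ T
  exact Module.Flat.trans R (Localization.Away r.1) _

theorem finitePresentation_of_isMultType (hft : Algebra.FiniteType R A) (h : SGA3b.IsMultType R A) :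
    Algebra.FinitePresentation R A := by
  classical
  obtain ⟨s, hs, h⟩ := exists_cover h
  refine Algebra.FinitePresentation.of_span_eq_top_target (algebraMap R A '' s)
    (by rw [← Ideal.map_span, hs, Ideal.map_top]) ?_
  rintro _ ⟨f, hf, rfl⟩
  obtain ⟨T, _, _, _, _, M, _, hff, ⟨e⟩⟩ := h f hf
  haveI := hff
  haveI : Algebra.FiniteType T (T ⊗[R] A) := inferInstance
  haveI : Algebra.FinitePresentation T (T ⊗[Localization.Away f] (Localization.Away f ⊗[R] A)) := by
    rcases subsingleton_or_nontrivial T with hT | hT
    · haveI : Subsingleton (T ⊗[Localization.Away f] (Localization.Away f ⊗[R] A)) :=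
        Module.subsingleton T _
      haveI : Module.Finite T (T ⊗[Localization.Away f] (Localization.Away f ⊗[R] A)) := inferInstance
      haveI : Module.FinitePresentation T (T ⊗[Localization.Away f] (Localization.Away f ⊗[R] A)) :=
        Module.finitePresentation_of_projective T _
      exact Algebra.FinitePresentation.of_finitePresentation T (T ⊗[Localization.Away f] (Localization.Away f ⊗[R] A))
    · haveI hM : Algebra.FiniteType T (MonoidAlgebra T M) :=
        Algebra.FiniteType.equiv ‹_› (AlgEquivClass.toAlgEquiv e : T ⊗[R] A ≃ₐ[T] _)
      haveI : Monoid.FG M := MonoidAlgebra.finiteType_iff_fg.1 hM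
      haveI : Algebra.FinitePresentation ℤ (MonoidAlgebra ℤ M) :=
        Algebra.FinitePresentation.of_finiteType.1 (MonoidAlgebra.finiteType_iff_fg.2 ‹_›)
      haveI : Algebra.FinitePresentation T (MonoidAlgebra T M) :=
        Algebra.FinitePresentation.equiv (MonoidAlgebra.scalarTensorEquiv ℤ T (M := M))
      exact Algebra.FinitePresentation.equiv
        ((AlgEquivClass.toAlgEquiv e : T ⊗[R] A ≃ₐ[T] _).symm.trans
          (Algebra.TensorProduct.cancelBaseChange R (Localization.Away f) T T A).symm)
  haveI : Algebra.FinitePresentation (Localization.Away f) (Localization.Away f ⊗[R] A) :=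
    Algebra.FinitePresentation.of_finitePresentation_tensorProduct_of_faithfullyFlat T
  haveI : Algebra.FinitePresentation R (Localization.Away f ⊗[R] A) :=
    Algebra.FinitePresentation.trans R (Localization.Away f) _
  haveI : IsLocalization.Away (algebraMap R A f) (A ⊗[R] Localization.Away f) := inferInstance
  exact Algebra.FinitePresentation.equiv ((Algebra.TensorProduct.comm R (Localization.Away f) A).trans
    ((IsLocalization.algEquiv (Submonoid.powers (algebraMap R A f)) (A ⊗[R] Localization.Away f)
      (Localization.Away (algebraMap R A f))).restrictScalars R))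

end Groth.Agent.H19Mult
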