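import Groth.Agent.H19Mult.Rigid

/-!
Quotients of groups of multiplicative type which are diagonal in every chart; torsion kernels.
-/

set_option autoImplicit false
set_option linter.style.haveILetI false
set_option backward.isDefEq.respectTransparency false

universe u v w

open TensorProduct WithConv Coalgebra

namespace Groth.Agent.H19Mult

/-- Two surjections of bialgebras with the same kernel have isomorphic targets. -/
noncomputable def bialgEquivOfKerEq {R : Type u} [CommRing R] {B : Type v} [CommRing B] [Bialgebra R B]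
    {C : Type v} [CommRing C] [Bialgebra R C] {D : Type v} [CommRing D] [Bialgebra R D]
    (π : B →ₐc[R] C) (ρ : B →ₐc[R] D) (hπ : Function.Surjective π) (hρ : Function.Surjective ρ)
    (h : RingHom.ker (π : B →ₐ[R] C) = RingHom.ker (ρ : B →ₐ[R] D)) : C ≃ₐc[R] D :=
  let f : C ≃ₐ[R] D := ((Ideal.quotientKerAlgEquivOfSurjective (f := (π : B →ₐ[R] C)) hπ).symm.trans
    (Ideal.quotientEquivAlgOfEq R h)).trans (Ideal.quotientKerAlgEquivOfSurjective (f := (ρ : B →ₐ[R] D)) hρ)
  have hf : ∀ b, f (π b) = ρ b := fun b => by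
    have hs : (Ideal.quotientKerAlgEquivOfSurjective (f := (π : B →ₐ[R] C)) hπ).symm (π b) = Ideal.Quotient.mk _ b :=
      (AlgEquiv.symm_apply_eq _).2 rfl
    show (((Ideal.quotientKerAlgEquivOfSurjective (f := (π : B →ₐ[R] C)) hπ).symm.trans (Ideal.quotientEquivAlgOfEq R h)).trans
      (Ideal.quotientKerAlgEquivOfSurjective (f := (ρ : B →ₐ[R] D)) hρ)) (π b) = ρ b
    rw [AlgEquiv.trans_apply, AlgEquiv.trans_apply, hs]
    rfl
  BialgEquiv.ofAlgEquiv f
    (AlgHom.ext fun c => by
      obtain ⟨b, rfl⟩ := hπ c
      show counit (R := R) (f (π b)) = counit (R := R) (π b)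
      rw [hf, CoalgHomClass.counit_comp_apply, CoalgHomClass.counit_comp_apply])
    (AlgHom.ext fun c => by
      obtain ⟨b, rfl⟩ := hπ c
      show Algebra.TensorProduct.map f.toAlgHom f.toAlgHom (comul (R := R) (π b)) = comul (R := R) (f (π b))
      rw [hf, ← CoalgHomClass.map_comp_comul_apply π b, ← CoalgHomClass.map_comp_comul_apply ρ b]
      generalize comul (R := R) b = z
      induction z using TensorProduct.induction_on with
      | zero => simp
      | tmul u w =>
        show f (π u) ⊗ₜ[R] f (π w) = ρ u ⊗ₜ[R] ρ w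
        rw [hf, hf]
      | add u w hu hw => simp only [map_add, hu, hw])

/-- The kernel of the map of group algebras induced by a quotient of groups. -/
theorem ker_mapDomain {R : Type u} [CommRing R] {M : Type w} [CommGroup M] (H : Subgroup M) :
    RingHom.ker (MonoidAlgebra.mapDomainAlgHom R R (QuotientGroup.mk' H)) =
      Ideal.span ((fun h => MonoidAlgebra.single h 1 - 1) '' (H : Set M)) := by
  classical
  refine le_antisymm (fun x hx => ?_) (Ideal.span_le.2 ?_)
  · let σ : M ⧸ H → M := Quotient.out
    have hσ : ∀ x : MonoidAlgebra R M,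
        x - MonoidAlgebra.mapDomain σ (MonoidAlgebra.mapDomainAlgHom R R (QuotientGroup.mk' H) x) ∈
          Ideal.span ((fun h => MonoidAlgebra.single h (1 : R) - 1) '' (H : Set M)) := by
      intro x
      induction x using MonoidAlgebra.induction_linear with
      | zero => simp
      | add u w hu hw =>
        rw [map_add, MonoidAlgebra.mapDomain_add, add_sub_add_comm]
        exact add_mem hu hw
      | single m r =>
        have e : MonoidAlgebra.mapDomainAlgHom R R (QuotientGroup.mk' H) (MonoidAlgebra.single m r) =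
            MonoidAlgebra.single (QuotientGroup.mk m : M ⧸ H) r := MonoidAlgebra.mapDomain_single
        rw [e, MonoidAlgebra.mapDomain_single]
        set m₀ := σ (QuotientGroup.mk m)
        have hm : m₀⁻¹ * m ∈ H := QuotientGroup.eq.1 (Quotient.out_eq (QuotientGroup.mk m : M ⧸ H))
        have : MonoidAlgebra.single m r - MonoidAlgebra.single m₀ r =
            MonoidAlgebra.single m₀ r * (MonoidAlgebra.single (m₀⁻¹ * m) 1 - 1) := by
          rw [mul_sub, mul_one, MonoidAlgebra.single_mul_single, mul_one, mul_inv_cancel_left]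
        rw [this]
        exact Ideal.mul_mem_left _ _ (Ideal.subset_span ⟨_, hm, rfl⟩)
    have := hσ x
    rw [RingHom.mem_ker.1 hx] at this
    simpa using this
  · rintro _ ⟨h, hh, rfl⟩
    rw [SetLike.mem_coe, RingHom.mem_ker, map_sub, map_one]
    show MonoidAlgebra.mapDomain _ (MonoidAlgebra.single h (1 : R)) - 1 = 0
    rw [MonoidAlgebra.mapDomain_single, QuotientGroup.mk'_apply, (QuotientGroup.eq_one_iff h).2 hh,
      MonoidAlgebra.one_def, sub_self]

/-- The augmentation ideal of a group algebra. -/
theorem aug_monoidAlgebra {R : Type u} [CommRing R] {M : Type w} [CommGroup M] :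
    RingHom.ker (Bialgebra.counitAlgHom R (MonoidAlgebra R M)) =
      Ideal.span (Set.range fun m : M => MonoidAlgebra.single m (1 : R) - 1) := by
  refine le_antisymm (fun x hx => ?_) (Ideal.span_le.2 ?_)
  · have h : ∀ x : MonoidAlgebra R M,
        x - algebraMap R (MonoidAlgebra R M) (counit (R := R) x) ∈
          Ideal.span (Set.range fun m : M => MonoidAlgebra.single m (1 : R) - 1) := by
      intro x
      induction x using MonoidAlgebra.induction_linear with
      | zero => simp
      | add u w hu hw =>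
        rw [map_add, map_add, add_sub_add_comm]
        exact add_mem hu hw
      | single m r =>
        have : MonoidAlgebra.single m r - algebraMap R (MonoidAlgebra R M) (counit (R := R) (MonoidAlgebra.single m r)) =
            MonoidAlgebra.single 1 r * (MonoidAlgebra.single m 1 - 1) := by
          rw [MonoidAlgebra.counit_single, mul_sub, mul_one, MonoidAlgebra.single_mul_single, mul_one, one_mul,
            CommSemiring.counit_apply, MonoidAlgebra.coe_algebraMap]
          rfl
        rw [this]
        exact Ideal.mul_mem_left _ _ (Ideal.subset_span ⟨m, rfl⟩)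
    have := h x
    rwa [show counit (R := R) x = 0 from hx, map_zero, sub_zero] at this
  · rintro _ ⟨m, rfl⟩
    rw [SetLike.mem_coe, RingHom.mem_ker, map_sub, map_one]
    show counit (R := R) (MonoidAlgebra.single m (1 : R)) - 1 = 0
    rw [MonoidAlgebra.counit_single, CommSemiring.counit_apply, sub_self]

section Chart

variable {R : Type u} [CommRing R] {A : Type u} [CommRing A] [HopfAlgebra R A]

/-- The map to a chart. -/
noncomputable def gmap {R' : Type u} [CommRing R'] [Algebra R R'] {M : Type u} [CommGroup M]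
    (e : (R' ⊗[R] A) ≃ₐc[R'] MonoidAlgebra R' M) : A →ₐ[R] MonoidAlgebra R' M :=
  ((e : (R' ⊗[R] A) →ₐ[R'] MonoidAlgebra R' M).restrictScalars R).comp Algebra.TensorProduct.includeRight

theorem gmap_apply {R' : Type u} [CommRing R'] [Algebra R R'] {M : Type u} [CommGroup M]
    (e : (R' ⊗[R] A) ≃ₐc[R'] MonoidAlgebra R' M) (a : A) : gmap e a = e ((1 : R') ⊗ₜ[R] a) := rfl

/-- If a Hopf ideal becomes, in a chart, the ideal of a subgroup, the quotient is diagonalisable there. -/
theorem isDiag_quotient (J : Ideal A) [J.IsHopfIdeal R] {R' : Type u} [CommRing R'] [Algebra R R']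
    {M : Type u} [CommGroup M] (e : (R' ⊗[R] A) ≃ₐc[R'] MonoidAlgebra R' M) (H : Subgroup M)
    (hH : Ideal.map (gmap e) J = Ideal.span ((fun h => MonoidAlgebra.single h 1 - 1) '' (H : Set M))) :
    Nonempty ((R' ⊗[R] (A ⧸ J)) ≃ₐc[R'] MonoidAlgebra R' (M ⧸ H)) := by
  let π : (R' ⊗[R] A) →ₐc[R'] (R' ⊗[R] (A ⧸ J)) :=
    Bialgebra.TensorProduct.map (BialgHom.id R' R') (Bialgebra.Quotient.mkBialgHom (R := R) J)
  let ρ : (R' ⊗[R] A) →ₐc[R'] MonoidAlgebra R' (M ⧸ H) :=
    (MonoidAlgebra.mapDomainBialgHom R' (QuotientGroup.mk' H)).comp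
      (e : (R' ⊗[R] A) →ₐc[R'] MonoidAlgebra R' M)
  have hπ : Function.Surjective π := by
    intro z
    induction z using TensorProduct.induction_on with
    | zero => exact ⟨0, map_zero _⟩
    | tmul r x => obtain ⟨a, rfl⟩ := Ideal.Quotient.mk_surjective x; exact ⟨r ⊗ₜ a, rfl⟩
    | add u w hu hw =>
      obtain ⟨p, rfl⟩ := hu
      obtain ⟨q, rfl⟩ := hw
      exact ⟨p + q, map_add _ _ _⟩
  have hρ : Function.Surjective ρ := fun z => by
    obtain ⟨x, hx⟩ : ∃ x, MonoidAlgebra.mapDomainBialgHom R' (QuotientGroup.mk' H) x = z := by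
      induction z using MonoidAlgebra.induction_linear with
      | zero => exact ⟨0, map_zero _⟩
      | add u w hu hw =>
        obtain ⟨p, rfl⟩ := hu
        obtain ⟨q, rfl⟩ := hw
        exact ⟨p + q, map_add _ _ _⟩
      | single m r =>
        obtain ⟨m, rfl⟩ := QuotientGroup.mk'_surjective H m
        exact ⟨MonoidAlgebra.single m r, MonoidAlgebra.mapDomainBialgHom_single _ _ _⟩
    obtain ⟨w, rfl⟩ := EquivLike.surjective e x
    exact ⟨w, hx⟩
  refine ⟨bialgEquivOfKerEq π ρ hπ hρ ?_⟩
  have h1 : RingHom.ker (π : (R' ⊗[R] A) →ₐ[R'] (R' ⊗[R] (A ⧸ J))) =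
      Ideal.map (Algebra.TensorProduct.includeRight : A →ₐ[R] R' ⊗[R] A).toRingHom J := by
    have h := Algebra.TensorProduct.lTensor_ker (A := R') (Ideal.Quotient.mkₐ R J) Ideal.Quotient.mk_surjective
    rw [show RingHom.ker (Ideal.Quotient.mkₐ R J) = J from Ideal.mk_ker] at h
    exact h
  have h2 : Ideal.map (e : (R' ⊗[R] A) →ₐ[R'] MonoidAlgebra R' M).toRingHom
      (RingHom.ker (π : (R' ⊗[R] A) →ₐ[R'] (R' ⊗[R] (A ⧸ J)))) =
      RingHom.ker (MonoidAlgebra.mapDomainAlgHom R' R' (QuotientGroup.mk' H)) := by
    rw [h1, Ideal.map_map, ker_mapDomain, ← hH]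
    rfl
  refine (Ideal.comap_map_of_bijective (e : (R' ⊗[R] A) →ₐ[R'] MonoidAlgebra R' M).toRingHom
    (EquivLike.bijective e)).symm.trans ?_
  rw [h2]
  rfl

/-- A cover by localisations with faithfully flat charts. -/
theorem exists_cover (h : SGA3b.IsMultType R A) : ∃ s : Set R, Ideal.span s = ⊤ ∧ ∀ f ∈ s,
    ∃ (T : Type u) (_ : CommRing T) (_ : Algebra (Localization.Away f) T) (_ : Algebra R T)
      (_ : IsScalarTower R (Localization.Away f) T) (M : Type u) (_ : CommGroup M),
      Module.FaithfullyFlat (Localization.Away f) T ∧ Nonempty ((T ⊗[R] A) ≃ₐc[T] MonoidAlgebra T M) := by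
  obtain ⟨s, hs, h⟩ := h
  refine ⟨s, hs, fun f hf => ?_⟩
  obtain ⟨T, _, _, hff, M, _, ⟨e⟩⟩ := h f hf
  letI : Algebra R T := ((algebraMap (Localization.Away f) T).comp (algebraMap R (Localization.Away f))).toAlgebra
  haveI : IsScalarTower R (Localization.Away f) T := IsScalarTower.of_algebraMap_eq' rfl
  exact ⟨T, inferInstance, inferInstance, inferInstance, inferInstance, M, inferInstance, hff,
    ⟨(cancelEquiv (R := R) (A := A) (Localization.Away f) T).symm.trans e⟩⟩

/-- A quotient which is diagonalisable in every chart is of multiplicative type. -/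
theorem isMultType_quotient (h : SGA3b.IsMultType R A) (J : Ideal A) [J.IsHopfIdeal R]
    (hJ : ∀ (R' : Type u) [CommRing R'] [Algebra R R'] (M : Type u) [CommGroup M]
      (e : (R' ⊗[R] A) ≃ₐc[R'] MonoidAlgebra R' M), ∃ H : Subgroup M,
        Ideal.map (gmap e) J = Ideal.span ((fun h => MonoidAlgebra.single h 1 - 1) '' (H : Set M))) :
    SGA3b.IsMultType R (A ⧸ J) := by
  obtain ⟨s, hs, h⟩ := exists_cover h
  refine ⟨s, hs, fun f hf => ?_⟩
  obtain ⟨T, _, _, _, _, M, _, hff, ⟨e⟩⟩ := h f hf
  obtain ⟨H, hH⟩ := hJ T M e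
  obtain ⟨e'⟩ := isDiag_quotient J e H hH
  exact ⟨T, inferInstance, inferInstance, hff, M ⧸ H, inferInstance,
    ⟨(cancelEquiv (R := R) (A := A ⧸ J) (Localization.Away f) T).trans e'⟩⟩

end Chart

/-! ### Torsion kernels -/

section Torsion

variable {R : Type u} [CommRing R] {A : Type u} [CommRing A] [HopfAlgebra R A]

/-- restriction of points of a base change -/
noncomputable def restrictPt (R' : Type u) [CommRing R'] [Algebra R R'] {T : Type u} [CommRing T] [Algebra R' T]
    [Algebra R T] [IsScalarTower R R' T] :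
    WithConv ((R' ⊗[R] A) →ₐ[R'] T) →* WithConv (A →ₐ[R] T) where
  toFun F := toConv ((F.ofConv.restrictScalars R).comp Algebra.TensorProduct.includeRight)
  map_one' := WithConv.ofConv_injective (AlgHom.ext fun a => by
    show algebraMap R' T (Coalgebra.counit (R := R') ((1 : R') ⊗ₜ[R] a)) = algebraMap R T (Coalgebra.counit (R := R) a)
    rw [TensorProduct.counit_tmul, CommSemiring.counit_apply, ← Algebra.algebraMap_eq_smul_one,
      ← IsScalarTower.algebraMap_apply])
  map_mul' F G := WithConv.ofConv_injective (AlgHom.ext fun a => by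
    show (F * G).ofConv ((1 : R') ⊗ₜ[R] a) = _
    erw [AlgHom.convMul_apply, AlgHom.convMul_apply]
    rw [TensorProduct.comul_tmul, CommSemiring.comul_apply]
    generalize CoalgebraStruct.comul (R := R) a = z
    induction z using TensorProduct.induction_on with
    | zero => simp
    | tmul u w => simp
    | add u w hu hw => simp only [TensorProduct.tmul_add, map_add, hu, hw])

theorem powConv_single {M : Type u} [CommGroup M] (n : ℕ) (m : M) :
    SGA3b.powConv R (MonoidAlgebra R M) n (MonoidAlgebra.single m 1) = MonoidAlgebra.single (m ^ n) 1 := by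
  induction n with
  | zero =>
    show (((toConv (AlgHom.id R (MonoidAlgebra R M))) ^ 0).ofConv : _ →ₐ[R] _) _ = _
    rw [pow_zero, pow_zero]
    show algebraMap R (MonoidAlgebra R M) (counit (R := R) (MonoidAlgebra.single m (1 : R))) = _
    rw [MonoidAlgebra.counit_single, CommSemiring.counit_apply, map_one, MonoidAlgebra.one_def]
  | succ n ih =>
    show (((toConv (AlgHom.id R (MonoidAlgebra R M))) ^ (n + 1)).ofConv : _ →ₐ[R] _) _ = _
    rw [pow_succ]
    erw [AlgHom.convMul_apply]
    rw [MonoidAlgebra.comul_single, CommSemiring.comul_apply, TensorProduct.map_tmul, Algebra.TensorProduct.lift_tmul]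
    show SGA3b.powConv R (MonoidAlgebra R M) n (MonoidAlgebra.single m 1) * MonoidAlgebra.single m 1 = _
    rw [ih, MonoidAlgebra.single_mul_single, mul_one, pow_succ]

theorem gmap_powConv {R' : Type u} [CommRing R'] [Algebra R R'] {M : Type u} [CommGroup M]
    (e : (R' ⊗[R] A) ≃ₐc[R'] MonoidAlgebra R' M) (n : ℕ) (a : A) :
    gmap e (SGA3b.powConv R A n a) = SGA3b.powConv R' (MonoidAlgebra R' M) n (gmap e a) := by
  let eH : WithConv ((R' ⊗[R] A) →ₐ[R'] MonoidAlgebra R' M) :=
    toConv (e : (R' ⊗[R] A) →ₐ[R'] MonoidAlgebra R' M)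
  have h1 : ∀ j : ℕ, toConv ((gmap e).comp (SGA3b.powConv R A j)) = restrictPt (A := A) R' (eH ^ j) := by
    intro j
    induction j with
    | zero =>
      rw [pow_zero, map_one]
      exact WithConv.ofConv_injective (AlgHom.ext fun a => (gmap e).commutes _)
    | succ j ih =>
      rw [pow_succ, map_mul, ← ih]
      refine WithConv.ofConv_injective ?_
      have := AlgHom.comp_convMul_distrib (gmap e) ((toConv (AlgHom.id R A)) ^ j) (toConv (AlgHom.id R A))
      rw [← pow_succ] at this
      exact this
  have h2 : ∀ j : ℕ, eH ^ j = toConv ((SGA3b.powConv R' (MonoidAlgebra R' M) j).comp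
      (e : (R' ⊗[R] A) →ₐ[R'] MonoidAlgebra R' M)) := by
    intro j
    induction j with
    | zero =>
      rw [pow_zero]
      refine WithConv.ofConv_injective (AlgHom.ext fun z => ?_)
      show algebraMap R' _ (counit (R := R') z) = algebraMap R' _ (counit (R := R') (e z))
      rw [CoalgHomClass.counit_comp_apply e z]
    | succ j ih =>
      rw [pow_succ, ih]
      refine WithConv.ofConv_injective ?_
      have := AlgHom.convMul_comp_bialgHom_distrib ((toConv (AlgHom.id R' (MonoidAlgebra R' M))) ^ j)
        (toConv (AlgHom.id R' (MonoidAlgebra R' M))) (e : (R' ⊗[R] A) →ₐc[R'] MonoidAlgebra R' M)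
      rw [← pow_succ] at this
      exact this.symm
  have := congrArg (fun F : WithConv (A →ₐ[R] MonoidAlgebra R' M) => F.ofConv a) (h1 n)
  rw [h2 n] at this
  exact this

theorem map_gmap_torsionIdeal {R' : Type u} [CommRing R'] [Algebra R R'] {M : Type u} [CommGroup M]
    (e : (R' ⊗[R] A) ≃ₐc[R'] MonoidAlgebra R' M) (n : ℕ) :
    Ideal.map (gmap e) (SGA3b.torsionIdeal R A n) =
      Ideal.span ((fun h => MonoidAlgebra.single h 1 - 1) '' ((powMonoidHom n : M →* M).range : Set M)) := by
  have haug : Ideal.map (gmap e) (RingHom.ker (Bialgebra.counitAlgHom R A)) =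
      RingHom.ker (Bialgebra.counitAlgHom R' (MonoidAlgebra R' M)) := by
    refine le_antisymm (Ideal.map_le_iff_le_comap.2 fun a ha => ?_) fun x hx => ?_
    · show counit (R := R') (e ((1 : R') ⊗ₜ[R] a)) = 0
      rw [CoalgHomClass.counit_comp_apply e, TensorProduct.counit_tmul, CommSemiring.counit_apply,
        show counit (R := R) a = 0 from ha, zero_smul]
    · obtain ⟨z, rfl⟩ := EquivLike.surjective e x
      have hz : counit (R := R') z = 0 := by rw [← CoalgHomClass.counit_comp_apply e z]; exact hx
      have hall : ∀ z : R' ⊗[R] A, e z - algebraMap R' (MonoidAlgebra R' M) (counit (R := R') z) ∈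
          Ideal.map (gmap e) (RingHom.ker (Bialgebra.counitAlgHom R A)) := by
        intro z
        induction z using TensorProduct.induction_on with
        | zero => simp
        | tmul r a =>
          have e1 : e (r ⊗ₜ[R] a) - algebraMap R' (MonoidAlgebra R' M) (counit (R := R') (r ⊗ₜ[R] a)) =
              algebraMap R' (MonoidAlgebra R' M) r * gmap e (a - algebraMap R A (counit (R := R) a)) := by
            rw [map_sub, AlgHom.commutes, mul_sub, gmap_apply, TensorProduct.counit_tmul, CommSemiring.counit_apply,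
              IsScalarTower.algebraMap_apply R R' (MonoidAlgebra R' M), ← map_mul, mul_comm r _, ← Algebra.smul_def,
              ← Algebra.smul_def, ← map_smul, TensorProduct.smul_tmul', smul_eq_mul, mul_one]
          rw [e1]
          refine Ideal.mul_mem_left _ _ (Ideal.mem_map_of_mem _ ?_)
          show counit (R := R) (a - algebraMap R A (counit (R := R) a)) = 0
          rw [map_sub, Bialgebra.counit_algebraMap, sub_self]
        | add u w hu hw =>
          rw [map_add, map_add, map_add, add_sub_add_comm]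
          exact add_mem hu hw
      have := hall z
      rwa [hz, map_zero, sub_zero] at this
  have hcomp : (gmap e).toRingHom.comp (SGA3b.powConv R A n).toRingHom =
      (SGA3b.powConv R' (MonoidAlgebra R' M) n).toRingHom.comp (gmap e).toRingHom :=
    RingHom.ext (gmap_powConv e n)
  show Ideal.map (gmap e).toRingHom (Ideal.map (SGA3b.powConv R A n).toRingHom (RingHom.ker (Bialgebra.counitAlgHom R A))) = _
  rw [Ideal.map_map, hcomp, ← Ideal.map_map]
  show Ideal.map _ (Ideal.map (gmap e) (RingHom.ker (Bialgebra.counitAlgHom R A))) = _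
  rw [haug, aug_monoidAlgebra, Ideal.map_span]
  congr 1
  ext x
  simp only [Set.mem_image, Set.mem_range, SetLike.mem_coe, MonoidHom.mem_range, powMonoidHom_apply,
    exists_exists_eq_and]
  refine exists_congr fun m => ?_
  show (SGA3b.powConv R' (MonoidAlgebra R' M) n) (MonoidAlgebra.single m 1 - 1) = x ↔ _
  rw [map_sub, map_one, powConv_single]

theorem isMultType_torsion (h : SGA3b.IsMultType R A) (n : ℕ) (J : Ideal A) [J.IsHopfIdeal R]
    (hJ : J = SGA3b.torsionIdeal R A n) : SGA3b.IsMultType R (A ⧸ J) :=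
  isMultType_quotient h J fun R' _ _ M _ e => ⟨_, by rw [hJ]; exact map_gmap_torsionIdeal e n⟩

theorem fg_of_chart (hft : Algebra.FiniteType R A) {T : Type u} [CommRing T] [Algebra R T] [Nontrivial T]
    {M : Type u} [CommGroup M] (e : (T ⊗[R] A) ≃ₐc[T] MonoidAlgebra T M) : Group.FG M := by
  haveI : Algebra.FiniteType T (T ⊗[R] A) := inferInstance
  exact (MonoidAlgebra.finiteType_iff_group_fg (R := T)).1
    (Algebra.FiniteType.equiv inferInstance (e : (T ⊗[R] A) ≃ₐ[T] MonoidAlgebra T M))

theorem finite_quotient_range_pow {M : Type u} [CommGroup M] [Group.FG M] {n : ℕ} (hn : 0 < n) :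
    Finite (M ⧸ (powMonoidHom n : M →* M).range) := by
  set N := M ⧸ (powMonoidHom n : M →* M).range
  haveI : Group.FG N := inferInstance
  haveI : Module.Finite ℤ (Additive N) := Module.Finite.iff_addGroup_fg.2 inferInstance
  have hN : Module.IsTorsion ℤ (Additive N) := fun {x} => by
    refine ⟨⟨(n : ℤ), mem_nonZeroDivisors_of_ne_zero (Int.natCast_ne_zero.2 hn.ne')⟩, ?_⟩
    obtain ⟨m, hm⟩ := QuotientGroup.mk'_surjective _ (Additive.toMul x)
    show (n : ℤ) • x = 0
    rw [natCast_zsmul]
    have h1 : (Additive.toMul x) ^ n = 1 := by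
      rw [← hm, ← map_pow]
      exact (QuotientGroup.eq_one_iff _).2 ⟨m, rfl⟩
    exact congrArg Additive.ofMul h1
  haveI := Module.finite_of_fg_torsion (M := Additive N) hN
  exact Finite.of_equiv _ (Additive.toMul (α := N))

theorem finite_torsion (hft : Algebra.FiniteType R A) (h : SGA3b.IsMultType R A) (n : ℕ) (hn : 0 < n)
    (J : Ideal A) [J.IsHopfIdeal R] (hJ : J = SGA3b.torsionIdeal R A n) : Module.Finite R (A ⧸ J) := by
  obtain ⟨s, hs, h⟩ := exists_cover h
  haveI : ∀ g : s, IsLocalizedModule.Away g.1 (TensorProduct.mk R (Localization.Away g.1) (A ⧸ J) 1) := fun g =>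
    (isLocalizedModule_iff_isBaseChange (Submonoid.powers g.1) (Localization.Away g.1) _).2
      (TensorProduct.isBaseChange R (A ⧸ J) (Localization.Away g.1))
  refine Module.Finite.of_localizationSpan' s hs (Rₚ := fun g : s => Localization.Away g.1)
    (fun g : s => TensorProduct.mk R (Localization.Away g.1) (A ⧸ J) 1) fun g => ?_
  obtain ⟨T, _, _, _, _, M, _, hff, ⟨e⟩⟩ := h g.1 g.2
  haveI := hff
  suffices Module.Finite T (T ⊗[Localization.Away g.1] (Localization.Away g.1 ⊗[R] (A ⧸ J))) from
    Module.Finite.of_finite_tensorProduct_of_faithfullyFlat T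
  rcases subsingleton_or_nontrivial T with hT | hT
  · haveI : Subsingleton (T ⊗[Localization.Away g.1] (Localization.Away g.1 ⊗[R] (A ⧸ J))) :=
      Module.subsingleton T _
    infer_instance
  haveI := fg_of_chart hft e
  haveI := finite_quotient_range_pow (M := M) hn
  obtain ⟨e'⟩ := isDiag_quotient J e (powMonoidHom n : M →* M).range (by rw [hJ]; exact map_gmap_torsionIdeal e n)
  haveI : Module.Finite T (MonoidAlgebra T (M ⧸ (powMonoidHom n : M →* M).range)) := inferInstance
  haveI : Module.Finite T (T ⊗[R] (A ⧸ J)) := Module.Finite.equiv (AlgEquivClass.toAlgEquiv e').toLinearEquiv.symm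
  exact Module.Finite.equiv
    (AlgEquivClass.toAlgEquiv (cancelEquiv (R := R) (A := A ⧸ J) (Localization.Away g.1) T)).toLinearEquiv.symm

/-- Finite iff killed by an integer. -/
theorem finite_iff_torsion_eq_bot (hft : Algebra.FiniteType R A) (h : SGA3b.IsMultType R A) :
    Module.Finite R A ↔ ∃ n : ℕ, 0 < n ∧ SGA3b.torsionIdeal R A n = ⊥ := by
  constructor
  · intro hfin
    classical
    obtain ⟨s, hs, hc⟩ := exists_cover h
    obtain ⟨t, hts, ht⟩ := (Ideal.span_eq_top_iff_finite _).1 hs
    have hkill : ∀ g : t, ∃ n : ℕ, 0 < n ∧ ∀ k : ℕ, n ∣ k → ∀ a ∈ SGA3b.torsionIdeal R A k,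
        (1 : Localization.Away g.1) ⊗ₜ[R] a = 0 := by
      intro g
      obtain ⟨T, _, _, _, _, M, _, hff, ⟨e⟩⟩ := hc g.1 (hts g.2)
      haveI := hff
      rcases subsingleton_or_nontrivial T with hT | hT
      · refine ⟨1, one_pos, fun k _ a _ => Module.FaithfullyFlat.tensorProduct_mk_injective (A := Localization.Away g.1) (B := T) (Localization.Away g.1 ⊗[R] A) ?_⟩
        haveI : Subsingleton (T ⊗[Localization.Away g.1] (Localization.Away g.1 ⊗[R] A)) := Module.subsingleton T _
        exact Subsingleton.elim _ _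
      · haveI : Module.Finite T (MonoidAlgebra T M) :=
          Module.Finite.equiv (e : (T ⊗[R] A) ≃ₐ[T] MonoidAlgebra T M).toLinearEquiv
        haveI : Finite M := Module.Finite.finite_basis (R := T) ((Finsupp.basisSingleOne (R := T) (ι := M)).map
          (MonoidAlgebra.coeffLinearEquiv T).symm)
        refine ⟨Nat.card M, Nat.card_pos, fun k hk a ha => Module.FaithfullyFlat.tensorProduct_mk_injective (A := Localization.Away g.1) (B := T) (Localization.Away g.1 ⊗[R] A) ?_⟩
        obtain ⟨j, rfl⟩ := hk
        have h1 : gmap e a = 0 := by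
          rw [← Ideal.mem_bot]
          have h2 := Ideal.mem_map_of_mem (gmap e) ha
          rw [map_gmap_torsionIdeal e] at h2
          refine (Ideal.span_le.2 ?_) h2
          rintro _ ⟨_, ⟨m, rfl⟩, rfl⟩
          simp [pow_mul, pow_card_eq_one', MonoidAlgebra.one_def]
        rw [map_zero, TensorProduct.mk_apply]
        apply (cancelEquiv (R := R) (A := A) (Localization.Away g.1) T).toEquiv.injective
        apply e.toEquiv.injective
        show e ((cancelEquiv (R := R) (A := A) (Localization.Away g.1) T) ((1 : T) ⊗ₜ ((1 : Localization.Away g.1) ⊗ₜ a))) = e ((cancelEquiv (R := R) (A := A) (Localization.Away g.1) T) 0)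
        rw [map_zero, map_zero]
        show e (Algebra.TensorProduct.cancelBaseChange R (Localization.Away g.1) T T A
          ((1 : T) ⊗ₜ ((1 : Localization.Away g.1) ⊗ₜ a))) = 0
        rw [Algebra.TensorProduct.cancelBaseChange_tmul, one_smul]
        exact h1
    choose n hn hnk using hkill
    refine ⟨∏ g : t, n g, Finset.prod_pos fun g _ => hn g, ?_⟩
    rw [eq_bot_iff]
    intro a ha
    rw [Ideal.mem_bot]
    refine eq_zero_of_charts (R := R) a fun p => ?_
    obtain ⟨f, hf, hfp⟩ : ∃ f ∈ t, f ∉ p.asIdeal := by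
      by_contra hc'
      push Not at hc'
      exact p.isPrime.ne_top (top_le_iff.1 (ht ▸ Ideal.span_le.2 hc'))
    refine ⟨Localization.Away f, inferInstance, inferInstance, IsLocalization.flat _ (Submonoid.powers f), ?_,
      hnk ⟨f, hf⟩ _ (Finset.dvd_prod_of_mem _ (Finset.mem_univ _)) a ha⟩
    rw [PrimeSpectrum.localization_away_comap_range (Localization.Away f) f]
    exact hfp
  · rintro ⟨n, hn, h0⟩
    haveI : (⊥ : Ideal A).IsHopfIdeal R :=
      { counit_eq_zero := fun x hx => by
          rw [show x = 0 from Ideal.mem_bot.1 hx, map_zero]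
        map_mkQ_comul_eq_zero := fun x hx => by
          rw [show x = 0 from Ideal.mem_bot.1 hx, map_zero, map_zero]
        antipode_mem := fun x hx => by
          rw [Ideal.mem_bot.1 hx, map_zero]; exact zero_mem _ }
    haveI := finite_torsion hft h n hn ⊥ h0.symm
    exact Module.Finite.equiv (AlgEquiv.quotientBot R A).toLinearEquiv

end Torsion

end Groth.Agent.H19Mult
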