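import Groth.Agent.H19Mult.ClopenHom
import Groth.Agent.H19Mult.FiniteDual
import Groth.Agent.H19Mult.Quotient

/-!
A clopen isotrivial subgroup containing all the torsion is everything.
-/

set_option autoImplicit false
set_option linter.style.haveILetI false
set_option backward.isDefEq.respectTransparency false
set_option maxHeartbeats 800000

universe u

open TensorProduct WithConv

namespace Groth.Agent.H19Mult

section cocomm

variable {R : Type u} [CommRing R] {A : Type u} [CommRing A] [HopfAlgebra R A]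

theorem comm_comulT_chart {T : Type u} [CommRing T] [Algebra R T] {N : Type u} [CommGroup N]
    (e : (T ⊗[R] A) ≃ₐc[T] MonoidAlgebra T N) (c : A) :
    (TensorProduct.comm R A A).toLinearMap.baseChange T (comulT T ((1 : T) ⊗ₜ[R] c)) = comulT T ((1 : T) ⊗ₜ[R] c) := by
  let S : T ⊗[R] (A ⊗[R] A) →ₗ[T] T ⊗[R] (A ⊗[R] A) := (TensorProduct.comm R A A).toLinearMap.baseChange T
  have hS : ∀ y : MonoidAlgebra T N, S (comulT T (e.symm y)) = comulT T (e.symm y) := by
    intro y
    induction y using MonoidAlgebra.induction_linear with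
    | zero => simp
    | add u v hu hv => simp only [map_add, hu, hv]
    | single m r =>
      rw [show MonoidAlgebra.single m r = r • MonoidAlgebra.single m (1 : T) by simp, map_smul, map_smul, map_smul,
        (isGL_char e m).2]
      congr 1
      have hsw : ∀ z w : T ⊗[R] A, S (inl2 T z * inr2 T w) = inl2 T w * inr2 T z := by
        intro z w
        induction z using TensorProduct.induction_on with
        | zero => simp
        | add u v hu hv => simp only [map_add, add_mul, mul_add, hu, hv]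
        | tmul t a =>
          induction w using TensorProduct.induction_on with
          | zero => simp
          | add u v hu hv => simp only [map_add, add_mul, mul_add, hu, hv]
          | tmul t' b => simp [S, inl2, inr2, _root_.mul_comm]
      exact hsw _ _
  have h := hS (e ((1 : T) ⊗ₜ[R] c))
  rw [BialgEquiv.symm_apply_apply] at h
  exact h

theorem isCocomm_of_isMultType (h : SGA3b.IsMultType R A) : Coalgebra.IsCocomm R A := by
  obtain ⟨n, P, _, _, hfl, hcov, hd⟩ := exists_finite_charts h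
  haveI := hfl
  refine ⟨LinearMap.ext fun c => ext_of_charts hcov fun i => ?_⟩
  obtain ⟨M, _, ⟨e⟩⟩ := hd i
  exact comm_comulT_chart e c

/-- The power map of a commutative group is a homomorphism of groups. -/
theorem exists_powConv_bialgHom [Coalgebra.IsCocomm R A] (n : ℕ) :
    ∃ φ : A →ₐc[R] A, ∀ a, φ a = SGA3b.powConv R A n a := by
  refine ⟨((toConv (BialgHom.id R A)) ^ n).ofConv, fun a => ?_⟩
  have h := BialgHom.toAlgHom_convPow (toConv (BialgHom.id R A)) n
  exact congrArg (fun f : WithConv (A →ₐ[R] A) => f.ofConv a) h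

theorem isHopfIdeal_torsion [Coalgebra.IsCocomm R A] (n : ℕ) :
    (SGA3b.torsionIdeal R A n).IsHopfIdeal R := by
  obtain ⟨φ, hφ⟩ := exists_powConv_bialgHom (R := R) (A := A) n
  set J := SGA3b.torsionIdeal R A n
  have hJ : J = Ideal.span (SGA3b.powConv R A n '' (RingHom.ker (Bialgebra.counitAlgHom R A) : Set A)) := rfl
  have hgen : ∀ b, Coalgebra.counit (R := R) b = 0 → φ b ∈ J := fun b hb => by
    rw [hφ]; exact Ideal.mem_map_of_mem _ hb
  have hle : ∀ {B : Type u} [CommRing B] [Algebra R B] (f : A →ₐ[R] B),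
      (∀ b, Coalgebra.counit (R := R) b = 0 → f (φ b) = 0) → ∀ x ∈ J, f x = 0 := fun {B} _ _ f hf x hx => by
    have h1 : J ≤ RingHom.ker f := by
      rw [hJ, Ideal.span_le]
      rintro _ ⟨b, hb, rfl⟩
      show f (SGA3b.powConv R A n b) = 0
      rw [← hφ]
      exact hf b hb
    exact h1 hx
  refine { counit_eq_zero := fun x hx => ?_, map_mkQ_comul_eq_zero := fun x hx => ?_, antipode_mem := fun x hx => ?_ }
  · exact hle (Bialgebra.counitAlgHom R A) (fun b hb => (CoalgHomClass.counit_comp_apply φ b).trans hb) x hx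
  · refine hle ((Algebra.TensorProduct.map (Ideal.Quotient.mkₐ R J) (Ideal.Quotient.mkₐ R J)).comp
      (Bialgebra.comulAlgHom R A)) (fun b hb => ?_) x hx
    let q : A →ₐ[R] A ⧸ J := (Ideal.Quotient.mkₐ R J).comp (φ : A →ₐ[R] A)
    have hq : q.toLinearMap = (Algebra.linearMap R (A ⧸ J)) ∘ₗ Coalgebra.counit (R := R) (A := A) := by
      refine LinearMap.ext fun b => ?_
      show Ideal.Quotient.mk J (φ b) = algebraMap R (A ⧸ J) (Coalgebra.counit (R := R) b)
      rw [IsScalarTower.algebraMap_apply R A (A ⧸ J), Ideal.Quotient.algebraMap_eq, Ideal.Quotient.eq,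
        ← AlgHom.commutes (φ : A →ₐ[R] A) (Coalgebra.counit (R := R) b)]
      show φ b - φ (algebraMap R A (Coalgebra.counit (R := R) b)) ∈ J
      rw [← map_sub]
      refine hgen _ ?_
      rw [map_sub, Bialgebra.counit_algebraMap, sub_self]
    show Algebra.TensorProduct.map (Ideal.Quotient.mkₐ R J) (Ideal.Quotient.mkₐ R J) (Coalgebra.comul (R := R) (φ b)) = 0
    rw [← CoalgHomClass.map_comp_comul_apply φ b]
    show (TensorProduct.map (Ideal.Quotient.mkₐ R J).toLinearMap (Ideal.Quotient.mkₐ R J).toLinearMap)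
      (TensorProduct.map (φ : A →ₐ[R] A).toLinearMap (φ : A →ₐ[R] A).toLinearMap (Coalgebra.comul (R := R) b)) = 0
    rw [TensorProduct.map_map, show (Ideal.Quotient.mkₐ R J).toLinearMap ∘ₗ (φ : A →ₐ[R] A).toLinearMap = q.toLinearMap from rfl,
      hq, TensorProduct.map_comp, LinearMap.comp_apply,
      show TensorProduct.map (Coalgebra.counit (R := R) (A := A)) (Coalgebra.counit (R := R) (A := A)) (Coalgebra.comul (R := R) b) = 0 by
        rw [show TensorProduct.map (Coalgebra.counit (R := R) (A := A)) (Coalgebra.counit (R := R) (A := A)) =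
          (LinearMap.lTensor R (Coalgebra.counit (R := R) (A := A))) ∘ₗ LinearMap.rTensor A (Coalgebra.counit (R := R) (A := A)) from
          (LinearMap.lTensor_comp_rTensor ..).symm, LinearMap.comp_apply, Coalgebra.rTensor_counit_comul,
          LinearMap.lTensor_tmul, hb, TensorProduct.tmul_zero],
      map_zero]
  · have h2 := hle ((Ideal.Quotient.mkₐ R J).comp (HopfAlgebra.antipodeAlgHom R A)) (fun b hb => ?_) x hx
    · exact Ideal.Quotient.eq_zero_iff_mem.1 h2
    · show Ideal.Quotient.mk J (HopfAlgebra.antipode R (φ b)) = 0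
      rw [← map_antipode, Ideal.Quotient.eq_zero_iff_mem]
      refine hgen _ ?_
      rw [← hb]
      exact DFunLike.congr_fun (AlgHom.counitAlgHom_comp_antipodeAlgHom (R := R) (A := A)) b

end cocomm

section points

variable {A : Type u} [CommRing A] {C : Type u} [CommRing C] [HopfAlgebra A C] {K : Type u} [Field K] [Algebra A K]

theorem comp_powConv (y : WithConv (C →ₐ[A] K)) (n : ℕ) :
    y.ofConv.comp (SGA3b.powConv A C n) = (y ^ n).ofConv := by
  unfold SGA3b.powConv
  induction n with
  | zero =>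
    rw [pow_zero, pow_zero]
    refine AlgHom.ext fun c => ?_
    show y.ofConv (algebraMap A C (Coalgebra.counit (R := A) c)) = algebraMap A K (Coalgebra.counit (R := A) c)
    exact y.ofConv.commutes _
  | succ n ih =>
    rw [pow_succ, pow_succ, AlgHom.comp_convMul_distrib, ih]
    rfl

theorem apply_eq_zero_of_mem_torsion (y : WithConv (C →ₐ[A] K)) (n : ℕ) (hy : y ^ n = 1) {c : C}
    (hc : c ∈ SGA3b.torsionIdeal A C n) : y.ofConv c = 0 := by
  have h : SGA3b.torsionIdeal A C n ≤ RingHom.ker y.ofConv := Ideal.map_le_iff_le_comap.2 fun b hb => by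
    show y.ofConv (SGA3b.powConv A C n b) = 0
    rw [← AlgHom.comp_apply, comp_powConv, hy]
    show algebraMap A K (Coalgebra.counit (R := A) b) = 0
    rw [show Coalgebra.counit (R := A) b = 0 from hb, map_zero]
  exact h hc

variable {e : C} (he : IsIdempotentElem e) [hH : (Ideal.span {e}).IsHopfIdeal A]

include hH in
theorem mul_apply_eq_zero {x y : WithConv (C →ₐ[A] K)} (hx : x.ofConv e = 0) (hy : y.ofConv e = 0) :
    (x * y).ofConv e = 0 := by
  have hx' : ∀ c ∈ Ideal.span {e}, x.ofConv c = 0 := fun c hc => by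
    obtain ⟨d, rfl⟩ := Ideal.mem_span_singleton'.1 hc
    rw [map_mul, hx, mul_zero]
  have hy' : ∀ c ∈ Ideal.span {e}, y.ofConv c = 0 := fun c hc => by
    obtain ⟨d, rfl⟩ := Ideal.mem_span_singleton'.1 hc
    rw [map_mul, hy, mul_zero]
  let xb : (C ⧸ Ideal.span {e}) →ₐ[A] K := Ideal.Quotient.liftₐ _ x.ofConv hx'
  let yb : (C ⧸ Ideal.span {e}) →ₐ[A] K := Ideal.Quotient.liftₐ _ y.ofConv hy'
  have h1 := DFunLike.congr_fun (AlgHom.convMul_comp_bialgHom_distrib (toConv xb) (toConv yb)
    (Bialgebra.Quotient.mkBialgHom (R := A) (Ideal.span {e}))) e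
  refine Eq.trans ?_ (h1.symm.trans ?_)
  · rfl
  · show (toConv xb * toConv yb).ofConv (Ideal.Quotient.mk _ e) = 0
    rw [Ideal.Quotient.eq_zero_iff_mem.2 (Ideal.mem_span_singleton_self e), map_zero]

include he in
theorem apply_eq_one {z : WithConv (C →ₐ[A] K)} (hz : z.ofConv e ≠ 0) : z.ofConv e = 1 :=
  (IsIdempotentElem.iff_eq_zero_or_one.1 (he.map z.ofConv.toRingHom)).resolve_left hz

include he hH in
/-- Every point has a power in the clopen subgroup. -/
theorem exists_pow_apply_eq_zero [Coalgebra.IsCocomm A C] [Algebra.FiniteType A C]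
    (x : WithConv (C →ₐ[A] K)) : ∃ k, 0 < k ∧ (x ^ k).ofConv e = 0 := by
  by_contra hno
  push Not at hno
  haveI : IsNoetherianRing (K ⊗[A] C) := Algebra.FiniteType.isNoetherianRing K (K ⊗[A] C)
  let L : WithConv (C →ₐ[A] K) → (C →ₐ[A] K ⊗[A] C) := fun g =>
    (Algebra.TensorProduct.map g.ofConv (AlgHom.id A C)).comp (Bialgebra.comulAlgHom A C)
  let ev : WithConv (C →ₐ[A] K) → (K ⊗[A] C →ₐ[A] K) := fun z =>
    Algebra.TensorProduct.lift (AlgHom.id A K) z.ofConv fun _ _ => Commute.all _ _
  have hL : ∀ g z c, ev z (L g c) = (g * z).ofConv c := fun g z c => by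
    show ev z (Algebra.TensorProduct.map g.ofConv (AlgHom.id A C) (Coalgebra.comul (R := A) c)) = (g * z) c
    rw [AlgHom.convMul_apply]
    generalize Coalgebra.comul (R := A) c = w
    induction w using TensorProduct.induction_on with
    | zero => simp
    | tmul p q => simp [ev]
    | add u v hu hv => simp only [map_add, hu, hv]
  let xi : WithConv (C →ₐ[A] K) := toConv (x.ofConv.comp (HopfAlgebra.antipodeAlgHom A C))
  have hxi : xi * x = 1 := by
    refine WithConv.ofConv_injective ?_
    have h1 := AlgHom.comp_convMul_distrib x.ofConv (toConv (HopfAlgebra.antipodeAlgHom A C)) (toConv (AlgHom.id A C))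
    rw [AlgHom.antipode_id_cancel] at h1
    refine h1.symm.trans (AlgHom.ext fun c => ?_)
    show x.ofConv (algebraMap A C (Coalgebra.counit (R := A) c)) = algebraMap A K (Coalgebra.counit (R := A) c)
    exact x.ofConv.commutes _
  let f : ℕ → K ⊗[A] C := fun i => L (xi ^ i) (1 - e)
  have hlt : ∀ j i, i < j → ev (x ^ j) (f i) = 0 := fun j i hij => by
    rw [hL, show xi ^ i * x ^ j = x ^ (j - i) by
      obtain ⟨d, rfl⟩ := Nat.exists_eq_add_of_le hij.le
      rw [pow_add, ← mul_assoc, ← mul_pow, hxi, one_pow, one_mul, Nat.add_sub_cancel_left]]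
    rw [map_sub, map_one, apply_eq_one he (hno _ (by omega)), sub_self]
  have heq : ∀ j, ev (x ^ j) (f j) = 1 := fun j => by
    rw [hL, show xi ^ j * x ^ j = 1 by rw [← mul_pow, hxi, one_pow], map_sub, map_one]
    show 1 - algebraMap A K (Coalgebra.counit (R := A) e) = 1
    rw [(inferInstance : ((Ideal.span {e}).restrictScalars A).IsCoideal).counit_eq_zero (Ideal.mem_span_singleton_self e),
      map_zero, sub_zero]
  let J : ℕ →o Ideal (K ⊗[A] C) :=
    ⟨fun n => Ideal.span (f '' Set.Iio n), fun a b hab => Ideal.span_mono (Set.image_mono (Set.Iio_subset_Iio hab))⟩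
  obtain ⟨N, hN⟩ := monotone_stabilizes_iff_noetherian.2 inferInstance J
  have h1 : f N ∈ J N := by
    rw [hN (N + 1) (Nat.le_succ N)]
    exact Ideal.subset_span ⟨N, Nat.lt_succ_self N, rfl⟩
  have h2 : J N ≤ RingHom.ker (ev (x ^ N)) := Ideal.span_le.2 (by rintro _ ⟨i, hi, rfl⟩; exact hlt N i hi)
  exact one_ne_zero ((heq N).symm.trans (h2 h1))

end points

/-- Multiples of characters of a finitely generated group extend to characters with given powers. -/
theorem exists_root_monoidHom {M : Type u} [CommGroup M] [Group.FG M] (K : Type u) [Field K] [IsAlgClosed K] :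
    ∃ t : ℕ, 0 < t ∧ ∀ (n : ℕ), 0 < n → ∀ h : M →* Kˣ, ∃ h' : M →* Kˣ, h' ^ (n * t) = h ^ t := by
  classical
  let V := Additive Kˣ
  let A' := Additive M
  have hdiv : ∀ {n : ℤ}, n ≠ 0 → Function.Surjective (fun a : V => n • a) := by
    intro n hn a
    obtain ⟨z, hz⟩ := IsAlgClosed.exists_pow_nat_eq ((Additive.toMul a : Kˣ) : K) (Int.natAbs_pos.2 hn)
    have hz0 : z ≠ 0 := fun h => by
      rw [h, zero_pow (Int.natAbs_pos.2 hn).ne'] at hz
      exact (Additive.toMul a).ne_zero hz.symm
    have hu : (Units.mk0 z hz0) ^ n.natAbs = Additive.toMul a := Units.ext (by simpa using hz)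
    rcases Int.natAbs_eq n with h | h
    · refine ⟨Additive.ofMul (Units.mk0 z hz0), ?_⟩
      show n • Additive.ofMul (Units.mk0 z hz0) = a
      rw [← ofMul_zpow, h, zpow_natCast, hu]; rfl
    · refine ⟨Additive.ofMul (Units.mk0 z hz0)⁻¹, ?_⟩
      show n • Additive.ofMul (Units.mk0 z hz0)⁻¹ = a
      rw [← ofMul_zpow, h, zpow_neg, zpow_natCast, inv_pow, inv_inv, hu]; rfl
  letI : DivisibleBy V ℤ := divisibleByOfSMulRightSurj V ℤ @hdiv
  -- an exponent for the torsion
  haveI : AddGroup.FG A' := inferInstance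
  haveI : Module.Finite ℤ A' := Module.Finite.iff_addGroup_fg.2 inferInstance
  obtain ⟨S, hS⟩ := (IsNoetherian.noetherian (Submodule.torsion ℤ A') : Submodule.FG _)
  let t := ∏ x ∈ S, addOrderOf x
  have hfin : ∀ x ∈ Submodule.torsion ℤ A', IsOfFinAddOrder x := fun x hx => by
    rw [isOfFinAddOrder_iff_zsmul_eq_zero]
    obtain ⟨⟨c, hc⟩, hcx⟩ := hx
    exact ⟨c, nonZeroDivisors.ne_zero hc, hcx⟩
  have ht : 0 < t := Finset.prod_pos fun x hx => (hfin x (hS ▸ Submodule.subset_span hx)).addOrderOf_pos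
  have htor : ∀ x ∈ Submodule.torsion ℤ A', (t : ℤ) • x = 0 := fun x hx => by
    rw [← hS] at hx
    induction hx using Submodule.span_induction with
    | mem y hy =>
      obtain ⟨d, hd⟩ := Finset.dvd_prod_of_mem (fun x : A' => addOrderOf x) hy
      show ((t : ℕ) : ℤ) • y = 0
      rw [natCast_zsmul, show t = addOrderOf y * d from hd, mul_comm, mul_nsmul', addOrderOf_nsmul_eq_zero, nsmul_zero]
    | zero => rw [smul_zero]
    | add u v _ _ hu hv => rw [smul_add, hu, hv, add_zero]
    | smul r u _ hu => rw [smul_comm, hu, smul_zero]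
  refine ⟨t, ht, fun n hn h => ?_⟩
  let g : A' →ₗ[ℤ] V := (t : ℤ) • (MonoidHom.toAdditive h).toIntLinearMap
  let l : A' →ₗ[ℤ] A' := ((n * t : ℕ) : ℤ) • LinearMap.id
  have hker : LinearMap.ker l ≤ LinearMap.ker g := fun x hx => by
    have hx' : ((n * t : ℕ) : ℤ) • x = 0 := hx
    have h1 : (t : ℤ) • x = 0 := htor x ⟨⟨_, mem_nonZeroDivisors_of_ne_zero
      (Int.natCast_ne_zero.2 (Nat.mul_pos hn ht).ne')⟩, hx'⟩
    show (t : ℤ) • (MonoidHom.toAdditive h).toIntLinearMap x = 0
    rw [← map_smul, h1, map_zero]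
  obtain ⟨h', hh'⟩ := (Module.Baer.of_divisible V).extension_property ((LinearMap.ker l).liftQ l le_rfl)
    (LinearMap.ker_eq_bot.1 (Submodule.ker_liftQ_eq_bot _ _ _ le_rfl)) ((LinearMap.ker l).liftQ g hker)
  refine ⟨MonoidHom.toAdditive.symm h'.toAddMonoidHom, MonoidHom.ext fun m => ?_⟩
  have h2 : h' (((n * t : ℕ) : ℤ) • Additive.ofMul m) = (t : ℤ) • MonoidHom.toAdditive h (Additive.ofMul m) :=
    LinearMap.congr_fun hh' (Submodule.Quotient.mk (Additive.ofMul m))
  rw [map_smul, natCast_zsmul, natCast_zsmul] at h2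
  exact congrArg Additive.toMul h2

section fill

variable {A : Type u} [CommRing A] {C : Type u} [CommRing C] [HopfAlgebra A C]

/-- The points of a quotient with a chart come from characters. -/
theorem exists_points_hom {B : Type u} [CommRing B] [HopfAlgebra A B] {K : Type u} [Field K] [Algebra A K]
    {M : Type u} [CommGroup M] (eK : (K ⊗[A] B) ≃ₐc[K] MonoidAlgebra K M) :
    ∃ Γ : (M →* Kˣ) →* WithConv (B →ₐ[A] K), Function.Surjective Γ := by
  let P : (M →* Kˣ) → (MonoidAlgebra K M →ₐ[K] K) := fun χ =>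
    MonoidAlgebra.lift K K M ((Units.coeHom K).comp χ)
  let res : (MonoidAlgebra K M →ₐ[K] K) → WithConv (B →ₐ[A] K) := fun p =>
    toConv (((p.comp (eK : (K ⊗[A] B) ≃ₐ[K] MonoidAlgebra K M).toAlgHom).restrictScalars A).comp
      Algebra.TensorProduct.includeRight)
  have hcoe : ∀ z, (eK : (K ⊗[A] B) ≃ₐ[K] MonoidAlgebra K M).toAlgHom z = eK z := fun z => rfl
  refine ⟨{ toFun := fun χ => res (P χ), map_one' := ?_, map_mul' := fun χ χ' => ?_ }, fun y => ?_⟩
  · refine WithConv.ofConv_injective (AlgHom.ext fun b => ?_)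
    show P 1 (eK ((1 : K) ⊗ₜ[A] b)) = algebraMap A K (Coalgebra.counit (R := A) b)
    have h1 : ∀ y : MonoidAlgebra K M, P 1 y = Coalgebra.counit (R := K) y := fun y => by
      induction y using MonoidAlgebra.induction_linear with
      | zero => simp
      | add u v hu hv => simp only [map_add, hu, hv]
      | single m r => simp [P, MonoidAlgebra.lift_single]
    rw [h1, CoalgHomClass.counit_comp_apply, TensorProduct.counit_tmul, CommSemiring.counit_apply, Algebra.smul_def,
      mul_one]
  · refine WithConv.ofConv_injective (AlgHom.ext fun b => ?_)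
    show P (χ * χ') (eK ((1 : K) ⊗ₜ[A] b)) = ((res (P χ)) * res (P χ')) b
    rw [AlgHom.convMul_apply]
    have h1 : ∀ y : MonoidAlgebra K M, P (χ * χ') y =
        Algebra.TensorProduct.lift (P χ) (P χ') (fun _ _ => Commute.all _ _) (Coalgebra.comul (R := K) y) := fun y => by
      induction y using MonoidAlgebra.induction_linear with
      | zero => simp
      | add u v hu hv => simp only [map_add, hu, hv]
      | single m r =>
        rw [MonoidAlgebra.comul_single, CommSemiring.comul_apply]
        simp [P, MonoidAlgebra.lift_single]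
        ring
    rw [h1, ← CoalgHomClass.map_comp_comul_apply eK ((1 : K) ⊗ₜ[A] b)]
    simp only [TensorProduct.comul_tmul, CommSemiring.comul_apply]
    generalize CoalgebraStruct.comul (R := A) b = w
    induction w using TensorProduct.induction_on with
    | zero => simp
    | add u v hu hv => simp only [TensorProduct.tmul_add, map_add, hu, hv]
    | tmul p q =>
      simp only [TensorProduct.AlgebraTensorModule.tensorTensorTensorComm_tmul, TensorProduct.map_tmul]
      rw [Algebra.TensorProduct.lift_tmul, Algebra.TensorProduct.lift_tmul]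
      rfl
  · let Y : K ⊗[A] B →ₐ[K] K := Algebra.TensorProduct.lift (AlgHom.id K K) y.ofConv fun _ _ => Commute.all _ _
    let q : MonoidAlgebra K M →ₐ[K] K := Y.comp (eK.symm : MonoidAlgebra K M ≃ₐ[K] (K ⊗[A] B)).toAlgHom
    refine ⟨(q.toMonoidHom.comp (MonoidAlgebra.of K M)).toHomUnits, ?_⟩
    refine WithConv.ofConv_injective (AlgHom.ext fun b => ?_)
    show P _ (eK ((1 : K) ⊗ₜ[A] b)) = y.ofConv b
    rw [show P ((q.toMonoidHom.comp (MonoidAlgebra.of K M)).toHomUnits) = q from
      MonoidAlgebra.algHom_ext (fun m => by simp [P, MonoidAlgebra.lift_single]) (by ext)]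
    show Y (eK.symm (eK ((1 : K) ⊗ₜ[A] b))) = _
    rw [BialgEquiv.symm_apply_apply]
    refine (Algebra.TensorProduct.lift_tmul _ _ _ _ _).trans ?_
    rw [map_one, one_mul]

/-- An idempotent cutting out an isotrivial subgroup which contains all torsion vanishes. -/
theorem idem_eq_zero_of_mem_torsion [Coalgebra.IsCocomm A C] (hft : Algebra.FiniteType A C)
    (e : C) (he : IsIdempotentElem e) [hH : (Ideal.span {e}).IsHopfIdeal A]
    (hB : SGA3b.IsIsotrivial A (C ⧸ Ideal.span {e}))
    (htor : ∀ n : ℕ, 0 < n → e ∈ SGA3b.torsionIdeal A C n) : e = 0 := by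
  classical
  haveI : Algebra.FiniteType A C := hft
  refine he.eq_zero_of_isNilpotent (mem_nilradical.1 ?_)
  rw [nilradical_eq_sInf, Ideal.mem_sInf]
  intro P hP
  haveI : P.IsPrime := hP
  by_contra heP
  let K := AlgebraicClosure P.ResidueField
  let x : WithConv (C →ₐ[A] K) := toConv ((IsScalarTower.toAlgHom C P.ResidueField K).restrictScalars A |>.comp
    (IsScalarTower.toAlgHom A C P.ResidueField))
  have hx0 : x.ofConv e ≠ 0 := fun h0 => by
    have h1 : algebraMap C P.ResidueField e = 0 :=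
      (algebraMap P.ResidueField K).injective (by rw [map_zero]; exact h0)
    exact heP (Ideal.algebraMap_residueField_eq_zero.1 h1)
  obtain ⟨N, hN, hxN⟩ := exists_pow_apply_eq_zero he x
  obtain ⟨T, _, _, -, hTfin, hTff, M, _, ⟨eT⟩⟩ := hB
  haveI := hTfin
  haveI := hTff
  haveI : Nontrivial (K ⊗[A] T) := inferInstance
  obtain ⟨m, hm⟩ := Ideal.exists_maximal (K ⊗[A] T)
  haveI := hm
  letI : Field ((K ⊗[A] T) ⧸ m) := Ideal.Quotient.field m
  let gK : (K ⊗[A] T) ⧸ m →ₐ[K] K := IsAlgClosed.lift
  let g : T →ₐ[A] K := ((gK.restrictScalars A).comp (Ideal.Quotient.mkₐ A m)).comp Algebra.TensorProduct.includeRight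
  letI : Algebra T K := g.toRingHom.toAlgebra
  haveI : IsScalarTower A T K := IsScalarTower.of_algebraMap_eq fun a => (g.commutes a).symm
  obtain ⟨eK, -⟩ := exists_chart_map eT K
  haveI : Algebra.FiniteType A (C ⧸ Ideal.span {e}) := inferInstance
  haveI : Group.FG M := fg_of_chart inferInstance eK
  obtain ⟨t, ht, hroot⟩ := exists_root_monoidHom (M := M) K
  obtain ⟨Γ, hΓ⟩ := exists_points_hom eK
  have hspan : ∀ y : WithConv (C →ₐ[A] K), y.ofConv e = 0 → ∀ c ∈ Ideal.span {e}, y.ofConv c = 0 := fun y hy c hc => by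
    obtain ⟨d, rfl⟩ := Ideal.mem_span_singleton'.1 hc
    rw [map_mul, hy, mul_zero]
  let mk := Bialgebra.Quotient.mkBialgHom (R := A) (Ideal.span {e})
  let Θ : WithConv ((C ⧸ Ideal.span {e}) →ₐ[A] K) →* WithConv (C →ₐ[A] K) :=
    { toFun := fun y => toConv (y.ofConv.comp (mk : C →ₐ[A] C ⧸ Ideal.span {e}))
      map_one' := WithConv.ofConv_injective (AlgHom.ext fun c => by
        show algebraMap A K (Coalgebra.counit (R := A) (mk c)) = algebraMap A K (Coalgebra.counit (R := A) c)
        rw [CoalgHomClass.counit_comp_apply])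
      map_mul' := fun y y' => congrArg toConv (AlgHom.convMul_comp_bialgHom_distrib y y' mk) }
  obtain ⟨χ, hχ⟩ := hΓ (toConv (Ideal.Quotient.liftₐ _ (x ^ N).ofConv (hspan _ hxN)))
  have hlift : Θ (Γ χ) = x ^ N := by
    rw [hχ]
    exact WithConv.ofConv_injective (AlgHom.ext fun c => rfl)
  obtain ⟨χ', hχ'⟩ := hroot N hN χ
  set z := Θ (Γ χ')
  set zi := Θ (Γ χ'⁻¹)
  have hzi : zi * z = 1 := (map_mul Θ _ _).symm.trans ((congrArg Θ ((map_mul Γ χ'⁻¹ χ').symm.trans
    ((congrArg Γ (inv_mul_cancel χ')).trans (map_one Γ)))).trans (map_one Θ))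
  have hzN : z ^ (N * t) = x ^ (N * t) := by
    rw [← map_pow, ← map_pow, hχ', (map_pow Γ χ t : _), map_pow, hlift, ← pow_mul]
  have hy : (x * zi) ^ (N * t) = 1 := by
    rw [mul_pow, ← hzN, ← mul_pow, mul_comm z, hzi, one_pow]
  have hze : z.ofConv e = 0 := by
    show (Γ χ').ofConv (Ideal.Quotient.mk (Ideal.span {e}) e) = 0
    rw [Ideal.Quotient.eq_zero_iff_mem.2 (Ideal.mem_span_singleton_self e), map_zero]
  have h := mul_apply_eq_zero (apply_eq_zero_of_mem_torsion (x * zi) (N * t) hy (htor _ (Nat.mul_pos hN ht))) hze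
  rw [mul_assoc, hzi, mul_one] at h
  exact hx0 h

/-- The criterion for isotriviality over a complete base by finiteness of torsion. -/
theorem isIsotrivial_of_torsion_finite (A : Type u) [CommRing A] [IsNoetherianRing A] (I : Ideal A) [IsAdicComplete I A]
    (C : Type u) [CommRing C] [HopfAlgebra A C] [Coalgebra.IsCocomm A C] [Module.Flat A C] (hft : Algebra.FiniteType A C)
    (h0 : SGA3b.IsIsotrivial (A ⧸ I) ((A ⧸ I) ⊗[A] C))
    (hfin : ∀ n : ℕ, 0 < n → Module.Finite A (C ⧸ SGA3b.torsionIdeal A C n)) : SGA3b.IsIsotrivial A C := by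
  haveI : IsNoetherianRing C := Algebra.FiniteType.isNoetherianRing A C
  haveI : HenselianRing A I := inferInstance
  obtain ⟨e, he, heI, hH, hiso⟩ := exists_clopen_isotrivial A I C hft
    (fun q _ _ => Module.Flat.trans A C (Localization.AtPrime q)) h0
  haveI := hH
  have htor : ∀ n : ℕ, 0 < n → e ∈ SGA3b.torsionIdeal A C n := fun n hn => by
    haveI := hfin n hn
    rw [← Ideal.Quotient.eq_zero_iff_mem]
    refine idem_eq_of_jacobson (he.map (Ideal.Quotient.mk _)).eq (zero_mul _) ?_
    rw [sub_zero]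
    refine map_le_jacobson_of_finite I (C ⧸ SGA3b.torsionIdeal A C n) ?_
    rw [IsScalarTower.algebraMap_eq A C (C ⧸ SGA3b.torsionIdeal A C n), ← Ideal.map_map]
    exact Ideal.mem_map_of_mem _ heI
  have h0' := idem_eq_zero_of_mem_torsion hft e he hiso htor
  refine isIsotrivial_of_equiv (BialgEquiv.ofBijective (Bialgebra.Quotient.mkBialgHom (R := A) (Ideal.span {e}))
    ⟨fun x y hxy => ?_, Ideal.Quotient.mk_surjective⟩) hiso
  have h1 := Ideal.Quotient.eq.1 hxy
  rw [h0', Ideal.span_singleton_eq_bot.2 rfl, Ideal.mem_bot, sub_eq_zero] at h1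
  exact h1

end fill

end Groth.Agent.H19Mult
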