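import Groth.Agent.H19Mult.SubgroupLocal
import Groth.Agent.H19Mult.FPFlat
import Groth.Agent.H19Mult.TorsionFill

/-!
Kernels of homomorphisms from diagonalisable groups over a local ring.
-/

set_option autoImplicit false
set_option linter.style.haveILetI false
set_option backward.isDefEq.respectTransparency false

universe u

open TensorProduct WithConv

namespace Groth.Agent.H19Mult.KernelLocal

open SubgroupRigid

/-- The kernel of a homomorphism of affine groups is a Hopf ideal. -/
theorem isHopfIdeal_map_aug {R C A : Type u} [CommRing R] [CommRing C] [HopfAlgebra R C] [CommRing A] [HopfAlgebra R A]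
    (φ : C →ₐc[R] A) : (Ideal.map φ (RingHom.ker (Bialgebra.counitAlgHom R C))).IsHopfIdeal R := by
  set J := Ideal.map φ (RingHom.ker (Bialgebra.counitAlgHom R C))
  have hgen : ∀ b, Coalgebra.counit (R := R) b = 0 → φ b ∈ J := fun b hb => Ideal.mem_map_of_mem _ hb
  have hle : ∀ {B : Type u} [CommRing B] [Algebra R B] (f : A →ₐ[R] B),
      (∀ b, Coalgebra.counit (R := R) b = 0 → f (φ b) = 0) → ∀ x ∈ J, f x = 0 := fun {B} _ _ f hf x hx => by
    have h1 : J ≤ RingHom.ker f := Ideal.map_le_iff_le_comap.2 fun b hb => hf b hb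
    exact h1 hx
  refine { counit_eq_zero := fun x hx => ?_, map_mkQ_comul_eq_zero := fun x hx => ?_, antipode_mem := fun x hx => ?_ }
  · exact hle (Bialgebra.counitAlgHom R A) (fun b hb => (CoalgHomClass.counit_comp_apply φ b).trans hb) x hx
  · refine hle ((Algebra.TensorProduct.map (Ideal.Quotient.mkₐ R J) (Ideal.Quotient.mkₐ R J)).comp
      (Bialgebra.comulAlgHom R A)) (fun b hb => ?_) x hx
    let q : C →ₐ[R] A ⧸ J := (Ideal.Quotient.mkₐ R J).comp (φ : C →ₐ[R] A)
    have hq : q.toLinearMap = (Algebra.linearMap R (A ⧸ J)) ∘ₗ Coalgebra.counit (R := R) (A := C) := by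
      refine LinearMap.ext fun b => ?_
      show Ideal.Quotient.mk J (φ b) = algebraMap R (A ⧸ J) (Coalgebra.counit (R := R) b)
      rw [IsScalarTower.algebraMap_apply R A (A ⧸ J), Ideal.Quotient.algebraMap_eq, Ideal.Quotient.eq,
        ← AlgHom.commutes (φ : C →ₐ[R] A) (Coalgebra.counit (R := R) b)]
      show φ b - φ (algebraMap R C (Coalgebra.counit (R := R) b)) ∈ J
      rw [← map_sub]
      refine hgen _ ?_
      rw [map_sub, Bialgebra.counit_algebraMap, sub_self]
    show Algebra.TensorProduct.map (Ideal.Quotient.mkₐ R J) (Ideal.Quotient.mkₐ R J) (Coalgebra.comul (R := R) (φ b)) = 0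
    rw [← CoalgHomClass.map_comp_comul_apply φ b]
    show (TensorProduct.map (Ideal.Quotient.mkₐ R J).toLinearMap (Ideal.Quotient.mkₐ R J).toLinearMap)
      (TensorProduct.map (φ : C →ₐ[R] A).toLinearMap (φ : C →ₐ[R] A).toLinearMap (Coalgebra.comul (R := R) b)) = 0
    rw [TensorProduct.map_map, show (Ideal.Quotient.mkₐ R J).toLinearMap ∘ₗ (φ : C →ₐ[R] A).toLinearMap = q.toLinearMap from rfl,
      hq, TensorProduct.map_comp, LinearMap.comp_apply,
      show TensorProduct.map (Coalgebra.counit (R := R) (A := C)) (Coalgebra.counit (R := R) (A := C)) (Coalgebra.comul (R := R) b) = 0 by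
        rw [show TensorProduct.map (Coalgebra.counit (R := R) (A := C)) (Coalgebra.counit (R := R) (A := C)) =
          (LinearMap.lTensor R (Coalgebra.counit (R := R) (A := C))) ∘ₗ LinearMap.rTensor C (Coalgebra.counit (R := R) (A := C)) from
          (LinearMap.lTensor_comp_rTensor ..).symm, LinearMap.comp_apply, Coalgebra.rTensor_counit_comul,
          LinearMap.lTensor_tmul, hb, TensorProduct.tmul_zero],
      map_zero]
  · have h2 := hle ((Ideal.Quotient.mkₐ R J).comp (HopfAlgebra.antipodeAlgHom R A)) (fun b hb => ?_) x hx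
    · exact Ideal.Quotient.eq_zero_iff_mem.1 h2
    · show Ideal.Quotient.mk J (HopfAlgebra.antipode R (φ b)) = 0
      rw [← map_antipode, Ideal.Quotient.eq_zero_iff_mem]
      refine hgen _ ?_
      rw [← hb]
      exact DFunLike.congr_fun (AlgHom.counitAlgHom_comp_antipodeAlgHom (R := R) (A := C)) b

theorem fg_subgroup {M : Type u} [CommGroup M] [Group.FG M] (N : Subgroup M) : Group.FG N := by
  rw [Group.fg_iff_subgroup_fg, Subgroup.fg_iff_add_fg, ← AddSubgroup.toIntSubmodule_toAddSubgroup N.toAddSubgroup,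
    ← Submodule.fg_iff_addSubgroup_fg]
  haveI : Module.Finite ℤ (Additive M) := Module.Finite.iff_addGroup_fg.2 inferInstance
  exact IsNoetherian.noetherian _

/-- A diagonalisable group is of multiplicative type. -/
theorem isMultType_monoidAlgebra (T : Type u) [CommRing T] (P : Type u) [CommGroup P] :
    SGA3b.IsMultType T (MonoidAlgebra T P) :=
  isMultType_of_charts (ι := Fin 1) (fun _ => T) (fun p => ⟨0, p, PrimeSpectrum.ext (Ideal.comap_id _)⟩)
    fun _ => ⟨P, inferInstance, ⟨scalarBialgEquiv T T P⟩⟩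

/-- An algebra map through which a homomorphism of bialgebras factors is one of bialgebras. -/
theorem exists_bialgHom_of_retraction {R C P Q : Type u} [CommRing R] [CommRing C] [Bialgebra R C] [CommRing P]
    [Bialgebra R P] [CommRing Q] [Bialgebra R Q] (i : P →ₐc[R] Q) (r : Q →ₗ[R] P) (hr : ∀ p, r (i p) = p)
    (ψ : C →ₐc[R] Q) (fA : C →ₐ[R] P) (h : ∀ c, i (fA c) = ψ c) : ∃ f : C →ₐc[R] P, ∀ c, i (f c) = ψ c := by
  refine ⟨BialgHom.ofAlgHom fA (AlgHom.ext fun c => ?_) (AlgHom.ext fun c => ?_), fun c => h c⟩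
  · show Coalgebra.counit (R := R) (fA c) = Coalgebra.counit (R := R) c
    rw [← CoalgHomClass.counit_comp_apply i (fA c), h, CoalgHomClass.counit_comp_apply]
  · have hii : ∀ z : P ⊗[R] P, TensorProduct.map r r (TensorProduct.map (i : P →ₗ[R] Q) (i : P →ₗ[R] Q) z) = z :=
      fun z => by
      induction z using TensorProduct.induction_on with
      | zero => simp
      | tmul a b =>
        show r (i a) ⊗ₜ[R] r (i b) = _
        rw [hr, hr]
      | add u w hu hw => rw [map_add, map_add, hu, hw]
    show Algebra.TensorProduct.map fA fA (Coalgebra.comul (R := R) c) = Coalgebra.comul (R := R) (fA c)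
    rw [← hii (Coalgebra.comul (R := R) (fA c)), CoalgHomClass.map_comp_comul_apply, h,
      ← CoalgHomClass.map_comp_comul_apply ψ c, TensorProduct.map_map]
    have e : r ∘ₗ (ψ : C →ₗ[R] Q) = fA.toLinearMap := LinearMap.ext fun d => by
      show r (ψ d) = fA d
      rw [← h, hr]
    rw [e]
    rfl

/-- Coefficients of the image in a quotient through which relations factor. -/
theorem coef_of_factor {T K M P E : Type u} [CommRing T] [CommRing K] [CommMonoid M] [CommMonoid P] [CommMonoid E]
    (f : T →+* K) (q : M →* P) (h : P →* E) (hh : Function.Injective h) (g : M →* E) (hg : ∀ m, h (q m) = g m)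
    (x : MonoidAlgebra T M)
    (hx : MonoidAlgebra.mapRingHom E f (MonoidAlgebra.mapDomainRingHom T g x) = 0) (y : P) :
    f ((MonoidAlgebra.mapDomainRingHom T q x).coeff y) = 0 := by
  have e : ∀ z, MonoidAlgebra.mapDomainRingHom T g z =
      MonoidAlgebra.mapDomain h (MonoidAlgebra.mapDomainRingHom T q z) := fun z => by
    induction z using MonoidAlgebra.induction_linear with
    | zero => simp
    | add u w hu hw => rw [map_add, map_add, hu, hw, MonoidAlgebra.mapDomain_add]
    | single m t => simp only [MonoidAlgebra.mapDomainRingHom_apply, MonoidAlgebra.mapDomain_single, hg]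
  rw [e] at hx
  have h2 := congrArg (fun z => z.coeff (h y)) hx
  simp only [MonoidAlgebra.coeff_mapRingHom, MonoidAlgebra.coeff_zero, Finsupp.zero_apply] at h2
  rwa [show (MonoidAlgebra.mapDomain h (MonoidAlgebra.mapDomainRingHom T q x)).coeff (h y) =
    (MonoidAlgebra.mapDomainRingHom T q x).coeff y from Finsupp.mapDomain_apply hh _ y] at h2

/-- The characters trivial on the closed fibre of a closed subgroup. -/
theorem exists_fibre_subgroup {T : Type u} [CommRing T] [IsLocalRing T] {M : Type u} [CommGroup M] {B : Type u} [CommRing B]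
    [HopfAlgebra T B] (π : MonoidAlgebra T M →ₐc[T] B) :
    ∃ N : Subgroup M, (∀ n ∈ N, ch π n - 1 ∈ (IsLocalRing.maximalIdeal T).map (algebraMap T B)) ∧
      ∀ (P : Type u) [CommGroup P] (q : M →* P), Function.Surjective q → q.ker = N → ∀ x, π x = 0 → ∀ y : P,
        (MonoidAlgebra.mapDomainRingHom T q x).coeff y ∈ IsLocalRing.maximalIdeal T := by
  let K := (IsLocalRing.maximalIdeal T).ResidueField
  let g : M →* K ⊗[T] B := (Algebra.TensorProduct.includeRight : B →ₐ[T] K ⊗[T] B).toMonoidHom.comp (ch π)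
  refine ⟨g.ker, fun n hn => ?_, fun P _ q hq hker x hx y => ?_⟩
  · have h0 : (1 : K) ⊗ₜ[T] (ch π n - 1) = (0 : K ⊗[T] B) := by
      show Algebra.TensorProduct.includeRight (ch π n - 1) = 0
      rw [map_sub, map_one, sub_eq_zero]
      exact hn
    obtain ⟨s, hs, hsm⟩ := exists_smul_mem_map_of_fibre_zero _ h0
    obtain ⟨v, rfl⟩ := IsLocalRing.notMem_maximalIdeal.1 hs
    have h1 := Ideal.mul_mem_left _ (algebraMap T _ ↑v⁻¹) hsm
    rwa [Algebra.smul_def, ← mul_assoc, ← map_mul, Units.inv_mul, map_one, one_mul] at h1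
  · choose σ hσ using hq
    have hgq : ∀ m, g (σ (q m)) = g m := fun m => by
      have : σ (q m) * m⁻¹ ∈ g.ker := by
        rw [← hker, MonoidHom.mem_ker, map_mul, map_inv, hσ, mul_inv_cancel]
      rw [show σ (q m) = σ (q m) * m⁻¹ * m by rw [inv_mul_cancel_right], map_mul, MonoidHom.mem_ker.1 this, one_mul]
    let h : P →* K ⊗[T] B :=
      { toFun := fun p => g (σ p)
        map_one' := by rw [← map_one q, hgq, map_one]
        map_mul' := fun a b => by
          rw [← hσ a, ← hσ b, ← map_mul q, hgq, hgq, hgq, map_mul] }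
    have hinj : Function.Injective h := fun a b hab => by
      have : σ a * (σ b)⁻¹ ∈ q.ker := by
        rw [hker, MonoidHom.mem_ker, map_mul, show g (σ a) = g (σ b) from hab, ← map_mul, mul_inv_cancel, map_one]
      rwa [MonoidHom.mem_ker, map_mul, map_inv, hσ, hσ, mul_inv_eq_one] at this
    exact Ideal.algebraMap_residueField_eq_zero.1 (coef_of_factor (algebraMap T K) q h hinj g hgq x
      (fibre_relation π g (fun _ => rfl) (fun z => isGroupLikeElem_one_tmul (isGroupLikeElem_ch π z)) x hx) y)

section Split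

variable {T : Type u} [CommRing T] {M : Type u} [CommGroup M] (N : Subgroup M)

/-- The inclusion of the group algebra of a subgroup. -/
noncomputable def incl : MonoidAlgebra T N →ₐc[T] MonoidAlgebra T M := MonoidAlgebra.mapDomainBialgHom T N.subtype

/-- The retraction. -/
noncomputable def retr : MonoidAlgebra T M →ₗ[T] MonoidAlgebra T N :=
  open Classical in
  (Finsupp.linearCombination T fun m : M => if h : m ∈ N then MonoidAlgebra.single (⟨m, h⟩ : N) (1 : T) else 0) ∘ₗ
    (MonoidAlgebra.coeffLinearEquiv T).toLinearMap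

theorem retr_single (m : M) (t : T) [Decidable (m ∈ N)] :
    retr N (MonoidAlgebra.single m t) = if h : m ∈ N then MonoidAlgebra.single (⟨m, h⟩ : N) t else 0 := by
  show Finsupp.linearCombination T _ (Finsupp.single m t) = _
  rw [Finsupp.linearCombination_single]
  split
  · rw [MonoidAlgebra.smul_single, smul_eq_mul, mul_one]
  · rw [smul_zero]

theorem incl_single (n : N) (t : T) : incl N (MonoidAlgebra.single n t) = MonoidAlgebra.single (n : M) t :=
  MonoidAlgebra.mapDomainBialgHom_single _ _ _

theorem retr_incl_mul (a : MonoidAlgebra T N) (x : MonoidAlgebra T M) : retr N (incl N a * x) = a * retr N x := by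
  classical
  induction a using MonoidAlgebra.induction_linear with
  | zero => simp
  | add u w hu hw => rw [map_add, add_mul, map_add, hu, hw, add_mul]
  | single n s =>
    induction x using MonoidAlgebra.induction_linear with
    | zero => simp
    | add u w hu hw => rw [mul_add, map_add, hu, hw, map_add, mul_add]
    | single m t =>
      rw [incl_single, MonoidAlgebra.single_mul_single, retr_single, retr_single]
      by_cases hm : m ∈ N
      · rw [dif_pos (N.mul_mem n.2 hm), dif_pos hm, MonoidAlgebra.single_mul_single]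
        rfl
      · rw [dif_neg fun h => hm ((N.mul_mem_cancel_left n.2).1 h), dif_neg hm, mul_zero]

theorem retr_one : retr (T := T) N 1 = 1 := by
  classical
  rw [MonoidAlgebra.one_def, retr_single, dif_pos N.one_mem]
  rfl

theorem retr_incl (a : MonoidAlgebra T N) : retr N (incl N a) = a := by
  rw [← mul_one (incl N a), retr_incl_mul, retr_one, mul_one]

theorem incl_injective : Function.Injective (incl (T := T) N) := Function.LeftInverse.injective (retr_incl N)

variable {C : Type u} [CommRing C] [HopfAlgebra T C]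

/-- Restriction of a homomorphism landing in a group subalgebra. -/
theorem exists_factor (ψ : C →ₐc[T] MonoidAlgebra T M) (h : ∀ c, incl N (retr N (ψ c)) = ψ c) :
    ∃ f : C →ₐc[T] MonoidAlgebra T N, ∀ c, incl N (f c) = ψ c := by
  let fA : C →ₐ[T] MonoidAlgebra T N := AlgHom.ofLinearMap ((retr N).comp (ψ : C →ₐ[T] MonoidAlgebra T M).toLinearMap)
    (incl_injective N (by show incl N (retr N (ψ 1)) = _; rw [h, map_one, map_one]))
    fun a b => incl_injective N (by
      show incl N (retr N (ψ (a * b))) = incl N (retr N (ψ a) * retr N (ψ b))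
      rw [h, map_mul (incl N), h, h, map_mul])
  exact exists_bialgHom_of_retraction (incl N) (retr N) (retr_incl N) ψ fA h

/-- A homomorphism trivial on a subgroup lands in the characters trivial there. -/
theorem incl_retr_of_trivial (ψ : C →ₐc[T] MonoidAlgebra T M)
    (h : ∀ c, MonoidAlgebra.mapDomainBialgHom T (QuotientGroup.mk' N) (ψ c) =
      algebraMap T (MonoidAlgebra T (M ⧸ N)) (Coalgebra.counit c)) (c : C) : incl N (retr N (ψ c)) = ψ c := by
  classical
  let pr : MonoidAlgebra T M →ₐc[T] MonoidAlgebra T (M ⧸ N) := MonoidAlgebra.mapDomainBialgHom T (QuotientGroup.mk' N)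
  let co : MonoidAlgebra T M →ₗ[T] MonoidAlgebra T M :=
    (TensorProduct.rid T _).toLinearMap ∘ₗ TensorProduct.map LinearMap.id (coefL (1 : M ⧸ N)) ∘ₗ
      TensorProduct.map LinearMap.id (pr : MonoidAlgebra T M →ₐ[T] MonoidAlgebra T (M ⧸ N)).toLinearMap ∘ₗ
        Coalgebra.comul
  have h1 : ∀ x, co x = incl N (retr N x) := by
    intro x
    induction x using MonoidAlgebra.induction_linear with
    | zero => simp
    | add u w hu hw => simp only [map_add, hu, hw]
    | single m t =>
      show TensorProduct.rid T _ (TensorProduct.map LinearMap.id (coefL (1 : M ⧸ N))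
        (TensorProduct.map LinearMap.id (pr : MonoidAlgebra T M →ₐ[T] MonoidAlgebra T (M ⧸ N)).toLinearMap
          (Coalgebra.comul (R := T) (MonoidAlgebra.single m t)))) = _
      rw [MonoidAlgebra.comul_single, CommSemiring.comul_apply, retr_single]
      simp only [TensorProduct.map_tmul, MonoidAlgebra.lsingle_apply, LinearMap.id_apply]
      rw [show (pr : MonoidAlgebra T M →ₐ[T] MonoidAlgebra T (M ⧸ N)).toLinearMap (MonoidAlgebra.single m t) =
        MonoidAlgebra.single (m : M ⧸ N) t from MonoidAlgebra.mapDomainBialgHom_single _ _ _, coefL_single,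
        TensorProduct.rid_tmul]
      by_cases hm : m ∈ N
      · rw [if_pos ((QuotientGroup.eq_one_iff m).2 hm), dif_pos hm, incl_single, MonoidAlgebra.smul_single,
          smul_eq_mul, mul_one]
      · rw [if_neg (mt (QuotientGroup.eq_one_iff m).1 hm), dif_neg hm, zero_smul, map_zero]
  rw [← h1]
  show TensorProduct.rid T _ (TensorProduct.map LinearMap.id (coefL (1 : M ⧸ N))
    (TensorProduct.map LinearMap.id (pr : MonoidAlgebra T M →ₐ[T] MonoidAlgebra T (M ⧸ N)).toLinearMap
      (Coalgebra.comul (R := T) (ψ c)))) = _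
  rw [← CoalgHomClass.map_comp_comul_apply ψ c, TensorProduct.map_map, TensorProduct.map_map]
  let Ψ := (ψ : C →ₐ[T] MonoidAlgebra T M).toLinearMap
  have h2 : coefL (1 : M ⧸ N) ∘ₗ (pr : MonoidAlgebra T M →ₐ[T] MonoidAlgebra T (M ⧸ N)).toLinearMap ∘ₗ Ψ =
      Coalgebra.counit := LinearMap.ext fun d => by
    show coefL (1 : M ⧸ N) (pr (ψ d)) = _
    rw [show pr (ψ d) = algebraMap T _ (Coalgebra.counit d) from h d, MonoidAlgebra.coe_algebraMap, Function.comp_apply,
      coefL_single, if_pos rfl]
    rfl
  show TensorProduct.rid T _ (TensorProduct.map Ψ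
    (coefL (1 : M ⧸ N) ∘ₗ (pr : MonoidAlgebra T M →ₐ[T] MonoidAlgebra T (M ⧸ N)).toLinearMap ∘ₗ Ψ)
      (Coalgebra.comul (R := T) c)) = ψ c
  rw [h2, show TensorProduct.map Ψ (Coalgebra.counit (R := T) (A := C)) =
    LinearMap.rTensor T Ψ ∘ₗ LinearMap.lTensor C (Coalgebra.counit (R := T)) from (LinearMap.rTensor_comp_lTensor ..).symm,
    LinearMap.comp_apply, Coalgebra.lTensor_counit_comul, LinearMap.rTensor_tmul, TensorProduct.rid_tmul, one_smul]
  rfl

end Split

/-- The kernel of a homomorphism of a diagonalisable group over a local ring is diagonalisable. -/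
theorem exists_subgroup_of_hom {T : Type u} [CommRing T] [IsLocalRing T] {M : Type u} [CommGroup M] [Group.FG M]
    {C : Type u} [CommRing C] [HopfAlgebra T C] (hC : Algebra.FiniteType T C) (ψ : C →ₐc[T] MonoidAlgebra T M) :
    ∃ N : Subgroup M, Ideal.map ψ (RingHom.ker (Bialgebra.counitAlgHom T C)) =
      Ideal.span ((fun h => MonoidAlgebra.single h (1 : T) - 1) '' (N : Set M)) := by
  classical
  set J := Ideal.map ψ (RingHom.ker (Bialgebra.counitAlgHom T C)) with hJ
  haveI : J.IsHopfIdeal T := isHopfIdeal_map_aug ψ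
  let π : MonoidAlgebra T M →ₐc[T] MonoidAlgebra T M ⧸ J := Bialgebra.Quotient.mkBialgHom (R := T) J
  obtain ⟨N, hNm, hNq⟩ := exists_fibre_subgroup π
  refine ⟨N, ?_⟩
  let χ : C →ₐc[T] MonoidAlgebra T (M ⧸ N) := (MonoidAlgebra.mapDomainBialgHom T (QuotientGroup.mk' N)).comp ψ
  have hsub : ∀ x : MonoidAlgebra T M, π x = 0 → ∀ y : M ⧸ N,
      coefL y (MonoidAlgebra.mapDomainBialgHom T (QuotientGroup.mk' N) x) ∈ IsLocalRing.maximalIdeal T := fun x hx y =>
    hNq (M ⧸ N) (QuotientGroup.mk' N) (QuotientGroup.mk'_surjective N) (QuotientGroup.ker_mk' N) x hx y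
  have hmk : ∀ x, π x = 0 ↔ x ∈ J := fun x => Ideal.Quotient.eq_zero_iff_mem
  have hdecC : ∀ c, ψ (c - algebraMap T C (Coalgebra.counit c)) ∈ J := fun c =>
    Ideal.mem_map_of_mem _ (by
      show Bialgebra.counitAlgHom T C (c - algebraMap T C (Coalgebra.counit c)) = 0
      rw [map_sub, AlgHom.commutes]
      exact sub_self _)
  have htriv : ∀ c, χ c = algebraMap T (MonoidAlgebra T (M ⧸ N)) (Coalgebra.counit c) := by
    refine eq_of_agree_maximalIdeal (isMultType_monoidAlgebra T (M ⧸ N)) hC χ
      ((Bialgebra.unitBialgHom T _).comp (Bialgebra.counitBialgHom T C)) (fun c => ?_)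
      fun R' _ _ P _ e p => commute_coef_trivial e χ p
    refine mem_map_of_forall_coef_mem fun y => ?_
    have h := hsub _ ((hmk _).2 (hdecC c)) y
    rw [map_sub, map_sub, AlgHomClass.commutes ψ, AlgHomClass.commutes] at h
    exact h
  obtain ⟨f, hf⟩ := exists_factor N ψ (incl_retr_of_trivial N ψ htriv)
  -- the subgroup cut out inside the characters of `N`
  set J' := Ideal.map f (RingHom.ker (Bialgebra.counitAlgHom T C)) with hJ'
  haveI : J'.IsHopfIdeal T := isHopfIdeal_map_aug f
  haveI : Group.FG N := fg_subgroup N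
  let π' : MonoidAlgebra T N →ₐc[T] MonoidAlgebra T N ⧸ J' := Bialgebra.Quotient.mkBialgHom (R := T) J'
  have hπ' : Function.Surjective π' := Ideal.Quotient.mk_surjective
  haveI : Algebra.FiniteType T (MonoidAlgebra T N) :=
    MonoidAlgebra.finiteType_iff_fg.2 (Group.fg_iff_monoid_fg.1 inferInstance)
  haveI : Algebra.FiniteType T (MonoidAlgebra T N ⧸ J') :=
    Algebra.FiniteType.of_surjective (Ideal.Quotient.mkₐ T J') Ideal.Quotient.mk_surjective
  set mN := (IsLocalRing.maximalIdeal T).map (algebraMap T (MonoidAlgebra T N)) with hmN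
  have hretr : ∀ x ∈ J ⊔ (IsLocalRing.maximalIdeal T).map (algebraMap T (MonoidAlgebra T M)), retr N x ∈ J' ⊔ mN := by
    let S : Submodule (MonoidAlgebra T N) (MonoidAlgebra T N) := J' ⊔ mN
    intro x hx
    obtain ⟨u, hu, w, hw, rfl⟩ := Submodule.mem_sup.1 hx
    rw [map_add]
    refine add_mem (Ideal.mem_sup_left ?_) (Ideal.mem_sup_right ?_)
    · suffices h : ∀ a : MonoidAlgebra T M, retr N (a * u) ∈ J' by simpa using h 1
      clear hx
      induction hu using Submodule.span_induction with
      | mem y hy =>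
        obtain ⟨c, hc, rfl⟩ := hy
        intro a
        rw [show (ψ c : MonoidAlgebra T M) = incl N (f c) from (hf c).symm, mul_comm, retr_incl_mul]
        exact Ideal.mul_mem_right _ _ (Ideal.mem_map_of_mem _ hc)
      | zero => intro a; simp
      | add p q _ _ hp hq => intro a; rw [mul_add, map_add]; exact add_mem (hp a) (hq a)
      | smul b p _ hp => intro a; rw [smul_eq_mul, ← mul_assoc]; exact hp _
    · suffices h : ∀ a : MonoidAlgebra T M, retr N (a * w) ∈ mN by simpa using h 1
      clear hx
      induction hw using Submodule.span_induction with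
      | mem y hy =>
        obtain ⟨t, ht, rfl⟩ := hy
        intro a
        rw [mul_comm, ← Algebra.smul_def, map_smul, Algebra.smul_def]
        exact Ideal.mul_mem_right _ _ (Ideal.mem_map_of_mem _ ht)
      | zero => intro a; simp
      | add p q _ _ hp hq => intro a; rw [mul_add, map_add]; exact add_mem (hp a) (hq a)
      | smul b p _ hp => intro a; rw [smul_eq_mul, ← mul_assoc]; exact hp _
  have hN1 : ∀ n : N, MonoidAlgebra.single n (1 : T) - 1 ∈ J' ⊔ mN := by
    intro n
    have h1 := hNm n n.2
    have h2 : MonoidAlgebra.single (n : M) (1 : T) - 1 ∈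
        J ⊔ (IsLocalRing.maximalIdeal T).map (algebraMap T (MonoidAlgebra T M)) := by
      rw [sup_comm, ← Ideal.mk_ker (I := J), ← Ideal.comap_map_of_surjective' _ Ideal.Quotient.mk_surjective,
        Ideal.mem_comap, Ideal.map_map]
      exact h1
    have h3 := hretr _ h2
    rwa [← incl_single, ← map_one (incl N), ← map_sub, retr_incl] at h3
  have hcl : ∀ b : MonoidAlgebra T N ⧸ J', Coalgebra.counit (R := T) b = 0 →
      b ∈ (IsLocalRing.maximalIdeal T).map (algebraMap T (MonoidAlgebra T N ⧸ J')) := by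
    have h : RingHom.ker (Bialgebra.counitAlgHom T (MonoidAlgebra T N)) ≤ J' ⊔ mN := by
      rw [aug_monoidAlgebra, Ideal.span_le]
      rintro _ ⟨n, rfl⟩
      exact hN1 n
    intro b hb
    obtain ⟨x, rfl⟩ := Ideal.Quotient.mk_surjective b
    have h1 := Ideal.mem_map_of_mem (Ideal.Quotient.mk J') (h hb)
    rw [Ideal.map_sup, Ideal.map_quotient_self, bot_sup_eq, hmN, Ideal.map_map] at h1
    exact h1
  have hkey : ∀ n : N, MonoidAlgebra.single n (1 : T) - 1 ∈ J' := by
    intro n
    refine Ideal.Quotient.eq_zero_iff_mem.1 ?_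
    refine (eq_algebraMap_counit π' hπ' hcl _).trans ?_
    rw [show Coalgebra.counit (R := T) (Ideal.Quotient.mk J' (MonoidAlgebra.single n (1 : T) - 1)) =
      Bialgebra.counitAlgHom T (MonoidAlgebra T N) (MonoidAlgebra.single n (1 : T) - 1) from rfl, map_sub, map_one,
      show Bialgebra.counitAlgHom T (MonoidAlgebra T N) (MonoidAlgebra.single n (1 : T)) = 1 from
        (MonoidAlgebra.counit_single (R := T) n (1 : T)).trans (CommSemiring.counit_apply T 1), sub_self, map_zero]
  refine le_antisymm (Ideal.map_le_iff_le_comap.2 fun c hc => ?_) (Ideal.span_le.2 ?_)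
  · rw [Ideal.mem_comap, ← ker_mapDomain]
    show χ c = 0
    rw [htriv, show Coalgebra.counit (R := T) c = 0 from hc, map_zero]
  · rintro _ ⟨n, hn, rfl⟩
    have h := Ideal.mem_map_of_mem ((incl (T := T) N : MonoidAlgebra T N →ₐc[T] MonoidAlgebra T M) : MonoidAlgebra T N →ₐ[T] MonoidAlgebra T M).toRingHom (hkey ⟨n, hn⟩)
    have hle : J'.map ((incl (T := T) N : MonoidAlgebra T N →ₐc[T] MonoidAlgebra T M) :
        MonoidAlgebra T N →ₐ[T] MonoidAlgebra T M).toRingHom ≤ J := by
      refine Ideal.map_le_iff_le_comap.2 (Ideal.map_le_iff_le_comap.2 fun c hc => ?_)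
      show incl N (f c) ∈ J
      rw [hf]
      exact Ideal.mem_map_of_mem _ hc
    have h' : incl N (MonoidAlgebra.single (⟨n, hn⟩ : N) (1 : T) - 1) ∈ J := hle h
    rw [map_sub, map_one, incl_single] at h'
    exact h'

end Groth.Agent.H19Mult.KernelLocal
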