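import Groth.Agent.H19Mult.Basic

/-!
Group-like elements of `T ⊗[R] A`, functorially in the `R`-algebra `T`; those of a group algebra
are given by finite families of orthogonal idempotents.
-/

set_option autoImplicit false
set_option linter.style.haveILetI false
set_option backward.isDefEq.respectTransparency false

universe u

open TensorProduct Coalgebra

namespace Groth.Agent.H19Mult

variable {R : Type u} [CommRing R] {A : Type u} [CommRing A] [HopfAlgebra R A]

/-- The map `T ⊗ A → T' ⊗ A`. -/
noncomputable def mapA {T T' : Type u} [CommRing T] [Algebra R T] [CommRing T'] [Algebra R T']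
    (g : T →ₐ[R] T') : T ⊗[R] A →ₐ[R] T' ⊗[R] A :=
  Algebra.TensorProduct.map g (AlgHom.id R A)

@[simp] theorem mapA_tmul {T T' : Type u} [CommRing T] [Algebra R T] [CommRing T'] [Algebra R T']
    (g : T →ₐ[R] T') (t : T) (a : A) : mapA g (t ⊗ₜ a) = g t ⊗ₜ a := rfl

theorem mapA_mapA {T T' T'' : Type u} [CommRing T] [Algebra R T] [CommRing T'] [Algebra R T']
    [CommRing T''] [Algebra R T''] (g : T →ₐ[R] T') (h : T' →ₐ[R] T'') (x : T ⊗[R] A) :
    mapA h (mapA g x) = mapA (h.comp g) x := by
  induction x using TensorProduct.induction_on with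
  | zero => simp
  | tmul t a => simp
  | add u w hu hw => simp only [map_add, hu, hw]

variable (T : Type u) [CommRing T] [Algebra R T]

/-- Comultiplication after base change, with values in `T ⊗ (A ⊗ A)`. -/
noncomputable def comulT : T ⊗[R] A →ₐ[T] T ⊗[R] (A ⊗[R] A) :=
  Algebra.TensorProduct.map (AlgHom.id T T) (Bialgebra.comulAlgHom R A)

/-- The first inclusion. -/
noncomputable def inl2 : T ⊗[R] A →ₐ[T] T ⊗[R] (A ⊗[R] A) :=
  Algebra.TensorProduct.map (AlgHom.id T T) Algebra.TensorProduct.includeLeft

/-- The second inclusion. -/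
noncomputable def inr2 : T ⊗[R] A →ₐ[T] T ⊗[R] (A ⊗[R] A) :=
  Algebra.TensorProduct.map (AlgHom.id T T) Algebra.TensorProduct.includeRight

/-- `(T ⊗ A) ⊗[T] (T ⊗ A) → T ⊗ (A ⊗ A)`. -/
noncomputable def psi : (T ⊗[R] A) ⊗[T] (T ⊗[R] A) →ₐ[T] T ⊗[R] (A ⊗[R] A) :=
  Algebra.TensorProduct.lift (inl2 T) (inr2 T) fun _ _ => Commute.all _ _

theorem psi_tmul (x y : T ⊗[R] A) : psi T (x ⊗ₜ y) = inl2 T x * inr2 T y :=
  Algebra.TensorProduct.lift_tmul _ _ _ _ _

theorem psi_injective : Function.Injective (psi T (R := R) (A := A)) := by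
  let f : A →ₐ[R] (T ⊗[R] A) ⊗[T] (T ⊗[R] A) :=
    ((Algebra.TensorProduct.includeLeft (R := T) (A := T ⊗[R] A) (B := T ⊗[R] A) :
      T ⊗[R] A →ₐ[T] _).restrictScalars R).comp Algebra.TensorProduct.includeRight
  let g : A →ₐ[R] (T ⊗[R] A) ⊗[T] (T ⊗[R] A) :=
    ((Algebra.TensorProduct.includeRight (R := T) (A := T ⊗[R] A) (B := T ⊗[R] A) :
      T ⊗[R] A →ₐ[T] _).restrictScalars R).comp Algebra.TensorProduct.includeRight
  let φ : T ⊗[R] (A ⊗[R] A) →ₐ[T] (T ⊗[R] A) ⊗[T] (T ⊗[R] A) :=
    Algebra.TensorProduct.lift (Algebra.ofId T _)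
      (Algebra.TensorProduct.lift f g fun _ _ => Commute.all _ _) fun _ _ => Commute.all _ _
  have h : φ.comp (psi T) = AlgHom.id T _ := by
    ext a <;> simp [φ, f, g, psi, inl2, inr2, ← Algebra.TensorProduct.one_def]
  exact Function.LeftInverse.injective (g := φ) (AlgHom.congr_fun h)

/-- Group-like in `T ⊗ A`, in a form functorial in `T`. -/
def IsGL {T : Type u} [CommRing T] [Algebra R T] (x : T ⊗[R] A) : Prop :=
  counit (R := T) x = 1 ∧ comulT T x = inl2 T x * inr2 T x

variable {T}

theorem psi_comul (x : T ⊗[R] A) : psi T (comul (R := T) x) = comulT T x := by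
  induction x using TensorProduct.induction_on with
  | zero => simp
  | add u w hu hw => simp only [map_add, hu, hw]
  | tmul t a =>
    show _ = t ⊗ₜ[R] (comul (R := R) a)
    simp only [TensorProduct.comul_tmul, CommSemiring.comul_apply]
    generalize CoalgebraStruct.comul (R := R) a = z
    induction z using TensorProduct.induction_on with
    | zero => simp
    | tmul p q => simp [psi, inl2, inr2]
    | add u w hu hw => simp only [TensorProduct.tmul_add, map_add, hu, hw]

theorem isGL_iff (x : T ⊗[R] A) : IsGL x ↔ IsGroupLikeElem T x := by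
  refine ⟨fun h => ⟨h.1, psi_injective T ?_⟩, fun h => ⟨h.counit_eq_one, ?_⟩⟩
  · rw [psi_comul, psi_tmul, h.2]
  · rw [← psi_comul, h.comul_eq_tmul_self, psi_tmul]

section Map

variable {T' : Type u} [CommRing T'] [Algebra R T'] (g : T →ₐ[R] T')

theorem counit_mapA (x : T ⊗[R] A) : counit (R := T') (mapA g x) = g (counit (R := T) x) := by
  induction x using TensorProduct.induction_on with
  | zero => simp
  | tmul t a => simp [Algebra.smul_def]
  | add u w hu hw => simp only [map_add, hu, hw]

/-- The map `T ⊗ (A ⊗ A) → T' ⊗ (A ⊗ A)`. -/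
noncomputable def mapA2 : T ⊗[R] (A ⊗[R] A) →ₐ[R] T' ⊗[R] (A ⊗[R] A) :=
  Algebra.TensorProduct.map g (AlgHom.id R (A ⊗[R] A))

theorem comulT_mapA (x : T ⊗[R] A) : comulT T' (mapA g x) = mapA2 g (comulT T x) := by
  induction x using TensorProduct.induction_on with
  | zero => simp
  | tmul t a => rfl
  | add u w hu hw => simp only [map_add, hu, hw]

theorem inl2_mapA (x : T ⊗[R] A) : inl2 T' (mapA g x) = mapA2 g (inl2 T x) := by
  induction x using TensorProduct.induction_on with
  | zero => simp
  | tmul t a => rfl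
  | add u w hu hw => simp only [map_add, hu, hw]

theorem inr2_mapA (x : T ⊗[R] A) : inr2 T' (mapA g x) = mapA2 g (inr2 T x) := by
  induction x using TensorProduct.induction_on with
  | zero => simp
  | tmul t a => rfl
  | add u w hu hw => simp only [map_add, hu, hw]

theorem IsGL.map {x : T ⊗[R] A} (h : IsGL x) : IsGL (mapA g x) := by
  refine ⟨?_, ?_⟩
  · rw [counit_mapA, h.1, map_one]
  · rw [comulT_mapA, inl2_mapA, inr2_mapA, h.2, map_mul]

theorem IsGL.of_mapA_injective (hg : Function.Injective g)
    (hg2 : Function.Injective (mapA2 (A := A) g)) {x : T ⊗[R] A} (h : IsGL (mapA g x)) : IsGL x := by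
  refine ⟨hg ?_, hg2 ?_⟩
  · rw [← counit_mapA, h.1, map_one]
  · rw [← comulT_mapA, map_mul, ← inl2_mapA, ← inr2_mapA, h.2]

end Map

/-! ### Group algebras -/

section MonoidAlgebra

variable {S : Type u} [CommRing S] {N : Type u} [CommGroup N]

theorem groupLike_coef_mul [DecidableEq N] {y : MonoidAlgebra S N} (hy : IsGroupLikeElem S y) (m n : N) :
    coefL m y * coefL n y = if m = n then coefL m y else 0 := by
  have key : ∀ x : MonoidAlgebra S N, LinearMap.mul' S S (TensorProduct.map (coefL m) (coefL n)
      (CoalgebraStruct.comul (R := S) x)) = if m = n then coefL m x else 0 := by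
    intro x
    induction x using MonoidAlgebra.induction_linear with
    | zero => simp
    | add u w hu hw =>
      simp only [map_add, hu, hw]
      split <;> simp
    | single x r =>
      rw [MonoidAlgebra.comul_single, CommSemiring.comul_apply]
      simp only [TensorProduct.map_tmul, MonoidAlgebra.lsingle_apply, coefL_single, LinearMap.mul'_apply]
      by_cases h1 : x = m <;> by_cases h2 : x = n <;> by_cases h3 : m = n <;> simp_all
  have h := key y
  rw [hy.comul_eq_tmul_self] at h
  simpa using h

theorem groupLike_coef_idem {y : MonoidAlgebra S N} (hy : IsGroupLikeElem S y) (m : N) :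
    coefL m y * coefL m y = coefL m y := by
  classical
  rw [groupLike_coef_mul hy, if_pos rfl]

theorem idem_eq_of_isNilpotent_sub {a b : S} (ha : a * a = a) (hb : b * b = b) (h : IsNilpotent (a - b)) :
    a = b := by
  have h3 : (a - b) * ((a - b) * (a - b)) = a - b := by linear_combination (a - 3 * b + 1) * ha + (3 * a - b - 1) * hb
  obtain ⟨n, hn⟩ := h
  have : ∀ k : ℕ, (a - b) ^ (2 * k + 1) = a - b := by
    intro k
    induction k with
    | zero => simp
    | succ k ih =>
      calc (a - b) ^ (2 * (k + 1) + 1) = (a - b) ^ (2 * k + 1) * ((a - b) * (a - b)) := by ring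
        _ = a - b := by rw [ih, h3]
  refine sub_eq_zero.1 ?_
  rw [← this n]
  exact pow_eq_zero_of_le (by omega) hn

theorem groupLike_eq_of_isNilpotent {y z : MonoidAlgebra S N} (hy : IsGroupLikeElem S y)
    (hz : IsGroupLikeElem S z) (h : ∀ m, IsNilpotent (coefL m y - coefL m z)) : y = z :=
  ext_coef fun m => idem_eq_of_isNilpotent_sub (groupLike_coef_idem hy m) (groupLike_coef_idem hz m) (h m)

theorem isGroupLikeElem_of_complete {ι : Type u} [Fintype ι] {e : ι → S}
    (he : CompleteOrthogonalIdempotents e) (m : ι → N) :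
    IsGroupLikeElem S (∑ i, MonoidAlgebra.single (m i) (e i)) where
  counit_eq_one := by
    rw [map_sum]
    simpa using he.complete
  comul_eq_tmul_self := by
    classical
    have h : ∀ i, MonoidAlgebra.single (m i) (e i) = e i • MonoidAlgebra.single (m i) (1 : S) := fun i => by
      rw [MonoidAlgebra.smul_single, smul_eq_mul, mul_one]
    simp only [h, map_sum, map_smul, TensorProduct.sum_tmul, TensorProduct.tmul_sum,
      ← TensorProduct.smul_tmul', TensorProduct.tmul_smul]
    refine Finset.sum_congr rfl fun i _ => ?_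
    rw [Finset.smul_sum, Finset.sum_eq_single i (fun j _ hj => ?_) (by simp)]
    · rw [smul_smul, (he.idem i).eq]
      simp [MonoidAlgebra.comul_single]
    · rw [smul_smul]
      first
        | rw [he.ortho hj, zero_smul]
        | rw [he.ortho hj.symm, zero_smul]

/-- Group-like elements of a group algebra lift along nilpotent thickenings. -/
theorem exists_groupLike_lift {S₀ : Type u} [CommRing S₀] (g : S →+* S₀) (hg : Function.Surjective g)
    (hker : ∀ x ∈ RingHom.ker g, IsNilpotent x) {y₀ : MonoidAlgebra S₀ N} (hy : IsGroupLikeElem S₀ y₀) :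
    ∃ y : MonoidAlgebra S N, IsGroupLikeElem S y ∧ ∀ m, g (coefL m y) = coefL m y₀ := by
  classical
  let ι := {m : N // m ∈ y₀.coeff.support}
  let e₀ : ι → S₀ := fun i => coefL i.1 y₀
  have he₀ : CompleteOrthogonalIdempotents e₀ := by
    refine ⟨⟨fun i => groupLike_coef_idem hy _, fun i j hij => ?_⟩, ?_⟩
    · show coefL i.1 y₀ * coefL j.1 y₀ = 0
      rw [groupLike_coef_mul hy, if_neg fun h => hij (Subtype.ext h)]
    · have hsum := congrArg (counit (R := S₀)) (MonoidAlgebra.sum_coeff_single y₀)
      rw [hy.counit_eq_one, map_finsuppSum] at hsum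
      simp only [MonoidAlgebra.counit_single, CommSemiring.counit_apply] at hsum
      rw [Finset.univ_eq_attach]
      exact (Finset.sum_attach y₀.coeff.support (fun m => coefL m y₀)).trans hsum
  obtain ⟨e, he, hee⟩ := CompleteOrthogonalIdempotents.lift_of_isNilpotent_ker g hker he₀
    fun i => RingHom.mem_range.2 (hg _)
  refine ⟨∑ i, MonoidAlgebra.single i.1 (e i), isGroupLikeElem_of_complete he fun i => i.1, fun m => ?_⟩
  rw [map_sum, map_sum]
  simp only [coefL_single]
  by_cases hm : m ∈ y₀.coeff.support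
  · rw [Finset.sum_eq_single ⟨m, hm⟩]
    · rw [if_pos rfl]; exact congrFun hee ⟨m, hm⟩
    · intro j _ hj
      rw [if_neg fun h => hj (Subtype.ext h), map_zero]
    · simp
  · rw [Finset.sum_eq_zero]
    · exact (Finsupp.notMem_support_iff.1 hm).symm
    · intro j _
      rw [if_neg fun h : j.1 = m => hm (by rw [← h]; exact j.2), map_zero]

end MonoidAlgebra

end Groth.Agent.H19Mult
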