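import Groth.Agent.H19Mult.NilFlat
import Groth.Agent.H19Mult.Charts
import Groth.Agent.H19Mult.BaseChange
import Groth.Agent.H9Hens.EtaleQuotLift

/-!
Truncations of a Hopf algebra which is flat near `V(I)` and of multiplicative type modulo `I`.
-/

set_option autoImplicit false
set_option linter.style.haveILetI false
set_option backward.isDefEq.respectTransparency false

universe u

open TensorProduct

namespace Groth.Agent.H19Mult

variable {A : Type u} [CommRing A] {C : Type u} [CommRing C] [HopfAlgebra A C] (I : Ideal A)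

/-- Truncations are flat. -/
theorem flat_truncation
    (hfl : ∀ (q : Ideal C) [q.IsPrime], Ideal.map (algebraMap A C) I ≤ q → Module.Flat A (Localization.AtPrime q))
    (n : ℕ) : Module.Flat (A ⧸ I ^ (n + 1)) ((A ⧸ I ^ (n + 1)) ⊗[A] C) := by
  let J := I.map (algebraMap A C)
  let N : Submonoid C := (⊥ : Submonoid (C ⧸ J)).comap (Ideal.Quotient.mk J : C →* C ⧸ J)
  let C' := Localization N
  have hN : ∀ x, x ∈ N ↔ Ideal.Quotient.mk J x = 1 := fun x => by
    show Ideal.Quotient.mk J x ∈ (⊥ : Submonoid (C ⧸ J)) ↔ _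
    exact Submonoid.mem_bot
  have hfl' : Module.Flat A C' := by
    refine Module.flat_of_isLocalized_maximal (R := A) C' C' (fun Q => Localization.AtPrime Q)
      (fun Q _ => Algebra.linearMap C' (Localization.AtPrime Q)) fun Q hQ => ?_
    let q := Q.comap (algebraMap C C')
    have hJq : J ≤ q := fun j hj => by
      by_contra hjQ
      obtain ⟨c', hc'⟩ := Ideal.Quotient.mk_surjective (I := Q) (Ideal.Quotient.mk Q (algebraMap C C' j))
      have hne : Ideal.Quotient.mk Q (algebraMap C C' j) ≠ 0 := fun h0 => hjQ ((Ideal.Quotient.eq_zero_iff_mem (I := Q)).1 h0)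
      haveI : IsField (C' ⧸ Q) := (Ideal.Quotient.maximal_ideal_iff_isField_quotient Q).1 hQ
      obtain ⟨b, hb⟩ := this.mul_inv_cancel hne
      obtain ⟨b, rfl⟩ := Ideal.Quotient.mk_surjective b
      obtain ⟨⟨c, s⟩, hcs⟩ := IsLocalization.surj N b
      have hmem : ((s : C) - j * c) ∈ N := (hN _).2 (by
        rw [map_sub, map_mul, (hN _).1 s.2, Ideal.Quotient.eq_zero_iff_mem.2 hj, zero_mul, sub_zero])
      refine hQ.ne_top (Ideal.eq_top_of_isUnit_mem _ ?_ (IsLocalization.map_units C' ⟨_, hmem⟩))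
      rw [← Ideal.Quotient.eq_zero_iff_mem, map_sub, map_sub, map_mul (algebraMap C C'), ← hcs, map_mul, map_mul,
        ← mul_assoc, hb, one_mul, sub_self]
    haveI := hfl q hJq
    haveI : IsLocalization.AtPrime (Localization.AtPrime Q) q :=
      IsLocalization.isLocalization_isLocalization_atPrime_isLocalization (T := Localization.AtPrime Q) N Q
    exact Module.Flat.of_linearEquiv
      (((IsLocalization.algEquiv q.primeCompl (Localization.AtPrime q) (Localization.AtPrime Q)).restrictScalars A).toLinearEquiv.symm)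
  let R := A ⧸ I ^ (n + 1)
  have hu : ∀ x : N, IsUnit ((Algebra.TensorProduct.includeRight : C →ₐ[A] R ⊗[A] C) x) := fun x => by
    have hx : (x : C) - 1 ∈ J := Ideal.Quotient.eq.1 ((hN _).1 x.2 |>.trans (map_one _).symm)
    have hnil : IsNilpotent ((Algebra.TensorProduct.includeRight : C →ₐ[A] R ⊗[A] C) ((x : C) - 1)) := by
      refine mem_nilradical.1 ((Ideal.map_le_iff_le_comap.1 (?_ : J.map
        (Algebra.TensorProduct.includeRight : C →ₐ[A] R ⊗[A] C).toRingHom ≤ nilradical _)) hx)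
      rw [Ideal.map_map, AlgHom.toRingHom_eq_coe, AlgHom.comp_algebraMap, IsScalarTower.algebraMap_eq A R (R ⊗[A] C),
        ← Ideal.map_map]
      refine Ideal.map_le_iff_le_comap.2 fun r hr => mem_nilradical.2 (IsNilpotent.map ⟨n + 1, ?_⟩ _)
      have : (I.map (algebraMap A R)) ^ (n + 1) = ⊥ := by
        rw [← Ideal.map_pow, Ideal.map_eq_bot_iff_le_ker]
        exact (Ideal.mk_ker (I := I ^ (n + 1))).ge
      exact (Ideal.mem_bot).1 (this ▸ Ideal.pow_mem_pow hr (n + 1))
    have := hnil.isUnit_add_one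
    rwa [map_sub, map_one, sub_add_cancel] at this
  let Finv : C' →ₐ[A] R ⊗[A] C :=
    IsLocalization.liftAlgHom (M := N) (f := (Algebra.TensorProduct.includeRight : C →ₐ[A] R ⊗[A] C)) hu
  let G : R ⊗[A] C →ₐ[R] R ⊗[A] C' :=
    Algebra.TensorProduct.map (AlgHom.id R R) (IsScalarTower.toAlgHom A C C')
  let G' : R ⊗[A] C' →ₐ[R] R ⊗[A] C :=
    Algebra.TensorProduct.lift (Algebra.ofId R _) Finv fun _ _ => Commute.all _ _
  have h1 : G'.comp G = AlgHom.id R _ := by
    ext c
    simp [G, G', Finv]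
  have h2 : G.comp G' = AlgHom.id R _ := by
    refine Algebra.TensorProduct.ext (Subsingleton.elim _ _) ?_
    refine IsLocalization.algHom_ext N ?_
    refine AlgHom.ext fun c => ?_
    show G (G' ((1 : R) ⊗ₜ[A] algebraMap C C' c)) = (1 : R) ⊗ₜ[A] algebraMap C C' c
    simp [G, G', Finv, IsLocalization.lift_eq]
  exact Module.Flat.of_linearEquiv (AlgEquiv.ofAlgHom G G' h2 h1).toLinearEquiv

/-- Truncations are of multiplicative type. -/
theorem isMultType_truncation
    (hfl : ∀ (q : Ideal C) [q.IsPrime], Ideal.map (algebraMap A C) I ≤ q → Module.Flat A (Localization.AtPrime q))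
    (h0 : SGA3b.IsQuasiIsotrivial (A ⧸ I) ((A ⧸ I) ⊗[A] C)) (n : ℕ) :
    SGA3b.IsMultType (A ⧸ I ^ (n + 1)) ((A ⧸ I ^ (n + 1)) ⊗[A] C) := by
  classical
  obtain ⟨s, hs, hd⟩ := h0
  obtain ⟨s', hs's, hs'⟩ := (Ideal.span_eq_top_iff_finite s).1 hs
  let R := A ⧸ I ^ (n + 1)
  haveI := flat_truncation I hfl n
  let g : R →ₐ[A] A ⧸ I := Ideal.Quotient.factorₐ A (Ideal.pow_le_self n.succ_ne_zero)
  letI : Algebra R (A ⧸ I) := g.toRingHom.toAlgebra
  haveI : IsScalarTower A R (A ⧸ I) := IsScalarTower.of_algebraMap_eq fun a => (g.commutes a).symm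
  have hgs : Function.Surjective (algebraMap R (A ⧸ I)) := fun x => by
    obtain ⟨a, rfl⟩ := Ideal.Quotient.mk_surjective x
    exact ⟨algebraMap A R a, (IsScalarTower.algebraMap_apply A R (A ⧸ I) a).symm⟩
  let K := RingHom.ker (algebraMap R (A ⧸ I))
  have hK : K ≤ I.map (algebraMap A R) := fun x hx => by
    obtain ⟨a, rfl⟩ := Ideal.Quotient.mk_surjective x
    refine Ideal.mem_map_of_mem _ (Ideal.Quotient.eq_zero_iff_mem.1 ?_)
    exact (IsScalarTower.algebraMap_apply A R (A ⧸ I) a).trans hx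
  have hKn : IsNilpotent K := ⟨n + 1, by
    rw [Ideal.zero_eq_bot, eq_bot_iff]
    refine (Ideal.pow_right_mono hK (n + 1)).trans ?_
    rw [← Ideal.map_pow, Ideal.map_le_iff_le_comap]
    exact fun a ha => Ideal.Quotient.eq_zero_iff_mem.2 ha⟩
  have key : ∀ f : {x // x ∈ s'}, ∃ (S : Type u) (_ : CommRing S) (_ : Algebra R S), Algebra.Etale R S ∧
      SGA3b.IsDiag S (S ⊗[R] (R ⊗[A] C)) ∧ ∀ p : PrimeSpectrum R, ∀ p₀ : PrimeSpectrum (A ⧸ I),
        PrimeSpectrum.comap (algebraMap R (A ⧸ I)) p₀ = p → f.1 ∉ p₀.asIdeal →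
          p ∈ Set.range (PrimeSpectrum.comap (algebraMap R S)) := by
    rintro ⟨f, hf⟩
    obtain ⟨S₀, _, _, het, hff, hdiag⟩ := hd f (hs's hf)
    haveI := het
    haveI := hff
    let L := Localization.Away f
    letI : Algebra (A ⧸ I) S₀ := ((algebraMap L S₀).comp (algebraMap (A ⧸ I) L)).toAlgebra
    haveI : IsScalarTower (A ⧸ I) L S₀ := IsScalarTower.of_algebraMap_eq' rfl
    letI : Algebra R S₀ := ((algebraMap (A ⧸ I) S₀).comp (algebraMap R (A ⧸ I))).toAlgebra
    haveI : IsScalarTower R (A ⧸ I) S₀ := IsScalarTower.of_algebraMap_eq' rfl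
    letI : Algebra A S₀ := ((algebraMap R S₀).comp (algebraMap A R)).toAlgebra
    haveI : IsScalarTower A R S₀ := IsScalarTower.of_algebraMap_eq' rfl
    haveI : IsScalarTower A (A ⧸ I) S₀ := IsScalarTower.of_algebraMap_eq fun a => by
      show algebraMap (A ⧸ I) S₀ (algebraMap R (A ⧸ I) (algebraMap A R a)) = _
      rw [← IsScalarTower.algebraMap_apply A R (A ⧸ I)]
    haveI : Algebra.Etale (A ⧸ I) L := Algebra.Etale.of_isLocalizationAway f
    haveI : Algebra.Etale (A ⧸ I) S₀ := Algebra.Etale.comp (A ⧸ I) L S₀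
    let q : (R ⧸ K) ≃+* (A ⧸ I) := RingHom.quotientKerEquivOfSurjective hgs
    letI : Algebra (R ⧸ K) (A ⧸ I) := q.toRingHom.toAlgebra
    letI : Algebra (R ⧸ K) S₀ := ((algebraMap (A ⧸ I) S₀).comp q.toRingHom).toAlgebra
    haveI : IsScalarTower (R ⧸ K) (A ⧸ I) S₀ := IsScalarTower.of_algebraMap_eq' rfl
    haveI : IsScalarTower R (R ⧸ K) S₀ := IsScalarTower.of_algebraMap_eq (R := R) (S := R ⧸ K) (A := S₀) fun r => by
      show algebraMap R S₀ r = algebraMap (A ⧸ I) S₀ (q (Ideal.Quotient.mk K r))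
      rw [IsScalarTower.algebraMap_apply R (A ⧸ I) S₀]
      rfl
    haveI : Algebra.Etale (R ⧸ K) (A ⧸ I) :=
      RingHom.etale_algebraMap.1 (RingHom.Etale.of_bijective (f := algebraMap (R ⧸ K) (A ⧸ I)) q.bijective)
    haveI : Algebra.Etale (R ⧸ K) S₀ := Algebra.Etale.comp (R ⧸ K) (A ⧸ I) S₀
    obtain ⟨S, _, _, hS, ⟨eS⟩⟩ := H9Hens.exists_etale_lift_quotient R K S₀
    haveI := hS
    let π : S →ₐ[R] S₀ := (eS.restrictScalars R).toAlgHom.comp Algebra.TensorProduct.includeRight
    letI : Algebra S S₀ := π.toRingHom.toAlgebra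
    haveI : IsScalarTower R S S₀ := IsScalarTower.of_algebraMap_eq fun r => (π.commutes r).symm
    have hπs : Function.Surjective π := by
      refine eS.surjective.comp fun z => ?_
      induction z using TensorProduct.induction_on with
      | zero => exact ⟨0, map_zero _⟩
      | tmul r x =>
        obtain ⟨r, rfl⟩ := Ideal.Quotient.mk_surjective r
        refine ⟨r • x, ?_⟩
        show (1 : R ⧸ K) ⊗ₜ[R] (r • x) = _
        rw [← TensorProduct.smul_tmul, Algebra.smul_def, mul_one]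
        rfl
      | add u w hu hw =>
        obtain ⟨a, rfl⟩ := hu
        obtain ⟨b, rfl⟩ := hw
        exact ⟨a + b, map_add _ _ _⟩
    have hπk : IsNilpotent (RingHom.ker π.toRingHom) := by
      obtain ⟨m, hm⟩ := hKn
      refine ⟨m, le_bot_iff.1 ((Ideal.pow_right_mono (?_ : RingHom.ker π.toRingHom ≤ K.map (algebraMap R S)) m).trans
        (le_of_eq ?_))⟩
      · intro x hx
        have h0 : (1 : R ⧸ K) ⊗ₜ[R] x = 0 := eS.injective (hx.trans (map_zero _).symm)
        have := congrArg (TensorProduct.quotTensorEquivQuotSMul S K) h0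
        rw [map_zero, show (1 : R ⧸ K) = Ideal.Quotient.mk K 1 from rfl,
          TensorProduct.quotTensorEquivQuotSMul_mk_tmul, one_smul, Submodule.Quotient.mk_eq_zero,
          Ideal.smul_top_eq_map, Submodule.restrictScalars_mem] at this
        exact this
      · rw [← Ideal.map_pow, hm, Ideal.zero_eq_bot, Ideal.map_bot]
    haveI : Module.Flat S (S ⊗[R] (R ⊗[A] C)) := inferInstance
    refine ⟨S, inferInstance, inferInstance, hS, ?_, fun p p₀ hp hfp => ?_⟩
    · refine isDiag_flat_nilpotent _ hπk S₀ (fun x => hπs x) rfl (S ⊗[R] (R ⊗[A] C)) ?_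
      refine (isDiag_cancel (R := R) (A := R ⊗[A] C) S S₀).2 ((isDiag_cancel (R := A) (A := C) R S₀).2 ?_)
      exact (isDiag_cancel (R := A) (A := C) (A ⧸ I) S₀).1
        ((isDiag_cancel (R := A ⧸ I) (A := (A ⧸ I) ⊗[A] C) L S₀).1 hdiag)
    · obtain ⟨P, hP⟩ : p₀ ∈ Set.range (PrimeSpectrum.comap (algebraMap (A ⧸ I) L)) := by
        rw [PrimeSpectrum.localization_away_comap_range L f]
        exact hfp
      obtain ⟨w, hw⟩ := PrimeSpectrum.comap_surjective_of_faithfullyFlat (A := L) (B := S₀) P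
      refine ⟨PrimeSpectrum.comap π.toRingHom w, ?_⟩
      rw [← hp, ← hP, ← hw]
      ext r
      show π (algebraMap R S r) ∈ w.asIdeal ↔ algebraMap L S₀ (algebraMap (A ⧸ I) L (algebraMap R (A ⧸ I) r)) ∈ w.asIdeal
      rw [π.commutes]
      rfl
  choose S iS jS hSet hSd hScov using key
  haveI : ∀ i, Module.Flat R (S i) := fun i => by haveI := hSet i; infer_instance
  let e := s'.equivFin
  refine isMultType_of_charts (ι := Fin s'.card) (fun i => S (e.symm i)) (fun p => ?_) fun i => hSd _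
  obtain ⟨p₀, hp₀⟩ : p ∈ Set.range (PrimeSpectrum.comap (algebraMap R (A ⧸ I))) := by
    rw [range_comap_of_surjective _ _ hgs]
    intro x hx
    obtain ⟨m, hm⟩ := hKn
    exact p.isPrime.mem_of_pow_mem m (by
      have := Ideal.pow_mem_pow hx m
      rw [hm, Ideal.zero_eq_bot, Ideal.mem_bot] at this
      rw [this]; exact zero_mem _)
  obtain ⟨f, hf, hfp⟩ : ∃ f ∈ s', f ∉ p₀.asIdeal := by
    by_contra hne
    push Not at hne
    exact p₀.isPrime.ne_top (eq_top_iff.2 (hs' ▸ Ideal.span_le.2 fun x hx => hne x hx))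
  exact ⟨e ⟨f, hf⟩, by rw [Equiv.symm_apply_apply]; exact hScov ⟨f, hf⟩ p p₀ hp₀ hfp⟩

end Groth.Agent.H19Mult
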