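import Groth.Agent.H19Mult.AdicHom
import Groth.Agent.H19Mult.AdicLevels
import Groth.Agent.H19Mult.Quotient
import Groth.Agent.H24Adic.Basic
import Groth.Agent.S1156

/-!
Homomorphisms to an isotrivial group of multiplicative type over an adically complete Noetherian
ring.
-/

set_option autoImplicit false
set_option linter.style.haveILetI false
set_option backward.isDefEq.respectTransparency false

universe u

open TensorProduct WithConv Coalgebra

namespace Groth.Agent.H19Mult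

variable {A : Type u} [CommRing A] {C : Type u} [CommRing C] [HopfAlgebra A C]
  {B : Type u} [CommRing B] [HopfAlgebra A B]

/-- Base change of a homomorphism of base-changed Hopf algebras. -/
theorem exists_bcHom {T : Type u} [CommRing T] [Algebra A T] (G : (T ⊗[A] C) →ₐc[T] T ⊗[A] B)
    (U : Type u) [CommRing U] [Algebra A U] [Algebra T U] [IsScalarTower A T U] :
    ∃ Ψ : (U ⊗[A] C) →ₐc[U] U ⊗[A] B, ∀ c,
      Ψ ((1 : U) ⊗ₜ[A] c) = mapA (IsScalarTower.toAlgHom A T U) (G ((1 : T) ⊗ₜ[A] c)) := by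
  let Ψ : (U ⊗[A] C) →ₐc[U] U ⊗[A] B :=
    ((cancelEquiv (R := A) (A := B) T U : (U ⊗[T] (T ⊗[A] B)) →ₐc[U] U ⊗[A] B).comp
      (Bialgebra.TensorProduct.map (BialgHom.id U U) G)).comp
      ((cancelEquiv (R := A) (A := C) T U).symm : (U ⊗[A] C) →ₐc[U] U ⊗[T] (T ⊗[A] C))
  refine ⟨Ψ, fun c => ?_⟩
  show cancelEquiv (R := A) (A := B) T U (Bialgebra.TensorProduct.map (BialgHom.id U U) G
    ((cancelEquiv (R := A) (A := C) T U).symm ((1 : U) ⊗ₜ[A] c))) = _
  rw [show (cancelEquiv (R := A) (A := C) T U).symm ((1 : U) ⊗ₜ[A] c) = (1 : U) ⊗ₜ[T] ((1 : T) ⊗ₜ[A] c) from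
    EquivLike.injective (cancelEquiv (R := A) (A := C) T U) (by
      rw [BialgEquiv.apply_symm_apply, cancelEquiv_tmul, one_smul])]
  show cancelEquiv (R := A) (A := B) T U ((1 : U) ⊗ₜ[T] G ((1 : T) ⊗ₜ[A] c)) = _
  generalize G ((1 : T) ⊗ₜ[A] c) = z
  induction z using TensorProduct.induction_on with
  | zero => simp
  | tmul t b => rw [cancelEquiv_tmul, mapA_tmul, Algebra.smul_def, mul_one]; rfl
  | add u v hu hv => rw [TensorProduct.tmul_add, map_add, map_add, hu, hv]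

/-- Base change along a given algebra homomorphism. -/
theorem exists_bcHom' {T : Type u} [CommRing T] [Algebra A T] (G : (T ⊗[A] C) →ₐc[T] T ⊗[A] B)
    {U : Type u} [CommRing U] [Algebra A U] (i : T →ₐ[A] U) :
    ∃ Ψ : (U ⊗[A] C) →ₐc[U] U ⊗[A] B, ∀ c, Ψ ((1 : U) ⊗ₜ[A] c) = mapA i (G ((1 : T) ⊗ₜ[A] c)) := by
  letI : Algebra T U := i.toRingHom.toAlgebra
  haveI : IsScalarTower A T U := IsScalarTower.of_algebraMap_eq fun a => (i.commutes a).symm
  obtain ⟨Ψ, hΨ⟩ := exists_bcHom G U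
  exact ⟨Ψ, fun c => (hΨ c).trans (congrArg (fun j => mapA j (G ((1 : T) ⊗ₜ[A] c))) (AlgHom.ext fun _ => rfl))⟩

variable (I : Ideal A)

/-- The truncations of a base change. -/
theorem isMultType_levels
    (hfl : ∀ (q : Ideal C) [q.IsPrime], Ideal.map (algebraMap A C) I ≤ q → Module.Flat A (Localization.AtPrime q))
    (h0 : SGA3b.IsQuasiIsotrivial (A ⧸ I) ((A ⧸ I) ⊗[A] C)) (T : Type u) [CommRing T] [Algebra A T] (n : ℕ) :
    SGA3b.IsMultType (T ⧸ (I.map (algebraMap A T)) ^ (n + 1))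
      ((T ⧸ (I.map (algebraMap A T)) ^ (n + 1)) ⊗[T] (T ⊗[A] C)) := by
  classical
  let R := A ⧸ I ^ (n + 1)
  let Tn := T ⧸ (I.map (algebraMap A T)) ^ (n + 1)
  let g : R →ₐ[A] Tn := Ideal.Quotient.liftₐ _ (Algebra.ofId A Tn) fun a ha => by
    show algebraMap A Tn a = 0
    rw [IsScalarTower.algebraMap_apply A T Tn, Ideal.Quotient.algebraMap_eq, Ideal.Quotient.eq_zero_iff_mem,
      ← Ideal.map_pow]
    exact Ideal.mem_map_of_mem _ ha
  letI : Algebra R Tn := g.toRingHom.toAlgebra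
  haveI : IsScalarTower A R Tn := IsScalarTower.of_algebraMap_eq fun a => (g.commutes a).symm
  have h1 := isMultType_baseChange (isMultType_truncation I hfl h0 n) Tn
  obtain ⟨m, P, _, _, hfP, hcov, hd⟩ := exists_finite_charts h1
  haveI := hfP
  refine isMultType_of_charts P hcov fun i => ?_
  letI : Algebra T (P i) := ((algebraMap Tn (P i)).comp (algebraMap T Tn)).toAlgebra
  haveI : IsScalarTower T Tn (P i) := IsScalarTower.of_algebraMap_eq' rfl
  letI : Algebra R (P i) := ((algebraMap Tn (P i)).comp (algebraMap R Tn)).toAlgebra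
  haveI : IsScalarTower R Tn (P i) := IsScalarTower.of_algebraMap_eq' rfl
  letI : Algebra A (P i) := ((algebraMap Tn (P i)).comp (algebraMap A Tn)).toAlgebra
  haveI : IsScalarTower A Tn (P i) := IsScalarTower.of_algebraMap_eq' rfl
  haveI : IsScalarTower A T (P i) := IsScalarTower.of_algebraMap_eq fun a => by
    show algebraMap Tn (P i) (algebraMap A Tn a) = algebraMap Tn (P i) (algebraMap T Tn (algebraMap A T a))
    rw [← IsScalarTower.algebraMap_apply A T Tn]
  haveI : IsScalarTower A R (P i) := IsScalarTower.of_algebraMap_eq fun a => by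
    show algebraMap Tn (P i) (algebraMap A Tn a) = algebraMap Tn (P i) (algebraMap R Tn (algebraMap A R a))
    rw [← IsScalarTower.algebraMap_apply A R Tn]
  refine (isDiag_cancel (R := T) (A := T ⊗[A] C) Tn (P i)).2 ((isDiag_cancel (R := A) (A := C) T (P i)).2 ?_)
  exact (isDiag_cancel (R := A) (A := C) R (P i)).1 ((isDiag_cancel (R := R) (A := R ⊗[A] C) Tn (P i)).1 (hd i))

variable [IsNoetherianRing A] [IsAdicComplete I A]

/-- Rigidity over a finite algebra. -/
theorem eq_of_agree_complete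
    (hfl : ∀ (q : Ideal C) [q.IsPrime], Ideal.map (algebraMap A C) I ≤ q → Module.Flat A (Localization.AtPrime q))
    (h0 : SGA3b.IsQuasiIsotrivial (A ⧸ I) ((A ⧸ I) ⊗[A] C))
    {T : Type u} [CommRing T] [Algebra A T] [Module.Finite A T] {M : Type u} [CommGroup M]
    {F G : C →ₐ[A] MonoidAlgebra T M} (hF : IsHomD F) (hG : IsHomD G)
    (h : ∀ m c, coefL m (F c) - coefL m (G c) ∈ I.map (algebraMap A T)) : F = G := by
  haveI : IsAdicComplete I T := H24Adic.isAdicComplete_of_finite I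
  haveI : IsAdicComplete (I.map (algebraMap A T)) T := (IsAdicComplete.map_algebraMap_iff I T).2 inferInstance
  obtain ⟨F', hF', hFv⟩ := exists_isHomD_up (Q := T) hF
  obtain ⟨G', hG', hGv⟩ := exists_isHomD_up (Q := T) hG
  have := IsHomD.eq_of_hausdorff (I.map (algebraMap A T)) (isMultType_levels I hfl h0 T) hF' hG' fun m z => by
    induction z using TensorProduct.induction_on with
    | zero => simp
    | tmul t c =>
      rw [show t ⊗ₜ[A] c = t • ((1 : T) ⊗ₜ[A] c) by rw [TensorProduct.smul_tmul', smul_eq_mul, mul_one],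
        map_smul, map_smul, map_smul, map_smul, hFv, hGv, ← smul_sub]
      exact Ideal.mul_mem_left _ _ (h m c)
    | add u v hu hv =>
      simp only [map_add]
      rw [add_sub_add_comm]
      exact add_mem hu hv
  exact AlgHom.ext fun c => by rw [← hFv, ← hGv, this]

theorem mem_map_of_coef_mem {T : Type u} [CommRing T] [Algebra A T] {M : Type u} [CommGroup M]
    (e : (T ⊗[A] B) ≃ₐc[T] MonoidAlgebra T M) {z : T ⊗[A] B}
    (h : ∀ m, coefL m (e z) ∈ I.map (algebraMap A T)) : z ∈ I.map (algebraMap A (T ⊗[A] B)) := by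
  have h1 := Ideal.mem_map_of_mem (e.symm : MonoidAlgebra T M →ₐ[T] T ⊗[A] B).toRingHom
    (mem_map_of_forall_coef_mem h)
  rw [Ideal.map_map, AlgHom.toRingHom_eq_coe, AlgHom.comp_algebraMap, Ideal.map_map,
    ← IsScalarTower.algebraMap_eq] at h1
  simpa using h1

theorem coef_mem_of_map_mem {T : Type u} [CommRing T] [Algebra A T] {M : Type u} [CommGroup M]
    (e : (T ⊗[A] B) ≃ₐc[T] MonoidAlgebra T M) {z : T ⊗[A] B}
    (h : z ∈ I.map (algebraMap A (T ⊗[A] B))) (m : M) : coefL m (e z) ∈ I.map (algebraMap A T) := by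
  refine linearMap_mem_of_mem_map (coefL m ∘ₗ (e : (T ⊗[A] B) →ₐ[T] MonoidAlgebra T M).toLinearMap) ?_
  rwa [Ideal.map_map, ← IsScalarTower.algebraMap_eq]

/-- Homomorphisms lift uniquely from the closed fibre. -/
theorem homs_bijective_of_isotrivial (hG : SGA3b.IsIsotrivial A B)
    (hfl : ∀ (q : Ideal C) [q.IsPrime], Ideal.map (algebraMap A C) I ≤ q → Module.Flat A (Localization.AtPrime q))
    (h0 : SGA3b.IsQuasiIsotrivial (A ⧸ I) ((A ⧸ I) ⊗[A] C)) :
    (∀ φ ψ : C →ₐc[A] B, (∀ c : C, (1 : A ⧸ I) ⊗ₜ[A] (φ c) = (1 : A ⧸ I) ⊗ₜ[A] (ψ c)) → φ = ψ) ∧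
    (∀ φ₀ : ((A ⧸ I) ⊗[A] C) →ₐc[A ⧸ I] ((A ⧸ I) ⊗[A] B),
      ∃ φ : C →ₐc[A] B, ∀ c : C, φ₀ ((1 : A ⧸ I) ⊗ₜ[A] c) = (1 : A ⧸ I) ⊗ₜ[A] (φ c)) := by
  classical
  obtain ⟨T, _, _, het, hfin, hff, M, _, ⟨e⟩⟩ := hG
  haveI := hfin
  haveI := hff
  haveI : IsNoetherianRing T := Algebra.FiniteType.isNoetherianRing A T
  haveI : IsAdicComplete I T := H24Adic.isAdicComplete_of_finite I
  haveI : IsAdicComplete (I.map (algebraMap A T)) T := (IsAdicComplete.map_algebraMap_iff I T).2 inferInstance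
  let IT := I.map (algebraMap A T)
  have hinj := Module.FaithfullyFlat.tensorProduct_mk_injective (A := A) (B := T) B
  refine ⟨fun φ ψ hφψ => BialgHom.ext fun c => ?_, fun φ₀ => ?_⟩
  · have h1 := eq_of_agree_complete I hfl h0 (isHomD_restr (chartHom e φ)) (isHomD_restr (chartHom e ψ))
      fun m c => by
        rw [restr_apply, restr_apply, chartHom_tmul, chartHom_tmul, ← map_sub, ← map_sub, ← TensorProduct.tmul_sub]
        exact coef_mem_of_mem_map e (mem_map_of_one_tmul_eq (hφψ c)) m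
    exact hinj (EquivLike.injective e (DFunLike.congr_fun h1 c))
  -- the closed fibre
  let T₀ := T ⧸ IT
  let g₀ : (A ⧸ I) →ₐ[A] T₀ := Ideal.Quotient.liftₐ _ (Algebra.ofId A T₀) fun a ha => by
    show algebraMap A T₀ a = 0
    rw [IsScalarTower.algebraMap_apply A T T₀, Ideal.Quotient.algebraMap_eq, Ideal.Quotient.eq_zero_iff_mem]
    exact Ideal.mem_map_of_mem _ ha
  letI : Algebra (A ⧸ I) T₀ := g₀.toRingHom.toAlgebra
  haveI : IsScalarTower A (A ⧸ I) T₀ := IsScalarTower.of_algebraMap_eq fun a => (g₀.commutes a).symm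
  obtain ⟨Ψ₀, hΨ₀⟩ := exists_bcHom φ₀ T₀
  obtain ⟨e₀, he₀⟩ := exists_chart_map e T₀
  let K₀ := restr ((e₀ : (T₀ ⊗[A] B) →ₐc[T₀] MonoidAlgebra T₀ M).comp Ψ₀)
  have hlift : ∀ z : (A ⧸ I) ⊗[A] B, ∃ b : B, (1 : A ⧸ I) ⊗ₜ[A] b = z := fun z => by
    induction z using TensorProduct.induction_on with
    | zero => exact ⟨0, TensorProduct.tmul_zero _ _⟩
    | tmul r b =>
      obtain ⟨a, rfl⟩ := Ideal.Quotient.mk_surjective r
      exact ⟨a • b, by rw [← TensorProduct.smul_tmul, Algebra.smul_def, mul_one]; rfl⟩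
    | add u w hu hw =>
      obtain ⟨p, rfl⟩ := hu
      obtain ⟨q, rfl⟩ := hw
      exact ⟨p + q, TensorProduct.tmul_add _ _ _⟩
  choose b hb using fun c : C => hlift (φ₀ ((1 : A ⧸ I) ⊗ₜ[A] c))
  have hK₀ : ∀ c m, coefL m (K₀ c) = Ideal.Quotient.mk IT (coefL m (e ((1 : T) ⊗ₜ[A] b c))) := fun c m => by
    show coefL m (e₀ (Ψ₀ ((1 : T₀) ⊗ₜ[A] c))) = _
    have h1 := he₀ ((1 : T) ⊗ₜ[A] b c) m
    rw [mapA_tmul, map_one] at h1
    rw [hΨ₀, ← hb, mapA_tmul, map_one, h1]
    rfl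
  obtain ⟨F₀, hF₀, hF₀v⟩ := exists_isHomD_up (Q := T) (isHomD_restr ((e₀ : (T₀ ⊗[A] B) →ₐc[T₀] MonoidAlgebra T₀ M).comp Ψ₀))
  obtain ⟨F, hF, hFp⟩ := exists_adic_lift IT (isMultType_levels I hfl h0 T) F₀ hF₀
  obtain ⟨H, hH, hHv⟩ := exists_isHomD_down hF
  obtain ⟨ΦH, hΦH⟩ := hH.exists_bialgHom
  let G : (T ⊗[A] C) →ₐc[T] T ⊗[A] B := (e.symm : MonoidAlgebra T M →ₐc[T] T ⊗[A] B).comp ΦH
  let x : C → T ⊗[A] B := fun c => G ((1 : T) ⊗ₜ[A] c)
  have hex : ∀ c, e (x c) = H c := fun c => by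
    show e (e.symm (ΦH ((1 : T) ⊗ₜ[A] c))) = _
    rw [BialgEquiv.apply_symm_apply, hΦH, one_smul]
  have hxb : ∀ c, x c - (1 : T) ⊗ₜ[A] b c ∈ I.map (algebraMap A (T ⊗[A] B)) := fun c =>
    mem_map_of_coef_mem I e fun m => by
      rw [map_sub, map_sub, hex, ← Ideal.Quotient.eq, ← hK₀, hHv]
      rw [show K₀ c = F₀ ((1 : T) ⊗ₜ[A] c) from (hF₀v c).symm, ← hFp, coefL_push]
      rfl
  -- agreement on `T ⊗ T`
  let U := T ⊗[A] T
  obtain ⟨eU, -⟩ := exists_chart_map e U
  have hagree : ∀ c, mapA (A := B) (Algebra.TensorProduct.includeLeft : T →ₐ[A] U) (x c) =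
      mapA (A := B) (Algebra.TensorProduct.includeRight : T →ₐ[A] U) (x c) := by
    intro c
    obtain ⟨Ψ₁, hΨ₁⟩ := exists_bcHom G U
    obtain ⟨Ψ₂, hΨ₂⟩ := exists_bcHom' G (Algebra.TensorProduct.includeRight : T →ₐ[A] U)
    have hmem : ∀ (i : T →ₐ[A] U) (c : C) (m : M),
        coefL m (eU (mapA i (x c))) - coefL m (eU ((1 : U) ⊗ₜ[A] b c)) ∈ I.map (algebraMap A U) := by
      intro i c m
      rw [← map_sub, ← map_sub]
      refine coef_mem_of_map_mem I eU ?_ m
      have h1 := Ideal.mem_map_of_mem (mapA (A := B) i).toRingHom (hxb c)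
      rw [Ideal.map_map, AlgHom.toRingHom_eq_coe, AlgHom.comp_algebraMap] at h1
      simpa [map_sub] using h1
    have h1 := eq_of_agree_complete I hfl h0 (T := U)
      (isHomD_restr ((eU : (U ⊗[A] B) →ₐc[U] MonoidAlgebra U M).comp Ψ₁))
      (isHomD_restr ((eU : (U ⊗[A] B) →ₐc[U] MonoidAlgebra U M).comp Ψ₂)) fun m c => by
        show coefL m (eU (Ψ₁ ((1 : U) ⊗ₜ[A] c))) - coefL m (eU (Ψ₂ ((1 : U) ⊗ₜ[A] c))) ∈ _
        rw [hΨ₁, hΨ₂]
        have := sub_mem (hmem (IsScalarTower.toAlgHom A T U) c m)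
          (hmem (Algebra.TensorProduct.includeRight : T →ₐ[A] U) c m)
        rwa [sub_sub_sub_cancel_right] at this
    have h2 := DFunLike.congr_fun h1 c
    change eU (Ψ₁ ((1 : U) ⊗ₜ[A] c)) = eU (Ψ₂ ((1 : U) ⊗ₜ[A] c)) at h2
    rw [hΨ₁, hΨ₂] at h2
    exact EquivLike.injective eU h2
  have hdesc : ∀ c, ∃ y : B, (1 : T) ⊗ₜ[A] y = x c := fun c => by
    refine S1156.result A T B (x c) ?_
    have hl : ∀ w : T ⊗[A] B, Algebra.TensorProduct.assoc A A A T T B
        (mapA (A := B) (Algebra.TensorProduct.includeLeft : T →ₐ[A] U) w) =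
        LinearMap.lTensor T (TensorProduct.mk A T B 1) w := fun w => by
      induction w using TensorProduct.induction_on with
      | zero => simp
      | tmul t y => simp
      | add u v hu hv => simp only [map_add, hu, hv]
    have hr : ∀ w : T ⊗[A] B, Algebra.TensorProduct.assoc A A A T T B
        (mapA (A := B) (Algebra.TensorProduct.includeRight : T →ₐ[A] U) w) =
        TensorProduct.mk A T (T ⊗[A] B) 1 w := fun w => by
      induction w using TensorProduct.induction_on with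
      | zero => simp
      | tmul t y => simp
      | add u v hu hv => simp only [map_add, hu, hv]
    rw [← hr, ← hl, hagree]
  choose y hy using hdesc
  let j : B →ₐ[A] T ⊗[A] B := Algebra.TensorProduct.includeRight
  let xh : C →ₐ[A] T ⊗[A] B := ((G : (T ⊗[A] C) →ₐ[T] T ⊗[A] B).restrictScalars A).comp
    Algebra.TensorProduct.includeRight
  have hj : ∀ c, j (y c) = xh c := hy
  let ψ : C →ₐ[A] B :=
    { toFun := y
      map_one' := hinj (show j (y 1) = j 1 by rw [hj, map_one, map_one])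
      map_mul' := fun a b => hinj (show j (y (a * b)) = j (y a * y b) by rw [hj, map_mul, map_mul, hj, hj])
      map_zero' := hinj (show j (y 0) = j 0 by rw [hj, map_zero, map_zero])
      map_add' := fun a b => hinj (show j (y (a + b)) = j (y a + y b) by rw [hj, map_add, map_add, hj, hj])
      commutes' := fun r => hinj (show j (y (algebraMap A C r)) = j (algebraMap A B r) by
        rw [hj, AlgHom.commutes, AlgHom.commutes]) }
  refine ⟨BialgHom.ofAlgHom ψ ?_ ?_, fun c => ?_⟩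
  · refine AlgHom.ext fun c => FaithfulSMul.algebraMap_injective A T ?_
    show algebraMap A T (counit (R := A) (y c)) = algebraMap A T (counit (R := A) c)
    have h1 := CoalgHomClass.counit_comp_apply G ((1 : T) ⊗ₜ[A] c)
    rw [show G ((1 : T) ⊗ₜ[A] c) = (1 : T) ⊗ₜ[A] y c from (hy c).symm] at h1
    simpa [TensorProduct.counit_tmul, Algebra.smul_def] using h1
  · refine AlgHom.ext fun c => Module.FaithfullyFlat.tensorProduct_mk_injective (A := A) (B := T) (B ⊗[A] B) ?_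
    show (1 : T) ⊗ₜ[A] (Algebra.TensorProduct.map ψ ψ (comul (R := A) c)) = (1 : T) ⊗ₜ[A] comul (R := A) (y c)
    have h1 : (1 : T) ⊗ₜ[A] comul (R := A) (y c) = comulT T (G ((1 : T) ⊗ₜ[A] c)) := by
      rw [show G ((1 : T) ⊗ₜ[A] c) = (1 : T) ⊗ₜ[A] y c from (hy c).symm]
      rfl
    rw [h1, ← psi_comul, ← CoalgHomClass.map_comp_comul_apply G ((1 : T) ⊗ₜ[A] c)]
    simp only [TensorProduct.comul_tmul, CommSemiring.comul_apply]
    generalize CoalgebraStruct.comul (R := A) c = z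
    induction z using TensorProduct.induction_on with
    | zero => simp
    | add u w hu hw => simp only [TensorProduct.tmul_add, map_add, hu, hw]
    | tmul p q =>
      simp only [Algebra.TensorProduct.map_tmul, TensorProduct.AlgebraTensorModule.tensorTensorTensorComm_tmul,
        TensorProduct.map_tmul]
      show (1 : T) ⊗ₜ[A] (y p ⊗ₜ[A] y q) = psi T (G ((1 : T) ⊗ₜ[A] p) ⊗ₜ[T] G ((1 : T) ⊗ₜ[A] q))
      rw [psi_tmul, show G ((1 : T) ⊗ₜ[A] p) = (1 : T) ⊗ₜ[A] y p from (hy p).symm,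
        show G ((1 : T) ⊗ₜ[A] q) = (1 : T) ⊗ₜ[A] y q from (hy q).symm]
      simp [inl2, inr2]
  · show _ = (1 : A ⧸ I) ⊗ₜ[A] y c
    have h1 : (1 : T) ⊗ₜ[A] (y c - b c) ∈ I.map (algebraMap A (T ⊗[A] B)) := by
      rw [TensorProduct.tmul_sub, hy]; exact hxb c
    have h2 : y c - b c ∈ I.map (algebraMap A B) := by
      letI : Algebra B (T ⊗[A] B) := Algebra.TensorProduct.rightAlgebra
      haveI : Module.FaithfullyFlat B (B ⊗[A] T) := inferInstance
      have h3 := Ideal.mem_map_of_mem (Algebra.TensorProduct.comm A T B).toAlgHom.toRingHom h1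
      rw [Ideal.map_map, AlgHom.toRingHom_eq_coe, AlgHom.comp_algebraMap, IsScalarTower.algebraMap_eq A B (B ⊗[A] T),
        ← Ideal.map_map] at h3
      rw [← Ideal.comap_map_eq_self_of_faithfullyFlat (B := B ⊗[A] T) (I.map (algebraMap A B)), Ideal.mem_comap]
      simpa using h3
    rw [← hb c, ← sub_eq_zero, ← TensorProduct.tmul_sub]
    refine (TensorProduct.quotTensorEquivQuotSMul B I).injective ?_
    rw [map_zero, show (1 : A ⧸ I) = Ideal.Quotient.mk I 1 from rfl,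
      TensorProduct.quotTensorEquivQuotSMul_mk_tmul, one_smul, Submodule.Quotient.mk_eq_zero,
      Ideal.smul_top_eq_map, Submodule.restrictScalars_mem]
    simpa using neg_mem h2

end Groth.Agent.H19Mult
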