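import Groth.Agent.H19Mult.DatumHensel
import Groth.Agent.H19Mult.AdicDescent
import Groth.Agent.H19Mult.FPFlat
import Groth.Agent.H19Mult.Field
import Groth.Agent.H19Mult.Charts

/-!
Over a complete Noetherian base, an affine group which is flat and isotrivial of multiplicative
type modulo the ideal contains a clopen isotrivial subgroup of multiplicative type.
-/

set_option autoImplicit false
set_option linter.style.haveILetI false
set_option backward.isDefEq.respectTransparency false
set_option maxHeartbeats 800000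

universe u

open TensorProduct WithConv

namespace Groth.Agent.H19Mult

theorem isMultType_of_isIsotrivial {R : Type u} [CommRing R] {A : Type u} [CommRing A] [HopfAlgebra R A]
    (h : SGA3b.IsIsotrivial R A) : SGA3b.IsMultType R A := by
  obtain ⟨T, _, _, het, -, hff, hd⟩ := h
  haveI := het
  haveI := hff
  exact isMultType_of_charts (ι := Fin 1) (fun _ => T)
    (fun p => ⟨0, PrimeSpectrum.comap_surjective_of_faithfullyFlat p⟩) fun _ => hd

theorem isQuasiIsotrivial_of_isIsotrivial {R : Type u} [CommRing R] {A : Type u} [CommRing A] [HopfAlgebra R A]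
    (h : SGA3b.IsIsotrivial R A) : SGA3b.IsQuasiIsotrivial R A := by
  obtain ⟨T, _, _, het, -, hff, M, _, ⟨e⟩⟩ := h
  haveI := het
  haveI := hff
  refine ⟨{1}, Ideal.span_singleton_one, fun f hf => ?_⟩
  rw [Set.mem_singleton_iff] at hf
  subst hf
  let L := Localization.Away (1 : R)
  let T' := L ⊗[R] T
  letI : Algebra T T' := Algebra.TensorProduct.rightAlgebra
  obtain ⟨e'⟩ := isDiag_baseChange e T'
  exact ⟨T', inferInstance, inferInstance, inferInstance, inferInstance, M, inferInstance,
    ⟨(cancelEquiv (R := R) (A := A) L T').trans e'⟩⟩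

/-- Isotriviality is invariant under isomorphisms. -/
theorem isIsotrivial_of_equiv {R : Type u} [CommRing R] {A A' : Type u} [CommRing A] [HopfAlgebra R A]
    [CommRing A'] [HopfAlgebra R A'] (φ : A' ≃ₐc[R] A) (h : SGA3b.IsIsotrivial R A) : SGA3b.IsIsotrivial R A' := by
  obtain ⟨T, _, _, het, hfin, hff, M, _, ⟨e⟩⟩ := h
  let f := Bialgebra.TensorProduct.map (BialgHom.id T T) (φ : A' →ₐc[R] A)
  have hf : Function.Bijective f := by
    have h1 : (f : (T ⊗[R] A') → _) = Algebra.TensorProduct.congr (AlgEquiv.refl : T ≃ₐ[T] T) (φ : A' ≃ₐ[R] A) := by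
      funext z
      induction z using TensorProduct.induction_on with
      | zero => simp
      | tmul t a => rfl
      | add u w hu hw => rw [map_add, map_add, hu, hw]
    rw [h1]
    exact AlgEquiv.bijective _
  exact ⟨T, inferInstance, inferInstance, het, hfin, hff, M, inferInstance, ⟨(BialgEquiv.ofBijective f hf).trans e⟩⟩

/-- A homomorphism to a group algebra which is surjective modulo the Jacobson radical is surjective. -/
theorem surjective_of_mod_jacobson {T : Type u} [CommRing T] {D : Type u} [CommRing D] [Bialgebra T D]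
    {M : Type u} [CommGroup M] (Φ : D →ₐc[T] MonoidAlgebra T M) (J : Ideal T) (hJ : J ≤ Ideal.jacobson ⊥)
    (h : ∀ m, ∃ d, coefL m (Φ d) - 1 ∈ J) : Function.Surjective Φ := by
  classical
  have hs : ∀ m, ∃ d, Φ d = MonoidAlgebra.single m 1 := by
    intro m
    obtain ⟨d, hd⟩ := h m
    let g : D ⊗[T] D →ₗ[T] D :=
      (TensorProduct.rid T D).toLinearMap ∘ₗ TensorProduct.map LinearMap.id (coefL m ∘ₗ (Φ : D →ₐ[T] MonoidAlgebra T M).toLinearMap)
    have h1 : ∀ z, Φ (g z) = (TensorProduct.rid T (MonoidAlgebra T M)).toLinearMap (TensorProduct.map LinearMap.id (coefL m)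
        (TensorProduct.map (Φ : D →ₐ[T] MonoidAlgebra T M).toLinearMap (Φ : D →ₐ[T] MonoidAlgebra T M).toLinearMap z)) := by
      intro z
      induction z using TensorProduct.induction_on with
      | zero => simp
      | tmul p q => simp [g, map_smul]
      | add u w hu hw => simp only [map_add, hu, hw]
    have h2 : ∀ y : MonoidAlgebra T M, (TensorProduct.rid T (MonoidAlgebra T M)).toLinearMap
        (TensorProduct.map LinearMap.id (coefL m) (Coalgebra.comul (R := T) y)) = MonoidAlgebra.single m (coefL m y) := by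
      intro y
      induction y using MonoidAlgebra.induction_linear with
      | zero => simp
      | add u w hu hw => simp only [map_add, hu, hw, MonoidAlgebra.single_add]
      | single n r =>
        rw [MonoidAlgebra.comul_single, CommSemiring.comul_apply]
        by_cases hn : n = m
        · subst hn; simp
        · simp [hn]
    have h3 : Φ (g (Coalgebra.comul (R := T) d)) = MonoidAlgebra.single m (coefL m (Φ d)) := by
      rw [h1, ← h2]
      congr 2
      exact CoalgHomClass.map_comp_comul_apply Φ d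
    have hu : IsUnit (coefL m (Φ d)) := by
      have := Ideal.mem_jacobson_bot.1 (hJ hd) 1
      simpa using this
    obtain ⟨v, hv⟩ := hu.exists_left_inv
    exact ⟨v • g (Coalgebra.comul (R := T) d), by rw [map_smul, h3, MonoidAlgebra.smul_single', hv]⟩
  intro y
  induction y using MonoidAlgebra.induction_linear with
  | zero => exact ⟨0, map_zero _⟩
  | add u w hu hw =>
    obtain ⟨p, rfl⟩ := hu
    obtain ⟨q, rfl⟩ := hw
    exact ⟨p + q, map_add _ _ _⟩
  | single m r =>
    obtain ⟨d, hd⟩ := hs m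
    exact ⟨r • d, by rw [map_smul, hd, MonoidAlgebra.smul_single', mul_one]⟩

section kernel

variable {A : Type u} [CommRing A] {B C : Type u} [CommRing B] [HopfAlgebra A B] [CommRing C] [HopfAlgebra A C]
  (ψ : C →ₐc[A] B)

theorem ker_le_mul [IsNoetherianRing A] [Module.Flat A B] (I : Ideal A) (hψ : Function.Surjective ψ)
    (hker : RingHom.ker (ψ : C →ₐ[A] B).toRingHom ≤ I.map (algebraMap A C)) :
    RingHom.ker (ψ : C →ₐ[A] B).toRingHom ≤ I.map (algebraMap A C) • RingHom.ker (ψ : C →ₐ[A] B).toRingHom := by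
  classical
  obtain ⟨s, hs⟩ := (IsNoetherian.noetherian I : Submodule.FG I)
  intro x hx
  have h1 := hker hx
  rw [show I = Ideal.span (Set.range fun a : {a // a ∈ s} => a.1) by rw [← hs]; congr 1; ext; simp,
    Ideal.map_span, ← Set.range_comp] at h1
  obtain ⟨c, hc⟩ := Submodule.mem_span_range_iff_exists_fun C |>.1 h1
  have h0 : ∑ a : {a // a ∈ s}, a.1 • ψ (c a) = 0 := by
    rw [← RingHom.mem_ker.1 hx, ← hc]
    show _ = ψ _
    rw [map_sum]
    refine Finset.sum_congr rfl fun a _ => ?_
    rw [← map_smul, Function.comp_apply, smul_eq_mul, Algebra.smul_def, mul_comm]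
  obtain ⟨k, a, y, hay, ha⟩ := Module.Flat.isTrivialRelation_of_sum_smul_eq_zero (R := A) (M := B) h0
  choose z hz using fun j => hψ (y j)
  have hx2 : x = ∑ i, algebraMap A C i.1 * (c i - ∑ j, a i j • z j) := by
    have h2 : ∑ i : {a // a ∈ s}, algebraMap A C i.1 * ∑ j, a i j • z j = 0 := by
      simp only [Algebra.smul_def, Finset.mul_sum]
      rw [Finset.sum_comm]
      refine Finset.sum_eq_zero fun j _ => ?_
      simp only [← mul_assoc, ← map_mul]
      rw [← Finset.sum_mul, ← map_sum, ha j, map_zero, zero_mul]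
    simp only [mul_sub, Finset.sum_sub_distrib, h2, sub_zero]
    rw [← hc]
    refine Finset.sum_congr rfl fun i _ => ?_
    rw [Function.comp_apply, smul_eq_mul, mul_comm]
  rw [hx2, smul_eq_mul]
  refine sum_mem fun i _ => Ideal.mul_mem_mul (Ideal.mem_map_of_mem _ ?_) ?_
  · rw [← hs]; exact Submodule.subset_span i.2
  · show ψ _ = 0
    rw [map_sub, map_sum, sub_eq_zero]
    refine (hay i).trans ?_
    exact Finset.sum_congr rfl fun j _ => by rw [← hz j]; exact (map_smul (ψ : C →ₐ[A] B) _ _).symm

/-- An element killing the kernel whose counit is a unit gives an idempotent generating the kernel. -/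
theorem exists_idem_of_annihilator [Module.Flat A B] [IsNoetherianRing C] (hψ : Function.Surjective ψ) (r : C)
    (hr : ∀ j ∈ RingHom.ker (ψ : C →ₐ[A] B).toRingHom, r * j = 0)
    (hu : IsUnit (Coalgebra.counit (R := A) r)) :
    ∃ e, IsIdempotentElem e ∧ RingHom.ker (ψ : C →ₐ[A] B).toRingHom = Ideal.span {e} := by
  classical
  set J := RingHom.ker (ψ : C →ₐ[A] B).toRingHom
  let ψa : C →ₐ[A] B := (ψ : C →ₐ[A] B)
  let ir : B →ₐ[A] C ⊗[A] B := Algebra.TensorProduct.includeRight
  let il : C →ₐ[A] C ⊗[A] B := Algebra.TensorProduct.includeLeft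
  let S := HopfAlgebra.antipodeAlgHom A B
  let shear : (B →ₐ[A] B) → (C ⊗[A] B →ₐ[A] C ⊗[A] B) := fun s =>
    Algebra.TensorProduct.lift ((Algebra.TensorProduct.map (AlgHom.id A C) (s.comp ψa)).comp (Bialgebra.comulAlgHom A C))
      ir fun _ _ => Commute.all _ _
  let τ := shear (AlgHom.id A B)
  let τ' := shear S
  have hsh : ∀ (s : B →ₐ[A] B) c, shear s (c ⊗ₜ (1 : B)) =
      (toConv il.toLinearMap * toConv ((ir.comp (s.comp ψa)).toLinearMap) : WithConv (C →ₗ[A] C ⊗[A] B)).ofConv c := by
    intro s c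
    refine (Algebra.TensorProduct.lift_tmul _ _ _ _ _).trans ?_
    rw [map_one, mul_one, LinearMap.convMul_def]
    show Algebra.TensorProduct.map (AlgHom.id A C) (s.comp ψa) (Coalgebra.comul (R := A) c) =
      LinearMap.mul' A (C ⊗[A] B) (TensorProduct.map il.toLinearMap (ir.comp (s.comp ψa)).toLinearMap (Coalgebra.comul (R := A) c))
    generalize Coalgebra.comul (R := A) c = z
    induction z using TensorProduct.induction_on with
    | zero => simp
    | tmul p q => simp [il, ir]
    | add u w hu hw => simp only [map_add, hu, hw]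
  have hinv : ∀ c, τ' (τ (c ⊗ₜ (1 : B))) = c ⊗ₜ (1 : B) := by
    intro c
    have h1 : τ'.toLinearMap ∘ₗ (toConv il.toLinearMap * toConv ((ir.comp ((AlgHom.id A B).comp ψa)).toLinearMap) :
        WithConv (C →ₗ[A] C ⊗[A] B)).ofConv = il.toLinearMap := by
      rw [LinearMap.algHom_comp_convMul_distrib]
      have e1 : toConv (τ'.toLinearMap ∘ₗ il.toLinearMap) =
          (toConv il.toLinearMap * toConv ((ir.comp (S.comp ψa)).toLinearMap) : WithConv (C →ₗ[A] C ⊗[A] B)) :=
        WithConv.ofConv_injective (LinearMap.ext fun c => hsh S c)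
      have e2 : τ'.toLinearMap ∘ₗ (ir.comp ((AlgHom.id A B).comp ψa)).toLinearMap = (ir.comp ψa).toLinearMap :=
        LinearMap.ext fun c => by
          show τ' ((1 : C) ⊗ₜ ψa c) = (1 : C) ⊗ₜ ψa c
          refine (Algebra.TensorProduct.lift_tmul _ _ _ _ _).trans ?_
          rw [map_one, one_mul]
          rfl
      have e3 : (toConv ((ir.comp (S.comp ψa)).toLinearMap) * toConv ((ir.comp ψa).toLinearMap) :
          WithConv (C →ₗ[A] C ⊗[A] B)) = 1 := by
        refine WithConv.ofConv_injective (LinearMap.ext fun c => ?_)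
        have h2 : (toConv (S.comp ψa).toLinearMap * toConv ψa.toLinearMap : WithConv (C →ₗ[A] B)).ofConv c =
            algebraMap A B (Coalgebra.counit (R := A) c) := by
          have h3 := congrArg (fun f : WithConv (B →ₗ[A] B) => f.ofConv (ψ c)) (LinearMap.antipode_mul_id (R := A) (C := B))
          have h4 := LinearMap.congr_fun (LinearMap.convMul_comp_coalgHom_distrib
            (toConv (HopfAlgebra.antipode A (A := B))) (toConv LinearMap.id) (ψ : C →ₗc[A] B)) c
          simp only [LinearMap.convOne_apply, CoalgHomClass.counit_comp_apply] at h3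
          rw [← h3]
          exact h4.symm
        have h5 := LinearMap.congr_fun (LinearMap.algHom_comp_convMul_distrib ir (toConv (S.comp ψa).toLinearMap)
          (toConv ψa.toLinearMap)) c
        refine h5.symm.trans ?_
        show ir ((toConv (S.comp ψa).toLinearMap * toConv ψa.toLinearMap : WithConv (C →ₗ[A] B)).ofConv c) = _
        rw [h2, AlgHom.commutes, LinearMap.convOne_apply]
      rw [show toConv (τ'.toLinearMap ∘ₗ (toConv il.toLinearMap).ofConv) =
        toConv (τ'.toLinearMap ∘ₗ il.toLinearMap) from rfl, e1,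
        show toConv (τ'.toLinearMap ∘ₗ (toConv ((ir.comp ((AlgHom.id A B).comp ψa)).toLinearMap)).ofConv) =
        toConv ((ir.comp ψa).toLinearMap) from congrArg toConv e2, mul_assoc, e3, mul_one]
    have h6 := LinearMap.congr_fun h1 c
    rw [LinearMap.comp_apply, ← hsh (AlgHom.id A B) c] at h6
    exact h6
  -- `r'` kills `J ⊗ 1`
  have hkill : ∀ j ∈ J, τ' (r ⊗ₜ (1 : B)) * (j ⊗ₜ (1 : B)) = 0 := by
    intro j hj
    rw [← hinv j, ← map_mul]
    suffices h : (r ⊗ₜ (1 : B)) * τ (j ⊗ₜ (1 : B)) = 0 by rw [h, map_zero]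
    let mr : C →ₗ[A] C := LinearMap.mulLeft A r
    obtain ⟨g, hg⟩ : ∃ g : B →ₗ[A] C, ∀ p, g (ψa p) = r * p := by
      choose sec hsec using hψ
      have hsec' : ∀ y, ψa (sec y) = y := hsec
      have hd : ∀ p q, ψa p = ψa q → r * p = r * q := fun p q h => sub_eq_zero.1 (by
        rw [← mul_sub]
        exact hr _ (show ψ (p - q) = 0 by
          rw [map_sub]
          exact sub_eq_zero.2 h))
      refine ⟨{ toFun := fun y => r * sec y, map_add' := fun u v => ?_, map_smul' := fun a u => ?_ },
        fun p => hd _ _ (hsec' _)⟩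
      · rw [← mul_add]; exact hd _ _ (by rw [map_add, hsec', hsec', hsec'])
      · rw [RingHom.id_apply, ← mul_smul_comm]; exact hd _ _ (by rw [map_smul, hsec', hsec'])
    have h1 : ∀ z : C ⊗[A] C, (r ⊗ₜ[A] (1 : B)) * Algebra.TensorProduct.map (AlgHom.id A C) ((AlgHom.id A B).comp ψa) z =
        TensorProduct.map g LinearMap.id (TensorProduct.map ψa.toLinearMap ψa.toLinearMap z) := by
      intro z
      induction z using TensorProduct.induction_on with
      | zero => simp
      | tmul p q =>
        simp only [Algebra.TensorProduct.map_tmul, TensorProduct.map_tmul, Algebra.TensorProduct.tmul_mul_tmul,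
          one_mul, AlgHom.toLinearMap_apply]
        rw [hg]
        rfl
      | add u w hu hw => simp only [map_add, mul_add, hu, hw]
    rw [show τ (j ⊗ₜ (1 : B)) = Algebra.TensorProduct.map (AlgHom.id A C) ((AlgHom.id A B).comp ψa)
        (Coalgebra.comul (R := A) j) by
          refine (Algebra.TensorProduct.lift_tmul _ _ _ _ _).trans ?_
          rw [map_one, mul_one]
          rfl, h1]
    have h2 : TensorProduct.map ψa.toLinearMap ψa.toLinearMap (Coalgebra.comul (R := A) j) = 0 :=
      (CoalgHomClass.map_comp_comul_apply ψ j).trans (by rw [show ψ j = 0 from hj, map_zero])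
    rw [h2, map_zero]
  -- the annihilator of `J`
  obtain ⟨s, hs⟩ := (IsNoetherian.noetherian J : Submodule.FG J)
  let d : C →ₗ[A] ({j // j ∈ s} → C) := LinearMap.pi fun j => LinearMap.mulRight A j.1
  have hex : Function.Exact (LinearMap.rTensor B (LinearMap.ker d).subtype) (LinearMap.rTensor B d) :=
    Module.Flat.rTensor_exact B (LinearMap.exact_subtype_ker_map d)
  obtain ⟨w, hw⟩ := (hex (τ' (r ⊗ₜ (1 : B)))).1 (by
    refine ((TensorProduct.comm A ({j // j ∈ s} → C) B).trans
      (TensorProduct.piRight A A B fun _ : {j // j ∈ s} => C)).injective (funext fun j => ?_)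
    have h1 : ∀ z : C ⊗[A] B, (TensorProduct.piRight A A B fun _ : {j // j ∈ s} => C)
        (TensorProduct.comm A ({j // j ∈ s} → C) B (LinearMap.rTensor B d z)) j =
        TensorProduct.comm A C B (z * (j.1 ⊗ₜ (1 : B))) := fun z => by
      induction z using TensorProduct.induction_on with
      | zero => simp
      | tmul p q => simp [d, TensorProduct.piRightHom_tmul, Algebra.TensorProduct.tmul_mul_tmul]
      | add u v hu hv => simp only [map_add, Pi.add_apply, add_mul, hu, hv]
    rw [LinearEquiv.trans_apply, h1, hkill j.1 (by rw [← hs]; exact Submodule.subset_span j.2), map_zero, map_zero]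
    rfl)
  let Ann : Ideal C := (Submodule.span C (s : Set C)).annihilator
  let μ : C ⊗[A] B →ₐ[A] B := Algebra.TensorProduct.lift ψa (AlgHom.id A B) fun _ _ => Commute.all _ _
  have hμw' : ∀ w', μ (LinearMap.rTensor B (LinearMap.ker d).subtype w') ∈ Ann.map ψa := fun w' => by
    induction w' using TensorProduct.induction_on with
    | zero => simp
    | tmul p q =>
      rw [LinearMap.rTensor_tmul]
      show μ (p.1 ⊗ₜ q) ∈ _
      rw [Algebra.TensorProduct.lift_tmul]
      refine Ideal.mul_mem_right _ _ (Ideal.mem_map_of_mem _ ?_)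
      rw [Submodule.mem_annihilator_span]
      rintro ⟨j, hj⟩
      exact congrFun (LinearMap.mem_ker.1 p.2) ⟨j, hj⟩
    | add u v hu hv => rw [map_add, map_add]; exact add_mem hu hv
  have hμw := hμw' w
  have hμr : μ (τ' (r ⊗ₜ (1 : B))) = algebraMap A B (Coalgebra.counit (R := A) r) := by
    have h1 : μ.toLinearMap ∘ₗ (toConv il.toLinearMap * toConv ((ir.comp (S.comp ψa)).toLinearMap) :
        WithConv (C →ₗ[A] C ⊗[A] B)).ofConv =
        (toConv ψa.toLinearMap * toConv (S.comp ψa).toLinearMap : WithConv (C →ₗ[A] B)).ofConv := by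
      rw [LinearMap.algHom_comp_convMul_distrib]
      congr 2
      · exact congrArg toConv (LinearMap.ext fun c => by
          show μ (c ⊗ₜ (1 : B)) = ψa c
          rw [Algebra.TensorProduct.lift_tmul, map_one, mul_one])
      · exact congrArg toConv (LinearMap.ext fun c => by
          show μ ((1 : C) ⊗ₜ S (ψa c)) = S (ψa c)
          rw [Algebra.TensorProduct.lift_tmul, map_one, one_mul]
          rfl)
    have h2 := LinearMap.congr_fun h1 r
    rw [LinearMap.comp_apply, ← hsh S r] at h2
    refine h2.trans ?_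
    have h3 := congrArg (fun f : WithConv (B →ₗ[A] B) => f.ofConv (ψ r)) (LinearMap.id_mul_antipode (R := A) (C := B))
    have h4 := LinearMap.congr_fun (LinearMap.convMul_comp_coalgHom_distrib
      (toConv LinearMap.id) (toConv (HopfAlgebra.antipode A (A := B))) (ψ : C →ₗc[A] B)) r
    simp only [LinearMap.convOne_apply, CoalgHomClass.counit_comp_apply] at h3
    rw [← h3]
    exact h4.symm
  have htop : Ann.map ψa = ⊤ := by
    rw [hw, hμr] at hμw
    exact Ideal.eq_top_of_isUnit_mem _ hμw (hu.map _)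
  obtain ⟨a, ha, ha1⟩ := (Ideal.mem_map_iff_of_surjective ψa hψ).1 (htop ▸ Submodule.mem_top : (1 : B) ∈ Ann.map ψa)
  have hann : ∀ j ∈ J, a * j = 0 := fun j hj => by
    rw [← hs] at hj
    exact Submodule.mem_annihilator.1 ha j hj
  have he : (1 - a) ∈ J := by
    show ψ (1 - a) = 0
    rw [map_sub, map_one, show ψ a = 1 from ha1, sub_self]
  refine ⟨1 - a, ?_, le_antisymm (fun j hj => ?_) ((Ideal.span_singleton_le_iff_mem _).2 he)⟩
  · have h := hann _ he
    show (1 - a) * (1 - a) = 1 - a
    linear_combination -h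
  · exact Ideal.mem_span_singleton'.2 ⟨j, by linear_combination -(hann j hj)⟩

/-- The kernel of a surjective homomorphism of Hopf algebras is a Hopf ideal with quotient the target. -/
theorem exists_quot_equiv (hψ : Function.Surjective ψ) (e : C)
    (he : RingHom.ker (ψ : C →ₐ[A] B).toRingHom = Ideal.span {e}) :
    ∃ _ : (Ideal.span {e}).IsHopfIdeal A, Nonempty ((C ⧸ Ideal.span {e}) ≃ₐc[A] B) := by
  have hmem : ∀ x, x ∈ Ideal.span {e} ↔ ψ x = 0 := fun x => by rw [← he]; exact RingHom.mem_ker
  have hH : (Ideal.span {e}).IsHopfIdeal A := by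
    refine { counit_eq_zero := fun x hx => ?_, map_mkQ_comul_eq_zero := fun x hx => ?_, antipode_mem := fun x hx => ?_ }
    · rw [← CoalgHomClass.counit_comp_apply ψ x, (hmem x).1 hx, map_zero]
    · obtain ⟨sec, hsec⟩ := hψ.hasRightInverse
      have h1 : ∀ p, ψ p = 0 → Submodule.Quotient.mk (p := (Ideal.span {e}).restrictScalars A) p = 0 := fun p hp =>
        (Submodule.Quotient.mk_eq_zero _).2 ((hmem p).2 hp)
      let g : B →ₗ[A] C ⧸ (Ideal.span {e}).restrictScalars A :=
        { toFun := fun y => Submodule.Quotient.mk (sec y)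
          map_add' := fun u v => by
            rw [← Submodule.Quotient.mk_add, ← sub_eq_zero, ← Submodule.Quotient.mk_sub]
            exact h1 _ (by rw [map_sub, map_add, hsec, hsec, hsec, sub_self])
          map_smul' := fun a u => by
            rw [RingHom.id_apply, ← Submodule.Quotient.mk_smul, ← sub_eq_zero, ← Submodule.Quotient.mk_sub]
            exact h1 _ (by rw [map_sub, hsec, show ψ (a • sec u) = a • u from (map_smul (ψ : C →ₐ[A] B) a (sec u)).trans (congrArg (a • ·) (hsec u)), sub_self]) }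
      have hg : ((Ideal.span {e}).restrictScalars A).mkQ = g ∘ₗ (ψ : C →ₐ[A] B).toLinearMap := LinearMap.ext fun p => by
        show Submodule.Quotient.mk p = Submodule.Quotient.mk (sec (ψ p))
        rw [← sub_eq_zero, ← Submodule.Quotient.mk_sub]
        exact h1 _ (by rw [map_sub, hsec, sub_self])
      rw [hg, TensorProduct.map_comp, LinearMap.comp_apply,
        show TensorProduct.map (ψ : C →ₐ[A] B).toLinearMap (ψ : C →ₐ[A] B).toLinearMap (Coalgebra.comul (R := A) x) = 0 from
          (CoalgHomClass.map_comp_comul_apply ψ x).trans (by rw [(hmem x).1 hx, map_zero]), map_zero]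
    · exact (hmem _).2 (by rw [map_antipode, (hmem x).1 hx, map_zero])
  refine ⟨hH, ?_⟩
  let φ : (C ⧸ Ideal.span {e}) →ₐ[A] B := Ideal.Quotient.liftₐ _ (ψ : C →ₐ[A] B) fun x hx => (hmem x).1 hx
  let Φ : (C ⧸ Ideal.span {e}) →ₐc[A] B := BialgHom.ofAlgHom φ
    (AlgHom.ext fun x => by
      obtain ⟨x, rfl⟩ := Ideal.Quotient.mk_surjective x
      exact CoalgHomClass.counit_comp_apply ψ x)
    (AlgHom.ext fun x => by
      obtain ⟨x, rfl⟩ := Ideal.Quotient.mk_surjective x
      show Algebra.TensorProduct.map φ φ (Algebra.TensorProduct.map (Ideal.Quotient.mkₐ A _) (Ideal.Quotient.mkₐ A _)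
        (Coalgebra.comul (R := A) x)) = Coalgebra.comul (R := A) (ψ x)
      rw [← CoalgHomClass.map_comp_comul_apply ψ x]
      generalize Coalgebra.comul (R := A) x = z
      induction z using TensorProduct.induction_on with
      | zero => simp
      | tmul p q => rfl
      | add u w hu hw => simp only [map_add, hu, hw])
  refine ⟨BialgEquiv.ofBijective Φ ⟨?_, fun y => ?_⟩⟩
  · intro x y h
    obtain ⟨x, rfl⟩ := Ideal.Quotient.mk_surjective x
    obtain ⟨y, rfl⟩ := Ideal.Quotient.mk_surjective y
    exact Ideal.Quotient.eq.2 ((hmem _).2 (by rw [map_sub]; exact sub_eq_zero.2 h))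
  · obtain ⟨x, rfl⟩ := hψ y
    exact ⟨Ideal.Quotient.mk _ x, rfl⟩

end kernel

/-- The clopen isotrivial subgroup. -/
theorem exists_clopen_isotrivial (A : Type u) [CommRing A] [IsNoetherianRing A] (I : Ideal A) [IsAdicComplete I A]
    (C : Type u) [CommRing C] [HopfAlgebra A C] (hft : Algebra.FiniteType A C)
    (hfl : ∀ (q : Ideal C) [q.IsPrime], Ideal.map (algebraMap A C) I ≤ q → Module.Flat A (Localization.AtPrime q))
    (h0 : SGA3b.IsIsotrivial (A ⧸ I) ((A ⧸ I) ⊗[A] C)) :
    ∃ e : C, IsIdempotentElem e ∧ e ∈ Ideal.map (algebraMap A C) I ∧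
      ∃ _ : (Ideal.span {e}).IsHopfIdeal A, SGA3b.IsIsotrivial A (C ⧸ Ideal.span {e}) := by
  haveI : IsNoetherianRing C := Algebra.FiniteType.isNoetherianRing A C
  obtain ⟨B, _, _, hB, ⟨e₀⟩⟩ := exists_isotrivial_lift I ((A ⧸ I) ⊗[A] C) h0
  haveI : Module.Flat A B := flat_of_isMultType (isMultType_of_isIsotrivial hB)
  obtain ⟨ψ, hψ₀⟩ := (homs_bijective_of_isotrivial I hB hfl (isQuasiIsotrivial_of_isIsotrivial h0)).2
    (e₀.symm : ((A ⧸ I) ⊗[A] C) →ₐc[A ⧸ I] (A ⧸ I) ⊗[A] B)
  have hlift : ∀ {D : Type u} [CommRing D] [Algebra A D] (z : (A ⧸ I) ⊗[A] D), ∃ d : D, (1 : A ⧸ I) ⊗ₜ[A] d = z := by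
    intro D _ _ z
    induction z using TensorProduct.induction_on with
    | zero => exact ⟨0, TensorProduct.tmul_zero _ _⟩
    | tmul r b =>
      obtain ⟨a, rfl⟩ := Ideal.Quotient.mk_surjective r
      exact ⟨a • b, by rw [← TensorProduct.smul_tmul, Algebra.smul_def, mul_one]; rfl⟩
    | add u w hu hw =>
      obtain ⟨p, rfl⟩ := hu
      obtain ⟨q, rfl⟩ := hw
      exact ⟨p + q, TensorProduct.tmul_add _ _ _⟩
  have hJI : RingHom.ker (ψ : C →ₐ[A] B).toRingHom ≤ I.map (algebraMap A C) := fun x hx => by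
    have h1 : (1 : A ⧸ I) ⊗ₜ[A] x = (1 : A ⧸ I) ⊗ₜ[A] (0 : C) := by
      refine EquivLike.injective e₀.symm ?_
      show (e₀.symm : ((A ⧸ I) ⊗[A] C) →ₐc[A ⧸ I] (A ⧸ I) ⊗[A] B) _ = (e₀.symm : ((A ⧸ I) ⊗[A] C) →ₐc[A ⧸ I] (A ⧸ I) ⊗[A] B) _
      rw [hψ₀, hψ₀, show ψ x = 0 from hx, map_zero]
    simpa using mem_map_of_one_tmul_eq h1
  have hmod : ∀ b : B, ∃ c : C, b - ψ c ∈ I.map (algebraMap A B) := fun b => by
    obtain ⟨c, hc⟩ := hlift (e₀ ((1 : A ⧸ I) ⊗ₜ[A] b))
    refine ⟨c, mem_map_of_one_tmul_eq ?_⟩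
    rw [← hψ₀ c, hc]
    exact (BialgEquiv.symm_apply_apply e₀ _).symm
  have hsurj : Function.Surjective ψ := by
    classical
    obtain ⟨T, _, _, -, hfin, hff, M, _, ⟨eB⟩⟩ := hB
    haveI := hfin
    haveI := hff
    let f := LinearMap.lTensor T (ψ : C →ₐ[A] B).toLinearMap
    have hT : ∀ w : T ⊗[A] B, ∃ d, w - f d ∈ I.map (algebraMap A (T ⊗[A] B)) := fun w => by
      induction w using TensorProduct.induction_on with
      | zero => exact ⟨0, by simp⟩
      | tmul t b =>
        obtain ⟨c, hc⟩ := hmod b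
        refine ⟨t ⊗ₜ c, ?_⟩
        have h2 := Ideal.mem_map_of_mem (Algebra.TensorProduct.includeRight : B →ₐ[A] T ⊗[A] B).toRingHom hc
        rw [Ideal.map_map, AlgHom.toRingHom_eq_coe, AlgHom.comp_algebraMap] at h2
        have h3 : (t ⊗ₜ[A] (1 : B)) * ((1 : T) ⊗ₜ[A] (b - ψ c)) ∈ I.map (algebraMap A (T ⊗[A] B)) :=
          Ideal.mul_mem_left _ _ h2
        rw [Algebra.TensorProduct.tmul_mul_tmul, mul_one, one_mul, TensorProduct.tmul_sub] at h3
        exact h3
      | add u v hu hv =>
        obtain ⟨p, hp⟩ := hu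
        obtain ⟨q, hq⟩ := hv
        exact ⟨p + q, by rw [map_add, add_sub_add_comm]; exact add_mem hp hq⟩
    have hf : ∀ d, chartHom eB ψ d = eB (f d) := fun d => rfl
    have h1 : Function.Surjective (chartHom eB ψ) := by
      haveI : HenselianRing A I := inferInstance
      refine surjective_of_mod_jacobson _ (I.map (algebraMap A T)) (map_le_jacobson_of_finite I T) fun m => ?_
      obtain ⟨d, hd⟩ := hT (eB.symm (MonoidAlgebra.single m 1))
      refine ⟨d, ?_⟩
      have h4 := coef_mem_of_map_mem I eB hd m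
      rw [map_sub, map_sub, BialgEquiv.apply_symm_apply, coefL_single, if_pos rfl, ← hf] at h4
      simpa using neg_mem h4
    refine (Module.FaithfullyFlat.lTensor_surjective_iff_surjective A T (ψ : C →ₐ[A] B).toLinearMap).1 fun w => ?_
    obtain ⟨d, hd⟩ := h1 (eB w)
    exact ⟨d, EquivLike.injective eB hd⟩
  obtain ⟨r, hr1, hr⟩ := Submodule.exists_sub_one_mem_and_smul_eq_zero_of_fg_of_le_smul _ _
    (IsNoetherian.noetherian _) (ker_le_mul ψ I hsurj hJI)
  have hu : IsUnit (Coalgebra.counit (R := A) r) := by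
    have h1 : Coalgebra.counit (R := A) (r - 1) ∈ I :=
      (show I.map (algebraMap A C) ≤ I.comap (Bialgebra.counitAlgHom A C) from Ideal.map_le_iff_le_comap.2 fun a ha => by
        show Bialgebra.counitAlgHom A C (algebraMap A C a) ∈ I
        rw [AlgHom.commutes]; exact ha) hr1
    have h2 := Ideal.mem_jacobson_bot.1 (IsAdicComplete.le_jacobson_bot I h1) 1
    simpa [map_sub] using h2
  obtain ⟨e, he, hJe⟩ := exists_idem_of_annihilator ψ hsurj r (fun j hj => hr j hj) hu
  obtain ⟨hH, ⟨θ⟩⟩ := exists_quot_equiv ψ hsurj e hJe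
  exact ⟨e, he, hJI (by rw [hJe]; exact Ideal.mem_span_singleton_self e), hH, isIsotrivial_of_equiv θ hB⟩

end Groth.Agent.H19Mult
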