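import Groth.Agent.H9Hens.LocalStructure

/-!
An unramified rational point of an algebra of finite type over a henselian local ring takes its
values in the ring.
-/

set_option autoImplicit false
set_option linter.style.haveILetI false
set_option backward.isDefEq.respectTransparency false

universe u

open IsLocalRing Polynomial

namespace Groth.Agent.H19Mult

theorem eq_of_simple_root {U : Type u} [CommRing U] [IsLocalRing U] (f : U[X]) {x y : U} (hx : f.eval x = 0)
    (hy : f.eval y = 0) (hd : IsUnit (f.derivative.eval x)) (h : y - x ∈ maximalIdeal U) : y = x := by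
  obtain ⟨c, hc⟩ := f.binomExpansion x (y - x)
  rw [add_sub_cancel, hx, hy, zero_add] at hc
  have h1 : (y - x) * (f.derivative.eval x + c * (y - x)) = 0 := by linear_combination -hc
  have hu : IsUnit (f.derivative.eval x + c * (y - x)) := by
    refine IsLocalRing.notMem_maximalIdeal.1 fun hm => ?_
    have := sub_mem hm (Ideal.mul_mem_left _ c h)
    rw [add_sub_cancel_right] at this
    exact (IsLocalRing.mem_maximalIdeal _).1 this hd
  exact sub_eq_zero.1 (hu.mul_left_eq_zero.1 h1)

theorem mem_range_of_unramified_point {R : Type u} [CommRing R] [HenselianLocalRing R] [IsNoetherianRing R]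
    {U : Type u} [CommRing U] [IsLocalRing U] [Algebra R U] [IsLocalHom (algebraMap R U)]
    (hres : ∀ u : U, ∃ r : R, u - algebraMap R U r ∈ maximalIdeal U)
    {E : Type u} [CommRing E] [Algebra R E] (hE : Algebra.FiniteType R E) (π : E →ₐ[R] U)
    (hq : (maximalIdeal U).comap π.toRingHom ≤
      (maximalIdeal R).map (algebraMap R E) ⊔ (maximalIdeal U).comap π.toRingHom ^ 2) (x : E) :
    π x ∈ (Algebra.ofId R U).range := by
  classical
  set q := (maximalIdeal U).comap π.toRingHom with hqdef
  haveI : q.IsPrime := inferInstance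
  let Eq := Localization.AtPrime q
  haveI : IsNoetherianRing E := Algebra.FiniteType.isNoetherianRing R E
  haveI : IsNoetherianRing Eq := IsLocalization.isNoetherianRing q.primeCompl Eq inferInstance
  have hu : ∀ y : q.primeCompl, IsUnit (π y) := fun y => IsLocalRing.notMem_maximalIdeal.1 y.2
  let πq : Eq →ₐ[R] U := IsLocalization.liftAlgHom (M := q.primeCompl) (f := π) hu
  have hπq : ∀ e, πq (algebraMap E Eq e) = π e := fun e => IsLocalization.lift_eq _ e
  have hmle : (maximalIdeal R).map (algebraMap R E) ≤ q := Ideal.map_le_iff_le_comap.2 fun r hr => by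
    show π (algebraMap R E r) ∈ maximalIdeal U
    rw [π.commutes]
    exact map_nonunit (algebraMap R U) r hr
  haveI : IsLocalHom (algebraMap R Eq) := ⟨fun r hr => by
    have h1 := hr.map πq
    rw [πq.commutes] at h1
    exact IsUnit.of_map (algebraMap R U) r h1⟩
  haveI : Algebra.EssFiniteType R Eq := by
    haveI := hE
    haveI : Algebra.EssFiniteType E Eq := Algebra.EssFiniteType.of_isLocalization Eq q.primeCompl
    exact Algebra.EssFiniteType.comp R E Eq
  have hm : (maximalIdeal R).map (algebraMap R Eq) = maximalIdeal Eq := by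
    refine le_antisymm (Ideal.map_le_iff_le_comap.2 fun r hr => map_nonunit (algebraMap R Eq) r hr) ?_
    refine Submodule.le_of_le_smul_of_le_jacobson_bot (I := maximalIdeal Eq)
      (IsNoetherian.noetherian _) (IsLocalRing.maximalIdeal_le_jacobson _) ?_
    conv_lhs => rw [← Localization.AtPrime.map_eq_maximalIdeal]
    refine (Ideal.map_mono hq).trans ?_
    rw [Ideal.map_sup, Ideal.map_map, ← IsScalarTower.algebraMap_eq, Ideal.map_pow,
      Localization.AtPrime.map_eq_maximalIdeal, sq]
    rfl
  haveI : Algebra.IsSeparable (ResidueField R) (ResidueField Eq) := by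
    have hs : Function.Surjective (algebraMap (ResidueField R) (ResidueField Eq)) := by
      intro z
      obtain ⟨z, rfl⟩ := residue_surjective z
      obtain ⟨r, hr⟩ := hres (πq z)
      refine ⟨residue R r, ?_⟩
      show residue Eq (algebraMap R Eq r) = residue Eq z
      refine (Ideal.Quotient.eq.2 ?_).symm
      intro hu'
      have h1 := hu'.map πq
      rw [map_sub, πq.commutes] at h1
      exact (IsLocalRing.mem_maximalIdeal _).1 hr h1
    exact ⟨fun z => by obtain ⟨y, rfl⟩ := hs z; exact isSeparable_algebraMap y⟩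
  obtain ⟨P, 𝔮, _, φ, hφ⟩ := H9Hens.exists_standardEtale_surjection R Eq hm
  let ψ : P.Ring →ₐ[R] U := (πq.comp φ).comp (IsScalarTower.toAlgHom R P.Ring (Localization.AtPrime 𝔮))
  have hX : P.HasMap (ψ P.X) := P.hasMap_X.map ψ
  obtain ⟨r₀, hr₀⟩ := hres (ψ P.X)
  let K := ResidueField R
  have hcong : ∀ g : R[X], residue U (algebraMap R U (g.eval r₀)) = residue U (aeval (ψ P.X) g) := by
    intro g
    rw [← Polynomial.aeval_algebraMap_apply_eq_algebraMap_eval, Polynomial.aeval_def, Polynomial.aeval_def,
      Polynomial.hom_eval₂, Polynomial.hom_eval₂, show residue U (ψ P.X) = residue U (algebraMap R U r₀) from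
        Ideal.Quotient.eq.2 hr₀]
  have hf0 : P.f.eval r₀ ∈ maximalIdeal R := by
    intro hunit
    have h1 := (hunit.map (algebraMap R U)).map (residue U)
    rw [hcong, hX.1, map_zero] at h1
    exact not_isUnit_zero h1
  have hunit : ∀ g : R[X], IsUnit (aeval (ψ P.X) g) → IsUnit (g.eval r₀) := fun g hg => by
    refine IsUnit.of_map (algebraMap R U) _ (IsUnit.of_map (residue U) _ ?_)
    rw [hcong]
    exact hg.map _
  obtain ⟨a, ha, har⟩ := HenselianLocalRing.is_henselian P.f P.monic_f r₀ hf0 (hunit _ hX.isUnit_derivative_f)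
  have hga : IsUnit (aeval a P.g) := by
    have h1 := hunit P.g hX.2
    rw [Polynomial.aeval_def, Algebra.algebraMap_self, Polynomial.eval₂_id]
    by_contra hga
    have h2 : P.g.eval r₀ ∈ maximalIdeal R := by
      have := sub_mem ((IsLocalRing.mem_maximalIdeal _).2 hga)
        (Ideal.mem_of_dvd _ (sub_dvd_eval_sub a r₀ P.g) har)
      rwa [sub_sub_cancel] at this
    exact (IsLocalRing.mem_maximalIdeal _).1 h2 h1
  let s : P.Ring →ₐ[R] R := P.lift a ⟨by rwa [Polynomial.aeval_def, Algebra.algebraMap_self, Polynomial.eval₂_id], hga⟩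
  have hψs : ψ = (Algebra.ofId R U).comp s := by
    refine P.hom_ext ?_
    show ψ P.X = algebraMap R U (s P.X)
    rw [StandardEtalePair.lift_X]
    have e1 : (P.f.map (algebraMap R U)).eval (algebraMap R U a) = 0 := by
      rw [Polynomial.eval_map, Polynomial.eval₂_at_apply, ha, map_zero]
    have e2 : (P.f.map (algebraMap R U)).eval (ψ P.X) = 0 := by
      rw [Polynomial.eval_map, ← Polynomial.aeval_def]; exact hX.1
    refine (eq_of_simple_root _ e2 e1 ?_ ?_).symm
    · rw [Polynomial.derivative_map, Polynomial.eval_map, ← Polynomial.aeval_def]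
      exact hX.isUnit_derivative_f
    · have h1 := sub_mem (map_nonunit (algebraMap R U) _ har) hr₀
      rw [map_sub] at h1
      rwa [sub_sub, ← add_sub_assoc, add_sub_cancel_left] at h1
  obtain ⟨w, hw⟩ := hφ (algebraMap E Eq x)
  obtain ⟨⟨c, d⟩, hcd⟩ := IsLocalization.surj 𝔮.primeCompl w
  have hd : IsUnit (s d) := by
    have h1 : IsUnit (ψ d) := ((IsLocalization.map_units (Localization.AtPrime 𝔮) d).map φ).map πq
    rw [hψs] at h1
    exact IsUnit.of_map (algebraMap R U) _ h1
  obtain ⟨t, ht⟩ := hd.exists_left_inv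
  refine ⟨t * s c, ?_⟩
  show algebraMap R U (t * s c) = π x
  have h2 : π x * ψ d = ψ c := by
    rw [← hπq, ← hw]
    show πq (φ w) * πq (φ (algebraMap P.Ring _ d)) = πq (φ (algebraMap P.Ring _ c))
    rw [← map_mul, ← map_mul, hcd]
  rw [hψs] at h2
  show algebraMap R U (t * s c) = π x
  rw [map_mul, show algebraMap R U (s c) = π x * algebraMap R U (s d) from h2.symm, mul_left_comm, ← map_mul, ht,
    map_one, mul_one]

end Groth.Agent.H19Mult
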