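import Groth.Agent.H19Mult.HenselSplit

/-!
Over a henselian local ring a group of multiplicative type of finite type is diagonalisable as soon
as its closed fibre is.
-/

set_option autoImplicit false
set_option linter.style.haveILetI false
set_option backward.isDefEq.respectTransparency false

universe u

open TensorProduct Coalgebra IsLocalRing

namespace Groth.Agent.H19Mult

theorem isDiag_of_henselian {R : Type u} [CommRing R] [HenselianLocalRing R] {A : Type u} [CommRing A]
    [HopfAlgebra R A] (hft : Algebra.FiniteType R A) (h : SGA3b.IsMultType R A)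
    (h₀ : SGA3b.IsDiag (ResidueField R) (ResidueField R ⊗[R] A)) : SGA3b.IsDiag R A := by
  classical
  obtain ⟨M, _, ⟨ek⟩⟩ := h₀
  obtain ⟨T₀, _, _, hfl, ⟨q, hq⟩, N, _, ⟨e₀⟩⟩ := exists_chart h ⟨maximalIdeal R, inferInstance⟩
  haveI := hfl
  let T := Localization.AtPrime q.asIdeal
  obtain ⟨e, -⟩ := exists_chart_map e₀ T
  haveI : Module.Flat R T := Module.Flat.trans R T₀ T
  haveI : IsLocalHom (algebraMap R T) := ⟨fun a ha => by
    by_contra hna
    have ham : a ∈ (PrimeSpectrum.comap (algebraMap R T₀) q).asIdeal := by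
      rw [hq]; exact (mem_maximalIdeal _).2 hna
    rw [IsScalarTower.algebraMap_apply R T₀ T] at ha
    exact (IsLocalization.AtPrime.isUnit_to_map_iff T q.asIdeal (algebraMap R T₀ a)).1 ha ham⟩
  haveI : Module.FaithfullyFlat R T := Module.FaithfullyFlat.of_flat_of_isLocalHom
  let k := ResidueField R
  let K := ResidueField T
  haveI : IsScalarTower R k K := IsScalarTower.of_algebraMap_eq fun r => rfl
  obtain ⟨eN, hN⟩ := exists_chart_map e K
  obtain ⟨eM, hM⟩ := exists_chart_map ek K
  let ρ : MonoidAlgebra K M ≃ₐc[K] MonoidAlgebra K N := eM.symm.trans eN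
  let θ := MonoidAlgebra.mapDomainOfBialgHom (ρ : MonoidAlgebra K M →ₐc[K] MonoidAlgebra K N)
  let θ' := MonoidAlgebra.mapDomainOfBialgHom (ρ.symm : MonoidAlgebra K N →ₐc[K] MonoidAlgebra K M)
  have hρ : ∀ m r, ρ (MonoidAlgebra.single m r) = MonoidAlgebra.single (θ m) r := fun m r =>
    (MonoidAlgebra.single_mapDomainOfBialgHom (ρ : MonoidAlgebra K M →ₐc[K] MonoidAlgebra K N) m r).symm
  have hρ' : ∀ m r, ρ.symm (MonoidAlgebra.single m r) = MonoidAlgebra.single (θ' m) r := fun m r =>
    (MonoidAlgebra.single_mapDomainOfBialgHom (ρ.symm : MonoidAlgebra K N →ₐc[K] MonoidAlgebra K M) m r).symm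
  have hθθ' : ∀ m, θ (θ' m) = m := fun m => by
    apply MonoidAlgebra.single_left_injective (R := K) one_ne_zero
    show MonoidAlgebra.single (θ (θ' m)) (1 : K) = MonoidAlgebra.single m 1
    rw [← hρ, ← hρ', BialgEquiv.apply_symm_apply]
  have hθinj : Function.Injective θ := fun a b hab => by
    apply MonoidAlgebra.single_left_injective (R := K) one_ne_zero
    refine EquivLike.injective ρ ?_
    show ρ (MonoidAlgebra.single a 1) = ρ (MonoidAlgebra.single b 1)
    rw [hρ, hρ, hab]
  have hcoef : ∀ (z : K ⊗[R] A) (μ : M), coefL (θ μ) (eN z) = coefL μ (eM z) := by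
    intro z μ
    obtain ⟨y, rfl⟩ := EquivLike.surjective eM.symm z
    rw [BialgEquiv.apply_symm_apply]
    show coefL (θ μ) (ρ y) = _
    induction y using MonoidAlgebra.induction_linear with
    | zero => simp
    | add u v hu hv => simp only [map_add, hu, hv]
    | single x r =>
      rw [hρ, coefL_single, coefL_single]
      simp [hθinj.eq_iff]
  have hres : ∀ (a : A) (μ : M), residue T (coefL (θ μ) (e ((1 : T) ⊗ₜ a))) =
      algebraMap k K (coefL μ (ek ((1 : k) ⊗ₜ a))) := by
    intro a μ
    have h1 := hN ((1 : T) ⊗ₜ a) (θ μ)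
    rw [mapA_tmul, map_one, hcoef] at h1
    have h2 := hM ((1 : k) ⊗ₜ a) μ
    rw [mapA_tmul, map_one, h1] at h2
    exact h2
  have hrat : ∀ (a : A) (m : N), ∃ r : R, coefL m (e ((1 : T) ⊗ₜ a)) - algebraMap R T r ∈ maximalIdeal T := by
    intro a m
    obtain ⟨r, hr⟩ := residue_surjective (coefL (θ' m) (ek ((1 : k) ⊗ₜ a)))
    refine ⟨r, ?_⟩
    rw [← residue_eq_zero_iff, map_sub, sub_eq_zero]
    conv_lhs => rw [← hθθ' m]
    rw [hres, ← hr]
    rfl
  have key : ∀ n : N, ∃ x : A, IsGroupLikeElem R x ∧ e ((1 : T) ⊗ₜ x) = MonoidAlgebra.single n 1 := by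
    intro n
    have hlift : ∀ z : k ⊗[R] A, ∃ a : A, (1 : k) ⊗ₜ[R] a = z := fun z => by
      induction z using TensorProduct.induction_on with
      | zero => exact ⟨0, TensorProduct.tmul_zero _ _⟩
      | tmul r a =>
        obtain ⟨r, rfl⟩ := residue_surjective r
        exact ⟨r • a, by rw [← TensorProduct.smul_tmul, Algebra.smul_def, mul_one]; rfl⟩
      | add u v hu hv =>
        obtain ⟨p, rfl⟩ := hu
        obtain ⟨q, rfl⟩ := hv
        exact ⟨p + q, TensorProduct.tmul_add _ _ _⟩
    obtain ⟨w, hw⟩ := hlift (ek.symm (MonoidAlgebra.single (θ' n) 1))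
    refine exists_character_lift hft e n w ?_ hrat
    rw [← residue_eq_zero_iff, map_sub, map_one, sub_eq_zero]
    conv_lhs => rw [← hθθ' n]
    rw [hres, hw, BialgEquiv.apply_symm_apply, coefL_single, if_pos rfl, map_one]
  choose x hx hxe using key
  have hinj : Function.Injective fun a : A => e ((1 : T) ⊗ₜ[R] a) :=
    (EquivLike.injective e).comp (Module.FaithfullyFlat.tensorProduct_mk_injective (A := R) (B := T) A)
  let Y : N →* GroupLike R A :=
    { toFun n := ⟨x n, hx n⟩
      map_one' := GroupLike.ext (hinj (by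
        show e ((1 : T) ⊗ₜ[R] x 1) = e ((1 : T) ⊗ₜ[R] (1 : A))
        rw [hxe, ← Algebra.TensorProduct.one_def, map_one, MonoidAlgebra.one_def]))
      map_mul' a b := GroupLike.ext (hinj (by
        show e ((1 : T) ⊗ₜ[R] x (a * b)) = e ((1 : T) ⊗ₜ[R] (x a * x b))
        rw [show (1 : T) ⊗ₜ[R] (x a * x b) = ((1 : T) ⊗ₜ[R] x a) * ((1 : T) ⊗ₜ[R] x b) by simp, map_mul, hxe, hxe,
          hxe, MonoidAlgebra.single_mul_single, _root_.one_mul])) }
  refine ⟨N, inferInstance, ⟨(BialgEquiv.ofBijective (glHom Y) ?_).symm⟩⟩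
  refine bijective_of_charts ((glHom Y : MonoidAlgebra R N →ₐc[R] A) : MonoidAlgebra R N →ₐ[R] A).toLinearMap
    fun p => ⟨T, inferInstance, inferInstance, inferInstance,
      PrimeSpectrum.comap_surjective_of_faithfullyFlat p, ?_⟩
  refine (EquivLike.comp_bijective _ e).1 ?_
  have hcomp : ∀ w : T ⊗[R] MonoidAlgebra R N, e (LinearMap.lTensor T
      ((glHom Y : MonoidAlgebra R N →ₐc[R] A) : MonoidAlgebra R N →ₐ[R] A).toLinearMap w) =
      MonoidAlgebra.scalarTensorEquiv R T w := by
    intro w
    induction w using TensorProduct.induction_on with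
    | zero => simp
    | add u v hu hv => simp only [map_add, hu, hv]
    | tmul p b =>
      induction b using MonoidAlgebra.induction_linear with
      | zero => simp
      | add u v hu hv => simp only [TensorProduct.tmul_add, map_add, hu, hv]
      | single m r =>
        show e (p ⊗ₜ glHom Y (MonoidAlgebra.single m r)) =
          MonoidAlgebra.scalarTensorEquiv R T (p ⊗ₜ MonoidAlgebra.single m r)
        rw [MonoidAlgebra.scalarTensorEquiv_tmul, glHom_single,
          show p ⊗ₜ[R] (r • (Y m).val) = (algebraMap R T r * p) • ((1 : T) ⊗ₜ[R] x m) by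
            rw [TensorProduct.smul_tmul', smul_eq_mul, mul_one, TensorProduct.tmul_smul, TensorProduct.smul_tmul',
              Algebra.smul_def]
            rfl, map_smul, hxe]
        simp [Algebra.smul_def, mul_comm]
  rw [show (⇑e ∘ ⇑(LinearMap.lTensor T ((glHom Y : MonoidAlgebra R N →ₐc[R] A) :
      MonoidAlgebra R N →ₐ[R] A).toLinearMap)) = MonoidAlgebra.scalarTensorEquiv R T from funext hcomp]
  exact EquivLike.bijective _

end Groth.Agent.H19Mult
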