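import Groth.Agent.H19Mult.AdicDescent
import Groth.Agent.H19Mult.UnramifiedPoint
import Groth.Agent.S2974
import Groth.Agent.S0518
import Groth.Agent.S0505
import Mathlib.RingTheory.AdicCompletion.LocalRing

/-!
Homomorphisms of groups of multiplicative type over a henselian Noetherian local ring come from
those over the completion.
-/

set_option autoImplicit false
set_option linter.style.haveILetI false
set_option backward.isDefEq.respectTransparency false

universe u

open TensorProduct WithConv Coalgebra IsLocalRing

namespace Groth.Agent.H19Mult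

/-- Groups of multiplicative type, base changed in two steps. -/
theorem isMultType_trans {R : Type u} [CommRing R] {C : Type u} [CommRing C] [HopfAlgebra R C]
    (S : Type u) [CommRing S] [Algebra R S] (h : SGA3b.IsMultType S (S ⊗[R] C))
    (T : Type u) [CommRing T] [Algebra R T] [Algebra S T] [IsScalarTower R S T] :
    SGA3b.IsMultType T (T ⊗[R] C) := by
  classical
  obtain ⟨n, P, _, _, hf, hcov, hd⟩ := exists_finite_charts (isMultType_baseChange h T)
  haveI := hf
  refine isMultType_of_charts P hcov fun i => ?_
  letI : Algebra R (P i) := ((algebraMap T (P i)).comp (algebraMap R T)).toAlgebra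
  haveI : IsScalarTower R T (P i) := IsScalarTower.of_algebraMap_eq' rfl
  letI : Algebra S (P i) := ((algebraMap T (P i)).comp (algebraMap S T)).toAlgebra
  haveI : IsScalarTower S T (P i) := IsScalarTower.of_algebraMap_eq' rfl
  haveI : IsScalarTower R S (P i) := IsScalarTower.of_algebraMap_eq fun r => by
    show algebraMap T (P i) (algebraMap R T r) = algebraMap T (P i) (algebraMap S T (algebraMap R S r))
    rw [← IsScalarTower.algebraMap_apply R S T]
  refine (isDiag_cancel (R := R) (A := C) T (P i)).2 ?_
  exact (isDiag_cancel (R := R) (A := C) S (P i)).1 ((isDiag_cancel (R := S) (A := S ⊗[R] C) T (P i)).1 (hd i))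

/-- The structure of a completed finite local algebra. -/
theorem completion_tensor {A : Type u} [CommRing A] [IsNoetherianRing A] [IsLocalRing A]
    {T : Type u} [CommRing T] [IsLocalRing T] [Algebra A T] [Module.Finite A T] [Module.FaithfullyFlat A T]
    (hm : (maximalIdeal A).map (algebraMap A T) = maximalIdeal T) :
    ∃ (_ : IsLocalRing (T ⊗[A] AdicCompletion (maximalIdeal A) A)),
      IsLocalHom (algebraMap T (T ⊗[A] AdicCompletion (maximalIdeal A) A)) ∧
      (∀ z : T ⊗[A] AdicCompletion (maximalIdeal A) A, ∃ t : T,
        z - algebraMap T _ t ∈ maximalIdeal (T ⊗[A] AdicCompletion (maximalIdeal A) A)) := by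
  let Ah := AdicCompletion (maximalIdeal A) A
  let U := T ⊗[A] Ah
  let mU : Ideal U := (maximalIdeal A).map (algebraMap A U)
  have hres : ∀ z : U, ∃ t : T, z - algebraMap T U t ∈ mU := by
    intro z
    induction z using TensorProduct.induction_on with
    | zero => exact ⟨0, by simp⟩
    | tmul t a =>
      obtain ⟨a0, ha0⟩ := (AdicCompletion.residueField_map_bijective A).2 (residue Ah a)
      obtain ⟨a0, rfl⟩ := residue_surjective a0
      rw [ResidueField.map_residue] at ha0
      have h1 : a - algebraMap A Ah a0 ∈ maximalIdeal Ah := Ideal.Quotient.eq.1 ha0.symm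
      rw [AdicCompletion.maximalIdeal_eq_map] at h1
      have h2 := Ideal.mem_map_of_mem (Algebra.TensorProduct.includeRight : Ah →ₐ[A] U).toRingHom h1
      rw [Ideal.map_map, AlgHom.toRingHom_eq_coe, AlgHom.comp_algebraMap] at h2
      refine ⟨a0 • t, ?_⟩
      have : t ⊗ₜ[A] a - algebraMap T U (a0 • t) =
          algebraMap T U t * ((Algebra.TensorProduct.includeRight : Ah →ₐ[A] U) (a - algebraMap A Ah a0)) := by
        rw [Algebra.TensorProduct.includeRight_apply, Algebra.TensorProduct.algebraMap_apply,
          Algebra.TensorProduct.algebraMap_apply, Algebra.algebraMap_self_apply, Algebra.algebraMap_self_apply,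
          Algebra.TensorProduct.tmul_mul_tmul, mul_one, one_mul, TensorProduct.tmul_sub, Algebra.algebraMap_eq_smul_one,
          TensorProduct.tmul_smul, TensorProduct.smul_tmul']
      rw [this]
      exact Ideal.mul_mem_left _ _ h2
    | add u v hu hv =>
      obtain ⟨a, ha⟩ := hu
      obtain ⟨b, hb⟩ := hv
      exact ⟨a + b, by rw [map_add, add_sub_add_comm]; exact add_mem ha hb⟩
  haveI : Nontrivial U := by
    haveI : IsLocalHom (algebraMap A Ah) := inferInstance
    haveI : Module.Flat A Ah := AdicCompletion.flat_of_isNoetherian _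
    haveI : Module.FaithfullyFlat A Ah := Module.FaithfullyFlat.of_flat_of_isLocalHom
    exact (Module.FaithfullyFlat.nontrivial_tensorProduct_iff_left (R := A) (M := T) (N := Ah)).mpr inferInstance
  have hmax : ∀ M : Ideal U, M.IsMaximal → mU ≤ M := by
    intro M hM
    haveI := hM
    letI : Algebra Ah U := Algebra.TensorProduct.rightAlgebra
    haveI : Module.Finite Ah U :=
      Module.Finite.of_surjective (Algebra.TensorProduct.commRight A Ah T).toLinearMap
        (Algebra.TensorProduct.commRight A Ah T).surjective
    haveI : Algebra.IsIntegral Ah U := Algebra.IsIntegral.of_finite Ah U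
    haveI : (M.comap (algebraMap Ah U)).IsMaximal := Ideal.isMaximal_comap_of_isIntegral_of_isMaximal M
    have h1 : M.comap (algebraMap Ah U) = maximalIdeal Ah := IsLocalRing.eq_maximalIdeal inferInstance
    refine Ideal.map_le_iff_le_comap.2 fun a ha => ?_
    have h2 : algebraMap A Ah a ∈ M.comap (algebraMap Ah U) := by rw [h1]; exact map_nonunit _ a ha
    rw [Ideal.mem_comap] at h2
    show algebraMap A U a ∈ M
    rw [show algebraMap A U a = (Algebra.TensorProduct.includeRight : Ah →ₐ[A] U) (algebraMap A Ah a) from
      ((Algebra.TensorProduct.includeRight : Ah →ₐ[A] U).commutes a).symm]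
    exact h2
  have hM : ∀ M : Ideal U, M.IsMaximal → M.comap (algebraMap T U) = maximalIdeal T := by
    intro M hMm
    refine le_antisymm (IsLocalRing.le_maximalIdeal (Ideal.comap_ne_top _ hMm.ne_top)) ?_
    rw [← hm, Ideal.map_le_iff_le_comap]
    intro a ha
    show algebraMap T U (algebraMap A T a) ∈ M
    rw [← IsScalarTower.algebraMap_apply]
    exact hmax M hMm (Ideal.mem_map_of_mem _ ha)
  have huniq : ∀ M N : Ideal U, M.IsMaximal → N.IsMaximal → M ≤ N := by
    intro M N hMm hNm z hz
    obtain ⟨t, ht⟩ := hres z
    have h1 : algebraMap T U t ∈ M := by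
      have := sub_mem hz (hmax M hMm ht); rwa [sub_sub_cancel] at this
    have h2 : t ∈ N.comap (algebraMap T U) := by rw [hM N hNm, ← hM M hMm]; exact h1
    have := add_mem (hmax N hNm ht) h2
    rwa [sub_add_cancel] at this
  obtain ⟨M₀, hM₀⟩ := Ideal.exists_maximal U
  haveI : IsLocalRing U := IsLocalRing.of_unique_max_ideal
    ⟨M₀, hM₀, fun N hN => le_antisymm (huniq N M₀ hN hM₀) (huniq M₀ N hM₀ hN)⟩
  refine ⟨inferInstance, ⟨fun t ht => ?_⟩, fun z => (hres z).imp fun t ht => hmax _ inferInstance ht⟩
  by_contra hnt
  have : t ∈ (maximalIdeal U).comap (algebraMap T U) := by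
    rw [hM _ inferInstance]; exact (mem_maximalIdeal t).2 hnt
  exact (mem_maximalIdeal _).1 this ht

variable {A : Type u} [CommRing A] [IsNoetherianRing A] [HenselianLocalRing A]

/-- A homomorphism into `T[M]` after completion is defined over `T`. -/
theorem exists_algebraic_hom {T : Type u} [CommRing T] [HenselianLocalRing T] [IsNoetherianRing T] [Algebra A T]
    {U : Type u} [CommRing U] [IsLocalRing U] [Algebra A U] [Algebra T U] [IsScalarTower A T U]
    [IsLocalHom (algebraMap T U)] (hinj : Function.Injective (algebraMap T U))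
    (hres : ∀ u : U, ∃ t : T, u - algebraMap T U t ∈ maximalIdeal U)
    {C : Type u} [CommRing C] [HopfAlgebra A C] (hC : Algebra.FiniteType A C)
    (hs : SGA3b.IsMultType (ResidueField A) (ResidueField A ⊗[A] C))
    (hmA : (maximalIdeal A).map (algebraMap A T) = maximalIdeal T)
    {M : Type u} [CommGroup M] (F : C →ₐ[A] MonoidAlgebra U M) (hF : IsHomD F) :
    ∃ H : C →ₐ[A] MonoidAlgebra T M, IsHomD H ∧ push (IsScalarTower.toAlgHom A T U) H = F := by
  classical
  obtain ⟨s, hs'⟩ := hC.out
  let E : Subalgebra T U := Algebra.adjoin T ((s.biUnion fun c => (F c).coeff.frange : Finset U) : Set U)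
  have hgen : ∀ c ∈ s, ∀ m, coefL m (F c) ∈ E := fun c hc m => by
    by_cases h0 : coefL m (F c) = 0
    · rw [h0]; exact zero_mem _
    · exact Algebra.subset_adjoin (Finset.mem_biUnion.2 ⟨c, hc, Finsupp.mem_frange.2 ⟨h0, m, rfl⟩⟩)
  haveI hEft : Algebra.FiniteType T E := by
    rw [← Subalgebra.fg_iff_finiteType]
    exact Subalgebra.fg_adjoin_finset _
  have hall : ∀ (c : C) (m : M), coefL m (F c) ∈ E := by
    intro c
    have hc : c ∈ Algebra.adjoin A (s : Set C) := hs' ▸ Algebra.mem_top
    suffices F c ∈ (MonoidAlgebra.mapRingHom M E.val.toRingHom).range by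
      obtain ⟨w, hw⟩ := this
      intro m
      rw [← hw, coefL_mapRingHom]
      exact (coefL m w).2
    induction hc using Algebra.adjoin_induction with
    | mem c hc =>
      refine ⟨∑ m ∈ (F c).coeff.support, MonoidAlgebra.single m (⟨coefL m (F c), hgen c hc m⟩ : E), ?_⟩
      rw [map_sum]
      conv_rhs => rw [← MonoidAlgebra.sum_coeff_single (F c)]
      rw [Finsupp.sum]
      refine Finset.sum_congr rfl fun m _ => ?_
      rw [MonoidAlgebra.mapRingHom_single]
      rfl
    | algebraMap r =>
      refine ⟨algebraMap E (MonoidAlgebra E M) (algebraMap T E (algebraMap A T r)), ?_⟩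
      rw [AlgHom.commutes, IsScalarTower.algebraMap_apply A U (MonoidAlgebra U M),
        IsScalarTower.algebraMap_apply A T U]
      simp [MonoidAlgebra.coe_algebraMap]
    | add x y _ _ hx hy => rw [map_add]; exact add_mem hx hy
    | mul x y _ _ hx hy => rw [map_mul]; exact mul_mem hx hy
  let q := (maximalIdeal U).comap E.val.toRingHom
  have hq : q ≤ (maximalIdeal T).map (algebraMap T E) ⊔ q ^ 2 := by
    let J := (maximalIdeal T).map (algebraMap T E) ⊔ q ^ 2
    let W := E ⧸ J
    let p : E →+* W := Ideal.Quotient.mk J
    have hmq : ∀ t ∈ maximalIdeal T, algebraMap T E t ∈ q := fun t ht => map_nonunit (algebraMap T U) t ht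
    letI : Algebra (ResidueField A) W := (Ideal.Quotient.lift (maximalIdeal A) (p.comp (algebraMap A E))
      fun a ha => by
        refine Ideal.Quotient.eq_zero_iff_mem.2 (Ideal.mem_sup_left ?_)
        rw [IsScalarTower.algebraMap_apply A T E]
        refine Ideal.mem_map_of_mem _ ?_
        rw [← hmA]
        exact Ideal.mem_map_of_mem _ ha).toAlgebra
    haveI : IsScalarTower A (ResidueField A) W := IsScalarTower.of_algebraMap_eq (R := A) (S := ResidueField A) (A := W) fun a => rfl
    have hcomm : CommConv A C W := commConv_of_baseChange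
      (isMultType_trans (R := A) (C := C) (ResidueField A) hs W)
    -- the restriction of `F` to `E`
    have hlift : ∀ c, ∃ w : MonoidAlgebra E M, MonoidAlgebra.mapRingHom M E.val.toRingHom w = F c := fun c => by
      refine ⟨∑ m ∈ (F c).coeff.support, MonoidAlgebra.single m (⟨coefL m (F c), hall c m⟩ : E), ?_⟩
      rw [map_sum]
      conv_rhs => rw [← MonoidAlgebra.sum_coeff_single (F c)]
      rw [Finsupp.sum]
      refine Finset.sum_congr rfl fun m _ => ?_
      rw [MonoidAlgebra.mapRingHom_single]
      rfl
    choose G hG using hlift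
    have hGinj : Function.Injective (MonoidAlgebra.mapRingHom M E.val.toRingHom) := fun x y hxy => ext_coef fun m => by
      apply Subtype.val_injective
      show E.val.toRingHom _ = E.val.toRingHom _
      rw [← coefL_mapRingHom, ← coefL_mapRingHom, hxy]
    let FE : C →ₐ[A] MonoidAlgebra E M :=
      { toFun := G
        map_one' := hGinj (by rw [hG, map_one, map_one])
        map_mul' := fun a b => hGinj (by rw [map_mul, hG, hG, hG, map_mul])
        map_zero' := hGinj (by rw [hG, map_zero, map_zero])
        map_add' := fun a b => hGinj (by rw [map_add, hG, hG, hG, map_add])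
        commutes' := fun r => hGinj (by
          rw [hG, AlgHom.commutes, IsScalarTower.algebraMap_apply A E (MonoidAlgebra E M),
            IsScalarTower.algebraMap_apply A U (MonoidAlgebra U M)]
          simp [MonoidAlgebra.coe_algebraMap]) }
    have hFE : IsHomD FE := by
      have hp : push ((E.val).restrictScalars A) FE = F := AlgHom.ext fun c => hG c
      have hcc : ∀ u v : WithConv (C →ₗ[A] E), toConv (((E.val).restrictScalars A).toLinearMap ∘ₗ u.ofConv) =
          toConv (((E.val).restrictScalars A).toLinearMap ∘ₗ v.ofConv) → u = v := fun u v huv =>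
        WithConv.ofConv_injective (LinearMap.ext fun c => Subtype.val_injective
          (congrArg (fun w : WithConv (C →ₗ[A] U) => w.ofConv c) huv))
      refine ⟨fun m => hcc _ _ ?_, fun a b hab => hcc _ _ ?_, fun c => Subtype.val_injective ?_⟩
      · rw [LinearMap.algHom_comp_convMul_distrib, ← cc_push, hp]; exact hF.idem m
      · rw [LinearMap.algHom_comp_convMul_distrib, ← cc_push, ← cc_push, hp, hF.ortho a b hab]
        exact WithConv.ofConv_injective (LinearMap.ext fun c => by simp)
      · show E.val (counit (R := E) (FE c)) = (algebraMap A E (counit c) : U)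
        rw [show ((algebraMap A E (counit c) : E) : U) = algebraMap A U (counit c) from rfl, ← hF.counit_eq, ← hG]
        show E.val (counit (R := E) (G c)) = counit (R := U) (MonoidAlgebra.mapRingHom M E.val.toRingHom (G c))
        generalize G c = y
        induction y using MonoidAlgebra.induction_linear with
        | zero => simp
        | add u v hu hv => simp only [map_add, hu, hv]
        | single m r => simp
    -- two deformations
    choose t₀ ht₀ using fun e : E => hres e.1
    let pe : E →ₐ[A] W := { p with commutes' := fun a => rfl }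
    have hT0 : ∀ t : T, t ∈ maximalIdeal T → p (algebraMap T E t) = 0 := fun t ht =>
      Ideal.Quotient.eq_zero_iff_mem.2 (Ideal.mem_sup_left (Ideal.mem_map_of_mem _ ht))
    have hindep : ∀ (e : E) (t : T), e.1 - algebraMap T U t ∈ maximalIdeal U →
        p (algebraMap T E t) = p (algebraMap T E (t₀ e)) := fun e t ht => by
      rw [← sub_eq_zero, ← map_sub, ← map_sub]
      refine hT0 _ ?_
      have h1 := sub_mem (ht₀ e) ht
      rw [sub_sub_sub_cancel_left, ← map_sub] at h1
      by_contra hne
      exact (mem_maximalIdeal _).1 h1 ((IsLocalRing.notMem_maximalIdeal.1 hne).map _)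
    let pk : E →ₐ[A] W :=
      { toFun := fun e => p (algebraMap T E (t₀ e))
        map_one' := by rw [← hindep 1 1 (by simp)]; simp
        map_mul' := fun a b => by
          rw [← hindep (a * b) (t₀ a * t₀ b) (by
            rw [map_mul, show ((a * b : E) : U) = a.1 * b.1 from rfl,
              show a.1 * b.1 - algebraMap T U (t₀ a) * algebraMap T U (t₀ b) =
                a.1 * (b.1 - algebraMap T U (t₀ b)) + (a.1 - algebraMap T U (t₀ a)) * algebraMap T U (t₀ b) by ring]
            exact add_mem (Ideal.mul_mem_left _ _ (ht₀ b)) (Ideal.mul_mem_right _ _ (ht₀ a))), map_mul, map_mul]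
        map_zero' := by rw [← hindep 0 0 (by simp)]; simp
        map_add' := fun a b => by
          rw [← hindep (a + b) (t₀ a + t₀ b) (by
            rw [map_add, show ((a + b : E) : U) = a.1 + b.1 from rfl, add_sub_add_comm]
            exact add_mem (ht₀ a) (ht₀ b)), map_add, map_add]
        commutes' := fun r => by
          rw [← hindep (algebraMap A E r) (algebraMap A T r) (by
            rw [show ((algebraMap A E r : E) : U) = algebraMap A U r from rfl, ← IsScalarTower.algebraMap_apply,
              sub_self]; exact zero_mem _)]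
          show p _ = p (algebraMap A E r)
          rw [← IsScalarTower.algebraMap_apply] }
    have hdiff : ∀ e : E, pe e - pk e ∈ q.map p := fun e => by
      show p e - p (algebraMap T E (t₀ e)) ∈ _
      rw [← map_sub]
      exact Ideal.mem_map_of_mem _ (ht₀ e)
    have hnil : IsNilpotent (q.map p) := ⟨2, by
      rw [← Ideal.map_pow, Ideal.zero_eq_bot, Ideal.map_eq_bot_iff_le_ker, Ideal.mk_ker]
      exact le_sup_right⟩
    have heq := (hFE.push pe).eq_of_sub_mem (hFE.push pk) hcomm hnil fun m c => by
      rw [coefL_push, coefL_push]; exact hdiff _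
    have hgenE : ∀ e : E, pe e = pk e := by
      rintro ⟨e, he⟩
      induction he using Algebra.adjoin_induction with
      | mem e he =>
        obtain ⟨c, hc, hec⟩ := Finset.mem_biUnion.1 he
        obtain ⟨-, m, rfl⟩ := Finsupp.mem_frange.1 hec
        have := congrArg (fun K : C →ₐ[A] MonoidAlgebra W M => coefL m (K c)) heq
        simp only [coefL_push] at this
        have hv : coefL m (FE c) = ⟨coefL m (F c), hall c m⟩ := Subtype.val_injective (by
          show E.val.toRingHom _ = coefL m (F c)
          rw [← coefL_mapRingHom]; exact congrArg (coefL m) (hG c))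
        rw [hv] at this
        exact this
      | algebraMap t =>
        show p (algebraMap T E t) = p (algebraMap T E (t₀ (algebraMap T E t)))
        exact hindep _ t (by simp)
      | add x y hx hy ihx ihy =>
        exact (map_add pe ⟨x, hx⟩ ⟨y, hy⟩).trans ((congrArg₂ (· + ·) ihx ihy).trans (map_add pk ⟨x, hx⟩ ⟨y, hy⟩).symm)
      | mul x y hx hy ihx ihy =>
        exact (map_mul pe ⟨x, hx⟩ ⟨y, hy⟩).trans ((congrArg₂ (· * ·) ihx ihy).trans (map_mul pk ⟨x, hx⟩ ⟨y, hy⟩).symm)
    intro e he
    have h1 : p e = p (algebraMap T E (t₀ e)) := hgenE e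
    rw [hT0 (t₀ e) ?_] at h1
    · exact Ideal.Quotient.eq_zero_iff_mem.1 h1
    · by_contra hne
      have h2 := sub_mem (show e.1 ∈ maximalIdeal U from he) (ht₀ e)
      rw [sub_sub_cancel] at h2
      exact (mem_maximalIdeal _).1 h2 ((IsLocalRing.notMem_maximalIdeal.1 hne).map _)
  have hrange : ∀ (c : C) (m : M), ∃ t : T, algebraMap T U t = coefL m (F c) := fun c m =>
    mem_range_of_unramified_point hres hEft E.val hq ⟨_, hall c m⟩
  choose f hf using hrange
  let mp := MonoidAlgebra.mapRingHom M (algebraMap T U)
  have hmp : Function.Injective mp := fun x y hxy => ext_coef fun m => hinj (by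
    rw [← coefL_mapRingHom, ← coefL_mapRingHom]; exact congrArg _ hxy)
  let H' : C → MonoidAlgebra T M := fun c => ∑ m ∈ (F c).coeff.support, MonoidAlgebra.single m (f c m)
  have hH : ∀ c, mp (H' c) = F c := fun c => by
    conv_rhs => rw [← MonoidAlgebra.sum_coeff_single (F c)]
    rw [map_sum, Finsupp.sum]
    refine Finset.sum_congr rfl fun m _ => ?_
    rw [MonoidAlgebra.mapRingHom_single, hf]
    rfl
  let H : C →ₐ[A] MonoidAlgebra T M :=
    { toFun := H'
      map_one' := hmp (by rw [hH, map_one, map_one])
      map_mul' := fun a b => hmp (by rw [map_mul, hH, hH, hH, map_mul])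
      map_zero' := hmp (by rw [hH, map_zero, map_zero])
      map_add' := fun a b => hmp (by rw [map_add, hH, hH, hH, map_add])
      commutes' := fun r => hmp (by
        rw [hH, AlgHom.commutes, IsScalarTower.algebraMap_apply A T (MonoidAlgebra T M),
          IsScalarTower.algebraMap_apply A U (MonoidAlgebra U M), IsScalarTower.algebraMap_apply A T U]
        simp [mp, MonoidAlgebra.coe_algebraMap]) }
  have hp : push (IsScalarTower.toAlgHom A T U) H = F := AlgHom.ext fun c => hH c
  have hcc : ∀ u v : WithConv (C →ₗ[A] T), toConv ((IsScalarTower.toAlgHom A T U).toLinearMap ∘ₗ u.ofConv) =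
      toConv ((IsScalarTower.toAlgHom A T U).toLinearMap ∘ₗ v.ofConv) → u = v := fun u v huv =>
    WithConv.ofConv_injective (LinearMap.ext fun c => hinj
      (congrArg (fun w : WithConv (C →ₗ[A] U) => w.ofConv c) huv))
  refine ⟨H, ⟨fun m => hcc _ _ ?_, fun a b hab => hcc _ _ ?_, fun c => hinj ?_⟩, hp⟩
  · rw [LinearMap.algHom_comp_convMul_distrib, ← cc_push, hp]; exact hF.idem m
  · rw [LinearMap.algHom_comp_convMul_distrib, ← cc_push, ← cc_push, hp, hF.ortho a b hab]
    exact WithConv.ofConv_injective (LinearMap.ext fun c => by simp)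
  · rw [← IsScalarTower.algebraMap_apply, ← hF.counit_eq, ← hH]
    show algebraMap T U (counit (R := T) (H' c)) = _
    generalize H' c = y
    induction y using MonoidAlgebra.induction_linear with
    | zero => simp
    | add u v hu hv => simp only [map_add, hu, hv]
    | single m r => simp [mp]


/-- A group of multiplicative type over a henselian local ring splits over a local finite étale algebra. -/
theorem exists_local_splitting (R : Type u) [CommRing R] (A : Type u) [CommRing A] [HopfAlgebra R A]
    [HenselianLocalRing R] (hft : Algebra.FiniteType R A) (h : SGA3b.IsMultType R A) :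
    ∃ (S : Type u) (_ : CommRing S) (_ : Algebra R S) (_ : HenselianLocalRing S), Algebra.Etale R S ∧
      Module.Finite R S ∧ Module.FaithfullyFlat R S ∧ SGA3b.IsDiag S (S ⊗[R] A) := by
  let k := IsLocalRing.ResidueField R
  haveI : Algebra.FiniteType R A := hft
  obtain ⟨k', _, _, hfin, hsep, M, _, -, ⟨ek'⟩⟩ :=
    exists_split_separable (k := k) (A := k ⊗[R] A) inferInstance (isMultType_baseChange h k)
  haveI := hfin
  haveI := hsep
  haveI : Algebra.FormallyEtale k k' := Algebra.FormallyEtale.of_isSeparable k k'
  haveI : Algebra.FinitePresentation k k' := Algebra.FinitePresentation.of_finiteType.1 inferInstance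
  haveI : Algebra.Etale k k' := {}
  obtain ⟨S, _, _, hSfin, hSet, ⟨eS⟩⟩ := S0518.result R k'
  haveI := hSfin
  haveI := hSet
  letI : Algebra R k' := ((algebraMap k k').comp (algebraMap R k)).toAlgebra
  haveI : IsScalarTower R k k' := IsScalarTower.of_algebraMap_eq' rfl
  let π : S →ₐ[R] k' := (eS.restrictScalars R).toAlgHom.comp Algebra.TensorProduct.includeRight
  have hπ : Function.Surjective π := by
    refine eS.surjective.comp fun z => ?_
    induction z using TensorProduct.induction_on with
    | zero => exact ⟨0, map_zero _⟩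
    | tmul r s =>
      obtain ⟨r, rfl⟩ := IsLocalRing.residue_surjective r
      exact ⟨r • s, by
        show (1 : k) ⊗ₜ[R] (r • s) = _
        rw [← TensorProduct.smul_tmul, Algebra.smul_def, mul_one]; rfl⟩
    | add u w hu hw =>
      obtain ⟨a, rfl⟩ := hu
      obtain ⟨b, rfl⟩ := hw
      exact ⟨a + b, map_add _ _ _⟩
  have hker : (RingHom.ker π.toRingHom).IsMaximal := RingHom.ker_isMaximal_of_surjective _ hπ
  haveI : IsLocalRing S := by
    refine IsLocalRing.of_unique_max_ideal ⟨RingHom.ker π.toRingHom, hker, fun P hP => ?_⟩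
    refine (hker.eq_of_le hP.ne_top ?_).symm
    intro x hx
    have hm : IsLocalRing.maximalIdeal R ≤ P.comap (algebraMap R S) := by
      haveI : (P.comap (algebraMap R S)).IsMaximal := Ideal.isMaximal_comap_of_isIntegral_of_isMaximal P
      rw [← IsLocalRing.eq_maximalIdeal (I := P.comap (algebraMap R S)) inferInstance]
    have h1 : (1 : k) ⊗ₜ[R] x = 0 := eS.injective (hx.trans (map_zero eS).symm)
    have h2 : x ⊗ₜ[R] (1 : R) ∈ RingHom.ker (Algebra.TensorProduct.map (AlgHom.id R S) (Algebra.ofId R k)) := by
      rw [RingHom.mem_ker, Algebra.TensorProduct.map_tmul, map_one, AlgHom.id_apply]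
      exact (TensorProduct.comm R S k).injective (by rw [map_zero]; exact h1)
    rw [Algebra.TensorProduct.lTensor_ker _ IsLocalRing.residue_surjective] at h2
    have h3 : (RingHom.ker (Algebra.ofId R k)).map
        (Algebra.TensorProduct.includeRight : R →ₐ[R] S ⊗[R] R) ≤
        P.comap (Algebra.TensorProduct.rid R R S).toAlgHom :=
      Ideal.map_le_iff_le_comap.2 fun y hy => by
        show Algebra.TensorProduct.rid R R S ((1 : S) ⊗ₜ[R] y) ∈ P
        rw [Algebra.TensorProduct.rid_tmul, Algebra.smul_def, mul_one]
        exact hm ((IsLocalRing.residue_eq_zero_iff y).1 hy)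
    have h4 : Algebra.TensorProduct.rid R R S (x ⊗ₜ[R] (1 : R)) ∈ P := h3 h2
    rwa [Algebra.TensorProduct.rid_tmul, one_smul] at h4
  haveI : HenselianLocalRing S := S0505.result R S
  haveI : Module.FaithfullyFlat R S := by
    haveI : IsLocalHom (algebraMap R S) := ?_
    · exact Module.FaithfullyFlat.of_flat_of_isLocalHom
    refine ⟨fun a ha => ?_⟩
    by_contra hna
    have h0 : algebraMap R k a = 0 := (IsLocalRing.residue_eq_zero_iff a).2 ((IsLocalRing.mem_maximalIdeal _).2 hna)
    have := ha.map π
    rw [π.commutes, IsScalarTower.algebraMap_apply R k k', h0, map_zero] at this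
    exact not_isUnit_zero this
  refine ⟨S, inferInstance, inferInstance, inferInstance, inferInstance, inferInstance, inferInstance,
    isDiag_of_henselian inferInstance (isMultType_baseChange h S) ?_⟩
  let kS := IsLocalRing.ResidueField S
  have hm : RingHom.ker π.toRingHom = IsLocalRing.maximalIdeal S := IsLocalRing.eq_maximalIdeal hker
  let q : (S ⧸ RingHom.ker π.toRingHom) ≃+* k' := RingHom.quotientKerEquivOfSurjective hπ
  let ι : k' →+* kS := (Ideal.quotEquivOfEq hm).toRingHom.comp q.symm.toRingHom
  letI : Algebra k' kS := ι.toAlgebra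
  haveI : IsScalarTower R k' kS := IsScalarTower.of_algebraMap_eq fun r => by
    show algebraMap R kS r = ι (algebraMap R k' r)
    rw [← π.commutes r]
    show _ = Ideal.quotEquivOfEq hm (q.symm (q (Ideal.Quotient.mk _ (algebraMap R S r))))
    rw [q.symm_apply_apply]
    rfl
  obtain ⟨e⟩ := isDiag_baseChange
    ((cancelEquiv (R := R) (A := A) k k').symm.trans ek') kS
  exact ⟨M, inferInstance, ⟨(cancelEquiv (R := R) (A := A) S kS).trans e⟩⟩

end Groth.Agent.H19Mult
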