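import Groth.Agent.H19Mult.ConnFibre

/-!
Idempotents of base changes of connected algebras with a rational point, and idempotents of base
changes of groups with connected fibres.
-/

set_option autoImplicit false
set_option linter.style.haveILetI false
set_option backward.isDefEq.respectTransparency false

universe u

open TensorProduct

namespace Groth.Agent.H19Mult

variable {k : Type u} [Field k] {D : Type u} [CommRing D] [Algebra k D] [ConnectedSpace (PrimeSpectrum D)]
  (ε : D →ₐ[k] k)

/-- The case of a finite extension: a norm argument. -/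
theorem idem_eq_zero_of_point_finite {L : Type u} [CommRing L] [Algebra k L] [Module.Finite k L]
    (f : D ⊗[k] L) (hf : IsIdempotentElem f)
    (h0 : Algebra.TensorProduct.lid k L (Algebra.TensorProduct.map ε (AlgHom.id k L) f) = 0) : f = 0 := by
  classical
  let b := Module.Free.chooseBasis k L
  let B := Algebra.TensorProduct.basis D b
  let π : D ⊗[k] L →ₐ[k] L :=
    (Algebra.TensorProduct.lid k L).toAlgHom.comp (Algebra.TensorProduct.map ε (AlgHom.id k L))
  have hM : ∀ z, (Algebra.leftMulMatrix B z).map ε = Algebra.leftMulMatrix b (π z) := by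
    intro z
    induction z using TensorProduct.induction_on with
    | zero => ext i j; simp
    | add x y hx hy => rw [map_add, map_add, map_add, Matrix.map_add _ (map_add ε), hx, hy]
    | tmul d l =>
      ext i j
      rw [Matrix.map_apply, Algebra.leftMulMatrix_eq_repr_mul, Algebra.leftMulMatrix_eq_repr_mul,
        Algebra.TensorProduct.basis_apply, Algebra.TensorProduct.tmul_mul_tmul, mul_one,
        Algebra.TensorProduct.basis_repr_tmul]
      simp [π, mul_comm]
  have hidem : IsIdempotentElem (1 - f) := hf.one_sub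
  set M := Algebra.leftMulMatrix B (1 - f) with hMdef
  have hN : IsIdempotentElem M.det := by
    show M.det * M.det = M.det
    rw [← Matrix.det_mul, hMdef, ← map_mul, hidem.eq]
  have hπ : π (1 - f) = 1 := by
    rw [map_sub, map_one, show π f = 0 from h0, sub_zero]
  have hdet : ε M.det = 1 := by
    rw [AlgHom.map_det, AlgHom.mapMatrix_apply, hM, hπ, map_one, Matrix.det_one]
  rcases connected_idem M.det hN with h | h
  · rw [h, map_zero] at hdet
    exact absurd hdet zero_ne_one
  · have hu : IsUnit M := (Matrix.isUnit_iff_isUnit_det M).2 (h ▸ isUnit_one)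
    have hM1 : M = 1 := hu.mul_left_cancel (by rw [mul_one, hMdef, ← map_mul, hidem.eq])
    have h1 : (1 : D ⊗[k] L) - f = 1 := Algebra.leftMulMatrix_injective B (hM1.trans (map_one _).symm)
    simpa using h1

/-- Idempotents vanishing at the rational point die in all finite algebras. -/
theorem apply_eq_zero_of_point_finite {Λ : Type u} [CommRing Λ] [Algebra k Λ] (z : Λ ⊗[k] D) (hz : IsIdempotentElem z)
    (h0 : Algebra.TensorProduct.rid k k Λ (Algebra.TensorProduct.map (AlgHom.id k Λ) ε z) = 0)
    {L : Type u} [CommRing L] [Algebra k L] [Module.Finite k L] (F : Λ ⊗[k] D →ₐ[k] L) : F z = 0 := by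
  let a : Λ →ₐ[k] L := F.comp Algebra.TensorProduct.includeLeft
  let q : D →ₐ[k] L := F.comp Algebra.TensorProduct.includeRight
  let Φ : Λ ⊗[k] D →ₐ[k] D ⊗[k] L :=
    Algebra.TensorProduct.lift (Algebra.TensorProduct.includeRight.comp a) Algebra.TensorProduct.includeLeft
      fun _ _ => Commute.all _ _
  have hΦ : Φ z = 0 := idem_eq_zero_of_point_finite ε (Φ z) (hz.map Φ) (by
    suffices h : ∀ w, Algebra.TensorProduct.lid k _ (Algebra.TensorProduct.map ε (AlgHom.id k _) (Φ w)) =
        a (Algebra.TensorProduct.rid k k Λ (Algebra.TensorProduct.map (AlgHom.id k Λ) ε w)) by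
      rw [h, h0, map_zero]
    intro w
    induction w using TensorProduct.induction_on with
    | zero => simp
    | add x y hx hy => simp only [map_add, hx, hy]
    | tmul x d => simp [Φ, mul_comm, Algebra.smul_def])
  have hev : ∀ w, Algebra.TensorProduct.lift q (AlgHom.id k L) (fun _ _ => Commute.all _ _) (Φ w) = F w := by
    intro w
    induction w using TensorProduct.induction_on with
    | zero => simp
    | add x y hx hy => simp only [map_add, hx, hy]
    | tmul x d =>
      simp only [Φ, Algebra.TensorProduct.lift_tmul, AlgHom.comp_apply, Algebra.TensorProduct.includeRight_apply,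
        Algebra.TensorProduct.includeLeft_apply, Algebra.TensorProduct.tmul_mul_tmul, one_mul, mul_one, AlgHom.id_apply]
      show F ((1 : Λ) ⊗ₜ d) * F (x ⊗ₜ (1 : D)) = _
      rw [← map_mul, Algebra.TensorProduct.tmul_mul_tmul, one_mul, mul_one]
  rw [← hev, hΦ, map_zero]

/-- An idempotent of a base change of a connected algebra vanishing at a rational point is zero. -/
theorem idem_eq_zero_of_point [Algebra.FiniteType k D] {L : Type u} [CommRing L] [Algebra k L]
    (e : L ⊗[k] D) (he : IsIdempotentElem e)
    (h0 : Algebra.TensorProduct.rid k k L (Algebra.TensorProduct.map (AlgHom.id k L) ε e) = 0) : e = 0 := by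
  classical
  obtain ⟨Λ, hΛ, e', he'⟩ := TensorProduct.Algebra.exists_of_fg e
  haveI : Algebra.FiniteType k Λ := Λ.fg_iff_finiteType.1 hΛ
  have hinj : Function.Injective (Λ.val.toLinearMap.rTensor D) :=
    Module.Flat.rTensor_preserves_injective_linearMap _ Subtype.val_injective
  let ι := Algebra.TensorProduct.map Λ.val (AlgHom.id k D)
  have hι : ∀ z, ι z = Λ.val.toLinearMap.rTensor D z := fun z => by
    induction z using TensorProduct.induction_on with
    | zero => simp
    | tmul a d => rfl
    | add x y hx hy => rw [map_add, map_add, hx, hy]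
  have hidem : IsIdempotentElem e' := hinj (by rw [← hι, ← hι, map_mul, hι, he', he.eq])
  let πΛ : Λ ⊗[k] D →ₐ[k] Λ :=
    (Algebra.TensorProduct.rid k k Λ).toAlgHom.comp (Algebra.TensorProduct.map (AlgHom.id k Λ) ε)
  have hπ : πΛ e' = 0 := Subtype.val_injective (by
    show Λ.val (πΛ e') = 0
    rw [← h0, ← he', ← hι]
    clear he' hidem
    induction e' using TensorProduct.induction_on with
    | zero => simp
    | tmul a d => simp [πΛ, ι]
    | add x y hx hy => simp only [map_add, hx, hy])
  suffices h : e' = 0 by rw [← he', h, map_zero]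
  haveI : Algebra.FiniteType k (Λ ⊗[k] D) := Algebra.FiniteType.trans (inferInstance : Algebra.FiniteType k Λ) inferInstance
  haveI : IsJacobsonRing (Λ ⊗[k] D) := isJacobsonRing_of_finiteType (A := k) (B := Λ ⊗[k] D)
  refine hidem.eq_zero_of_isNilpotent (mem_nilradical.1 ?_)
  rw [nilradical, Ideal.radical_eq_jacobson, Ideal.jacobson, Ideal.mem_sInf]
  rintro P ⟨-, hP⟩
  haveI := hP
  haveI : Module.Finite k ((Λ ⊗[k] D) ⧸ P) := by
    letI := Ideal.Quotient.field P
    exact finite_of_finite_type_of_isJacobsonRing _ _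
  rw [← Ideal.Quotient.eq_zero_iff_mem]
  exact apply_eq_zero_of_point_finite ε e' hidem hπ (Ideal.Quotient.mkₐ k P)

omit ε in
/-- An idempotent of a base change of a group with connected fibres which vanishes on the unit section is zero. -/
theorem idem_eq_zero_of_connected_base {R : Type u} [CommRing R] {C : Type u} [CommRing C] [HopfAlgebra R C]
    [Algebra.FiniteType R C]
    (hconn : ∀ (p : Ideal R) [p.IsPrime], ConnectedSpace (PrimeSpectrum (p.ResidueField ⊗[R] C)))
    {T : Type u} [CommRing T] [Algebra R T] (e : T ⊗[R] C) (he : IsIdempotentElem e)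
    (hε : Coalgebra.counit (R := T) e = 0) : e = 0 := by
  refine he.eq_zero_of_isNilpotent (mem_nilradical.1 ?_)
  rw [nilradical_eq_sInf, Ideal.mem_sInf]
  intro P hP
  haveI : P.IsPrime := hP
  let p := P.comap (algebraMap R (T ⊗[R] C))
  haveI := hconn p
  let κ := p.ResidueField
  let L := P.ResidueField
  let g : κ →ₐ[R] L := Ideal.ResidueField.mapₐ p P (Algebra.ofId R (T ⊗[R] C)) rfl
  letI : Algebra κ L := g.toRingHom.toAlgebra
  haveI : IsScalarTower R κ L := IsScalarTower.of_algebraMap_eq fun x => (g.commutes x).symm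
  let ev : T ⊗[R] C →ₐ[R] L := IsScalarTower.toAlgHom R (T ⊗[R] C) L
  let Φ : T ⊗[R] C →ₐ[R] L ⊗[κ] (κ ⊗[R] C) :=
    Algebra.TensorProduct.lift
      (((Algebra.TensorProduct.includeLeft : L →ₐ[κ] L ⊗[κ] (κ ⊗[R] C)).restrictScalars R).comp
        (ev.comp Algebra.TensorProduct.includeLeft))
      (((Algebra.TensorProduct.includeRight : (κ ⊗[R] C) →ₐ[κ] L ⊗[κ] (κ ⊗[R] C)).restrictScalars R).comp
        Algebra.TensorProduct.includeRight) fun _ _ => Commute.all _ _
  have hΦ' : ∀ t c, Φ (t ⊗ₜ c) = ev (t ⊗ₜ 1) ⊗ₜ[κ] ((1 : κ) ⊗ₜ[R] c) := fun t c => by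
    refine (Algebra.TensorProduct.lift_tmul _ _ _ _ _).trans ?_
    show (ev (t ⊗ₜ 1) ⊗ₜ[κ] (1 : κ ⊗[R] C)) * ((1 : L) ⊗ₜ[κ] ((1 : κ) ⊗ₜ[R] c)) = _
    rw [Algebra.TensorProduct.tmul_mul_tmul, mul_one, one_mul]
  have h0 : Φ e = 0 := idem_eq_zero_of_point (Bialgebra.counitAlgHom κ (κ ⊗[R] C)) (Φ e) (he.map Φ) (by
    suffices h : ∀ z, Algebra.TensorProduct.rid κ κ L (Algebra.TensorProduct.map (AlgHom.id κ L)
        (Bialgebra.counitAlgHom κ (κ ⊗[R] C)) (Φ z)) = ev ((Coalgebra.counit (R := T) z) ⊗ₜ 1) by
      rw [h, hε, TensorProduct.zero_tmul, map_zero]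
    intro z
    induction z using TensorProduct.induction_on with
    | zero => simp
    | add x y hx hy => simp only [map_add, TensorProduct.add_tmul, hx, hy]
    | tmul t c =>
      rw [hΦ', Algebra.TensorProduct.map_tmul, Algebra.TensorProduct.rid_tmul, AlgHom.id_apply,
        Bialgebra.counitAlgHom_apply, TensorProduct.counit_tmul, TensorProduct.counit_tmul,
        CommSemiring.counit_apply, CommSemiring.counit_apply, IsScalarTower.smul_assoc, one_smul,
        ← TensorProduct.smul_tmul', map_smul])
  let g' : κ ⊗[R] C →ₐ[κ] L := Algebra.TensorProduct.lift (Algebra.ofId κ L)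
    (ev.comp Algebra.TensorProduct.includeRight) fun _ _ => Commute.all _ _
  have hev : ∀ z, Algebra.TensorProduct.lift (AlgHom.id κ L) g' (fun _ _ => Commute.all _ _) (Φ z) = ev z := by
    intro z
    induction z using TensorProduct.induction_on with
    | zero => simp
    | add x y hx hy => simp only [map_add, hx, hy]
    | tmul t c =>
      rw [hΦ']
      refine (Algebra.TensorProduct.lift_tmul _ _ _ _ _).trans ?_
      show ev (t ⊗ₜ 1) * g' ((1 : κ) ⊗ₜ[R] c) = _
      rw [show g' ((1 : κ) ⊗ₜ[R] c) = ev ((1 : T) ⊗ₜ c) by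
        refine (Algebra.TensorProduct.lift_tmul _ _ _ _ _).trans ?_
        rw [map_one, one_mul]; rfl, ← map_mul, Algebra.TensorProduct.tmul_mul_tmul, mul_one, one_mul]
  have h1 : ev e = 0 := by rw [← hev, h0, map_zero]
  exact Ideal.algebraMap_residueField_eq_zero.1 h1

end Groth.Agent.H19Mult
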