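import Groth.Agent.H19Mult.LocalDescent
import Groth.Agent.H19Mult.PointConn
import Groth.Agent.H19Mult.TorsionFill
import Groth.Agent.H19Mult.HenselHom
import Groth.Agent.H19Mult.ClopenHom
import Groth.Agent.H19Mult.SplitField
import Groth.Agent.H24Adic.CompletionNoetherian

/-!
A finitely presented group over a local ring, flat along a closed fibre of multiplicative type, is of
multiplicative type as soon as its fibres are connected or its torsion is finite.
-/

set_option autoImplicit false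
set_option linter.style.haveILetI false
set_option backward.isDefEq.respectTransparency false

universe u

open TensorProduct

namespace Groth.Agent.H19Mult.LocalCriterion

open LocalDescent

/-- Flatness at primes is stable under base change. -/
theorem flat_atPrime_baseChange {R₀ : Type u} [CommRing R₀] {C₀ : Type u} [CommRing C₀] [Algebra R₀ C₀]
    {A : Type u} [CommRing A] [Algebra R₀ A] (q : Ideal (A ⊗[R₀] C₀)) [q.IsPrime]
    [Module.Flat R₀ (Localization.AtPrime
      (q.comap (Algebra.TensorProduct.includeRight : C₀ →ₐ[R₀] A ⊗[R₀] C₀).toRingHom))] :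
    Module.Flat A (Localization.AtPrime q) := by
  let q₀ := q.comap (Algebra.TensorProduct.includeRight : C₀ →ₐ[R₀] A ⊗[R₀] C₀).toRingHom
  let L := Localization.AtPrime q₀
  let W := A ⊗[R₀] L
  let f : (A ⊗[R₀] C₀) →ₐ[A] W := Algebra.TensorProduct.map (AlgHom.id A A) (IsScalarTower.toAlgHom R₀ C₀ L)
  letI : Algebra (A ⊗[R₀] C₀) W := f.toRingHom.toAlgebra
  haveI : IsScalarTower A (A ⊗[R₀] C₀) W := IsScalarTower.of_algebraMap_eq fun a => (f.commutes a).symm
  let S' := q₀.primeCompl.map (Algebra.TensorProduct.includeRight : C₀ →ₐ[R₀] A ⊗[R₀] C₀)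
  haveI : IsLocalization S' W :=
    IsLocalization.tensorProduct_tensorProduct_right R₀ A q₀.primeCompl L (RingHom.ext fun c => rfl)
  haveI : Module.Flat A (LocalizedModule S' (A ⊗[R₀] C₀)) := Module.Flat.of_linearEquiv
    ((IsLocalizedModule.iso S' (Algebra.linearMap (A ⊗[R₀] C₀) W)).restrictScalars A)
  haveI : Module.Flat A (LocalizedModule q.primeCompl (A ⊗[R₀] C₀)) :=
    H06EGA11.flat_localizedModule_of_le S' q.primeCompl (by rintro _ ⟨c, hc, rfl⟩; exact hc)
  exact Module.Flat.of_linearEquiv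
    ((IsLocalizedModule.iso q.primeCompl (Algebra.linearMap (A ⊗[R₀] C₀) (Localization.AtPrime q))).restrictScalars A).symm

/-- Base change of a surjection with principal kernel. -/
theorem baseChange_surj_ker {A : Type u} [CommRing A] {D : Type u} [CommRing D] [Bialgebra A D] {B : Type u} [CommRing B]
    [Bialgebra A B] (U : Type u) [CommRing U] [Algebra A U] (ψ : D →ₐc[A] B) (hψ : Function.Surjective ψ) {e : D}
    (hker : RingHom.ker (ψ : D →ₐ[A] B).toRingHom = Ideal.span {e}) :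
    ∃ Φ : (U ⊗[A] D) →ₐc[U] U ⊗[A] B, Function.Surjective Φ ∧
      RingHom.ker (Φ : (U ⊗[A] D) →ₐ[U] U ⊗[A] B).toRingHom = Ideal.span {(1 : U) ⊗ₜ[A] e} := by
  let Φ : (U ⊗[A] D) →ₐc[U] U ⊗[A] B := Bialgebra.TensorProduct.map (BialgHom.id U U) ψ
  refine ⟨Φ, fun y => ?_, ?_⟩
  · induction y using TensorProduct.induction_on with
    | zero => exact ⟨0, map_zero _⟩
    | add x y hx hy =>
      obtain ⟨a, rfl⟩ := hx
      obtain ⟨b, rfl⟩ := hy
      exact ⟨a + b, map_add _ _ _⟩
    | tmul u c =>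
      obtain ⟨c, rfl⟩ := hψ c
      exact ⟨u ⊗ₜ c, rfl⟩
  · ext z
    have h : Φ z = Algebra.TensorProduct.map (AlgHom.id A U) (ψ : D →ₐ[A] B) z := by
      induction z using TensorProduct.induction_on with
      | zero => simp
      | add x y hx hy => rw [map_add, map_add, hx, hy]
      | tmul u c => rfl
    rw [RingHom.mem_ker]
    show Φ z = 0 ↔ _
    rw [h, ← RingHom.mem_ker, Algebra.TensorProduct.lTensor_ker _ hψ,
      show RingHom.ker (ψ : D →ₐ[A] B) = Ideal.span {e} from hker,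
      Ideal.map_span, Set.image_singleton, Algebra.TensorProduct.includeRight_apply]

/-- Transport of a surjection with principal kernel. -/
theorem transport_surj_ker {T : Type u} [CommRing T] {D : Type u} [CommRing D] [Bialgebra T D] {D' : Type u} [CommRing D']
    [Bialgebra T D'] {B : Type u} [CommRing B] [Bialgebra T B] {B' : Type u} [CommRing B'] [Bialgebra T B']
    (Ψ : D' ≃ₐc[T] D) (S : B ≃ₐc[T] B') (φ : D →ₐc[T] B) (hφ : Function.Surjective φ) {e : D}
    (hker : RingHom.ker (φ : D →ₐ[T] B).toRingHom = Ideal.span {e}) :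
    ∃ φ' : D' →ₐc[T] B', Function.Surjective φ' ∧
      RingHom.ker (φ' : D' →ₐ[T] B').toRingHom = Ideal.span {Ψ.symm e} := by
  refine ⟨(S : B →ₐc[T] B').comp (φ.comp (Ψ : D' →ₐc[T] D)),
    (EquivLike.surjective S).comp (hφ.comp (EquivLike.surjective Ψ)), ?_⟩
  ext z
  rw [RingHom.mem_ker]
  show S (φ (Ψ z)) = 0 ↔ _
  rw [map_eq_zero_iff S (EquivLike.injective S),
    show φ (Ψ z) = 0 ↔ Ψ z ∈ Ideal.span {e} by rw [← hker, RingHom.mem_ker]; rfl,
    Ideal.mem_span_singleton, Ideal.mem_span_singleton]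
  constructor
  · rintro ⟨d, hd⟩
    exact ⟨Ψ.symm d, by rw [← map_mul, ← hd, BialgEquiv.symm_apply_apply]⟩
  · rintro ⟨d, rfl⟩
    exact ⟨Ψ d, by rw [map_mul, BialgEquiv.apply_symm_apply]⟩

/-- The kernel of the quotient by a Hopf ideal. -/
theorem chart_of_quotient {A : Type u} [CommRing A] {C : Type u} [CommRing C] [HopfAlgebra A C] (e : C)
    [(Ideal.span {e}).IsHopfIdeal A] (U : Type u) [CommRing U] [Algebra A U] {M : Type u} [CommGroup M]
    (eU : (U ⊗[A] (C ⧸ Ideal.span {e})) ≃ₐc[U] MonoidAlgebra U M) :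
    ∃ φ : (U ⊗[A] C) →ₐc[U] MonoidAlgebra U M, Function.Surjective φ ∧
      RingHom.ker (φ : (U ⊗[A] C) →ₐ[U] MonoidAlgebra U M).toRingHom = Ideal.span {(1 : U) ⊗ₜ[A] e} := by
  obtain ⟨Φ, hΦ, hk⟩ := baseChange_surj_ker U (Bialgebra.Quotient.mkBialgHom (R := A) (Ideal.span {e}))
    Ideal.Quotient.mk_surjective (Ideal.mk_ker (I := Ideal.span {e}))
  obtain ⟨φ, hφ, hk'⟩ := transport_surj_ker (BialgEquiv.refl (R := U) (A := U ⊗[A] C)) eU Φ hΦ hk
  exact ⟨φ, hφ, hk'⟩

/-- Over a field, multiplicative type is isotrivial. -/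
theorem isIsotrivial_field {k : Type u} [Field k] {A : Type u} [CommRing A] [HopfAlgebra k A]
    (hft : Algebra.FiniteType k A) (h : SGA3b.IsMultType k A) : SGA3b.IsIsotrivial k A := by
  obtain ⟨k', _, _, hfin, hsep, M, _, -, ⟨e⟩⟩ := exists_split_separable (k := k) (A := A) hft h
  haveI := hfin
  haveI := hsep
  haveI : Algebra.FormallyEtale k k' := Algebra.FormallyEtale.of_isSeparable k k'
  haveI : Algebra.FinitePresentation k k' := Algebra.FinitePresentation.of_finiteType.1 inferInstance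
  haveI : Algebra.Etale k k' := {}
  exact ⟨k', inferInstance, inferInstance, inferInstance, inferInstance, inferInstance, M, inferInstance, ⟨e⟩⟩

/-- The closed fibre over a larger residue field is isotrivial. -/
theorem isIsotrivial_closedFibre {R₀ : Type u} [CommRing R₀] [IsLocalRing R₀] {C₀ : Type u} [CommRing C₀]
    [HopfAlgebra R₀ C₀] [Algebra.FiniteType R₀ C₀]
    (hs : SGA3b.IsMultType (IsLocalRing.ResidueField R₀) (IsLocalRing.ResidueField R₀ ⊗[R₀] C₀))
    {A : Type u} [CommRing A] [Algebra R₀ A] (I : Ideal A) (hI : I.IsMaximal)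
    (hmI : (IsLocalRing.maximalIdeal R₀).map (algebraMap R₀ A) ≤ I) :
    SGA3b.IsIsotrivial (A ⧸ I) ((A ⧸ I) ⊗[A] (A ⊗[R₀] C₀)) := by
  haveI := hI
  letI : Algebra (IsLocalRing.ResidueField R₀) (A ⧸ I) := (Ideal.Quotient.lift (IsLocalRing.maximalIdeal R₀)
    (algebraMap R₀ (A ⧸ I)) fun a ha => by
      show Ideal.Quotient.mk I (algebraMap R₀ A a) = 0
      exact Ideal.Quotient.eq_zero_iff_mem.2 (hmI (Ideal.mem_map_of_mem _ ha))).toAlgebra
  haveI : IsScalarTower R₀ (IsLocalRing.ResidueField R₀) (A ⧸ I) := IsScalarTower.of_algebraMap_eq fun x => rfl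
  refine isIsotrivial_of_equiv (cancelEquiv (R := R₀) (A := C₀) A (A ⧸ I)) ?_
  letI := Ideal.Quotient.field I
  exact isIsotrivial_field inferInstance (isMultType_trans (IsLocalRing.ResidueField R₀) hs (A ⧸ I))

/-- A chart killing an idempotent, over a faithfully flat algebra. -/
theorem exists_idem_chart (R₀ : Type u) [CommRing R₀] [IsNoetherianRing R₀] [IsLocalRing R₀]
    (C₀ : Type u) [CommRing C₀] [HopfAlgebra R₀ C₀] (hft : Algebra.FiniteType R₀ C₀)
    (hfl : ∀ (q : Ideal C₀) [q.IsPrime], Ideal.map (algebraMap R₀ C₀) (IsLocalRing.maximalIdeal R₀) ≤ q →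
      Module.Flat R₀ (Localization.AtPrime q))
    (hs : SGA3b.IsMultType (IsLocalRing.ResidueField R₀) (IsLocalRing.ResidueField R₀ ⊗[R₀] C₀)) :
    ∃ (U : Type u) (_ : CommRing U) (_ : Algebra R₀ U), Module.FaithfullyFlat R₀ U ∧
      ∃ (e : U ⊗[R₀] C₀) (M : Type u) (_ : CommGroup M) (φ : (U ⊗[R₀] C₀) →ₐc[U] MonoidAlgebra U M),
        IsIdempotentElem e ∧ e ∈ (IsLocalRing.maximalIdeal R₀).map (algebraMap R₀ (U ⊗[R₀] C₀)) ∧
        Function.Surjective φ ∧
        RingHom.ker (φ : (U ⊗[R₀] C₀) →ₐ[U] MonoidAlgebra U M).toRingHom = Ideal.span {e} := by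
  let m := IsLocalRing.maximalIdeal R₀
  let A := AdicCompletion m R₀
  haveI : IsNoetherianRing A := H24Adic.isNoetherianRing_adicCompletion m
  haveI : Module.Flat R₀ A := AdicCompletion.flat_of_isNoetherian m
  haveI : Module.FaithfullyFlat R₀ A := Module.FaithfullyFlat.of_flat_of_isLocalHom
  let I := IsLocalRing.maximalIdeal A
  haveI : Algebra.FiniteType R₀ C₀ := hft
  have hI : m.map (algebraMap R₀ A) = I := (AdicCompletion.maximalIdeal_eq_map (R := R₀)).symm
  let C := A ⊗[R₀] C₀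
  obtain ⟨e, he, heI, hH, hiso⟩ := exists_clopen_isotrivial A I C inferInstance (fun q _ hq => by
      let q₀ := q.comap (Algebra.TensorProduct.includeRight : C₀ →ₐ[R₀] C).toRingHom
      haveI : Module.Flat R₀ (Localization.AtPrime q₀) := hfl q₀ (Ideal.map_le_iff_le_comap.2 fun a ha => by
        show (Algebra.TensorProduct.includeRight : C₀ →ₐ[R₀] C) (algebraMap R₀ C₀ a) ∈ q
        rw [AlgHom.commutes, IsScalarTower.algebraMap_apply R₀ A C]
        exact hq (Ideal.mem_map_of_mem _ (hI ▸ Ideal.mem_map_of_mem _ ha)))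
      exact flat_atPrime_baseChange q)
    (isIsotrivial_closedFibre hs I inferInstance hI.le)
  obtain ⟨U, _, _, -, -, hff, M, _, ⟨eU⟩⟩ := hiso
  haveI := hff
  letI : Algebra R₀ U := ((algebraMap A U).comp (algebraMap R₀ A)).toAlgebra
  haveI : IsScalarTower R₀ A U := IsScalarTower.of_algebraMap_eq' rfl
  obtain ⟨φ₁, hφ₁, hk₁⟩ := chart_of_quotient e U eU
  let E := cancelEquiv (R := R₀) (A := C₀) A U
  obtain ⟨φ, hφ, hk⟩ := transport_surj_ker E.symm (BialgEquiv.refl (R := U) (A := MonoidAlgebra U M)) φ₁ hφ₁ hk₁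
  let ρ : U ⊗[A] C →ₐ[A] U ⊗[R₀] C₀ := ((E : (U ⊗[A] C) ≃ₐc[U] U ⊗[R₀] C₀) : (U ⊗[A] C) →ₐ[U] U ⊗[R₀] C₀).restrictScalars A
  let e' := ρ ((1 : U) ⊗ₜ[A] e)
  refine ⟨U, inferInstance, inferInstance, Module.FaithfullyFlat.trans R₀ A U, e', M, inferInstance, φ, ?_, ?_, hφ, hk⟩
  · exact (IsIdempotentElem.map (f := (Algebra.TensorProduct.includeRight : C →ₐ[A] U ⊗[A] C)) he).map ρ
  · have h1 : I.map (algebraMap A C) = m.map (algebraMap R₀ C) := by
      rw [← hI, Ideal.map_map, ← IsScalarTower.algebraMap_eq]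
    rw [h1] at heI
    have h2 := Ideal.mem_map_of_mem
      (ρ.comp (Algebra.TensorProduct.includeRight : C →ₐ[A] U ⊗[A] C)).toRingHom heI
    rw [Ideal.map_map] at h2
    refine (Ideal.map_le_iff_le_comap.2 fun a ha => ?_) h2
    show ρ ((1 : U) ⊗ₜ[A] algebraMap R₀ C a) ∈ m.map (algebraMap R₀ (U ⊗[R₀] C₀))
    rw [IsScalarTower.algebraMap_apply R₀ A C]
    show (ρ.comp (Algebra.TensorProduct.includeRight : C →ₐ[A] U ⊗[A] C)) (algebraMap A C (algebraMap R₀ A a)) ∈ _
    rw [AlgHom.commutes, ← IsScalarTower.algebraMap_apply]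
    exact Ideal.mem_map_of_mem _ ha

/-- A local algebra over `R` and `U`, faithfully flat over `R`. -/
theorem exists_local_target (R₀ : Type u) [CommRing R₀] [IsLocalRing R₀] (R : Type u) [CommRing R] [IsLocalRing R]
    [Algebra R₀ R] [IsLocalHom (algebraMap R₀ R)] (U : Type u) [CommRing U] [Algebra R₀ U] [Module.FaithfullyFlat R₀ U] :
    ∃ (T : Type u) (_ : CommRing T) (_ : Algebra R T) (_ : Algebra U T) (_ : Algebra R₀ T)
      (_ : IsScalarTower R₀ R T) (_ : IsScalarTower R₀ U T), IsLocalRing T ∧ Module.FaithfullyFlat R T := by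
  let κ := IsLocalRing.ResidueField R
  haveI : Nontrivial (κ ⊗[R₀] U) := inferInstance
  obtain ⟨n, hn⟩ := Ideal.exists_maximal (κ ⊗[R₀] U)
  haveI := hn
  let Q : Ideal (R ⊗[R₀] U) :=
    n.comap (Algebra.TensorProduct.map (IsScalarTower.toAlgHom R₀ R κ) (AlgHom.id R₀ U)).toRingHom
  haveI : Q.IsPrime := Ideal.IsPrime.comap _
  let T := Localization.AtPrime Q
  letI : Algebra U (R ⊗[R₀] U) := Algebra.TensorProduct.rightAlgebra
  haveI : IsScalarTower R₀ U T := IsScalarTower.of_algebraMap_eq (R := R₀) (S := U) (A := T) fun x => by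
    show algebraMap R₀ T x = algebraMap (R ⊗[R₀] U) T ((1 : R) ⊗ₜ algebraMap R₀ U x)
    rw [IsScalarTower.algebraMap_apply R₀ (R ⊗[R₀] U) T]
    congr 1
    rw [← Algebra.TensorProduct.includeRight_apply (R := R₀), AlgHom.commutes]
  haveI : IsLocalHom (algebraMap R T) := ⟨fun r hr => by
    rw [IsScalarTower.algebraMap_apply R (R ⊗[R₀] U) T, IsLocalization.AtPrime.isUnit_to_map_iff T Q] at hr
    by_contra hnu
    refine hr ?_
    show Algebra.TensorProduct.map (IsScalarTower.toAlgHom R₀ R κ) (AlgHom.id R₀ U) (algebraMap R (R ⊗[R₀] U) r) ∈ n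
    rw [Algebra.TensorProduct.algebraMap_apply, Algebra.algebraMap_self, RingHom.id_apply,
      Algebra.TensorProduct.map_tmul, IsScalarTower.toAlgHom_apply,
      show algebraMap R κ r = 0 from (IsLocalRing.residue_eq_zero_iff r).2 ((IsLocalRing.mem_maximalIdeal r).2 hnu),
      TensorProduct.zero_tmul]
    exact zero_mem n⟩
  haveI : Module.Flat R T := by
    haveI : Module.Flat (R ⊗[R₀] U) T := IsLocalization.flat T Q.primeCompl
    exact Module.Flat.trans R (R ⊗[R₀] U) T
  haveI : Module.FaithfullyFlat R T := Module.FaithfullyFlat.of_flat_of_isLocalHom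
  exact ⟨T, inferInstance, inferInstance, inferInstance, inferInstance, inferInstance, inferInstance, inferInstance,
    inferInstance⟩

/-- A chart killing an idempotent, over a local faithfully flat algebra of a local ring. -/
theorem exists_local_idem_chart (R : Type u) [CommRing R] [IsLocalRing R] (C : Type u) [CommRing C] [HopfAlgebra R C]
    [Algebra.FinitePresentation R C]
    (hfl : ∀ (q : Ideal C) [q.IsPrime], Ideal.map (algebraMap R C) (IsLocalRing.maximalIdeal R) ≤ q →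
      Module.Flat R (Localization.AtPrime q))
    (hs : SGA3b.IsMultType (IsLocalRing.ResidueField R) (IsLocalRing.ResidueField R ⊗[R] C)) :
    ∃ (T : Type u) (_ : CommRing T) (_ : Algebra R T), IsLocalRing T ∧ Module.FaithfullyFlat R T ∧
      ∃ (e : T ⊗[R] C) (M : Type u) (_ : CommGroup M) (φ : (T ⊗[R] C) →ₐc[T] MonoidAlgebra T M),
        IsIdempotentElem e ∧ e ∈ (IsLocalRing.maximalIdeal R).map (algebraMap R (T ⊗[R] C)) ∧
        Function.Surjective φ ∧
        RingHom.ker (φ : (T ⊗[R] C) →ₐ[T] MonoidAlgebra T M).toRingHom = Ideal.span {e} := by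
  obtain ⟨R₀, _, _, _, _, hloc, C₀, _, _, hft, ⟨ψ⟩, hfl₀, hs₀⟩ := exists_local_model R C hfl hs
  obtain ⟨U, _, _, hU, e, M, _, φ, he, hem, hsurj, hker⟩ := exists_idem_chart R₀ C₀ hft hfl₀ hs₀
  haveI := hU
  obtain ⟨T, _, _, _, _, _, _, hTloc, hTff⟩ := exists_local_target R₀ R U
  haveI := hTloc
  haveI := hTff
  let Ψ : (T ⊗[R] C) ≃ₐc[T] T ⊗[U] (U ⊗[R₀] C₀) :=
    (bcEquiv T ψ.symm).trans ((cancelEquiv (R := R₀) (A := C₀) R T).trans (cancelEquiv (R := R₀) (A := C₀) U T).symm)
  obtain ⟨φT, hφsurj, hφker⟩ := baseChange_surj_ker T φ hsurj hker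
  obtain ⟨φ', hφ', hker'⟩ := transport_surj_ker Ψ (scalarBialgEquiv U T M) φT hφsurj hφker
  let ρ : (T ⊗[U] (U ⊗[R₀] C₀)) →ₐ[T] T ⊗[R] C := ((Ψ.symm : _ ≃ₐc[T] T ⊗[R] C) : _ →ₐ[T] T ⊗[R] C)
  let eT := ρ ((1 : T) ⊗ₜ[U] e)
  refine ⟨T, inferInstance, inferInstance, inferInstance, inferInstance, eT, M, inferInstance, φ', ?_, ?_, hφ', hker'⟩
  · exact (IsIdempotentElem.map (f := (Algebra.TensorProduct.includeRight : (U ⊗[R₀] C₀) →ₐ[U] T ⊗[U] (U ⊗[R₀] C₀))) he).map ρ
  · have h2 := Ideal.mem_map_of_mem (ρ.toRingHom.comp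
      (Algebra.TensorProduct.includeRight : (U ⊗[R₀] C₀) →ₐ[U] T ⊗[U] (U ⊗[R₀] C₀)).toRingHom) hem
    rw [Ideal.map_map] at h2
    refine (Ideal.map_le_iff_le_comap.2 fun a ha => ?_) h2
    show ρ ((1 : T) ⊗ₜ[U] algebraMap R₀ (U ⊗[R₀] C₀) a) ∈ (IsLocalRing.maximalIdeal R).map (algebraMap R (T ⊗[R] C))
    rw [IsScalarTower.algebraMap_apply R₀ U (U ⊗[R₀] C₀), ← Algebra.TensorProduct.includeRight_apply (R := U),
      AlgHom.commutes, IsScalarTower.algebraMap_apply U T (T ⊗[U] (U ⊗[R₀] C₀)), ρ.commutes,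
      ← IsScalarTower.algebraMap_apply R₀ U T, IsScalarTower.algebraMap_apply R₀ R T,
      ← IsScalarTower.algebraMap_apply R T]
    refine Ideal.mem_map_of_mem _ ((IsLocalRing.mem_maximalIdeal _).2 fun hu => ?_)
    exact (IsLocalRing.mem_maximalIdeal _).1 ha (hu.of_map (algebraMap R₀ R) a)

/-- A chart with vanishing idempotent gives multiplicative type. -/
theorem isMultType_of_idem_zero {R : Type u} [CommRing R] {C : Type u} [CommRing C] [HopfAlgebra R C]
    {T : Type u} [CommRing T] [Algebra R T] [Module.FaithfullyFlat R T] {M : Type u} [CommGroup M]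
    (φ : (T ⊗[R] C) →ₐc[T] MonoidAlgebra T M) (hsurj : Function.Surjective φ) {e : T ⊗[R] C}
    (hker : RingHom.ker (φ : (T ⊗[R] C) →ₐ[T] MonoidAlgebra T M).toRingHom = Ideal.span {e}) (he : e = 0) :
    SGA3b.IsMultType R C := by
  have hinj : Function.Injective φ := fun x y hxy => by
    have h1 : x - y ∈ Ideal.span {e} := by
      rw [← hker, RingHom.mem_ker]
      show φ (x - y) = 0
      rw [map_sub, hxy, sub_self]
    rw [he, Ideal.span_singleton_eq_bot.2 rfl, Ideal.mem_bot, sub_eq_zero] at h1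
    exact h1
  exact isMultType_of_charts (ι := Fin 1) (fun _ => T)
    (fun p => ⟨0, PrimeSpectrum.comap_surjective_of_faithfullyFlat p⟩)
    fun _ => ⟨M, inferInstance, ⟨BialgEquiv.ofBijective φ ⟨hinj, hsurj⟩⟩⟩

/-- The power maps commute with base change. -/
theorem powConv_baseChange {R : Type u} [CommRing R] {C : Type u} [CommRing C] [HopfAlgebra R C]
    (T : Type u) [CommRing T] [Algebra R T] (n : ℕ) (c : C) :
    SGA3b.powConv T (T ⊗[R] C) n ((1 : T) ⊗ₜ c) = (1 : T) ⊗ₜ SGA3b.powConv R C n c := by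
  induction n generalizing c with
  | zero =>
    show algebraMap T (T ⊗[R] C) (Coalgebra.counit (R := T) ((1 : T) ⊗ₜ[R] c)) =
      (1 : T) ⊗ₜ[R] algebraMap R C (Coalgebra.counit (R := R) c)
    rw [TensorProduct.counit_tmul, CommSemiring.counit_apply, Algebra.smul_def, mul_one,
      Algebra.TensorProduct.algebraMap_apply, Algebra.algebraMap_self, RingHom.id_apply,
      Algebra.algebraMap_eq_smul_one, Algebra.algebraMap_eq_smul_one, TensorProduct.smul_tmul]
  | succ n ih =>
    unfold SGA3b.powConv at ih ⊢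
    rw [pow_succ, pow_succ]
    show (_ * _ : WithConv ((T ⊗[R] C) →ₐ[T] T ⊗[R] C)) ((1 : T) ⊗ₜ c) = (1 : T) ⊗ₜ (_ * _ : WithConv (C →ₐ[R] C)) c
    rw [AlgHom.convMul_apply, AlgHom.convMul_apply, TensorProduct.comul_tmul, CommSemiring.comul_apply]
    generalize Coalgebra.comul (R := R) c = z
    induction z using TensorProduct.induction_on with
    | zero => simp
    | add x y hx hy => simp only [TensorProduct.tmul_add, map_add, hx, hy]
    | tmul a b =>
      rw [TensorProduct.AlgebraTensorModule.tensorTensorTensorComm_tmul, Algebra.TensorProduct.lift_tmul,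
        Algebra.TensorProduct.lift_tmul, ih]
      simp [Algebra.TensorProduct.tmul_mul_tmul]

/-- Finiteness of torsion is stable under base change. -/
theorem finite_torsion_baseChange {R : Type u} [CommRing R] {C : Type u} [CommRing C] [HopfAlgebra R C]
    (T : Type u) [CommRing T] [Algebra R T] (n : ℕ) [Module.Finite R (C ⧸ SGA3b.torsionIdeal R C n)] :
    Module.Finite T ((T ⊗[R] C) ⧸ SGA3b.torsionIdeal T (T ⊗[R] C) n) := by
  let J := SGA3b.torsionIdeal T (T ⊗[R] C) n
  let J₀ := SGA3b.torsionIdeal R C n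
  let g : C ⧸ J₀ →ₐ[R] (T ⊗[R] C) ⧸ J :=
    Ideal.Quotient.liftₐ J₀ ((Ideal.Quotient.mkₐ R J).comp Algebra.TensorProduct.includeRight) fun x hx => by
      have h : J₀ ≤ J.comap (Algebra.TensorProduct.includeRight : C →ₐ[R] T ⊗[R] C) :=
        Ideal.map_le_iff_le_comap.2 fun b hb => by
          show (1 : T) ⊗ₜ[R] SGA3b.powConv R C n b ∈ J
          rw [← powConv_baseChange]
          refine Ideal.mem_map_of_mem _ ?_
          show Coalgebra.counit (R := T) ((1 : T) ⊗ₜ[R] b) = 0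
          rw [TensorProduct.counit_tmul, show Coalgebra.counit (R := R) b = 0 from hb, zero_smul]
      exact Ideal.Quotient.eq_zero_iff_mem.2 (h hx)
  let G : T ⊗[R] (C ⧸ J₀) →ₐ[T] (T ⊗[R] C) ⧸ J :=
    Algebra.TensorProduct.lift (Algebra.ofId T _) g fun _ _ => Commute.all _ _
  exact Module.Finite.of_surjective (R := T) G.toLinearMap fun y => by
    obtain ⟨y, rfl⟩ := Ideal.Quotient.mk_surjective y
    induction y using TensorProduct.induction_on with
    | zero => exact ⟨0, by simp⟩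
    | add a b ha hb =>
      obtain ⟨p, hp⟩ := ha
      obtain ⟨q, hq⟩ := hb
      exact ⟨p + q, by rw [map_add, map_add, hp, hq]⟩
    | tmul t c =>
      refine ⟨t ⊗ₜ Ideal.Quotient.mk J₀ c, ?_⟩
      show G (t ⊗ₜ[R] Ideal.Quotient.mk J₀ c) = _
      rw [Algebra.TensorProduct.lift_tmul]
      show Ideal.Quotient.mk J (algebraMap T (T ⊗[R] C) t) * Ideal.Quotient.mk J ((1 : T) ⊗ₜ c) = _
      rw [← map_mul, Algebra.TensorProduct.algebraMap_apply, Algebra.algebraMap_self, RingHom.id_apply,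
        Algebra.TensorProduct.tmul_mul_tmul, mul_one, one_mul]

/-- An idempotent in `m·(T ⊗ C)` lies in every torsion ideal with finite quotient. -/
theorem idem_mem_torsion {R : Type u} [CommRing R] {C : Type u} [CommRing C] [HopfAlgebra R C]
    {T : Type u} [CommRing T] [Algebra R T] [IsLocalRing T] (I : Ideal R)
    (hI : I.map (algebraMap R T) ≤ IsLocalRing.maximalIdeal T) (n : ℕ)
    [Module.Finite R (C ⧸ SGA3b.torsionIdeal R C n)]
    (e : T ⊗[R] C) (he : IsIdempotentElem e) (hem : e ∈ I.map (algebraMap R (T ⊗[R] C))) :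
    e ∈ SGA3b.torsionIdeal T (T ⊗[R] C) n := by
  let J := SGA3b.torsionIdeal T (T ⊗[R] C) n
  haveI : Module.Finite T ((T ⊗[R] C) ⧸ J) := finite_torsion_baseChange T n
  rw [← Ideal.Quotient.eq_zero_iff_mem]
  refine idem_eq_of_jacobson (he.map (Ideal.Quotient.mk J)).eq (zero_mul _) ?_
  rw [sub_zero]
  have h1 := Ideal.mem_map_of_mem (Ideal.Quotient.mk J) hem
  rw [Ideal.map_map] at h1
  refine Ideal.mem_sInf.2 fun {P} hP => (Ideal.map_le_iff_le_comap.2 fun a ha => ?_) h1
  haveI : P.IsMaximal := hP.2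
  haveI : (P.comap (algebraMap T ((T ⊗[R] C) ⧸ J))).IsMaximal := Ideal.isMaximal_comap_of_isIntegral_of_isMaximal P
  have h2 : algebraMap R T a ∈ P.comap (algebraMap T ((T ⊗[R] C) ⧸ J)) := by
    rw [IsLocalRing.eq_maximalIdeal (I := P.comap (algebraMap T ((T ⊗[R] C) ⧸ J))) inferInstance]
    exact hI (Ideal.mem_map_of_mem _ ha)
  show Ideal.Quotient.mk J (algebraMap R (T ⊗[R] C) a) ∈ P
  rw [IsScalarTower.algebraMap_apply R T (T ⊗[R] C)]
  exact h2

/-- The criterion by connected fibres. -/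
theorem isMultType_local_connected (R : Type u) [CommRing R] [IsLocalRing R] (C : Type u) [CommRing C] [HopfAlgebra R C]
    [Algebra.FinitePresentation R C]
    (hfl : ∀ (q : Ideal C) [q.IsPrime], Ideal.map (algebraMap R C) (IsLocalRing.maximalIdeal R) ≤ q →
      Module.Flat R (Localization.AtPrime q))
    (hs : SGA3b.IsMultType (IsLocalRing.ResidueField R) (IsLocalRing.ResidueField R ⊗[R] C))
    (hconn : ∀ (p : Ideal R) [p.IsPrime], ConnectedSpace (PrimeSpectrum (p.ResidueField ⊗[R] C))) :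
    SGA3b.IsMultType R C := by
  obtain ⟨T, _, _, -, hff, e, M, _, φ, he, -, hsurj, hker⟩ := exists_local_idem_chart R C hfl hs
  haveI := hff
  refine isMultType_of_idem_zero φ hsurj hker (idem_eq_zero_of_connected_base hconn e he ?_)
  have h1 : φ e = 0 := RingHom.mem_ker.1 (hker ▸ Ideal.mem_span_singleton_self e)
  rw [← CoalgHomClass.counit_comp_apply φ e, h1, map_zero]

/-- The criterion by finiteness of torsion. -/
theorem isMultType_local_torsion (R : Type u) [CommRing R] [IsLocalRing R] (C : Type u) [CommRing C] [HopfAlgebra R C]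
    [Coalgebra.IsCocomm R C] [Algebra.FinitePresentation R C]
    (hfl : ∀ (q : Ideal C) [q.IsPrime], Ideal.map (algebraMap R C) (IsLocalRing.maximalIdeal R) ≤ q →
      Module.Flat R (Localization.AtPrime q))
    (hs : SGA3b.IsMultType (IsLocalRing.ResidueField R) (IsLocalRing.ResidueField R ⊗[R] C))
    (hfin : ∀ n : ℕ, 0 < n → Module.Finite R (C ⧸ SGA3b.torsionIdeal R C n)) :
    SGA3b.IsMultType R C := by
  obtain ⟨T, _, _, hT, hff, e, M, _, φ, he, hem, hsurj, hker⟩ := exists_local_idem_chart R C hfl hs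
  haveI := hT
  haveI := hff
  obtain ⟨hH, ⟨θ⟩⟩ := exists_quot_equiv φ hsurj e hker
  haveI := hH
  have hB : SGA3b.IsIsotrivial T ((T ⊗[R] C) ⧸ Ideal.span {e}) :=
    ⟨T, inferInstance, inferInstance, inferInstance, inferInstance, inferInstance, M, inferInstance,
      ⟨(bcEquiv T θ).trans (scalarBialgEquiv T T M)⟩⟩
  refine isMultType_of_idem_zero φ hsurj hker (idem_eq_zero_of_mem_torsion inferInstance e he hB fun n hn => ?_)
  haveI := hfin n hn
  refine idem_mem_torsion (IsLocalRing.maximalIdeal R) ?_ n e he hem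
  refine Ideal.map_le_iff_le_comap.2 fun a ha => (IsLocalRing.mem_maximalIdeal _).2 fun hu => ?_
  haveI : IsLocalHom (algebraMap R T) := by
    obtain ⟨P, hP⟩ := PrimeSpectrum.comap_surjective_of_faithfullyFlat (A := R) (B := T)
      ⟨IsLocalRing.maximalIdeal R, inferInstance⟩
    refine ⟨fun r hr => by_contra fun hnr => P.isPrime.ne_top (Ideal.eq_top_of_isUnit_mem _ ?_ hr)⟩
    exact (Ideal.ext_iff.1 (congrArg PrimeSpectrum.asIdeal hP) r).2 ((IsLocalRing.mem_maximalIdeal r).2 hnr)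
  exact (IsLocalRing.mem_maximalIdeal _).1 ha (hu.of_map (algebraMap R T) a)

end Groth.Agent.H19Mult.LocalCriterion
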