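import Groth.Agent.H19Mult.SubgroupRigid
import Groth.Agent.H19Mult.BaseChange

/-!
Closed subgroups of groups of multiplicative type over a local base: triviality and torsion are detected on the
closed fibre.
-/

set_option autoImplicit false
set_option linter.style.haveILetI false
set_option backward.isDefEq.respectTransparency false

universe u

open TensorProduct WithConv

namespace Groth.Agent.H19Mult.SubgroupLocal

open SubgroupRigid

variable {R : Type u} [CommRing R] {A : Type u} [CommRing A] [HopfAlgebra R A]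

/-- A local faithfully flat chart over a local ring. -/
theorem exists_local_chart [IsLocalRing R] (hft : Algebra.FiniteType R A) (h : SGA3b.IsMultType R A) :
    ∃ (T : Type u) (_ : CommRing T) (_ : Algebra R T) (_ : IsLocalRing T), Module.FaithfullyFlat R T ∧
      (IsLocalRing.maximalIdeal R).map (algebraMap R T) ≤ IsLocalRing.maximalIdeal T ∧
      ∃ (M : Type u) (_ : CommGroup M), Group.FG M ∧ Nonempty ((T ⊗[R] A) ≃ₐc[T] MonoidAlgebra T M) := by
  obtain ⟨s, hs, h⟩ := h
  obtain ⟨f, hf, hfm⟩ : ∃ f ∈ s, f ∉ IsLocalRing.maximalIdeal R := by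
    by_contra hc
    push Not at hc
    exact (IsLocalRing.maximalIdeal.isMaximal R).ne_top (top_le_iff.1 (hs ▸ Ideal.span_le.2 hc))
  have hu : IsUnit f := IsLocalRing.notMem_maximalIdeal.1 hfm
  obtain ⟨U, _, _, hff, M, _, ⟨e⟩⟩ := h f hf
  haveI := hff
  let L := Localization.Away f
  letI : Algebra R U := ((algebraMap L U).comp (algebraMap R L)).toAlgebra
  haveI : IsScalarTower R L U := IsScalarTower.of_algebraMap_eq' rfl
  haveI : Module.FaithfullyFlat R L := Module.FaithfullyFlat.of_linearEquiv R R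
    (IsLocalization.atUnit R L f hu).symm.toLinearEquiv
  haveI : Module.FaithfullyFlat R U := Module.FaithfullyFlat.trans R L U
  haveI : IsLocalHom (algebraMap R R) := ⟨fun a ha => ha⟩
  obtain ⟨T, _, iT, _, iR, i1, i2, hT, hffT⟩ := LocalCriterion.exists_local_target R R U
  haveI := hT
  obtain rfl : iR = iT := Algebra.algebra_ext _ _ fun r =>
    @IsScalarTower.algebraMap_apply R R T _ _ _ (Algebra.id R) iT iR i1 r
  haveI := hffT
  obtain ⟨eT⟩ := isDiag_baseChange ((cancelEquiv (R := R) (A := A) L U).symm.trans e) T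
  haveI : Nontrivial T := inferInstance
  refine ⟨T, inferInstance, inferInstance, hT, hffT, ?_, M, inferInstance, fg_of_chart hft eT, ⟨eT⟩⟩
  refine Ideal.map_le_iff_le_comap.2 fun a ha => ?_
  obtain ⟨P, hP⟩ := PrimeSpectrum.comap_surjective_of_faithfullyFlat (A := R) (B := T)
    ⟨IsLocalRing.maximalIdeal R, inferInstance⟩
  exact IsLocalRing.le_maximalIdeal P.isPrime.ne_top ((Ideal.ext_iff.1 (congrArg PrimeSpectrum.asIdeal hP) a).2 ha)

variable {T : Type u} [CommRing T] [Algebra R T] {M : Type u} [CommGroup M]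
  (e : (T ⊗[R] A) ≃ₐc[T] MonoidAlgebra T M) (J : Ideal A) [J.IsHopfIdeal R]

/-- The base change of a closed subgroup. -/
noncomputable def qmap : (T ⊗[R] A) →ₐc[T] (T ⊗[R] (A ⧸ J)) :=
  Bialgebra.TensorProduct.map (BialgHom.id T T) (Bialgebra.Quotient.mkBialgHom (R := R) J)

theorem qmap_tmul (t : T) (a : A) : qmap (R := R) J (t ⊗ₜ[R] a) = t ⊗ₜ[R] Ideal.Quotient.mk J a := rfl

theorem qmap_surjective : Function.Surjective (qmap (R := R) (T := T) J) := fun z => by
  induction z using TensorProduct.induction_on with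
  | zero => exact ⟨0, map_zero _⟩
  | tmul r x => obtain ⟨a, rfl⟩ := Ideal.Quotient.mk_surjective x; exact ⟨r ⊗ₜ a, rfl⟩
  | add u w hu hw =>
    obtain ⟨p, rfl⟩ := hu
    obtain ⟨q, rfl⟩ := hw
    exact ⟨p + q, map_add _ _ _⟩

/-- The characters restricted to a closed subgroup. -/
noncomputable def pi : MonoidAlgebra T M →ₐc[T] (T ⊗[R] (A ⧸ J)) :=
  (qmap J).comp (e.symm : MonoidAlgebra T M →ₐc[T] (T ⊗[R] A))

theorem pi_surjective : Function.Surjective (pi e J) :=
  (qmap_surjective (R := R) J).comp (EquivLike.surjective e.symm)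

theorem powConv_comp {B C : Type u} [CommRing B] [HopfAlgebra T B] [CommRing C] [HopfAlgebra T C] (φ : B →ₐc[T] C)
    (n : ℕ) (b : B) : φ (SGA3b.powConv T B n b) = SGA3b.powConv T C n (φ b) := by
  have h1 : ∀ j : ℕ, toConv ((φ : B →ₐ[T] C).comp (SGA3b.powConv T B j)) =
      toConv ((SGA3b.powConv T C j).comp (φ : B →ₐ[T] C)) := by
    intro j
    induction j with
    | zero =>
      refine WithConv.ofConv_injective (AlgHom.ext fun z => ?_)
      show (φ : B →ₐ[T] C) (algebraMap T B (Coalgebra.counit (R := T) z)) = algebraMap T C (Coalgebra.counit (R := T) (φ z))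
      rw [AlgHom.commutes, CoalgHomClass.counit_comp_apply φ z]
    | succ j ih =>
      have h2 := AlgHom.comp_convMul_distrib (φ : B →ₐ[T] C) ((toConv (AlgHom.id T B)) ^ j) (toConv (AlgHom.id T B))
      have h3 := AlgHom.convMul_comp_bialgHom_distrib ((toConv (AlgHom.id T C)) ^ j) (toConv (AlgHom.id T C)) φ
      refine WithConv.ofConv_injective ?_
      show (φ : B →ₐ[T] C).comp ((toConv (AlgHom.id T B)) ^ (j + 1)).ofConv =
        ((toConv (AlgHom.id T C)) ^ (j + 1)).ofConv.comp (φ : B →ₐ[T] C)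
      rw [pow_succ, pow_succ, h2, h3, AlgHom.comp_id, AlgHom.id_comp]
      exact congrArg WithConv.ofConv (congrArg (· * toConv (φ : B →ₐ[T] C)) ih)
  exact AlgHom.congr_fun (WithConv.toConv_injective (h1 n)) b

variable [IsLocalRing T]

omit [J.IsHopfIdeal R] in
/-- The extension of the maximal ideal. -/
theorem one_tmul_mem [IsLocalRing R] (hloc : (IsLocalRing.maximalIdeal R).map (algebraMap R T) ≤ IsLocalRing.maximalIdeal T)
    {x : A ⧸ J} (hx : x ∈ Ideal.map (algebraMap R (A ⧸ J)) (IsLocalRing.maximalIdeal R)) :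
    (1 : T) ⊗ₜ[R] x ∈ (IsLocalRing.maximalIdeal T).map (algebraMap T (T ⊗[R] (A ⧸ J))) := by
  have h := Ideal.mem_map_of_mem (Algebra.TensorProduct.includeRight : (A ⧸ J) →ₐ[R] T ⊗[R] (A ⧸ J)).toRingHom hx
  rw [Ideal.map_map, AlgHom.toRingHom_eq_coe, AlgHom.comp_algebraMap, IsScalarTower.algebraMap_eq R T, ← Ideal.map_map] at h
  exact Ideal.map_mono hloc h

/-- A closed subgroup whose closed fibre is trivial is trivial. -/
theorem eq_aug_of_closed [IsLocalRing R] [Module.FaithfullyFlat R T]
    (hloc : (IsLocalRing.maximalIdeal R).map (algebraMap R T) ≤ IsLocalRing.maximalIdeal T)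
    [Algebra.FiniteType R (A ⧸ J)]
    (e : (T ⊗[R] A) ≃ₐc[T] MonoidAlgebra T M)
    (hs : ∀ a, Coalgebra.counit (R := R) a = 0 → a ∈ J ⊔ Ideal.map (algebraMap R A) (IsLocalRing.maximalIdeal R)) :
    J = RingHom.ker (Bialgebra.counitAlgHom R A) := by
  let B := T ⊗[R] (A ⧸ J)
  have hcl : ∀ z : B, z - algebraMap T B (Coalgebra.counit z) ∈ (IsLocalRing.maximalIdeal T).map (algebraMap T B) := by
    intro z
    induction z using TensorProduct.induction_on with
    | zero => simp
    | add u w hu hw => rw [map_add, map_add, add_sub_add_comm]; exact add_mem hu hw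
    | tmul t x =>
      obtain ⟨a, rfl⟩ := Ideal.Quotient.mk_surjective x
      have h0 : a - algebraMap R A (Coalgebra.counit (R := R) a) ∈
          J ⊔ Ideal.map (algebraMap R A) (IsLocalRing.maximalIdeal R) :=
        hs _ (by rw [map_sub, Bialgebra.counit_algebraMap, sub_self])
      have h1 := Ideal.mem_map_of_mem (Ideal.Quotient.mk J) h0
      rw [Ideal.map_sup, Ideal.map_quotient_self, bot_sup_eq, Ideal.map_map] at h1
      have h2 := one_tmul_mem (T := T) J hloc h1
      rw [map_sub, TensorProduct.tmul_sub] at h2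
      have h3 := Ideal.mul_mem_left _ (algebraMap T B t) h2
      have e1 : (Ideal.Quotient.mk J (algebraMap R A (Coalgebra.counit (R := R) a)) : A ⧸ J) =
          Coalgebra.counit (R := R) a • (1 : A ⧸ J) :=
        ((Ideal.Quotient.mkₐ R J).commutes _).trans (Algebra.algebraMap_eq_smul_one _)
      convert h3 using 1
      rw [e1, mul_sub, TensorProduct.counit_tmul, CommSemiring.counit_apply, Algebra.TensorProduct.algebraMap_apply,
        Algebra.TensorProduct.algebraMap_apply, Algebra.algebraMap_self, RingHom.id_apply, RingHom.id_apply,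
        Algebra.TensorProduct.tmul_mul_tmul, Algebra.TensorProduct.tmul_mul_tmul, mul_one, one_mul, one_mul,
        ← TensorProduct.smul_tmul]
      rfl
  have key : ∀ z : B, z = algebraMap T B (Coalgebra.counit z) :=
    eq_algebraMap_counit (pi e J) (pi_surjective e J) fun b hb => by
      have := hcl b
      rwa [hb, map_zero, sub_zero] at this
  refine le_antisymm (fun a ha => Submodule.IsCoideal.counit_eq_zero (I := J.restrictScalars R) ha) fun a ha => ?_
  refine Ideal.Quotient.eq_zero_iff_mem.1 ?_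
  refine Module.FaithfullyFlat.tensorProduct_mk_injective (A := R) (B := T) (A ⧸ J) ?_
  show (1 : T) ⊗ₜ[R] Ideal.Quotient.mk J a = (1 : T) ⊗ₜ[R] (0 : A ⧸ J)
  rw [key ((1 : T) ⊗ₜ[R] Ideal.Quotient.mk J a), TensorProduct.tmul_zero, TensorProduct.counit_tmul,
    show Coalgebra.counit (R := R) (Ideal.Quotient.mk J a : A ⧸ J) = 0 from ha, zero_smul, map_zero]

/-- Group-like values in a finite algebra over a field have a common period. -/
theorem exists_pow_groupLike {K D M : Type u} [Field K] [CommRing D] [HopfAlgebra K D] [Module.Finite K D]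
    [CommGroup M] (g : M →* D) (hgl : ∀ x, IsGroupLikeElem K (g x)) : ∃ n : ℕ, 0 < n ∧ ∀ x, g x ^ n = 1 := by
  have hfin : {a : D | IsGroupLikeElem K a}.Finite :=
    (linearIndepOn_isGroupLikeElem (R := K) (A := D)).linearIndependent.setFinite
  let G := g.toHomUnits.range
  haveI : Finite G := by
    haveI := hfin.to_subtype
    exact Finite.of_injective (fun u : G => (⟨((u : Dˣ) : D), by
        obtain ⟨_, x, rfl⟩ := u; exact hgl x⟩ : {a : D | IsGroupLikeElem K a}))
      fun a b h => Subtype.ext (Units.ext (congrArg Subtype.val h))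
  refine ⟨Nat.card G, Nat.card_pos, fun x => ?_⟩
  have h := pow_card_eq_one' (G := G) (x := ⟨g.toHomUnits x, x, rfl⟩)
  have h2 : g.toHomUnits x ^ Nat.card G = 1 := congrArg Subtype.val h
  have h3 := congrArg Units.val h2
  rwa [Units.val_pow_eq_pow_val, MonoidHom.coe_toHomUnits, Units.val_one] at h3

/-- Characters have a common period on a finite closed fibre. -/
theorem exists_pow_closed {B : Type u} [CommRing B] [HopfAlgebra T B] (π : MonoidAlgebra T M →ₐc[T] B)
    [Module.Finite (IsLocalRing.maximalIdeal T).ResidueField ((IsLocalRing.maximalIdeal T).ResidueField ⊗[T] B)] :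
    ∃ n : ℕ, 0 < n ∧ ∀ m, ch π m ^ n - 1 ∈ (IsLocalRing.maximalIdeal T).map (algebraMap T B) := by
  let K := (IsLocalRing.maximalIdeal T).ResidueField
  let g : M →* K ⊗[T] B := (Algebra.TensorProduct.includeRight : B →ₐ[T] K ⊗[T] B).toMonoidHom.comp (ch π)
  obtain ⟨n, hn, hgn⟩ := exists_pow_groupLike g fun x => isGroupLikeElem_one_tmul (isGroupLikeElem_ch π x)
  refine ⟨n, hn, fun m => ?_⟩
  have h0 : (1 : K) ⊗ₜ[T] (ch π m ^ n - 1) = (0 : K ⊗[T] B) := by
    show Algebra.TensorProduct.includeRight (ch π m ^ n - 1) = 0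
    rw [map_sub, map_pow, map_one, sub_eq_zero]
    exact hgn m
  obtain ⟨s, hs, hsm⟩ := exists_smul_mem_map_of_fibre_zero _ h0
  obtain ⟨v, rfl⟩ := IsLocalRing.notMem_maximalIdeal.1 hs
  have := Ideal.mul_mem_left _ (algebraMap T B ↑v⁻¹) hsm
  rwa [Algebra.smul_def, ← mul_assoc, ← map_mul, Units.inv_mul, map_one, one_mul] at this

/-- A closed subgroup with finite closed fibre is killed by an integer. -/
theorem exists_torsion_le [IsLocalRing R] [Module.FaithfullyFlat R T] [Group.FG M]
    (e : (T ⊗[R] A) ≃ₐc[T] MonoidAlgebra T M)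
    [Module.Finite (IsLocalRing.maximalIdeal T).ResidueField
      ((IsLocalRing.maximalIdeal T).ResidueField ⊗[T] (T ⊗[R] (A ⧸ J)))] :
    ∃ n : ℕ, 0 < n ∧ SGA3b.torsionIdeal R A n ≤ J := by
  let B := T ⊗[R] (A ⧸ J)
  obtain ⟨n, hn, hcl⟩ := exists_pow_closed (pi e J)
  obtain ⟨N, hN, hpow⟩ := exists_pow_eq_one (pi e J) (pi_surjective e J) n hn hcl
  have hB : ∀ b ∈ RingHom.ker (Bialgebra.counitAlgHom T B), SGA3b.powConv T B N b = 0 := by
    have h : RingHom.ker (Bialgebra.counitAlgHom T B) ≤ RingHom.ker (SGA3b.powConv T B N) := by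
      rw [aug_eq_span (pi e J) (pi_surjective e J), Ideal.span_le]
      rintro _ ⟨m, rfl⟩
      show SGA3b.powConv T B N (ch (pi e J) m - 1) = 0
      rw [map_sub, map_one, powConv_ch, hpow, sub_self]
    exact h
  refine ⟨N, hN, Ideal.map_le_iff_le_comap.2 fun a ha => ?_⟩
  show SGA3b.powConv R A N a ∈ J
  refine Ideal.Quotient.eq_zero_iff_mem.1 ?_
  refine Module.FaithfullyFlat.tensorProduct_mk_injective (A := R) (B := T) (A ⧸ J) ?_
  show (1 : T) ⊗ₜ[R] Ideal.Quotient.mk J (SGA3b.powConv R A N a) = (1 : T) ⊗ₜ[R] (0 : A ⧸ J)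
  rw [TensorProduct.tmul_zero, ← qmap_tmul, ← LocalCriterion.powConv_baseChange, powConv_comp]
  refine hB _ ?_
  show Coalgebra.counit (R := T) ((1 : T) ⊗ₜ[R] (Ideal.Quotient.mk J a : A ⧸ J)) = 0
  rw [TensorProduct.counit_tmul, show Coalgebra.counit (R := R) (Ideal.Quotient.mk J a : A ⧸ J) = 0 from ha, zero_smul]

/-- Finiteness of the closed fibre passes to a residue field above it. -/
theorem finite_fibre_over {R T K X : Type u} [CommRing R] [IsLocalRing R] [CommRing T] [Algebra R T] [Field K] [Algebra T K]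
    [Algebra R K] [IsScalarTower R T K] (hker : ∀ a ∈ IsLocalRing.maximalIdeal R, algebraMap R K a = 0)
    [AddCommGroup X] [Module R X]
    [Module.Finite (IsLocalRing.ResidueField R) (IsLocalRing.ResidueField R ⊗[R] X)] :
    Module.Finite K (K ⊗[T] (T ⊗[R] X)) := by
  letI : Algebra (IsLocalRing.ResidueField R) K :=
    (Ideal.Quotient.lift (IsLocalRing.maximalIdeal R) (algebraMap R K) hker).toAlgebra
  haveI : IsScalarTower R (IsLocalRing.ResidueField R) K := IsScalarTower.of_algebraMap_eq fun a => rfl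
  exact Module.Finite.equiv ((TensorProduct.AlgebraTensorModule.cancelBaseChange R (IsLocalRing.ResidueField R) K K X).trans
    (TensorProduct.AlgebraTensorModule.cancelBaseChange R T K K X).symm)

end Groth.Agent.H19Mult.SubgroupLocal
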