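import Groth.Agent.H19Mult.HomLift

/-!
Homomorphisms to a diagonalisable group over an adically complete Noetherian ring from a group
whose truncations are of multiplicative type.
-/

set_option autoImplicit false
set_option linter.style.haveILetI false
set_option backward.isDefEq.respectTransparency false

universe u

open TensorProduct WithConv Coalgebra

namespace Groth.Agent.H19Mult

section Transfer

variable {T : Type u} [CommRing T] {D : Type u} [CommRing D] [HopfAlgebra T D] {M : Type u} [CommGroup M]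
  {Q : Type u} [CommRing Q] [Algebra T Q]

theorem cancelEquiv_tmul {S : Type u} [CommRing S] [Algebra T S] [Algebra Q S] [IsScalarTower T Q S] (s : S)
    (q : Q) (d : D) : cancelEquiv (R := T) (A := D) Q S (s ⊗ₜ[Q] (q ⊗ₜ[T] d)) = (q • s) ⊗ₜ[T] d :=
  Algebra.TensorProduct.cancelBaseChange_tmul T Q S S D s q d

/-- A homomorphism out of a base change, restricted. -/
theorem exists_isHomD_down {G : (Q ⊗[T] D) →ₐ[Q] MonoidAlgebra Q M} (hG : IsHomD G) :
    ∃ F : D →ₐ[T] MonoidAlgebra Q M, IsHomD F ∧ ∀ d, F d = G ((1 : Q) ⊗ₜ d) := by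
  obtain ⟨Φ, hΦ⟩ := hG.exists_bialgHom
  let Φ' : (Q ⊗[T] D) →ₐc[Q] MonoidAlgebra Q M :=
    Φ.comp ((cancelEquiv (R := T) (A := D) Q Q).symm : (Q ⊗[T] D) →ₐc[Q] Q ⊗[Q] (Q ⊗[T] D))
  refine ⟨restr Φ', isHomD_restr Φ', fun d => ?_⟩
  show Φ ((cancelEquiv (R := T) (A := D) Q Q).symm ((1 : Q) ⊗ₜ[T] d)) = _
  rw [show (cancelEquiv (R := T) (A := D) Q Q).symm ((1 : Q) ⊗ₜ[T] d) = (1 : Q) ⊗ₜ[Q] ((1 : Q) ⊗ₜ[T] d) from
    EquivLike.injective (cancelEquiv (R := T) (A := D) Q Q) (by
      rw [BialgEquiv.apply_symm_apply, cancelEquiv_tmul, one_smul]), hΦ, one_smul]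

/-- A homomorphism into `S[M]`, extended to a base change. -/
theorem exists_isHomD_up {S : Type u} [CommRing S] [Algebra T S] [Algebra Q S] [IsScalarTower T Q S]
    {F : D →ₐ[T] MonoidAlgebra S M} (hF : IsHomD F) :
    ∃ G : (Q ⊗[T] D) →ₐ[Q] MonoidAlgebra S M, IsHomD G ∧ ∀ d, G ((1 : Q) ⊗ₜ d) = F d := by
  obtain ⟨Φ, hΦ⟩ := hF.exists_bialgHom
  let Φ' : (S ⊗[Q] (Q ⊗[T] D)) →ₐc[S] MonoidAlgebra S M :=
    Φ.comp ((cancelEquiv (R := T) (A := D) Q S) : (S ⊗[Q] (Q ⊗[T] D)) →ₐc[S] S ⊗[T] D)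
  refine ⟨restr Φ', isHomD_restr Φ', fun d => ?_⟩
  show Φ (cancelEquiv (R := T) (A := D) Q S ((1 : S) ⊗ₜ[Q] ((1 : Q) ⊗ₜ[T] d))) = _
  rw [cancelEquiv_tmul, one_smul, hΦ, one_smul]

theorem commConv_of_baseChange (h : SGA3b.IsMultType Q (Q ⊗[T] D)) : CommConv T D Q := by
  intro f g
  have h1 := commConv_of_isMultType h Q (extL f) (extL g)
  rw [← extL_mul, ← extL_mul] at h1
  refine WithConv.ofConv_injective (LinearMap.ext fun c => ?_)
  have := congrArg (fun k : WithConv ((Q ⊗[T] D) →ₗ[Q] Q) => k.ofConv ((1 : Q) ⊗ₜ[T] c)) h1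
  simpa [extL_tmul] using this

end Transfer

section Finite

variable {T : Type u} [CommRing T] [IsNoetherianRing T] {D : Type u} [CommRing D] [HopfAlgebra T D] {M : Type u}

/-- An orthogonal family of idempotent functionals is finitely supported at each element. -/
theorem finite_support_of_orthogonal (f : M → WithConv (D →ₗ[T] T))
    (hi : ∀ m, f m * f m = f m) (ho : ∀ a b, a ≠ b → f a * f b = 0) (c : D) :
    {m | (f m).ofConv c ≠ 0}.Finite := by
  classical
  have hdiag : ∀ c : D, ∃ (r : ℕ) (u v : Fin r → D), ∀ a b : M,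
      (if a = b then (f a).ofConv c else 0) = ∑ j, (f a).ofConv (u j) * (f b).ofConv (v j) := by
    intro c
    obtain ⟨S, hS⟩ := TensorProduct.exists_finset (R := T) (comul (R := T) c)
    refine ⟨S.card, fun j => (S.equivFin.symm j).1.1, fun j => (S.equivFin.symm j).1.2, fun a b => ?_⟩
    have h : (f a * f b).ofConv c = ∑ j, (f a).ofConv (S.equivFin.symm j).1.1 * (f b).ofConv (S.equivFin.symm j).1.2 := by
      rw [LinearMap.convMul_def]
      show LinearMap.mul' T T (TensorProduct.map (f a).ofConv (f b).ofConv (comul c)) = _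
      rw [hS, map_sum, map_sum, ← Finset.sum_coe_sort, ← Equiv.sum_comp S.equivFin.symm]
      simp
    rw [← h]
    split
    · next hab => subst hab; rw [hi]
    · next hab => rw [ho a b hab]; rfl
  have hprime : ∀ (p : Ideal T) [p.IsPrime] (c : D), {m | (f m).ofConv c ∉ p}.Finite := by
    intro p _ c
    obtain ⟨r, u, v, h⟩ := hdiag c
    let K := p.ResidueField
    refine Set.finite_coe_iff.1 ?_
    let w : {m | (f m).ofConv c ∉ p} → (Fin r → K) := fun a j => algebraMap T K ((f a.1).ofConv (u j))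
    have hw : LinearIndependent K w := by
      rw [linearIndependent_iff']
      intro s g hg b hb
      have h1 := congrArg (fun x : Fin r → K => ∑ j, x j * algebraMap T K ((f b.1).ofConv (v j))) hg
      simp only [Finset.sum_apply, Pi.smul_apply, smul_eq_mul, Pi.zero_apply, zero_mul, Finset.sum_const_zero,
        w] at h1
      rw [Finset.sum_congr rfl fun j _ => Finset.sum_mul s _ _] at h1
      rw [Finset.sum_comm] at h1
      simp only [mul_assoc, ← Finset.mul_sum, ← map_mul, ← map_sum, ← h] at h1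
      rw [Finset.sum_eq_single b] at h1
      · rw [if_pos rfl] at h1
        refine (mul_eq_zero.1 h1).resolve_right fun hz => b.2 ?_
        exact Ideal.algebraMap_residueField_eq_zero.1 hz
      · intro x _ hx
        rw [if_neg (fun he => hx (Subtype.ext he)), map_zero, mul_zero]
      · exact fun hbs => absurd hb hbs
    exact hw.finite
  have hnil : ∀ c : D, {m | (f m).ofConv c ∉ nilradical T}.Finite := by
    intro c
    refine Set.Finite.subset ((minimalPrimes.finite_of_isNoetherianRing T).biUnion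
      fun p hp => by haveI := hp.1.1; exact hprime p c) fun m hm => ?_
    by_contra hne
    refine hm ?_
    rw [nilradical_eq_sInf, Ideal.mem_sInf]
    intro p hp
    haveI : p.IsPrime := hp
    obtain ⟨q, hq, hqp⟩ := Ideal.exists_minimalPrimes_le (I := ⊥) (J := p) bot_le
    refine hqp ?_
    by_contra hq'
    exact hne (Set.mem_biUnion hq hq')
  obtain ⟨N, hN⟩ := IsNoetherianRing.isNilpotent_nilradical T
  have hpow : ∀ (k : ℕ) (c : D), {m | (f m).ofConv c ∉ nilradical T ^ (k + 1)}.Finite := by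
    intro k
    induction k with
    | zero => simpa using hnil
    | succ k ih =>
      intro c
      obtain ⟨r, u, v, h⟩ := hdiag c
      refine Set.Finite.subset ((Set.finite_iUnion fun j => ih (u j)).union (Set.finite_iUnion fun j => hnil (v j)))
        fun m hm => ?_
      by_contra hne
      simp only [Set.mem_union, Set.mem_iUnion, Set.mem_ofPred_eq, not_or, not_exists, not_not] at hne
      refine hm ?_
      have := h m m
      rw [if_pos rfl] at this
      rw [this, pow_succ]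
      exact Ideal.sum_mem _ fun j _ => Ideal.mul_mem_mul (hne.1 j) (hne.2 j)
  refine Set.Finite.subset (hpow N c) fun m hm hin => hm ?_
  have := Ideal.pow_le_pow_right (Nat.le_succ N) hin
  rwa [hN, Ideal.zero_eq_bot, Ideal.mem_bot] at this

end Finite

section Complete

variable {T : Type u} [CommRing T] (I : Ideal T) {D : Type u} [CommRing D] [HopfAlgebra T D] {M : Type u} [CommGroup M]

/-- Rigidity over a separated ring. -/
theorem IsHomD.eq_of_hausdorff [IsHausdorff I T]
    (hlev : ∀ n : ℕ, SGA3b.IsMultType (T ⧸ I ^ (n + 1)) ((T ⧸ I ^ (n + 1)) ⊗[T] D))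
    {F G : D →ₐ[T] MonoidAlgebra T M} (hF : IsHomD F) (hG : IsHomD G)
    (h : ∀ m c, coefL m (F c) - coefL m (G c) ∈ I) : F = G := by
  refine AlgHom.ext fun c => ext_coef fun m => sub_eq_zero.1 (IsHausdorff.haus' (I := I) _ fun n => ?_)
  rw [SModEq.zero, smul_eq_mul, Ideal.mul_top]
  refine Ideal.pow_le_pow_right (Nat.le_succ n) ?_
  let π := Ideal.Quotient.mkₐ T (I ^ (n + 1))
  have hJ : IsNilpotent (I.map π.toRingHom) := ⟨n + 1, by
    rw [← Ideal.map_pow, Ideal.zero_eq_bot, Ideal.map_eq_bot_iff_le_ker]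
    exact (Ideal.mk_ker (I := I ^ (n + 1))).ge⟩
  have := (hF.push π).eq_of_sub_mem (hG.push π) (commConv_of_baseChange (hlev n)) hJ fun m c => by
    rw [coefL_push, coefL_push, ← map_sub]
    exact Ideal.mem_map_of_mem _ (h m c)
  have hh := congrArg (fun F : D →ₐ[T] MonoidAlgebra (T ⧸ I ^ (n + 1)) M => coefL m (F c)) this
  simp only [coefL_push] at hh
  exact Ideal.Quotient.eq.1 hh

/-- Lifts to each truncation. -/
theorem exists_level_lift (n : ℕ) (hlev : SGA3b.IsMultType (T ⧸ I ^ (n + 1)) ((T ⧸ I ^ (n + 1)) ⊗[T] D))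
    (F₀ : D →ₐ[T] MonoidAlgebra (T ⧸ I) M) (hF₀ : IsHomD F₀) :
    ∃ F : D →ₐ[T] MonoidAlgebra (T ⧸ I ^ (n + 1)) M, IsHomD F ∧
      push (Ideal.Quotient.factorₐ T (Ideal.pow_le_self n.succ_ne_zero : I ^ (n + 1) ≤ I)) F = F₀ := by
  classical
  have hle : ∀ n : ℕ, I ^ (n + 1) ≤ I := fun n => Ideal.pow_le_self n.succ_ne_zero
  let q := T ⧸ I ^ (n + 1)
  let J : Ideal q := I.map (algebraMap T q)
  have hJ : IsNilpotent J := ⟨n + 1, by
    rw [← Ideal.map_pow, Ideal.zero_eq_bot, Ideal.map_eq_bot_iff_le_ker]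
    exact (Ideal.mk_ker (I := I ^ (n + 1))).ge⟩
  let j : (T ⧸ I) →ₐ[T] q ⧸ J := Ideal.Quotient.liftₐ I (Algebra.ofId T _) fun r hr =>
    Ideal.Quotient.eq_zero_iff_mem.2 (Ideal.mem_map_of_mem _ hr)
  obtain ⟨G₀, hG₀, hG₀v⟩ := exists_isHomD_up (Q := q) (hF₀.push j)
  obtain ⟨G, hG, hGp⟩ := exists_lift_isHomD (hlev) hJ G₀ hG₀
  obtain ⟨F, hF, hFv⟩ := exists_isHomD_down hG
  refine ⟨F, hF, AlgHom.ext fun c => ext_coef fun m => ?_⟩
  obtain ⟨t, ht⟩ := Ideal.Quotient.mk_surjective (coefL m (F c))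
  obtain ⟨s, hs⟩ := Ideal.Quotient.mk_surjective (coefL m (F₀ c))
  have h1 : Ideal.Quotient.mk J (coefL m (F c)) = j (coefL m (F₀ c)) := by
    rw [hFv, ← coefL_push j, ← hG₀v, ← hGp, coefL_push]
    rfl
  rw [coefL_push, ← ht, ← hs]
  rw [← ht, ← hs] at h1
  have h2 : Ideal.Quotient.mk (I ^ (n + 1)) t - Ideal.Quotient.mk (I ^ (n + 1)) s ∈ J := Ideal.Quotient.eq.1 h1
  rw [← map_sub] at h2
  obtain ⟨w, hw, hwe⟩ := (Ideal.mem_map_iff_of_surjective _ Ideal.Quotient.mk_surjective).1 h2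
  show Ideal.Quotient.mk I t = Ideal.Quotient.mk I s
  refine Ideal.Quotient.eq.2 ?_
  have h3 := hle n (Ideal.Quotient.eq.1 hwe)
  simpa using sub_mem hw h3

/-- Lifts to two truncations are compatible. -/
theorem level_factor_eq {a b : ℕ} (hab : a ≤ b)
    (hlev : SGA3b.IsMultType (T ⧸ I ^ (a + 1)) ((T ⧸ I ^ (a + 1)) ⊗[T] D))
    {F₀ : D →ₐ[T] MonoidAlgebra (T ⧸ I) M}
    {Fa : D →ₐ[T] MonoidAlgebra (T ⧸ I ^ (a + 1)) M} (hFa : IsHomD Fa)
    (ha : push (Ideal.Quotient.factorₐ T (Ideal.pow_le_self a.succ_ne_zero : I ^ (a + 1) ≤ I)) Fa = F₀)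
    {Fb : D →ₐ[T] MonoidAlgebra (T ⧸ I ^ (b + 1)) M} (hFb : IsHomD Fb)
    (hb : push (Ideal.Quotient.factorₐ T (Ideal.pow_le_self b.succ_ne_zero : I ^ (b + 1) ≤ I)) Fb = F₀)
    (m : M) (c : D) (x y : T) (hx : Ideal.Quotient.mk _ x = coefL m (Fa c))
    (hy : Ideal.Quotient.mk _ y = coefL m (Fb c)) : x - y ∈ I ^ (a + 1) := by
  have hba : I ^ (b + 1) ≤ I ^ (a + 1) := Ideal.pow_le_pow_right (by omega)
  have hJ : IsNilpotent (I.map (algebraMap T (T ⧸ I ^ (a + 1)))) := ⟨a + 1, by
    rw [← Ideal.map_pow, Ideal.zero_eq_bot, Ideal.map_eq_bot_iff_le_ker]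
    exact (Ideal.mk_ker (I := I ^ (a + 1))).ge⟩
  have heq := hFa.eq_of_sub_mem (hFb.push (Ideal.Quotient.factorₐ T hba)) (commConv_of_baseChange hlev) hJ
    fun m c => by
      obtain ⟨x, hx⟩ := Ideal.Quotient.mk_surjective (coefL m (Fa c))
      obtain ⟨y, hy⟩ := Ideal.Quotient.mk_surjective (coefL m (Fb c))
      rw [coefL_push, ← hx, ← hy]
      show Ideal.Quotient.mk _ x - Ideal.Quotient.mk _ y ∈ _
      rw [← map_sub]
      refine Ideal.mem_map_of_mem _ (Ideal.Quotient.eq.1 ?_)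
      have e1 := congrArg (fun F : D →ₐ[T] MonoidAlgebra (T ⧸ I) M => coefL m (F c)) (ha.trans hb.symm)
      simp only [coefL_push] at e1
      rw [← hx, ← hy] at e1
      exact e1
  have hh := congrArg (fun F : D →ₐ[T] MonoidAlgebra (T ⧸ I ^ (a + 1)) M => coefL m (F c)) heq
  simp only [coefL_push] at hh
  rw [← hx, ← hy] at hh
  exact Ideal.Quotient.eq.1 hh

/-- Lifts to a complete Noetherian ring. -/
theorem exists_adic_lift [IsNoetherianRing T] [IsAdicComplete I T]
    (hlev : ∀ n : ℕ, SGA3b.IsMultType (T ⧸ I ^ (n + 1)) ((T ⧸ I ^ (n + 1)) ⊗[T] D))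
    (F₀ : D →ₐ[T] MonoidAlgebra (T ⧸ I) M) (hF₀ : IsHomD F₀) :
    ∃ F : D →ₐ[T] MonoidAlgebra T M, IsHomD F ∧ push (Ideal.Quotient.mkₐ T I) F = F₀ := by
  classical
  let Q : ℕ → Type u := fun n => T ⧸ I ^ (n + 1)
  have hle : ∀ n : ℕ, I ^ (n + 1) ≤ I := fun n => Ideal.pow_le_self n.succ_ne_zero
  have hlvl := fun n => exists_level_lift I n (hlev n) F₀ hF₀
  choose Fn hFn hFn0 using hlvl
  choose s hs using fun n m c => Ideal.Quotient.mk_surjective (coefL m (Fn n c))
  have hcompat : ∀ a b, a ≤ b → ∀ m c, s a m c - s b m c ∈ I ^ (a + 1) := fun a b hab m c =>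
    level_factor_eq I hab (hlev a) (hFn a) (hFn0 a) (hFn b) (hFn0 b) m c _ _ (hs a m c) (hs b m c)
  have hlim : ∀ m c, ∃ L : T, ∀ n, L - s n m c ∈ I ^ (n + 1) := by
    intro m c
    obtain ⟨L, hL⟩ := IsPrecomplete.prec' (I := I) (M := T) (fun n => s n m c) fun {a b} hab => by
      rw [SModEq.sub_mem, smul_eq_mul, Ideal.mul_top]
      exact Ideal.pow_le_pow_right (Nat.le_succ a) (hcompat a b hab m c)
    refine ⟨L, fun n => ?_⟩
    have h1 := hL (n + 1)
    rw [SModEq.sub_mem, smul_eq_mul, Ideal.mul_top] at h1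
    have h2 := hcompat n (n + 1) (Nat.le_succ n) m c
    have h3 := sub_mem (neg_mem h1) h2
    convert h3 using 1
    ring
  choose L hL using hlim
  have hLq : ∀ n m c, Ideal.Quotient.mk (I ^ (n + 1)) (L m c) = coefL m (Fn n c) := fun n m c => by
    rw [← hs, Ideal.Quotient.eq]; exact hL m c n
  have hext : ∀ x y : T, (∀ n : ℕ, Ideal.Quotient.mk (I ^ (n + 1)) x = Ideal.Quotient.mk (I ^ (n + 1)) y) → x = y :=
    fun x y h => sub_eq_zero.1 (IsHausdorff.haus' (I := I) _ fun n => by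
      rw [SModEq.zero, smul_eq_mul, Ideal.mul_top]
      exact Ideal.pow_le_pow_right (Nat.le_succ n) (Ideal.Quotient.eq.1 (h n)))
  let f : M → WithConv (D →ₗ[T] T) := fun m => toConv
    { toFun := L m
      map_add' := fun a b => hext _ _ fun n => by rw [map_add, hLq, hLq, hLq, map_add, map_add]
      map_smul' := fun r a => hext _ _ fun n => by
        rw [RingHom.id_apply, smul_eq_mul, map_mul, hLq, hLq, map_smul, ← Ideal.Quotient.algebraMap_eq,
          ← Algebra.smul_def]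
        exact ((coefL m).restrictScalars T).map_smul r (Fn n a) }
  have hfn : ∀ n m, toConv ((Ideal.Quotient.mkₐ T (I ^ (n + 1))).toLinearMap ∘ₗ (f m).ofConv) = cc (Fn n) m :=
    fun n m => WithConv.ofConv_injective (LinearMap.ext fun c => hLq n m c)
  have hfext : ∀ u v : WithConv (D →ₗ[T] T), (∀ n : ℕ, toConv ((Ideal.Quotient.mkₐ T (I ^ (n + 1))).toLinearMap ∘ₗ u.ofConv) =
      toConv ((Ideal.Quotient.mkₐ T (I ^ (n + 1))).toLinearMap ∘ₗ v.ofConv)) → u = v := fun u v huv =>
    WithConv.ofConv_injective (LinearMap.ext fun c => hext _ _ fun n =>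
      congrArg (fun w : WithConv (D →ₗ[T] T ⧸ I ^ (n + 1)) => w.ofConv c) (huv n))
  have hfi : ∀ m, f m * f m = f m := fun m => hfext _ _ fun n => by
    rw [LinearMap.algHom_comp_convMul_distrib, hfn]
    exact (hFn n).idem m
  have hfo : ∀ a b, a ≠ b → f a * f b = 0 := fun a b hab => hfext _ _ fun n => by
    rw [LinearMap.algHom_comp_convMul_distrib, hfn, hfn, (hFn n).ortho a b hab]
    exact WithConv.ofConv_injective (LinearMap.ext fun c => by simp)
  let F' : D → MonoidAlgebra T M := fun c =>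
    ∑ m ∈ (finite_support_of_orthogonal f hfi hfo c).toFinset, MonoidAlgebra.single m (L m c)
  have hF' : ∀ c m, coefL m (F' c) = L m c := fun c m => by
    rw [map_sum, Finset.sum_eq_single m]
    · rw [coefL_single, if_pos rfl]
    · intro x _ hx; rw [coefL_single, if_neg hx]
    · intro hm
      rw [coefL_single, if_pos rfl]
      rw [Set.Finite.mem_toFinset] at hm
      exact not_not.1 hm
  have hproj : ∀ n c, MonoidAlgebra.mapRingHom M (Ideal.Quotient.mk (I ^ (n + 1))) (F' c) = Fn n c := fun n c =>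
    ext_coef fun m => by rw [coefL_mapRingHom, hF', hLq]
  have hinj : ∀ x y : MonoidAlgebra T M, (∀ n : ℕ, MonoidAlgebra.mapRingHom M (Ideal.Quotient.mk (I ^ (n + 1))) x =
      MonoidAlgebra.mapRingHom M (Ideal.Quotient.mk (I ^ (n + 1))) y) → x = y := fun x y hxy =>
    ext_coef fun m => hext _ _ fun n => by rw [← coefL_mapRingHom, ← coefL_mapRingHom, hxy]
  let F : D →ₐ[T] MonoidAlgebra T M :=
    { toFun := F'
      map_one' := hinj _ _ fun n => by rw [hproj, map_one, map_one]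
      map_mul' := fun a b => hinj _ _ fun n => by rw [map_mul, hproj, hproj, hproj, map_mul]
      map_zero' := hinj _ _ fun n => by rw [hproj, map_zero, map_zero]
      map_add' := fun a b => hinj _ _ fun n => by rw [map_add, hproj, hproj, hproj, map_add]
      commutes' := fun r => hinj _ _ fun n => by
        rw [hproj, AlgHom.commutes, IsScalarTower.algebraMap_apply T (T ⧸ I ^ (n + 1)) (MonoidAlgebra (T ⧸ I ^ (n + 1)) M)]
        simp [MonoidAlgebra.coe_algebraMap] }
  have hcc : ∀ m, cc F m = f m := fun m => WithConv.ofConv_injective (LinearMap.ext fun c => hF' c m)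
  refine ⟨F, ⟨fun m => by rw [hcc]; exact hfi m, fun a b hab => by rw [hcc, hcc]; exact hfo a b hab,
    fun c => hext _ _ fun n => ?_⟩, AlgHom.ext fun c => ext_coef fun m => ?_⟩
  · show Ideal.Quotient.mk _ (counit (R := T) (F' c)) = algebraMap T (T ⧸ I ^ (n + 1)) (counit c)
    rw [← (hFn n).counit_eq, ← hproj]
    generalize F' c = y
    induction y using MonoidAlgebra.induction_linear with
    | zero => simp
    | add u v hu hv => simp only [map_add, hu, hv]
    | single m r => simp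
  · rw [coefL_push, ← hFn0 0, coefL_push, ← hs]
    show Ideal.Quotient.mk I (coefL m (F' c)) = Ideal.Quotient.mk I (s 0 m c)
    rw [hF', Ideal.Quotient.eq]
    simpa using hL m c 0

end Complete

end Groth.Agent.H19Mult
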