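import Groth.Agent.H19Mult.CohomConj
import Groth.Agent.H19Mult.AdicDescent
import Groth.Agent.H19Mult.ClopenHom

/-!
Compatible homomorphisms modulo all powers of the ideal of a complete Noetherian ring come from a
homomorphism to an isotrivial group of multiplicative type.
-/

set_option autoImplicit false
set_option linter.style.haveILetI false
set_option backward.isDefEq.respectTransparency false
set_option maxHeartbeats 800000

universe u

open TensorProduct WithConv Coalgebra

namespace Groth.Agent.H19Mult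

/-- Limit of compatible homomorphisms to a diagonalisable group. -/
theorem exists_limit_isHomD {T : Type u} [CommRing T] (I : Ideal T) [IsNoetherianRing T] [IsAdicComplete I T]
    {D : Type u} [CommRing D] [HopfAlgebra T D] {M : Type u} [CommGroup M]
    (Fn : ∀ n : ℕ, D →ₐ[T] MonoidAlgebra (T ⧸ I ^ (n + 1)) M) (hFn : ∀ n, IsHomD (Fn n))
    (hc : ∀ n, push (Ideal.Quotient.factorₐ T (Ideal.pow_le_pow_right (Nat.le_succ (n + 1)) :
      I ^ (n + 1 + 1) ≤ I ^ (n + 1))) (Fn (n + 1)) = Fn n) :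
    ∃ F : D →ₐ[T] MonoidAlgebra T M, IsHomD F ∧ ∀ n, push (Ideal.Quotient.mkₐ T (I ^ (n + 1))) F = Fn n := by
  classical
  choose s hs using fun n m c => Ideal.Quotient.mk_surjective (coefL m (Fn n c))
  have hstep : ∀ n m c, s n m c - s (n + 1) m c ∈ I ^ (n + 1) := fun n m c => by
    rw [← Ideal.Quotient.eq, hs]
    have e := congrArg (fun F : D →ₐ[T] MonoidAlgebra (T ⧸ I ^ (n + 1)) M => coefL m (F c)) (hc n)
    simp only [coefL_push, ← hs (n + 1)] at e
    exact e.symm
  have hcompat : ∀ a b, a ≤ b → ∀ m c, s a m c - s b m c ∈ I ^ (a + 1) := by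
    intro a b hab m c
    induction b, hab using Nat.le_induction with
    | base => simp
    | succ b hab ih =>
      have := add_mem ih (Ideal.pow_le_pow_right (by omega) (hstep b m c))
      simpa using this
  have hlim : ∀ m c, ∃ L : T, ∀ n, L - s n m c ∈ I ^ (n + 1) := by
    intro m c
    obtain ⟨L, hL⟩ := IsPrecomplete.prec' (I := I) (M := T) (fun n => s n m c) fun {a b} hab => by
      rw [SModEq.sub_mem, smul_eq_mul, Ideal.mul_top]
      exact Ideal.pow_le_pow_right (Nat.le_succ a) (hcompat a b hab m c)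
    refine ⟨L, fun n => ?_⟩
    have h1 := hL (n + 1)
    rw [SModEq.sub_mem, smul_eq_mul, Ideal.mul_top] at h1
    have h2 := hcompat n (n + 1) (Nat.le_succ n) m c
    have h3 := sub_mem (neg_mem h1) h2
    convert h3 using 1
    ring
  choose L hL using hlim
  have hLq : ∀ n m c, Ideal.Quotient.mk (I ^ (n + 1)) (L m c) = coefL m (Fn n c) := fun n m c => by
    rw [← hs, Ideal.Quotient.eq]; exact hL m c n
  have hext : ∀ x y : T, (∀ n : ℕ, Ideal.Quotient.mk (I ^ (n + 1)) x = Ideal.Quotient.mk (I ^ (n + 1)) y) → x = y :=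
    fun x y h => sub_eq_zero.1 (IsHausdorff.haus' (I := I) _ fun n => by
      rw [SModEq.zero, smul_eq_mul, Ideal.mul_top]
      exact Ideal.pow_le_pow_right (Nat.le_succ n) (Ideal.Quotient.eq.1 (h n)))
  let f : M → WithConv (D →ₗ[T] T) := fun m => toConv
    { toFun := L m
      map_add' := fun a b => hext _ _ fun n => by rw [map_add, hLq, hLq, hLq, map_add, map_add]
      map_smul' := fun r a => hext _ _ fun n => by
        rw [RingHom.id_apply, smul_eq_mul, map_mul, hLq, hLq, map_smul, ← Ideal.Quotient.algebraMap_eq,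
          ← Algebra.smul_def]
        exact ((coefL m).restrictScalars T).map_smul r (Fn n a) }
  have hfn : ∀ n m, toConv ((Ideal.Quotient.mkₐ T (I ^ (n + 1))).toLinearMap ∘ₗ (f m).ofConv) = cc (Fn n) m :=
    fun n m => WithConv.ofConv_injective (LinearMap.ext fun c => hLq n m c)
  have hfext : ∀ u v : WithConv (D →ₗ[T] T), (∀ n : ℕ, toConv ((Ideal.Quotient.mkₐ T (I ^ (n + 1))).toLinearMap ∘ₗ u.ofConv) =
      toConv ((Ideal.Quotient.mkₐ T (I ^ (n + 1))).toLinearMap ∘ₗ v.ofConv)) → u = v := fun u v huv =>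
    WithConv.ofConv_injective (LinearMap.ext fun c => hext _ _ fun n =>
      congrArg (fun w : WithConv (D →ₗ[T] T ⧸ I ^ (n + 1)) => w.ofConv c) (huv n))
  have hfi : ∀ m, f m * f m = f m := fun m => hfext _ _ fun n => by
    rw [LinearMap.algHom_comp_convMul_distrib, hfn]
    exact (hFn n).idem m
  have hfo : ∀ a b, a ≠ b → f a * f b = 0 := fun a b hab => hfext _ _ fun n => by
    rw [LinearMap.algHom_comp_convMul_distrib, hfn, hfn, (hFn n).ortho a b hab]
    exact WithConv.ofConv_injective (LinearMap.ext fun c => by simp)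
  let F' : D → MonoidAlgebra T M := fun c =>
    ∑ m ∈ (finite_support_of_orthogonal f hfi hfo c).toFinset, MonoidAlgebra.single m (L m c)
  have hF' : ∀ c m, coefL m (F' c) = L m c := fun c m => by
    rw [map_sum, Finset.sum_eq_single m]
    · rw [coefL_single, if_pos rfl]
    · intro x _ hx; rw [coefL_single, if_neg hx]
    · intro hm
      rw [coefL_single, if_pos rfl]
      rw [Set.Finite.mem_toFinset] at hm
      exact not_not.1 hm
  have hproj : ∀ n c, MonoidAlgebra.mapRingHom M (Ideal.Quotient.mk (I ^ (n + 1))) (F' c) = Fn n c := fun n c =>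
    ext_coef fun m => by rw [coefL_mapRingHom, hF', hLq]
  have hinj : ∀ x y : MonoidAlgebra T M, (∀ n : ℕ, MonoidAlgebra.mapRingHom M (Ideal.Quotient.mk (I ^ (n + 1))) x =
      MonoidAlgebra.mapRingHom M (Ideal.Quotient.mk (I ^ (n + 1))) y) → x = y := fun x y hxy =>
    ext_coef fun m => hext _ _ fun n => by rw [← coefL_mapRingHom, ← coefL_mapRingHom, hxy]
  let F : D →ₐ[T] MonoidAlgebra T M :=
    { toFun := F'
      map_one' := hinj _ _ fun n => by rw [hproj, map_one, map_one]
      map_mul' := fun a b => hinj _ _ fun n => by rw [map_mul, hproj, hproj, hproj, map_mul]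
      map_zero' := hinj _ _ fun n => by rw [hproj, map_zero, map_zero]
      map_add' := fun a b => hinj _ _ fun n => by rw [map_add, hproj, hproj, hproj, map_add]
      commutes' := fun r => hinj _ _ fun n => by
        rw [hproj, AlgHom.commutes, IsScalarTower.algebraMap_apply T (T ⧸ I ^ (n + 1)) (MonoidAlgebra (T ⧸ I ^ (n + 1)) M)]
        simp [MonoidAlgebra.coe_algebraMap] }
  have hcc : ∀ m, cc F m = f m := fun m => WithConv.ofConv_injective (LinearMap.ext fun c => hF' c m)
  refine ⟨F, ⟨fun m => by rw [hcc]; exact hfi m, fun a b hab => by rw [hcc, hcc]; exact hfo a b hab,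
    fun c => hext _ _ fun n => ?_⟩, fun n => AlgHom.ext fun c => ext_coef fun m => ?_⟩
  · show Ideal.Quotient.mk _ (counit (R := T) (F' c)) = algebraMap T (T ⧸ I ^ (n + 1)) (counit c)
    rw [← (hFn n).counit_eq, ← hproj]
    generalize F' c = y
    induction y using MonoidAlgebra.induction_linear with
    | zero => simp
    | add u v hu hv => simp only [map_add, hu, hv]
    | single m r => simp
  · rw [coefL_push, ← hLq]
    exact congrArg (Ideal.Quotient.mk _) (hF' c m)

section CoefMem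

variable {A : Type u} [CommRing A] {B : Type u} [CommRing B] [HopfAlgebra A B]

theorem mem_map_of_coef_mem' (I : Ideal A) {T : Type u} [CommRing T] [Algebra A T] {M : Type u} [CommGroup M]
    (e : (T ⊗[A] B) ≃ₐc[T] MonoidAlgebra T M) {z : T ⊗[A] B}
    (h : ∀ m, coefL m (e z) ∈ I.map (algebraMap A T)) : z ∈ I.map (algebraMap A (T ⊗[A] B)) := by
  have h1 := Ideal.mem_map_of_mem (e.symm : MonoidAlgebra T M →ₐ[T] T ⊗[A] B).toRingHom
    (mem_map_of_forall_coef_mem h)
  rw [Ideal.map_map, AlgHom.toRingHom_eq_coe, AlgHom.comp_algebraMap, Ideal.map_map,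
    ← IsScalarTower.algebraMap_eq] at h1
  simpa using h1

theorem coef_mem_of_map_mem' (I : Ideal A) {T : Type u} [CommRing T] [Algebra A T] {M : Type u} [CommGroup M]
    (e : (T ⊗[A] B) ≃ₐc[T] MonoidAlgebra T M) {z : T ⊗[A] B}
    (h : z ∈ I.map (algebraMap A (T ⊗[A] B))) (m : M) : coefL m (e z) ∈ I.map (algebraMap A T) := by
  refine linearMap_mem_of_mem_map (coefL m ∘ₗ (e : (T ⊗[A] B) →ₐ[T] MonoidAlgebra T M).toLinearMap) ?_
  rwa [Ideal.map_map, ← IsScalarTower.algebraMap_eq]

end CoefMem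

namespace Cohom

/-- A homomorphism point gives a bialgebra map over its base. -/
theorem exists_bialgHom_over {R : Type u} [CommRing R] {C : Type u} [CommRing C] [HopfAlgebra R C]
    {A : Type u} [CommRing A] [HopfAlgebra R A] {T : Type u} [CommRing T] [Algebra R T]
    {Φ : WithConv (C →ₐ[R] T ⊗[R] A)} (h : IsHom T Φ) :
    ∃ Ψ : (T ⊗[R] C) →ₐc[T] (T ⊗[R] A), ∀ c, Ψ ((1 : T) ⊗ₜ[R] c) = Φ.ofConv c := by
  let L0 : (T ⊗[R] C) →ₐ[T] T ⊗[R] A :=
    Algebra.TensorProduct.lift (Algebra.ofId T _) Φ.ofConv fun _ _ => Commute.all _ _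
  have hL : ∀ c, L0 ((1 : T) ⊗ₜ[R] c) = Φ.ofConv c := fun c => by
    simp [L0, ← Algebra.TensorProduct.one_def]
  let εT : T ⊗[R] A →ₐ[R] T :=
    (Algebra.TensorProduct.rid R R T).toAlgHom.comp (L T (Bialgebra.counitAlgHom R A))
  have hcu : pp εT Φ = 1 := by
    let k : T ⊗[R] (A ⊗[R] A) →ₐ[R] T :=
      (Algebra.TensorProduct.rid R R T).toAlgHom.comp (L T (Algebra.TensorProduct.lift
        (Bialgebra.counitAlgHom R A) (Bialgebra.counitAlgHom R A) fun _ _ => Commute.all _ _))
    have e1 : k.comp (L T (p1 R A)) = εT := Algebra.TensorProduct.ext' fun t a => by simp [k, εT]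
    have e2 : k.comp (L T (p2 R A)) = εT := Algebra.TensorProduct.ext' fun t a => by simp [k, εT]
    have e3 : k.comp (L T (dc R A)) = εT := Algebra.TensorProduct.ext' fun t a => by
      have h3 := congrArg (TensorProduct.lid R R) (congrArg ((counit (R := R) (A := A)).lTensor R)
        (Coalgebra.rTensor_counit_comul (R := R) a))
      simp only [LinearMap.lTensor_tmul, TensorProduct.lid_tmul, one_smul] at h3
      simp only [k, εT, AlgHom.comp_apply, Algebra.TensorProduct.map_tmul, AlgHom.coe_id, id_eq,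
        AlgEquiv.coe_toAlgHom, Algebra.TensorProduct.rid_tmul, Bialgebra.comulAlgHom_apply,
        Bialgebra.counitAlgHom_apply]
      congr 1
      rw [← h3]
      generalize comul (R := R) a = z
      induction z using TensorProduct.induction_on with
      | zero => simp
      | tmul x y => simp
      | add x y hx hy => simp only [map_add, hx, hy]
    have h2 := congrArg (pp k) h
    rw [map_mul, pp_pp, pp_pp, pp_pp, e1, e2, e3] at h2
    exact mul_eq_left.1 h2
  refine ⟨BialgHom.ofAlgHom L0 ?_ ?_, hL⟩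
  · refine Algebra.TensorProduct.ext (Subsingleton.elim _ _) (AlgHom.ext fun c => ?_)
    show counit (R := T) (L0 ((1 : T) ⊗ₜ[R] c)) = counit (R := T) ((1 : T) ⊗ₜ[R] c)
    have e := congrArg (fun w : WithConv (C →ₐ[R] T) => w.ofConv c) hcu
    have e' : ∀ x : T ⊗[R] A, εT x = counit (R := T) x := fun x => by
      induction x using TensorProduct.induction_on with
      | zero => simp
      | tmul t a => simp [εT, Algebra.smul_def, mul_comm]
      | add u v hu hv => simp only [map_add, hu, hv]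
    rw [hL, ← e']
    refine e.trans ?_
    simp [AlgHom.convOne_def, Algebra.smul_def]
  · refine Algebra.TensorProduct.ext (Subsingleton.elim _ _) (AlgHom.ext fun c => ?_)
    show TensorProduct.map L0.toLinearMap L0.toLinearMap (comul ((1 : T) ⊗ₜ[R] c)) =
      comul (R := T) (L0 ((1 : T) ⊗ₜ[R] c))
    apply psi_injective T
    rw [psi_comul, hL]
    have e := congrArg (fun w : WithConv (C →ₐ[R] T ⊗[R] (A ⊗[R] A)) => w.ofConv c) h
    refine Eq.trans ?_ e
    show _ = (pp (L T (p1 R A)) Φ * pp (L T (p2 R A)) Φ : WithConv (C →ₐ[R] T ⊗[R] (A ⊗[R] A))) c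
    rw [AlgHom.convMul_apply, TensorProduct.comul_tmul, CommSemiring.comul_apply]
    generalize comul (R := R) c = z
    induction z using TensorProduct.induction_on with
    | zero => simp
    | add x y hx hy => simp only [TensorProduct.tmul_add, map_add, hx, hy]
    | tmul x y => simp [psi_tmul, hL]; rfl

/-- Pushing forward along a map of bases. -/
theorem IsHom.push {R : Type u} [CommRing R] {C : Type u} [CommRing C] [HopfAlgebra R C]
    {A : Type u} [CommRing A] [HopfAlgebra R A] {T T' : Type u} [CommRing T] [Algebra R T] [CommRing T']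
    [Algebra R T'] {Φ : WithConv (C →ₐ[R] T ⊗[R] A)} (h : IsHom T Φ) (g : T →ₐ[R] T') :
    IsHom T' (pp (Algebra.TensorProduct.map g (AlgHom.id R A)) Φ) := by
  have hnat : ∀ q : A →ₐ[R] A ⊗[R] A, (L T' q).comp (Algebra.TensorProduct.map g (AlgHom.id R A)) =
      (Algebra.TensorProduct.map g (AlgHom.id R (A ⊗[R] A))).comp (L T q) :=
    fun q => Algebra.TensorProduct.ext' fun _ _ => rfl
  show _ * _ = _
  rw [pp_pp, pp_pp, pp_pp, hnat, hnat, hnat, ← pp_pp, ← pp_pp, ← pp_pp, ← map_mul]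
  exact congrArg _ h

end Cohom

/-- Homomorphisms to smooth groups lift from the closed fibre of a complete Noetherian base. -/
theorem exists_bialgHom_lift_adic {A : Type u} [CommRing A] [IsNoetherianRing A] (I : Ideal A) [IsAdicComplete I A]
    {B : Type u} [CommRing B] [HopfAlgebra A B] (hB : SGA3b.IsIsotrivial A B)
    {C : Type u} [CommRing C] [HopfAlgebra A C] [Algebra.Smooth A C]
    (φ₀ : ((A ⧸ I) ⊗[A] C) →ₐc[A ⧸ I] ((A ⧸ I) ⊗[A] B)) :
    ∃ φ : C →ₐc[A] B, ∀ c : C, φ₀ ((1 : A ⧸ I) ⊗ₜ[A] c) = (1 : A ⧸ I) ⊗ₜ[A] (φ c) := by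
  classical
  obtain ⟨δ, hδ⟩ := exists_isInt (isMultType_of_isIsotrivial hB)
  -- compatible points over all truncations
  have hle : ∀ n, I ^ (n + 1 + 1) ≤ I ^ (n + 1) := fun n => Ideal.pow_le_pow_right (Nat.le_succ _)
  let An := fun n : ℕ => A ⧸ I ^ (n + 1)
  let fac := fun n : ℕ => Ideal.Quotient.factorₐ A (hle n)
  have hfker : ∀ n, IsNilpotent (RingHom.ker (fac n)) := fun n => by
    refine ⟨n + 2, le_bot_iff.1 ?_⟩
    have h1 : RingHom.ker (fac n) ≤ (I ^ (n + 1)).map (Ideal.Quotient.mk (I ^ (n + 1 + 1))) := by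
      intro x hx
      obtain ⟨a, rfl⟩ := Ideal.Quotient.mk_surjective x
      exact Ideal.mem_map_of_mem _ (Ideal.Quotient.eq_zero_iff_mem.1 hx)
    refine (Ideal.pow_right_mono h1 _).trans ?_
    rw [← Ideal.map_pow, ← pow_mul]
    refine (Ideal.map_mono (Ideal.pow_le_pow_right ?_ : I ^ ((n + 1) * (n + 2)) ≤ I ^ (n + 1 + 1))).trans
      (Ideal.map_quotient_self _).le
    nlinarith
  have hsucc : ∀ n (Φ : {Φ : WithConv (C →ₐ[A] An n ⊗[A] B) // Cohom.IsHom (An n) Φ}),
      ∃ Φ' : {Φ : WithConv (C →ₐ[A] An (n + 1) ⊗[A] B) // Cohom.IsHom (An (n + 1)) Φ},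
        Cohom.pp (Algebra.TensorProduct.map (fac n) (AlgHom.id A B)) Φ'.1 = Φ.1 := fun n Φ => by
    obtain ⟨Φ', h1, h2⟩ := Cohom.exists_isHom_lift hδ (fac n) (Ideal.Quotient.factor_surjective (hle n)) (hfker n) Φ.1 Φ.2
    exact ⟨⟨Φ', h1⟩, h2⟩
  choose next hnext using hsucc
  let f0 : (A ⧸ I) →ₐ[A] An 0 := Ideal.Quotient.factorₐ A (by rw [zero_add, pow_one])
  let Φs : ∀ n, {Φ : WithConv (C →ₐ[A] An n ⊗[A] B) // Cohom.IsHom (An n) Φ} :=
    fun n => n.rec ⟨_, (Cohom.isHom_of_bialgHom φ₀).push f0⟩ next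
  have hcompat : ∀ n, Cohom.pp (Algebra.TensorProduct.map (fac n) (AlgHom.id A B)) (Φs (n + 1)).1 = (Φs n).1 :=
    fun n => hnext n (Φs n)
  -- the chart
  obtain ⟨T, _, _, het, hfin, hff, M, _, ⟨e⟩⟩ := hB
  haveI := hfin
  haveI := hff
  haveI : IsNoetherianRing T := Algebra.FiniteType.isNoetherianRing A T
  haveI : IsAdicComplete I T := H24Adic.isAdicComplete_of_finite I
  let IT := I.map (algebraMap A T)
  haveI : IsAdicComplete IT T := (IsAdicComplete.map_algebraMap_iff I T).2 inferInstance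
  let Tn := fun n : ℕ => T ⧸ IT ^ (n + 1)
  let gn : ∀ n, An n →ₐ[A] Tn n := fun n => Ideal.Quotient.liftₐ _ (Algebra.ofId A (Tn n)) fun a ha => by
    show algebraMap A (Tn n) a = 0
    rw [IsScalarTower.algebraMap_apply A T (Tn n), Ideal.Quotient.algebraMap_eq, Ideal.Quotient.eq_zero_iff_mem,
      ← Ideal.map_pow]
    exact Ideal.mem_map_of_mem _ ha
  choose Ψ hΨ using fun n => Cohom.exists_bialgHom_over ((Φs n).2.push (gn n))
  have hΨ' : ∀ n c, Ψ n ((1 : Tn n) ⊗ₜ[A] c) = mapA (gn n) ((Φs n).1.ofConv c) := hΨ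
  choose en hen using fun n => exists_chart_map e (Tn n)
  let Kn := fun n => restr ((en n : (Tn n ⊗[A] B) →ₐc[Tn n] MonoidAlgebra (Tn n) M).comp (Ψ n))
  have hKn : ∀ n c, Kn n c = en n (mapA (gn n) ((Φs n).1.ofConv c)) := fun n c => by
    show en n (Ψ n ((1 : Tn n) ⊗ₜ[A] c)) = _
    rw [hΨ']
  choose Fn hFn hFnv using fun n => exists_isHomD_up (Q := T) (isHomD_restr
    ((en n : (Tn n ⊗[A] B) →ₐc[Tn n] MonoidAlgebra (Tn n) M).comp (Ψ n)))
  -- lifts of the values
  have hlift : ∀ n (z : An n ⊗[A] B), ∃ b : B, (1 : An n) ⊗ₜ[A] b = z := fun n z => by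
    induction z using TensorProduct.induction_on with
    | zero => exact ⟨0, TensorProduct.tmul_zero _ _⟩
    | tmul r b =>
      obtain ⟨a, rfl⟩ := Ideal.Quotient.mk_surjective r
      exact ⟨a • b, by rw [← TensorProduct.smul_tmul, Algebra.smul_def, mul_one]; rfl⟩
    | add u w hu hw =>
      obtain ⟨p, rfl⟩ := hu
      obtain ⟨q, rfl⟩ := hw
      exact ⟨p + q, TensorProduct.tmul_add _ _ _⟩
  choose b hb using fun n (c : C) => hlift n ((Φs n).1.ofConv c)
  have hKb : ∀ n c m, coefL m (Kn n c) = Ideal.Quotient.mk (IT ^ (n + 1)) (coefL m (e ((1 : T) ⊗ₜ[A] b n c))) := by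
    intro n c m
    have h1 := hen n ((1 : T) ⊗ₜ[A] b n c) m
    rw [mapA_tmul, map_one] at h1
    rw [hKn, ← hb, mapA_tmul, map_one, h1]
    rfl
  have hbcompat : ∀ n c, (1 : An n) ⊗ₜ[A] b (n + 1) c = (1 : An n) ⊗ₜ[A] b n c := fun n c => by
    have := congrArg (fun w : WithConv (C →ₐ[A] An n ⊗[A] B) => w.ofConv c) (hcompat n)
    rw [hb n c, ← this]
    show _ = Algebra.TensorProduct.map (fac n) (AlgHom.id A B) ((Φs (n + 1)).1.ofConv c)
    rw [← hb (n + 1) c, Algebra.TensorProduct.map_tmul, map_one]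
    rfl
  have hFc : ∀ n, push (Ideal.Quotient.factorₐ T (Ideal.pow_le_pow_right (Nat.le_succ (n + 1)) :
      IT ^ (n + 1 + 1) ≤ IT ^ (n + 1))) (Fn (n + 1)) = Fn n := fun n => by
    refine Algebra.TensorProduct.ext (Subsingleton.elim _ _) (AlgHom.ext fun c => ext_coef fun m => ?_)
    show coefL m (push _ (Fn (n + 1)) ((1 : T) ⊗ₜ[A] c)) = coefL m (Fn n ((1 : T) ⊗ₜ[A] c))
    rw [coefL_push, hFnv, hFnv, hKb, hKb]
    show Ideal.Quotient.mk _ _ = Ideal.Quotient.mk _ _
    rw [Ideal.Quotient.eq, ← map_sub, ← map_sub, ← TensorProduct.tmul_sub]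
    have h1 := coef_mem_of_mem_map e (mem_map_of_one_tmul_eq (hbcompat n c)) m
    rwa [Ideal.map_pow] at h1
  obtain ⟨F, hF, hFp⟩ := exists_limit_isHomD IT Fn hFn hFc
  obtain ⟨H, hH, hHv⟩ := exists_isHomD_down hF
  obtain ⟨ΦH, hΦH⟩ := hH.exists_bialgHom
  let G : (T ⊗[A] C) →ₐc[T] T ⊗[A] B := (e.symm : MonoidAlgebra T M →ₐc[T] T ⊗[A] B).comp ΦH
  let x : C → T ⊗[A] B := fun c => G ((1 : T) ⊗ₜ[A] c)
  have hex : ∀ c, e (x c) = H c := fun c => by
    show e (e.symm (ΦH ((1 : T) ⊗ₜ[A] c))) = _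
    rw [BialgEquiv.apply_symm_apply, hΦH, one_smul]
  have hxb : ∀ n c, x c - (1 : T) ⊗ₜ[A] b n c ∈ (I ^ (n + 1)).map (algebraMap A (T ⊗[A] B)) := fun n c =>
    mem_map_of_coef_mem' (I ^ (n + 1)) e fun m => by
      rw [Ideal.map_pow, map_sub, map_sub, hex, ← Ideal.Quotient.eq, ← hKb, hHv]
      rw [show Kn n c = Fn n ((1 : T) ⊗ₜ[A] c) from (hFnv n c).symm, ← hFp, coefL_push]
      rfl
  -- agreement on `T ⊗ T`
  let U := T ⊗[A] T
  obtain ⟨eU, -⟩ := exists_chart_map e U
  haveI : IsHausdorff I U := IsHausdorff.of_le_jacobson I U (IsAdicComplete.le_jacobson_bot I)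
  have hagree : ∀ c, mapA (A := B) (Algebra.TensorProduct.includeLeft : T →ₐ[A] U) (x c) =
      mapA (A := B) (Algebra.TensorProduct.includeRight : T →ₐ[A] U) (x c) := by
    intro c
    refine EquivLike.injective eU (ext_coef fun m => sub_eq_zero.1 (IsHausdorff.haus' (I := I) _ fun n => ?_))
    rw [SModEq.zero, Ideal.smul_top_eq_map, Submodule.restrictScalars_mem]
    refine Ideal.map_mono (Ideal.pow_le_pow_right (Nat.le_succ n)) ?_
    rw [← map_sub, ← map_sub]
    refine coef_mem_of_map_mem' (I ^ (n + 1)) eU ?_ m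
    have hmem : ∀ i : T →ₐ[A] U, mapA (A := B) i (x c) - (1 : U) ⊗ₜ[A] b n c ∈
        (I ^ (n + 1)).map (algebraMap A (U ⊗[A] B)) := by
      intro i
      have h1 := Ideal.mem_map_of_mem (mapA (A := B) i).toRingHom (hxb n c)
      rw [Ideal.map_map, AlgHom.toRingHom_eq_coe, AlgHom.comp_algebraMap] at h1
      simpa [map_sub] using h1
    have := sub_mem (hmem Algebra.TensorProduct.includeLeft) (hmem Algebra.TensorProduct.includeRight)
    rwa [sub_sub_sub_cancel_right] at this
  have hinj := Module.FaithfullyFlat.tensorProduct_mk_injective (A := A) (B := T) B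
  have hdesc : ∀ c, ∃ y : B, (1 : T) ⊗ₜ[A] y = x c := fun c => by
    refine S1156.result A T B (x c) ?_
    have hl : ∀ w : T ⊗[A] B, Algebra.TensorProduct.assoc A A A T T B
        (mapA (A := B) (Algebra.TensorProduct.includeLeft : T →ₐ[A] U) w) =
        LinearMap.lTensor T (TensorProduct.mk A T B 1) w := fun w => by
      induction w using TensorProduct.induction_on with
      | zero => simp
      | tmul t y => simp
      | add u v hu hv => simp only [map_add, hu, hv]
    have hr : ∀ w : T ⊗[A] B, Algebra.TensorProduct.assoc A A A T T B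
        (mapA (A := B) (Algebra.TensorProduct.includeRight : T →ₐ[A] U) w) =
        TensorProduct.mk A T (T ⊗[A] B) 1 w := fun w => by
      induction w using TensorProduct.induction_on with
      | zero => simp
      | tmul t y => simp
      | add u v hu hv => simp only [map_add, hu, hv]
    rw [← hr, ← hl, hagree]
  choose y hy using hdesc
  let j : B →ₐ[A] T ⊗[A] B := Algebra.TensorProduct.includeRight
  let xh : C →ₐ[A] T ⊗[A] B := ((G : (T ⊗[A] C) →ₐ[T] T ⊗[A] B).restrictScalars A).comp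
    Algebra.TensorProduct.includeRight
  have hj : ∀ c, j (y c) = xh c := hy
  let ψ : C →ₐ[A] B :=
    { toFun := y
      map_one' := hinj (show j (y 1) = j 1 by rw [hj, map_one, map_one])
      map_mul' := fun a b => hinj (show j (y (a * b)) = j (y a * y b) by rw [hj, map_mul, map_mul, hj, hj])
      map_zero' := hinj (show j (y 0) = j 0 by rw [hj, map_zero, map_zero])
      map_add' := fun a b => hinj (show j (y (a + b)) = j (y a + y b) by rw [hj, map_add, map_add, hj, hj])
      commutes' := fun r => hinj (show j (y (algebraMap A C r)) = j (algebraMap A B r) by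
        rw [hj, AlgHom.commutes, AlgHom.commutes]) }
  refine ⟨BialgHom.ofAlgHom ψ ?_ ?_, fun c => ?_⟩
  · refine AlgHom.ext fun c => FaithfulSMul.algebraMap_injective A T ?_
    show algebraMap A T (counit (R := A) (y c)) = algebraMap A T (counit (R := A) c)
    have h1 := CoalgHomClass.counit_comp_apply G ((1 : T) ⊗ₜ[A] c)
    rw [show G ((1 : T) ⊗ₜ[A] c) = (1 : T) ⊗ₜ[A] y c from (hy c).symm] at h1
    simpa [TensorProduct.counit_tmul, Algebra.smul_def] using h1
  · refine AlgHom.ext fun c => Module.FaithfullyFlat.tensorProduct_mk_injective (A := A) (B := T) (B ⊗[A] B) ?_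
    show (1 : T) ⊗ₜ[A] (Algebra.TensorProduct.map ψ ψ (comul (R := A) c)) = (1 : T) ⊗ₜ[A] comul (R := A) (y c)
    have h1 : (1 : T) ⊗ₜ[A] comul (R := A) (y c) = comulT T (G ((1 : T) ⊗ₜ[A] c)) := by
      rw [show G ((1 : T) ⊗ₜ[A] c) = (1 : T) ⊗ₜ[A] y c from (hy c).symm]
      rfl
    rw [h1, ← psi_comul, ← CoalgHomClass.map_comp_comul_apply G ((1 : T) ⊗ₜ[A] c)]
    simp only [TensorProduct.comul_tmul, CommSemiring.comul_apply]
    generalize CoalgebraStruct.comul (R := A) c = z
    induction z using TensorProduct.induction_on with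
    | zero => simp
    | add u w hu hw => simp only [TensorProduct.tmul_add, map_add, hu, hw]
    | tmul p q =>
      simp only [Algebra.TensorProduct.map_tmul, TensorProduct.AlgebraTensorModule.tensorTensorTensorComm_tmul,
        TensorProduct.map_tmul]
      show (1 : T) ⊗ₜ[A] (y p ⊗ₜ[A] y q) = psi T (G ((1 : T) ⊗ₜ[A] p) ⊗ₜ[T] G ((1 : T) ⊗ₜ[A] q))
      rw [psi_tmul, show G ((1 : T) ⊗ₜ[A] p) = (1 : T) ⊗ₜ[A] y p from (hy p).symm,
        show G ((1 : T) ⊗ₜ[A] q) = (1 : T) ⊗ₜ[A] y q from (hy q).symm]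
      simp [inl2, inr2]
  · show _ = (1 : A ⧸ I) ⊗ₜ[A] y c
    have h0 : φ₀ ((1 : A ⧸ I) ⊗ₜ[A] c) = (1 : A ⧸ I) ⊗ₜ[A] b 0 c := by
      let g : An 0 →ₐ[A] (A ⧸ I) := Ideal.Quotient.factorₐ A (by rw [zero_add, pow_one])
      have h := congrArg (mapA (A := B) g) (hb 0 c)
      rw [mapA_tmul, map_one] at h
      rw [h]
      show _ = mapA g (mapA f0 (φ₀ ((1 : A ⧸ I) ⊗ₜ[A] c)))
      rw [mapA_mapA, show g.comp f0 = AlgHom.id A _ from Ideal.Quotient.algHom_ext A (AlgHom.ext fun _ => rfl)]
      exact (AlgHom.congr_fun (Algebra.TensorProduct.map_id (R := A) (S := A) (A := A ⧸ I) (B := B)) _).symm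
    have h1 : (1 : T) ⊗ₜ[A] (y c - b 0 c) ∈ I.map (algebraMap A (T ⊗[A] B)) := by
      have := hxb 0 c
      rw [zero_add, pow_one] at this
      rw [TensorProduct.tmul_sub, hy]; exact this
    have h2 : y c - b 0 c ∈ I.map (algebraMap A B) := by
      letI : Algebra B (T ⊗[A] B) := Algebra.TensorProduct.rightAlgebra
      haveI : Module.FaithfullyFlat B (B ⊗[A] T) := inferInstance
      have h3 := Ideal.mem_map_of_mem (Algebra.TensorProduct.comm A T B).toAlgHom.toRingHom h1
      rw [Ideal.map_map, AlgHom.toRingHom_eq_coe, AlgHom.comp_algebraMap, IsScalarTower.algebraMap_eq A B (B ⊗[A] T),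
        ← Ideal.map_map] at h3
      rw [← Ideal.comap_map_eq_self_of_faithfullyFlat (B := B ⊗[A] T) (I.map (algebraMap A B)), Ideal.mem_comap]
      simpa using h3
    rw [h0, ← sub_eq_zero, ← TensorProduct.tmul_sub]
    refine (TensorProduct.quotTensorEquivQuotSMul B I).injective ?_
    rw [map_zero, show (1 : A ⧸ I) = Ideal.Quotient.mk I 1 from rfl,
      TensorProduct.quotTensorEquivQuotSMul_mk_tmul, one_smul, Submodule.Quotient.mk_eq_zero,
      Ideal.smul_top_eq_map, Submodule.restrictScalars_mem]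
    simpa using neg_mem h2

end Groth.Agent.H19Mult
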