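import Mathlib
import Groth.Prelude.Def_SGA3b

/-!
Groups of multiplicative type: reduction to diagonalisable groups along flat charts, and the
coefficient idempotents of a homomorphism into a group algebra.
-/

set_option autoImplicit false
set_option linter.style.haveILetI false
set_option backward.isDefEq.respectTransparency false

universe u v w

open TensorProduct WithConv Coalgebra

namespace Groth.Agent.H19Mult

/-! ### Charts -/

section Charts

variable {R : Type u} [CommRing R] {A : Type u} [CommRing A] [HopfAlgebra R A]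

set_option synthInstance.maxHeartbeats 100000 in
/-- `cancelBaseChange` is an isomorphism of bialgebras. -/
noncomputable def cancelEquiv (S : Type u) [CommRing S] [Algebra R S] (T : Type u) [CommRing T] [Algebra S T]
    [Algebra R T] [IsScalarTower R S T] : T ⊗[S] (S ⊗[R] A) ≃ₐc[T] T ⊗[R] A :=
  BialgEquiv.ofAlgEquiv (Algebra.TensorProduct.cancelBaseChange R S T T A)
    (by
      refine Algebra.TensorProduct.ext' fun t x => ?_
      induction x using TensorProduct.induction_on with
      | zero => simp
      | tmul s a =>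
        show Coalgebra.counit (R := T) (Algebra.TensorProduct.cancelBaseChange R S T T A (t ⊗ₜ (s ⊗ₜ a))) =
          Coalgebra.counit (R := T) (t ⊗ₜ[S] (s ⊗ₜ[R] a))
        simp only [Algebra.TensorProduct.cancelBaseChange_tmul, TensorProduct.counit_tmul,
          CommSemiring.counit_apply, Algebra.smul_def, map_mul]
        rw [← IsScalarTower.algebraMap_apply R S T]
        ring
      | add x y hx hy => simp only [TensorProduct.tmul_add, map_add, hx, hy])
    (by
      refine Algebra.TensorProduct.ext' fun t x => ?_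
      induction x using TensorProduct.induction_on with
      | zero => simp
      | tmul s a =>
        let f := (Algebra.TensorProduct.cancelBaseChange R S T T A).toAlgHom
        have hf : ∀ (t : T) (s : S) (a : A), f (t ⊗ₜ (s ⊗ₜ a)) = (s • t) ⊗ₜ a :=
          fun t s a => Algebra.TensorProduct.cancelBaseChange_tmul R S T T A t s a
        show Algebra.TensorProduct.map f f (Coalgebra.comul (R := T) (t ⊗ₜ[S] (s ⊗ₜ[R] a))) =
          Coalgebra.comul (R := T) (f (t ⊗ₜ (s ⊗ₜ a)))
        rw [hf]
        simp only [TensorProduct.comul_tmul, CommSemiring.comul_apply]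
        generalize CoalgebraStruct.comul (R := R) a = z
        induction z using TensorProduct.induction_on with
        | zero => simp
        | tmul u w =>
          have e : s • ((1 : T) ⊗ₜ[T] t) = (1 : T) ⊗ₜ[T] (s • t) := by
            rw [← IsScalarTower.algebraMap_smul T s t, ← IsScalarTower.algebraMap_smul T s ((1 : T) ⊗ₜ[T] t),
              TensorProduct.tmul_smul]
          simp [hf]
          erw [e]
          rfl
        | add u w hu hw => simp only [TensorProduct.tmul_add, map_add, hu, hw]
      | add x y hx hy => simp only [TensorProduct.tmul_add, map_add, hx, hy])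

/-- Around every prime, a group of multiplicative type is diagonalisable after a flat base change. -/
theorem exists_chart (h : SGA3b.IsMultType R A) (p : PrimeSpectrum R) :
    ∃ (R' : Type u) (_ : CommRing R') (_ : Algebra R R'), Module.Flat R R' ∧
      p ∈ Set.range (PrimeSpectrum.comap (algebraMap R R')) ∧ SGA3b.IsDiag R' (R' ⊗[R] A) := by
  obtain ⟨s, hs, h⟩ := h
  obtain ⟨f, hf, hfp⟩ : ∃ f ∈ s, f ∉ p.asIdeal := by
    by_contra hc
    push Not at hc
    exact p.isPrime.ne_top (top_le_iff.1 (hs ▸ Ideal.span_le.2 hc))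
  obtain ⟨T, _, _, hff, M, _, ⟨e⟩⟩ := h f hf
  letI : Algebra R T := ((algebraMap (Localization.Away f) T).comp (algebraMap R (Localization.Away f))).toAlgebra
  haveI : IsScalarTower R (Localization.Away f) T := IsScalarTower.of_algebraMap_eq' rfl
  haveI : Module.Flat R (Localization.Away f) := IsLocalization.flat _ (Submonoid.powers f)
  haveI := hff
  refine ⟨T, inferInstance, inferInstance, Module.Flat.trans R (Localization.Away f) T, ?_, M, inferInstance,
    ⟨(cancelEquiv (R := R) (A := A) (Localization.Away f) T).symm.trans e⟩⟩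
  have hp : p ∈ Set.range (PrimeSpectrum.comap (algebraMap R (Localization.Away f))) := by
    rw [PrimeSpectrum.localization_away_comap_range (Localization.Away f) f]
    exact hfp
  obtain ⟨q, rfl⟩ := hp
  obtain ⟨q', rfl⟩ := PrimeSpectrum.comap_surjective_of_faithfullyFlat (A := Localization.Away f) (B := T) q
  exact ⟨q', rfl⟩

/-- Vanishing is detected by flat charts covering the spectrum. -/
theorem eq_zero_of_charts {N : Type v} [AddCommGroup N] [Module R N] (x : N)
    (H : ∀ p : PrimeSpectrum R, ∃ (R' : Type u) (_ : CommRing R') (_ : Algebra R R'), Module.Flat R R' ∧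
      p ∈ Set.range (PrimeSpectrum.comap (algebraMap R R')) ∧ (1 : R') ⊗ₜ[R] x = 0) : x = 0 := by
  set J : Ideal R := LinearMap.ker (LinearMap.toSpanSingleton R N x) with hJ
  by_contra hx
  have hJtop : J ≠ ⊤ := fun h => hx (by
    have : (1 : R) ∈ J := h ▸ Submodule.mem_top
    rw [hJ, LinearMap.mem_ker, LinearMap.toSpanSingleton_apply, one_smul] at this
    exact this)
  obtain ⟨m, hm, hJm⟩ := Ideal.exists_le_maximal J hJtop
  obtain ⟨R', _, _, hflat, ⟨q, hq⟩, h0⟩ := H ⟨m, hm.isPrime⟩
  haveI := hflat
  let g : (R ⧸ J) →ₗ[R] N := J.liftQ (LinearMap.toSpanSingleton R N x) le_rfl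
  have hg : Function.Injective g :=
    LinearMap.ker_eq_bot.1 (Submodule.ker_liftQ_eq_bot _ _ _ le_rfl)
  have h1 : g.lTensor R' ((1 : R') ⊗ₜ[R] Submodule.Quotient.mk 1) = 0 := by
    rw [LinearMap.lTensor_tmul]
    refine Eq.trans ?_ h0
    show (1 : R') ⊗ₜ[R] ((LinearMap.toSpanSingleton R N x) 1) = _
    rw [LinearMap.toSpanSingleton_apply, one_smul]
  have h2 := Module.Flat.lTensor_preserves_injective_linearMap (M := R') g hg
    (h1.trans (map_zero _).symm)
  let χ : R' ⊗[R] (R ⧸ J) →ₐ[R] (R' ⧸ q.asIdeal) :=
    Algebra.TensorProduct.lift (Ideal.Quotient.mkₐ R q.asIdeal) (Ideal.Quotient.liftₐ J (Algebra.ofId R _) fun r hr => by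
      show Ideal.Quotient.mk q.asIdeal (algebraMap R R' r) = 0
      rw [Ideal.Quotient.eq_zero_iff_mem]
      have : r ∈ (PrimeSpectrum.comap (algebraMap R R') q).asIdeal := hq.symm ▸ hJm hr
      exact this) fun _ _ => Commute.all _ _
  have h3 := congrArg χ h2
  rw [map_zero, show (Submodule.Quotient.mk 1 : R ⧸ J) = 1 from rfl, ← Algebra.TensorProduct.one_def, map_one] at h3
  exact q.isPrime.ne_top ((Ideal.eq_top_iff_one _).2 (Ideal.Quotient.eq_zero_iff_mem.1 h3))

theorem eq_of_isMultType (h : SGA3b.IsMultType R A) {N : Type v} [AddCommGroup N] [Module R N] (x y : N)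
    (H : ∀ (R' : Type u) [CommRing R'] [Algebra R R'], Module.Flat R R' → SGA3b.IsDiag R' (R' ⊗[R] A) →
      (1 : R') ⊗ₜ[R] x = (1 : R') ⊗ₜ[R] y) : x = y := by
  refine sub_eq_zero.1 (eq_zero_of_charts (R := R) (x - y) fun p => ?_)
  obtain ⟨R', _, _, hfl, hp, hd⟩ := exists_chart h p
  exact ⟨R', inferInstance, inferInstance, hfl, hp, by rw [TensorProduct.tmul_sub, H R' hfl hd, sub_self]⟩

end Charts

/-! ### Convolution and ideals -/

section Conv

variable {R : Type u} [CommRing R] {C : Type v} [CommRing C] [HopfAlgebra R C]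

theorem convMul_mem {T : Type w} [CommRing T] [Algebra R T] {P Q : Ideal T} (f g : WithConv (C →ₗ[R] T))
    (hf : ∀ a, f.ofConv a ∈ P) (hg : ∀ a, g.ofConv a ∈ Q) (a : C) : (f * g).ofConv a ∈ P * Q := by
  rw [LinearMap.convMul_def]
  show LinearMap.mul' R T (TensorProduct.map f.ofConv g.ofConv (CoalgebraStruct.comul (R := R) a)) ∈ _
  generalize CoalgebraStruct.comul (R := R) a = z
  induction z using TensorProduct.induction_on with
  | zero => simp
  | tmul u w => simpa using Ideal.mul_mem_mul (hf u) (hg w)
  | add u w hu hw => rw [map_add, map_add]; exact add_mem hu hw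

theorem convPow_mem {T : Type w} [CommRing T] [Algebra R T] {P : Ideal T} (f : WithConv (C →ₗ[R] T))
    (hf : ∀ a, f.ofConv a ∈ P) : ∀ (m : ℕ) (a : C), (f ^ m).ofConv a ∈ P ^ m
  | 0, a => by rw [pow_zero P, Ideal.one_eq_top]; trivial
  | m + 1, a => by rw [pow_succ, pow_succ]; exact convMul_mem _ _ (convPow_mem f hf m) hf a

/-- An idempotent with values in an ideal has values in all powers. -/
theorem mem_pow_of_idem {T : Type w} [CommRing T] [Algebra R T] {P : Ideal T} {f : WithConv (C →ₗ[R] T)}
    (he : f * f = f) (hf : ∀ a, f.ofConv a ∈ P) : ∀ (m : ℕ) (a : C), f.ofConv a ∈ P ^ m := by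
  intro m a
  rcases m with _ | m
  · rw [pow_zero P, Ideal.one_eq_top]; trivial
  · have h : ∀ j : ℕ, f ^ (j + 1) = f := fun j => by
      induction j with
      | zero => rw [pow_one]
      | succ j ih => rw [pow_succ, ih, he]
    have := convPow_mem f hf (m + 1) a
    rwa [h m] at this

end Conv

/-! ### Coefficients of a homomorphism into a group algebra -/

section Coef

variable {R : Type u} [CommRing R] {C : Type v} [CommRing C] [HopfAlgebra R C] {M : Type w} [CommGroup M]

/-- The coefficient at `m`. -/
noncomputable def coefL (m : M) : MonoidAlgebra R M →ₗ[R] R :=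
  Finsupp.lapply m ∘ₗ (MonoidAlgebra.coeffLinearEquiv R).toLinearMap

omit [CommGroup M] in
@[simp] theorem coefL_single [DecidableEq M] (m x : M) (r : R) :
    coefL m (MonoidAlgebra.single x r) = if x = m then r else 0 := by
  simp [coefL, Finsupp.single_apply]

omit [CommGroup M] in
theorem ext_coef {x y : MonoidAlgebra R M} (h : ∀ m, coefL m x = coefL m y) : x = y :=
  (MonoidAlgebra.coeffLinearEquiv R).injective (Finsupp.ext h)

/-- The coefficient functional of a homomorphism. -/
noncomputable def coef (φ : C →ₐc[R] MonoidAlgebra R M) (m : M) : WithConv (C →ₗ[R] R) :=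
  toConv (coefL m ∘ₗ (φ : C →ₐ[R] MonoidAlgebra R M).toLinearMap)

theorem coef_apply (φ : C →ₐc[R] MonoidAlgebra R M) (m : M) (c : C) :
    (coef φ m).ofConv c = coefL m (φ c) := rfl

theorem coef_mul_coef [DecidableEq M] (φ : C →ₐc[R] MonoidAlgebra R M) (m n : M) :
    coef φ m * coef φ n = if m = n then coef φ m else 0 := by
  refine WithConv.ofConv_injective (LinearMap.ext fun c => ?_)
  have key : ∀ x : MonoidAlgebra R M, LinearMap.mul' R R (TensorProduct.map (coefL m) (coefL n)
      (CoalgebraStruct.comul (R := R) x)) = if m = n then coefL m x else 0 := by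
    intro x
    induction x using MonoidAlgebra.induction_linear with
    | zero => simp
    | add u w hu hw =>
      simp only [map_add, hu, hw]
      split <;> simp
    | single x r =>
      rw [MonoidAlgebra.comul_single, CommSemiring.comul_apply]
      simp only [TensorProduct.map_tmul, MonoidAlgebra.lsingle_apply, coefL_single, LinearMap.mul'_apply]
      by_cases h1 : x = m <;> by_cases h2 : x = n <;> by_cases h3 : m = n <;> simp_all
  have h := key (φ c)
  rw [← CoalgHomClass.map_comp_comul_apply (φ : C →ₐc[R] MonoidAlgebra R M) c, TensorProduct.map_map] at h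
  refine Eq.trans (Eq.trans ?_ h) ?_
  · rfl
  · split <;> rfl

theorem eq_of_coef_eq {φ ψ : C →ₐc[R] MonoidAlgebra R M} (h : ∀ m, coef φ m = coef ψ m) (c : C) : φ c = ψ c :=
  ext_coef fun m => congrArg (fun f : WithConv (C →ₗ[R] R) => f.ofConv c) (h m)

theorem eq_counit_of_coef_eq_zero {φ : C →ₐc[R] MonoidAlgebra R M}
    (h : ∀ m, m ≠ 1 → coef φ m = 0) (c : C) :
    φ c = algebraMap R (MonoidAlgebra R M) (counit c) := by
  classical
  have hx : φ c = MonoidAlgebra.single 1 (coefL 1 (φ c)) := ext_coef fun m => by
    by_cases hm : m = 1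
    · subst hm; simp
    · rw [coefL_single, if_neg (Ne.symm hm)]
      exact congrArg (fun f : WithConv (C →ₗ[R] R) => f.ofConv c) (h m hm)
  have he : counit (R := R) c = coefL 1 (φ c) := by
    rw [← CoalgHomClass.counit_comp_apply φ c]
    conv_lhs => rw [hx]
    simp
  rw [he, MonoidAlgebra.coe_algebraMap]
  exact hx

/-- A slice of a coefficient: the image contains `coef a c • a`. -/
theorem exists_single_mem_range [DecidableEq M] (φ : C →ₐc[R] MonoidAlgebra R M) (a : M) (c : C) :
    ∃ c', φ c' = MonoidAlgebra.single a ((coef φ a).ofConv c) := by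
  refine ⟨TensorProduct.lid R C (TensorProduct.map (coef φ a).ofConv LinearMap.id (CoalgebraStruct.comul (R := R) c)),
    ext_coef fun b => ?_⟩
  have hz : ∀ z : C ⊗[R] C, coefL b (φ (TensorProduct.lid R C (TensorProduct.map (coef φ a).ofConv LinearMap.id z))) =
      LinearMap.mul' R R (TensorProduct.map (coef φ a).ofConv (coef φ b).ofConv z) := by
    intro z
    induction z using TensorProduct.induction_on with
    | zero => simp
    | tmul u w => simp [coef_apply]
    | add u w hu hw => simp only [map_add, hu, hw]
  rw [hz]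
  have h : (coef φ a * coef φ b).ofConv c = (if a = b then coef φ a else 0).ofConv c := by rw [coef_mul_coef]
  refine h.trans ?_
  rw [coefL_single]
  split <;> rfl

end Coef

/-- Bialgebra homomorphisms of Hopf algebras commute with antipodes. -/
theorem map_antipode {R : Type u} [CommRing R] {A : Type v} [CommRing A] [HopfAlgebra R A]
    {B : Type w} [CommRing B] [HopfAlgebra R B] (f : A →ₐc[R] B) (a : A) :
    f (HopfAlgebra.antipode R a) = HopfAlgebra.antipode R (f a) := by
  have h1 : toConv ((f : A →ₐ[R] B).toLinearMap ∘ₗ HopfAlgebra.antipode R (A := A)) * toConv (f : A →ₐ[R] B).toLinearMap = 1 := by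
    have := LinearMap.algHom_comp_convMul_distrib (f : A →ₐ[R] B) (toConv (HopfAlgebra.antipode R (A := A))) (toConv LinearMap.id)
    rw [LinearMap.antipode_mul_id] at this
    refine WithConv.ofConv_injective ?_
    refine Eq.trans this.symm ?_
    exact LinearMap.ext fun x => (f : A →ₐ[R] B).commutes _
  have h2 : toConv (f : A →ₐ[R] B).toLinearMap * toConv (HopfAlgebra.antipode R (A := B) ∘ₗ (f : A →ₐ[R] B).toLinearMap) = 1 := by
    have := LinearMap.convMul_comp_coalgHom_distrib (toConv (LinearMap.id (R := R) (M := B)))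
      (toConv (HopfAlgebra.antipode R (A := B))) (f : A →ₗc[R] B)
    rw [LinearMap.id_mul_antipode] at this
    refine WithConv.ofConv_injective ?_
    refine Eq.trans this.symm ?_
    exact LinearMap.ext fun x => congrArg (algebraMap R B) (CoalgHomClass.counit_comp_apply f x)
  exact LinearMap.congr_fun (congrArg WithConv.ofConv (left_inv_eq_right_inv h1 h2)) a

/-- The base change of a bialgebra homomorphism, followed by an isomorphism with a group algebra. -/
noncomputable def chartHom {R : Type u} [CommRing R] {A : Type v} [CommRing A] [HopfAlgebra R A]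
    {C : Type v} [CommRing C] [HopfAlgebra R C] {R' : Type u} [CommRing R'] [Algebra R R'] {M : Type w} [CommGroup M]
    (e : (R' ⊗[R] A) ≃ₐc[R'] MonoidAlgebra R' M) (φ : C →ₐc[R] A) : (R' ⊗[R] C) →ₐc[R'] MonoidAlgebra R' M :=
  (e : (R' ⊗[R] A) →ₐc[R'] MonoidAlgebra R' M).comp
    (Bialgebra.TensorProduct.map (BialgHom.id R' R') φ)

theorem chartHom_tmul {R : Type u} [CommRing R] {A : Type v} [CommRing A] [HopfAlgebra R A]
    {C : Type v} [CommRing C] [HopfAlgebra R C] {R' : Type u} [CommRing R'] [Algebra R R'] {M : Type w} [CommGroup M]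
    (e : (R' ⊗[R] A) ≃ₐc[R'] MonoidAlgebra R' M) (φ : C →ₐc[R] A) (r : R') (c : C) :
    chartHom e φ (r ⊗ₜ c) = e (r ⊗ₜ φ c) := rfl

end Groth.Agent.H19Mult
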