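import Groth.Agent.H19Mult.CohomLift

/-!
Two homomorphisms to a smooth group agreeing modulo a nilpotent ideal are conjugate; translation
between bialgebra maps and points.
-/

set_option autoImplicit false
set_option linter.style.haveILetI false
set_option backward.isDefEq.respectTransparency false

universe u

open TensorProduct WithConv Coalgebra

namespace Groth.Agent.H19Mult.Cohom

variable {R : Type u} [CommRing R] {C : Type u} [CommRing C] [HopfAlgebra R C]
variable {A : Type u} [CommRing A] [HopfAlgebra R A] {α : A →ₗ[R] R} {T : Type u} [CommRing T] [Algebra R T]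

variable (T A) in
/-- The scalar points. -/
noncomputable abbrev sc : T →ₐ[R] T ⊗[R] A := Algebra.TensorProduct.includeLeft

theorem pp_L_sc {Y : Type u} [CommRing Y] [Algebra R Y] (f : A →ₐ[R] Y) (γ : WithConv (C →ₐ[R] T)) :
    pp (L T f) (pp (sc A T) γ) = pp (Algebra.TensorProduct.includeLeft : T →ₐ[R] T ⊗[R] Y) γ := by
  rw [pp_pp]
  congr 2
  exact AlgHom.ext fun t => by simp

theorem IsHom.conj {u : WithConv (C →ₐ[R] T ⊗[R] A)} (hu : IsHom T u) (γ : WithConv (C →ₐ[R] T)) :
    IsHom T (pp (sc A T) γ * u * (pp (sc A T) γ)⁻¹) := by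
  show _ * _ = _
  simp only [map_mul, map_inv, pp_L_sc]
  rw [← hu]
  group

/-- Evaluation of `T ⊗ A` by an integral. -/
noncomputable def I0 (T : Type u) [CommRing T] [Algebra R T] (α : A →ₗ[R] R) : T ⊗[R] A →ₗ[R] T :=
  (TensorProduct.rid R T).toLinearMap ∘ₗ α.lTensor T

@[simp] theorem I0_tmul (t : T) (a : A) : I0 T α (t ⊗ₜ a) = α a • t := rfl

theorem I0_mem {K : Ideal T} {z : T ⊗[R] A} (hz : z ∈ Kw R T A K) : I0 T α z ∈ K := by
  have h := Ideal.mem_map_of_mem (Algebra.TensorProduct.rid R R T).toAlgHom.toRingHom (lTensor_mem_Kw T α hz)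
  rw [Ideal.map_map] at h
  convert h using 1
  · conv_lhs => rw [← Ideal.map_id K]
    congr 1
    ext t
    simp
  · rfl

theorem conj_step [Algebra.Smooth R C] (hα : IsInt R α) {K : Ideal T} (hK : IsNilpotent K)
    {u v : WithConv (C →ₐ[R] T ⊗[R] A)} (hu : IsHom T u) (hv : IsHom T v)
    (h : Mem (Kw R T A K) (lin v - lin u)) :
    ∃ γ : WithConv (C →ₐ[R] T), Mem K (lin γ - 1) ∧
      Mem (Kw R T A (K * K)) (lin v - lin (pp (sc A T) γ * u * (pp (sc A T) γ)⁻¹)) := by
  set N1 := Kw R T A (K * K)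
  set N2 := Kw R T (A ⊗[R] A) (K * K)
  have hN1 : Kw R T A K * Kw R T A K ≤ N1 := (Ideal.map_mul _ _ _).ge
  have hN2 : Kw R T (A ⊗[R] A) K * Kw R T (A ⊗[R] A) K ≤ N2 := (Ideal.map_mul _ _ _).ge
  have hKK : IsNilpotent (K * K) := by
    obtain ⟨n, hn⟩ := hK
    exact ⟨n, by rw [mul_pow, hn, zero_mul]⟩
  set w := v * u⁻¹ with hw
  set d := lin w - 1 with hd
  have hdK : Mem (Kw R T A K) d := by
    have h2 := Mem.mul_right h (lin u⁻¹)
    rw [sub_mul, ← map_mul, ← map_mul, mul_inv_cancel, map_one] at h2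
    exact h2
  set c := pr (I0 T α) d with hc
  have hcK : Mem K c := fun x => I0_mem (hdK x)
  obtain ⟨γ, hγ⟩ := exists_lift_one_add K (K * K) le_rfl hKK c hcK
    (fun a b => by
      have h2 := I0_mem (α := α) (hN1 (deriv_of_lin_sub_one w hdK a b))
      convert h2 using 1
      rw [map_sub, map_add, map_smul, map_smul]
      rfl)
    (by
      show I0 T α (d.ofConv 1) ∈ K * K
      rw [hd, lin_sub_one_apply_one, map_zero]
      exact zero_mem _)
  refine ⟨γ, ?_, ?_⟩
  · have := (hγ.mono Ideal.mul_le_right).add hcK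
    convert this using 1
    abel
  set g := pp (sc A T) γ
  set U := lin u
  set Ui := lin u⁻¹
  set C1 := pl (sc A T) c
  set P1 := pp (L T (p1 R A)) u
  set i1 := (slice A α).lTensor T
  have hi1 : ∀ x y, i1 (L T (p1 R A) x * y) = x * i1 y :=
    lTensor_proj T (slice A α) (p1 R A) fun x y => slice_proj α x y
  -- the cocycle identity
  have hgrp : pp (L T (dc R A)) w =
      pp (L T (p1 R A)) w * (P1 * pp (L T (p2 R A)) w * P1⁻¹) := by
    simp only [hw, P1, map_mul, map_inv]
    rw [← hu, ← hv]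
    group
  have hint : Mem N1 (C1 - d - U * C1 * Ui) := by
    have hq : ∀ q : A →ₐ[R] A ⊗[R] A, lin (pp (L T q) w) = 1 + pl (L T q) d := fun q => by
      rw [hd, map_sub, map_one, pl_lin, add_sub_cancel]
    have h2 := congrArg lin hgrp
    simp only [map_mul] at h2
    rw [hq, hq, hq] at h2
    set F1 := pl (L T (p1 R A)) d
    set F2 := pl (L T (p2 R A)) d
    set FD := pl (L T (dc R A)) d
    have hXX : lin P1 * lin P1⁻¹ = 1 := by rw [← map_mul, mul_inv_cancel, map_one]
    rw [mul_add (lin P1), _root_.mul_one, add_mul (lin P1), hXX] at h2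
    have h3 : FD - F1 - lin P1 * F2 * lin P1⁻¹ = F1 * (lin P1 * F2 * lin P1⁻¹) := by
      have h4 : FD = (1 + F1) * (1 + lin P1 * F2 * lin P1⁻¹) - 1 := by rw [← h2]; abel
      rw [h4]
      noncomm_ring
    have hF : ∀ q : A →ₐ[R] A ⊗[R] A, Mem (Kw R T (A ⊗[R] A) K) (pl (L T q) d) := fun q => hdK.pl _ (map_Kw T q K)
    have h5 : Mem N2 (FD - F1 - lin P1 * F2 * lin P1⁻¹) := by
      rw [h3]
      exact ((hF _).mul (((hF _).mul_left _).mul_right _)).mono hN2
    have h6 : Mem N1 (pr i1 (FD - F1 - pl (L T (p1 R A)) U * F2 * pl (L T (p1 R A)) Ui)) :=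
      fun x => lTensor_mem_Kw T _ (h5 x)
    have hC : ∀ q : A →ₐ[R] A ⊗[R] A, (∀ a, slice A α (q a) = α a • (1 : A)) → pr i1 (pl (L T q) d) = C1 := by
      intro q hq
      refine WithConv.ofConv_injective (LinearMap.ext fun x => ?_)
      show i1 (L T q (d.ofConv x)) = sc A T (I0 T α (d.ofConv x))
      generalize d.ofConv x = z
      induction z using TensorProduct.induction_on with
      | zero => simp
      | tmul t a => simp [i1, hq, TensorProduct.smul_tmul']
      | add p q hp hq => simp only [map_add, hp, hq]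
    have hid : pr i1 F1 = d := by
      refine WithConv.ofConv_injective (LinearMap.ext fun x => ?_)
      show i1 (L T (p1 R A) (d.ofConv x)) = d.ofConv x
      generalize d.ofConv x = z
      induction z using TensorProduct.induction_on with
      | zero => simp
      | tmul t a => simp [i1, hα.1]
      | add p q hp hq => simp only [map_add, hp, hq]
    rw [map_sub, map_sub, pr_mul_right i1 _ hi1, pr_mul_left i1 _ hi1, hC (dc R A) (slice_dc hα),
      hC (p2 R A) (fun a => by simp), hid] at h6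
    exact h6
  -- conclusion
  have hg : Mem N1 (lin g - (1 + C1)) := by
    have := hγ.pl (sc A T) (P' := N1) le_rfl
    rwa [map_sub, map_add, map_one, pl_lin] at this
  have hC1 : Mem (Kw R T A K) C1 := hcK.pl (sc A T) le_rfl
  have hgi : Mem N1 (lin g⁻¹ - (1 - C1)) := by
    refine mem_inv_sub ?_
    have h2 := (hg.mul_right (1 - C1)).sub ((hC1.mul hC1).mono hN1)
    convert h2 using 1
    noncomm_ring
  have hUU : Ui * U = 1 := by rw [← map_mul, inv_mul_cancel, map_one]
  have hv' : lin v = (1 + d) * U := by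
    rw [hd, add_sub_cancel, ← map_mul, hw, mul_assoc, inv_mul_cancel, _root_.mul_one]
  rw [map_mul, map_mul, hv']
  have hUC : Mem (Kw R T A K) (U * C1 * Ui) := (hC1.mul_left _).mul_right _
  have main0 : Mem N1 (d - C1 + U * C1 * Ui + C1 * (U * C1 * Ui)) := by
    have h2 := (hint.neg).add ((hC1.mul hUC).mono hN1)
    convert h2 using 1
    abel
  have main : Mem N1 ((d - C1 + U * C1 * Ui + C1 * (U * C1 * Ui)) * U) := main0.mul_right U
  have e : U * C1 * Ui * U = U * C1 := by rw [mul_assoc (U * C1), hUU, _root_.mul_one]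
  rw [add_mul, add_mul (d - C1), sub_mul, mul_assoc C1 (U * C1 * Ui) U, e] at main
  have h2 := (main.sub ((hg.mul_right U).mul_right (lin g⁻¹))).sub (hgi.mul_left ((1 + C1) * U))
  convert h2 using 1
  noncomm_ring

/-- Two homomorphisms agreeing modulo a nilpotent ideal are conjugate. -/
theorem exists_conj [Algebra.Smooth R C] (hα : IsInt R α) {K : Ideal T} (hK : IsNilpotent K)
    {u v : WithConv (C →ₐ[R] T ⊗[R] A)} (hu : IsHom T u) (hv : IsHom T v)
    (h : Mem (Kw R T A K) (lin v - lin u)) :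
    ∃ γ : WithConv (C →ₐ[R] T), Mem K (lin γ - 1) ∧ v = pp (sc A T) γ * u * (pp (sc A T) γ)⁻¹ := by
  obtain ⟨n, hn⟩ := hK
  have hn' : K ^ (2 ^ n) = ⊥ := le_bot_iff.1 ((Ideal.pow_le_pow_right Nat.lt_two_pow_self.le).trans (by rw [hn]; rfl))
  clear hn
  induction n generalizing K u with
  | zero =>
    rw [pow_zero, pow_one] at hn'
    rw [hn', Kw, Ideal.map_bot, mem_bot_iff, sub_eq_zero] at h
    refine ⟨1, by rw [map_one, sub_self]; exact Mem.zero, ?_⟩
    rw [map_one, inv_one, _root_.mul_one, _root_.one_mul]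
    exact lin_injective h
  | succ n ih =>
    obtain ⟨γ, hγ, h'⟩ := conj_step hα ⟨2 ^ (n + 1), hn'⟩ hu hv h
    obtain ⟨γ', hγ', hv'⟩ := ih (hu.conj γ) h' (by rw [← pow_two, ← pow_mul, mul_comm, ← pow_succ]; exact hn')
    refine ⟨γ' * γ, ?_, ?_⟩
    · have := (((hγ'.mono Ideal.mul_le_right).mul_right (lin γ)).add hγ)
      convert this using 1
      rw [map_mul, sub_mul, _root_.one_mul]
      abel
    · rw [hv', map_mul]
      group

theorem convMul_proj_apply (φ : C →ₐ[R] A) (c : C) :
    (toConv ((p1 R A).comp φ) * toConv ((p2 R A).comp φ)).ofConv c =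
      TensorProduct.map φ.toLinearMap φ.toLinearMap (comul c) := by
  show (toConv ((p1 R A).comp φ) * toConv ((p2 R A).comp φ) : WithConv (C →ₐ[R] A ⊗[R] A)) c = _
  rw [AlgHom.convMul_apply]
  generalize comul (R := R) c = z
  induction z using TensorProduct.induction_on with
  | zero => simp
  | tmul x y => simp
  | add x y hx hy => simp only [map_add, hx, hy]

/-- A point satisfying the homomorphism equation is a bialgebra map. -/
theorem exists_bialgHom (φ : C →ₐ[R] A)
    (h : toConv ((p1 R A).comp φ) * toConv ((p2 R A).comp φ) = toConv ((dc R A).comp φ)) :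
    ∃ f : C →ₐc[R] A, ∀ c, f c = φ c := by
  have hcu : (Bialgebra.counitAlgHom R A).comp φ = Bialgebra.counitAlgHom R C := by
    let k : A ⊗[R] A →ₐ[R] R :=
      Algebra.TensorProduct.lift (Bialgebra.counitAlgHom R A) (Bialgebra.counitAlgHom R A) fun _ _ => Commute.all _ _
    have h2 := congrArg (pp k) h
    rw [map_mul] at h2
    have e1 : k.comp (p1 R A) = Bialgebra.counitAlgHom R A := AlgHom.ext fun a => by simp [k]
    have e2 : k.comp (p2 R A) = Bialgebra.counitAlgHom R A := AlgHom.ext fun a => by simp [k]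
    have e3 : k.comp (dc R A) = Bialgebra.counitAlgHom R A := AlgHom.ext fun a => by
      have h3 := congrArg (TensorProduct.lid R R) (congrArg ((counit (R := R) (A := A)).lTensor R)
        (Coalgebra.rTensor_counit_comul (R := R) a))
      simp only [LinearMap.lTensor_tmul, TensorProduct.lid_tmul, one_smul] at h3
      refine Eq.trans ?_ h3
      show k (comul a) = _
      generalize comul (R := R) a = z
      induction z using TensorProduct.induction_on with
      | zero => simp
      | tmul x y => simp [k]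
      | add x y hx hy => simp only [map_add, hx, hy]
    change toConv ((k.comp (p1 R A)).comp φ) * toConv ((k.comp (p2 R A)).comp φ) = toConv ((k.comp (dc R A)).comp φ) at h2
    rw [e1, e2, e3] at h2
    have h4 : (toConv ((Bialgebra.counitAlgHom R A).comp φ) : WithConv (C →ₐ[R] R)) = 1 := mul_eq_left.1 h2
    exact AlgHom.ext fun c => congrArg (fun f : WithConv (C →ₐ[R] R) => f.ofConv c) h4
  refine ⟨BialgHom.ofAlgHom φ hcu (AlgHom.ext fun c => ?_), fun c => rfl⟩
  exact (convMul_proj_apply φ c).symm.trans (congrArg (fun f : WithConv (C →ₐ[R] A ⊗[R] A) => f.ofConv c) h)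

/-- A bialgebra map satisfies the homomorphism equation. -/
theorem bialgHom_eqn (f : C →ₐc[R] A) :
    toConv ((p1 R A).comp (f : C →ₐ[R] A)) * toConv ((p2 R A).comp (f : C →ₐ[R] A)) =
      toConv ((dc R A).comp (f : C →ₐ[R] A)) :=
  WithConv.ofConv_injective (AlgHom.ext fun c =>
    (convMul_proj_apply _ c).trans (CoalgHomClass.map_comp_comul_apply f c))

/-- A bialgebra map over `T` gives a homomorphism point. -/
theorem isHom_of_bialgHom (φ₀ : (T ⊗[R] C) →ₐc[T] (T ⊗[R] A)) :
    IsHom T (toConv (((φ₀ : T ⊗[R] C →ₐ[T] T ⊗[R] A).restrictScalars R).comp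
      (Algebra.TensorProduct.includeRight : C →ₐ[R] T ⊗[R] C))) := by
  refine WithConv.ofConv_injective (AlgHom.ext fun c => ?_)
  have h := congrArg (psi T) (CoalgHomClass.map_comp_comul_apply φ₀ ((1 : T) ⊗ₜ[R] c))
  rw [psi_comul] at h
  show (toConv _ * toConv _ : WithConv (C →ₐ[R] T ⊗[R] (A ⊗[R] A))) c = _
  refine Eq.trans ?_ h
  rw [AlgHom.convMul_apply, TensorProduct.comul_tmul, CommSemiring.comul_apply]
  generalize comul (R := R) c = z
  induction z using TensorProduct.induction_on with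
  | zero => simp
  | tmul x y => simp [psi_tmul]; rfl
  | add x y hx hy => simp only [TensorProduct.tmul_add, map_add, hx, hy]

/-- A point over the base. -/
noncomputable def up (φ : C →ₐ[R] A) : WithConv (C →ₐ[R] R ⊗[R] A) :=
  pp (Algebra.TensorProduct.includeRight : A →ₐ[R] R ⊗[R] A) (toConv φ)

theorem isHom_up (f : C →ₐc[R] A) : IsHom R (up (f : C →ₐ[R] A)) := by
  have hc : ∀ q : A →ₐ[R] A ⊗[R] A, (L R q).comp (Algebra.TensorProduct.includeRight : A →ₐ[R] R ⊗[R] A) =
      (Algebra.TensorProduct.includeRight : A ⊗[R] A →ₐ[R] R ⊗[R] (A ⊗[R] A)).comp q := fun q =>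
    AlgHom.ext fun a => by simp
  show _ * _ = _
  rw [up, pp_pp, pp_pp, pp_pp, hc, hc, hc, ← pp_pp, ← pp_pp, ← pp_pp, ← map_mul]
  exact congrArg _ (bialgHom_eqn f)

theorem exists_bialgHom_of_isHom {Φ : WithConv (C →ₐ[R] R ⊗[R] A)} (h : IsHom R Φ) :
    ∃ f : C →ₐc[R] A, Φ = up (f : C →ₐ[R] A) := by
  let φ : C →ₐ[R] A := (Algebra.TensorProduct.lid R A).toAlgHom.comp Φ.ofConv
  have hc : ∀ q : A →ₐ[R] A ⊗[R] A, (Algebra.TensorProduct.lid R (A ⊗[R] A)).toAlgHom.comp (L R q) =
      q.comp (Algebra.TensorProduct.lid R A).toAlgHom := fun q => by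
    ext a
    simp
  obtain ⟨f, hf⟩ := exists_bialgHom φ (by
    have h2 := congrArg (pp (Algebra.TensorProduct.lid R (A ⊗[R] A)).toAlgHom) h
    rw [map_mul, pp_pp, pp_pp, pp_pp, hc, hc, hc] at h2
    exact h2)
  refine ⟨f, WithConv.ofConv_injective (AlgHom.ext fun c => ?_)⟩
  show Φ.ofConv c = 1 ⊗ₜ f c
  rw [hf]
  exact ((Algebra.TensorProduct.lid R A).symm_apply_apply _).symm

end Groth.Agent.H19Mult.Cohom

namespace Groth.Agent.H19Mult.Cohom

variable {R : Type u} [CommRing R] {C : Type u} [CommRing C] [HopfAlgebra R C]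
variable {A : Type u} [CommRing A] [HopfAlgebra R A] {T : Type u} [CommRing T] [Algebra R T]
  {T' : Type u} [CommRing T'] [Algebra R T']

/-- Congruence is equality after reduction. -/
theorem mem_iff_pp_eq (g : T →ₐ[R] T') (hg : Function.Surjective g) (u v : WithConv (C →ₐ[R] T ⊗[R] A)) :
    Mem (Kw R T A (RingHom.ker g)) (lin v - lin u) ↔
      pp (Algebra.TensorProduct.map g (AlgHom.id R A)) u = pp (Algebra.TensorProduct.map g (AlgHom.id R A)) v := by
  have hk : RingHom.ker (Algebra.TensorProduct.map g (AlgHom.id R A)) = Kw R T A (RingHom.ker g) :=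
    Algebra.TensorProduct.rTensor_ker g hg
  rw [← hk]
  constructor
  · intro h
    refine WithConv.ofConv_injective (AlgHom.ext fun c => (sub_eq_zero.1 ?_).symm)
    exact (map_sub _ _ _).symm.trans (RingHom.mem_ker.1 (h c))
  · intro h c
    rw [RingHom.mem_ker]
    exact (map_sub _ _ _).trans (sub_eq_zero.2 (congrArg (fun w : WithConv (C →ₐ[R] T' ⊗[R] A) => w.ofConv c) h).symm)

end Groth.Agent.H19Mult.Cohom
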