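import Mathlib
import Groth.Agent.S1156

/-!
Descent of elements of a module along a finite faithfully flat family of algebras.
-/

set_option autoImplicit false
set_option linter.style.haveILetI false
set_option backward.isDefEq.respectTransparency false

universe u

open TensorProduct

namespace Groth.Agent.H19Mult

variable {R : Type u} [CommRing R] {ι : Type} [Fintype ι] [DecidableEq ι] (P : ι → Type u)
  [∀ i, CommRing (P i)] [∀ i, Algebra R (P i)]

/-- `(Π P i) ⊗ N ≃ Π (P i ⊗ N)`. -/
noncomputable def piLeftEquiv (N : Type u) [AddCommGroup N] [Module R N] :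
    (∀ i, P i) ⊗[R] N ≃ₗ[R] ∀ i, P i ⊗[R] N :=
  ((TensorProduct.comm R (∀ i, P i) N).trans (TensorProduct.piRight R R N P)).trans
    (LinearEquiv.piCongrRight fun i => TensorProduct.comm R N (P i))

@[simp] theorem piLeftEquiv_tmul {N : Type u} [AddCommGroup N] [Module R N] (f : ∀ i, P i) (n : N) (i : ι) :
    piLeftEquiv (R := R) P N (f ⊗ₜ[R] n) i = f i ⊗ₜ[R] n := by
  simp [piLeftEquiv, TensorProduct.piRightHom_tmul]

theorem piLeftEquiv_apply_eq {N : Type u} [AddCommGroup N] [Module R N] (x : (∀ i, P i) ⊗[R] N) (i : ι) :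
    piLeftEquiv P N x i = LinearMap.rTensor N (LinearMap.proj i : (∀ i, P i) →ₗ[R] P i) x := by
  induction x using TensorProduct.induction_on with
  | zero => simp
  | tmul f n => simp
  | add u w hu hw => simp only [map_add, Pi.add_apply, hu, hw]

theorem faithfullyFlat_pi [∀ i, Module.Flat R (P i)]
    (hcov : ∀ p : PrimeSpectrum R, ∃ i, p ∈ Set.range (PrimeSpectrum.comap (algebraMap R (P i)))) :
    Module.FaithfullyFlat R (∀ i, P i) := by
  haveI : Module.Flat R (∀ i, P i) :=
    Module.Flat.of_linearEquiv (DirectSum.linearEquivFunOnFintype R ι P).symm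
  refine Module.FaithfullyFlat.of_comap_surjective fun p => ?_
  obtain ⟨i, q, hq⟩ := hcov p
  refine ⟨PrimeSpectrum.comap (Pi.evalRingHom P i) q, ?_⟩
  rw [← hq]
  rfl

/-- Elements of `N` glue from compatible elements over a finite flat covering family. -/
theorem exists_of_family [∀ i, Module.Flat R (P i)]
    (hcov : ∀ p : PrimeSpectrum R, ∃ i, p ∈ Set.range (PrimeSpectrum.comap (algebraMap R (P i))))
    {N : Type u} [AddCommGroup N] [Module R N] (x : ∀ i, P i ⊗[R] N)
    (hx : ∀ i j, TensorProduct.mk R (P i) (P j ⊗[R] N) 1 (x j) =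
      LinearMap.lTensor (P i) (TensorProduct.mk R (P j) N 1) (x i)) :
    ∃ n : N, ∀ i, (1 : P i) ⊗ₜ[R] n = x i := by
  haveI := faithfullyFlat_pi P hcov
  set X := (piLeftEquiv P N).symm x with hX
  have hXi : ∀ i, LinearMap.rTensor N (LinearMap.proj i : (∀ i, P i) →ₗ[R] P i) X = x i := fun i => by
    rw [← piLeftEquiv_apply_eq, hX, LinearEquiv.apply_symm_apply]
  have hcompat : TensorProduct.mk R (∀ i, P i) ((∀ i, P i) ⊗[R] N) 1 X =
      LinearMap.lTensor (∀ i, P i) (TensorProduct.mk R (∀ i, P i) N 1) X := by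
    refine (piLeftEquiv P _).injective (funext fun i => ?_)
    refine ((TensorProduct.congr (LinearEquiv.refl R (P i)) (piLeftEquiv P N)).trans
      (TensorProduct.piRight R R (P i) fun j => P j ⊗[R] N)).injective (funext fun j => ?_)
    have hl : ∀ z : (∀ i, P i) ⊗[R] ((∀ i, P i) ⊗[R] N),
        ((TensorProduct.congr (LinearEquiv.refl R (P i)) (piLeftEquiv P N)).trans
          (TensorProduct.piRight R R (P i) fun j => P j ⊗[R] N)) (piLeftEquiv P _ z i) j =
        TensorProduct.map (LinearMap.proj i : (∀ i, P i) →ₗ[R] P i)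
          (LinearMap.rTensor N (LinearMap.proj j : (∀ i, P i) →ₗ[R] P j)) z := by
      intro z
      induction z using TensorProduct.induction_on with
      | zero => simp
      | tmul f y => simp [← piLeftEquiv_apply_eq]
      | add u w hu hw => simp only [map_add, Pi.add_apply, hu, hw]
    rw [hl, hl]
    have h1 : TensorProduct.map (LinearMap.proj i : (∀ i, P i) →ₗ[R] P i)
        (LinearMap.rTensor N (LinearMap.proj j : (∀ i, P i) →ₗ[R] P j))
        (TensorProduct.mk R (∀ i, P i) ((∀ i, P i) ⊗[R] N) 1 X) =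
        TensorProduct.mk R (P i) (P j ⊗[R] N) 1 (x j) := by
      simp [hXi]
    rw [h1, hx, ← hXi i]
    clear_value X
    clear h1 hX hXi hl
    induction X using TensorProduct.induction_on with
    | zero => simp
    | tmul f n => simp
    | add u w hu hw => simp only [map_add, hu, hw]
  obtain ⟨n, hn⟩ := S1156.result R (∀ i, P i) N X hcompat
  refine ⟨n, fun i => ?_⟩
  rw [← hXi i, ← hn]
  simp

end Groth.Agent.H19Mult
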