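import Groth.Agent.H19Mult.HomD
import Groth.Agent.H19Mult.Descent

/-!
Homomorphisms from a group of multiplicative type to a diagonalisable one lift uniquely along
nilpotent thickenings.
-/

set_option autoImplicit false
set_option linter.style.haveILetI false
set_option backward.isDefEq.respectTransparency false

universe u

open TensorProduct WithConv Coalgebra

namespace Groth.Agent.H19Mult

variable {R : Type u} [CommRing R] {C : Type u} [CommRing C] [HopfAlgebra R C]

theorem IsNilpotent.map_ideal {S : Type u} [CommRing S] {I : Ideal R} (hI : IsNilpotent I) (f : R →+* S) :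
    IsNilpotent (I.map f) := by
  obtain ⟨n, hn⟩ := hI
  exact ⟨n, by rw [← Ideal.map_pow, hn, Ideal.zero_eq_bot, Ideal.map_bot, Ideal.zero_eq_bot]⟩

theorem mem_map_coef {P : Type u} [CommRing P] [Algebra R P] {I : Ideal R} {r r' : R}
    (h : Ideal.Quotient.mk I r = Ideal.Quotient.mk I r') :
    algebraMap R P r - algebraMap R P r' ∈ I.map (algebraMap R P) := by
  rw [← map_sub]; exact Ideal.mem_map_of_mem _ (Ideal.Quotient.eq.1 h)

/-- The base change to a chart of a lifting problem is solvable. -/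
theorem exists_lift_chart {P : Type u} [CommRing P] [Algebra R P] {I : Ideal R} (hI : IsNilpotent I)
    (hP : SGA3b.IsDiag P (P ⊗[R] C)) {M : Type u} [CommGroup M] (F₀ : C →ₐ[R] MonoidAlgebra (R ⧸ I) M)
    (hF₀ : IsHomD F₀) :
    ∃ G : C →ₐ[R] MonoidAlgebra P M, IsHomD G ∧ ∀ m c r, Ideal.Quotient.mk I r = coefL m (F₀ c) →
      coefL m (G c) - algebraMap R P r ∈ I.map (algebraMap R P) := by
  classical
  obtain ⟨N, _, ⟨e⟩⟩ := hP
  let P₀ := P ⧸ I.map (algebraMap R P)
  let π : P →+* P₀ := Ideal.Quotient.mk _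
  have hπk : ∀ x ∈ RingHom.ker π, IsNilpotent x := fun x hx => by
    obtain ⟨n, hn⟩ := IsNilpotent.map_ideal hI (algebraMap R P)
    rw [Ideal.mk_ker] at hx
    exact ⟨n, by rw [← Ideal.mem_bot, ← Ideal.zero_eq_bot, ← hn]; exact Ideal.pow_mem_pow hx n⟩
  let j : (R ⧸ I) →ₐ[R] P₀ := Ideal.Quotient.liftₐ I (Algebra.ofId R P₀) fun r hr => by
    show π (algebraMap R P r) = 0
    exact Ideal.Quotient.eq_zero_iff_mem.2 (Ideal.mem_map_of_mem _ hr)
  obtain ⟨Φ₀, hΦ₀⟩ := (hF₀.push j).exists_bialgHom
  obtain ⟨e₀, he₀⟩ := exists_chart_map e P₀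
  let ρ : MonoidAlgebra P₀ N →ₐc[P₀] MonoidAlgebra P₀ M := Φ₀.comp (e₀.symm : MonoidAlgebra P₀ N →ₐc[P₀] P₀ ⊗[R] C)
  have hy : ∀ ν : N, ∃ y : MonoidAlgebra P M, IsGroupLikeElem P y ∧
      ∀ m, π (coefL m y) = coefL m (ρ (MonoidAlgebra.single ν 1)) := fun ν =>
    exists_groupLike_lift π Ideal.Quotient.mk_surjective hπk
      ((MonoidAlgebra.isGroupLikeElem_single_one ν).map ρ)
  choose y hy hy0 using hy
  have hymap : ∀ ν, MonoidAlgebra.mapRingHom M π (y ν) = ρ (MonoidAlgebra.single ν 1) := fun ν =>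
    ext_coef fun m => by rw [coefL_mapRingHom, hy0]
  let Y : N →* GroupLike P (MonoidAlgebra P M) :=
    { toFun := fun ν => ⟨y ν, hy ν⟩
      map_one' := GroupLike.ext (groupLike_eq_of_map_eq (g := π) hπk (hy 1) IsGroupLikeElem.one (by
        rw [hymap]
        show _ = MonoidAlgebra.mapRingHom M π 1
        rw [map_one, ← MonoidAlgebra.one_def, map_one]))
      map_mul' := fun a b => GroupLike.ext (groupLike_eq_of_map_eq (g := π) hπk (hy _) ((hy a).mul (hy b)) (by
        rw [hymap]
        show _ = MonoidAlgebra.mapRingHom M π (y a * y b)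
        rw [map_mul (MonoidAlgebra.mapRingHom M π), hymap, hymap, ← map_mul, MonoidAlgebra.single_mul_single, mul_one])) }
  let Ψ : (P ⊗[R] C) →ₐc[P] MonoidAlgebra P M := (glHom Y).comp (e : (P ⊗[R] C) →ₐc[P] MonoidAlgebra P N)
  refine ⟨restr Ψ, isHomD_restr Ψ, fun m c r hr => ?_⟩
  rw [← Ideal.Quotient.eq]
  show π (coefL m (glHom Y (e ((1 : P) ⊗ₜ[R] c)))) = π (algebraMap R P r)
  rw [← coefL_mapRingHom π, map_glHom (g := π) (ρ := ρ) (y := Y) hymap,
    show MonoidAlgebra.mapRingHom N π (e ((1 : P) ⊗ₜ[R] c)) = e₀ ((1 : P₀) ⊗ₜ[R] c) from ext_coef fun n => by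
      have h1 := he₀ ((1 : P) ⊗ₜ[R] c) n
      rw [mapA_tmul, map_one] at h1
      rw [h1, coefL_mapRingHom]
      rfl]
  show coefL m (Φ₀ (e₀.symm (e₀ ((1 : P₀) ⊗ₜ[R] c)))) = _
  rw [BialgEquiv.symm_apply_apply, hΦ₀, one_smul, coefL_push, ← hr]
  rfl

/-- Existence of lifts along a nilpotent thickening. -/
theorem exists_lift_isHomD (h : SGA3b.IsMultType R C) {I : Ideal R} (hI : IsNilpotent I) {M : Type u} [CommGroup M]
    (F₀ : C →ₐ[R] MonoidAlgebra (R ⧸ I) M) (hF₀ : IsHomD F₀) :
    ∃ F : C →ₐ[R] MonoidAlgebra R M, IsHomD F ∧ push (Ideal.Quotient.mkₐ R I) F = F₀ := by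
  classical
  obtain ⟨n, P, _, _, hfl, hcov, hd⟩ := exists_finite_charts h
  haveI := hfl
  haveI := faithfullyFlat_pi P hcov
  choose G hG hG0 using fun i => exists_lift_chart hI (hd i) F₀ hF₀
  have hinj : ∀ a b : R, (∀ i, algebraMap R (P i) a = algebraMap R (P i) b) → a = b := fun a b hab =>
    FaithfulSMul.algebraMap_injective R (∀ i, P i) (funext hab)
  -- agreement on overlaps
  have hag : ∀ i j m c, (Algebra.TensorProduct.includeLeft (R := R) (S := R) : P i →ₐ[R] P i ⊗[R] P j) (coefL m (G i c)) =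
      (Algebra.TensorProduct.includeRight : P j →ₐ[R] P i ⊗[R] P j) (coefL m (G j c)) := by
    intro i j m c
    rw [← coefL_push, ← coefL_push, ((hG i).push _).eq_of_sub_mem ((hG j).push _) (commConv_of_isMultType h _)
      (IsNilpotent.map_ideal hI (algebraMap R (P i ⊗[R] P j))) fun m c => ?_]
    obtain ⟨r, hr⟩ := Ideal.Quotient.mk_surjective (coefL m (F₀ c))
    rw [coefL_push, coefL_push]
    have h1 := Ideal.mem_map_of_mem (Algebra.TensorProduct.includeLeft (R := R) (S := R) : P i →ₐ[R] P i ⊗[R] P j).toRingHom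
      (hG0 i m c r hr)
    have h2 := Ideal.mem_map_of_mem (Algebra.TensorProduct.includeRight : P j →ₐ[R] P i ⊗[R] P j).toRingHom
      (hG0 j m c r hr)
    rw [Ideal.map_map, AlgHom.toRingHom_eq_coe, AlgHom.comp_algebraMap] at h1 h2
    have := sub_mem h1 h2
    simp only [map_sub, RingHom.coe_coe, AlgHom.commutes] at this
    rwa [sub_sub_sub_cancel_right] at this
  have hglue : ∀ m c, ∃ r : R, ∀ i, algebraMap R (P i) r = coefL m (G i c) := by
    intro m c
    obtain ⟨r, hr⟩ := exists_of_family P hcov (N := R) (fun i => coefL m (G i c) ⊗ₜ[R] (1 : R)) fun i j => by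
      have h' := congrArg (fun z => (TensorProduct.congr (LinearEquiv.refl R (P i)) (TensorProduct.rid R (P j)).symm) z)
        (hag i j m c)
      simpa using h'.symm
    refine ⟨r, fun i => ?_⟩
    have := congrArg (TensorProduct.rid R (P i)) (hr i)
    simpa [Algebra.smul_def] using this
  choose f hf using hglue
  have hsupp : ∀ c, ∀ m, f m c ≠ 0 → m ∈ Finset.univ.biUnion fun i => (G i c).coeff.support := by
    intro c m hne
    by_contra hm
    refine hne (hinj _ _ fun i => ?_)
    rw [hf, map_zero]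
    exact Finsupp.notMem_support_iff.1 fun hh => hm (Finset.mem_biUnion.2 ⟨i, Finset.mem_univ _, hh⟩)
  let F' : C → MonoidAlgebra R M := fun c =>
    ∑ m ∈ Finset.univ.biUnion (fun i => (G i c).coeff.support), MonoidAlgebra.single m (f m c)
  have hF' : ∀ c m, coefL m (F' c) = f m c := fun c m => by
    rw [map_sum, Finset.sum_eq_single m]
    · rw [coefL_single, if_pos rfl]
    · intro x _ hx; rw [coefL_single, if_neg hx]
    · intro hm
      rw [coefL_single, if_pos rfl]
      by_contra hne
      exact hm (hsupp c m hne)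
  have hproj : ∀ i c, MonoidAlgebra.mapRingHom M (algebraMap R (P i)) (F' c) = G i c := fun i c =>
    ext_coef fun m => by rw [coefL_mapRingHom, hF', hf]
  have hFinj : ∀ x y : MonoidAlgebra R M, (∀ i, MonoidAlgebra.mapRingHom M (algebraMap R (P i)) x =
      MonoidAlgebra.mapRingHom M (algebraMap R (P i)) y) → x = y := fun x y hxy =>
    ext_coef fun m => hinj _ _ fun i => by rw [← coefL_mapRingHom, ← coefL_mapRingHom, hxy]
  let F : C →ₐ[R] MonoidAlgebra R M :=
    { toFun := F'
      map_one' := hFinj _ _ fun i => by rw [hproj, map_one, map_one]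
      map_mul' := fun a b => hFinj _ _ fun i => by rw [map_mul, hproj, hproj, hproj, map_mul]
      map_zero' := hFinj _ _ fun i => by rw [hproj, map_zero, map_zero]
      map_add' := fun a b => hFinj _ _ fun i => by rw [map_add, hproj, hproj, hproj, map_add]
      commutes' := fun r => hFinj _ _ fun i => by
        rw [hproj, AlgHom.commutes, IsScalarTower.algebraMap_apply R (P i) (MonoidAlgebra (P i) M)]
        simp [MonoidAlgebra.coe_algebraMap] }
  have hpush : ∀ i, push (Algebra.ofId R (P i)) F = G i := fun i => AlgHom.ext fun c => hproj i c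
  have hccinj : ∀ u v : WithConv (C →ₗ[R] R), (∀ i, toConv ((Algebra.ofId R (P i)).toLinearMap ∘ₗ u.ofConv) =
      toConv ((Algebra.ofId R (P i)).toLinearMap ∘ₗ v.ofConv)) → u = v := fun u v huv =>
    WithConv.ofConv_injective (LinearMap.ext fun c => hinj _ _ fun i =>
      congrArg (fun w : WithConv (C →ₗ[R] P i) => w.ofConv c) (huv i))
  refine ⟨F, ⟨fun m => hccinj _ _ fun i => ?_, fun a b hab => hccinj _ _ fun i => ?_, fun c => hinj _ _ fun i => ?_⟩,
    AlgHom.ext fun c => ext_coef fun m => ?_⟩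
  · rw [LinearMap.algHom_comp_convMul_distrib, ← cc_push, hpush]
    exact (hG i).idem m
  · rw [LinearMap.algHom_comp_convMul_distrib, ← cc_push, ← cc_push, hpush, (hG i).ortho a b hab]
    exact WithConv.ofConv_injective (LinearMap.ext fun c => by simp)
  · show algebraMap R (P i) (counit (R := R) (F' c)) = algebraMap R (P i) (algebraMap R R (counit c))
    rw [show algebraMap R R (counit c) = counit c from rfl, ← (hG i).counit_eq, ← hproj]
    generalize F' c = y
    induction y using MonoidAlgebra.induction_linear with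
    | zero => simp
    | add u v hu hv => simp only [map_add, hu, hv]
    | single m r => simp
  · rw [coefL_push]
    show Ideal.Quotient.mk I (coefL m (F' c)) = _
    obtain ⟨r, hr⟩ := Ideal.Quotient.mk_surjective (coefL m (F₀ c))
    rw [← hr, hF', Ideal.Quotient.eq, ← Ideal.comap_map_eq_self_of_faithfullyFlat (B := ∀ i, P i) I, Ideal.mem_comap,
      map_sub]
    have hall : ∀ i, algebraMap R (P i) (f m c) - algebraMap R (P i) r ∈ I.map (algebraMap R (P i)) := fun i => by
      rw [hf]; exact hG0 i m c r hr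
    have hsum : algebraMap R (∀ i, P i) (f m c) - algebraMap R (∀ i, P i) r =
        ∑ i, Pi.single i (algebraMap R (P i) (f m c) - algebraMap R (P i) r) :=
      (Finset.univ_sum_single _).symm
    rw [hsum]
    refine Ideal.sum_mem _ fun i _ => ?_
    refine Submodule.span_induction (p := fun x _ => Pi.single i x ∈ I.map (algebraMap R (∀ i, P i))) ?_ ?_ ?_ ?_ (hall i)
    · rintro _ ⟨s, hs, rfl⟩
      rw [show Pi.single i (algebraMap R (P i) s) = Pi.single i (1 : P i) * algebraMap R (∀ i, P i) s from by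
        funext j; by_cases hj : j = i
        · subst hj; simp
        · simp [Pi.single_eq_of_ne hj]]
      exact Ideal.mul_mem_left _ _ (Ideal.mem_map_of_mem _ hs)
    · simp
    · intro x y _ _ hx hy; rw [Pi.single_add]; exact add_mem hx hy
    · intro a x _ hx
      rw [smul_eq_mul, Pi.single_mul]
      exact Ideal.mul_mem_left _ _ hx

end Groth.Agent.H19Mult
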