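import Groth.Agent.H19Mult.Integral
import Groth.Agent.H19Mult.HomLift

/-!
Vanishing of first and second cohomology of groups with an invariant integral: homomorphisms to smooth
groups lift along nilpotent thickenings and two lifts are conjugate.
-/

set_option autoImplicit false
set_option linter.style.haveILetI false
set_option backward.isDefEq.respectTransparency false

universe u

open TensorProduct WithConv Coalgebra

namespace Groth.Agent.H19Mult.Cohom

variable {R : Type u} [CommRing R] {C : Type u} [CommRing C] [HopfAlgebra R C]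

section Pts

variable {B B' B'' : Type u} [CommRing B] [Algebra R B] [CommRing B'] [Algebra R B'] [CommRing B''] [Algebra R B'']

/-- A point as an element of the convolution ring. -/
noncomputable def lin : WithConv (C →ₐ[R] B) →* WithConv (C →ₗ[R] B) where
  toFun u := toConv u.ofConv.toLinearMap
  map_one' := rfl
  map_mul' u v := AlgHom.toLinearMap_convMul u v

/-- Points with values in any algebra form a group. -/
noncomputable scoped instance (priority := high) ptGroup : Group (WithConv (C →ₐ[R] B)) :=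
  { (inferInstance : Monoid (WithConv (C →ₐ[R] B))) with
    inv := fun u => toConv (u.ofConv.comp (HopfAlgebra.antipodeAlgHom R C))
    inv_mul_cancel := fun u => by
      have h := LinearMap.algHom_comp_convMul_distrib u.ofConv (toConv (HopfAlgebra.antipode R (A := C)))
        (toConv LinearMap.id)
      rw [LinearMap.antipode_mul_id] at h
      have h2 : lin (toConv (u.ofConv.comp (HopfAlgebra.antipodeAlgHom R C)) * u) = lin 1 := by
        rw [map_mul, map_one]
        refine WithConv.ofConv_injective (Eq.trans h.symm ?_)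
        exact LinearMap.ext fun c => u.ofConv.commutes _
      exact WithConv.ofConv_injective (AlgHom.ext fun c =>
        congrArg (fun w : WithConv (C →ₗ[R] B) => w.ofConv c) h2) }

theorem lin_injective : Function.Injective (lin (R := R) (C := C) (B := B)) := fun u v h =>
  WithConv.ofConv_injective (AlgHom.ext fun c => congrArg (fun w : WithConv (C →ₗ[R] B) => w.ofConv c) h)

/-- Functoriality of points. -/
noncomputable def pp (g : B →ₐ[R] B') : WithConv (C →ₐ[R] B) →* WithConv (C →ₐ[R] B') where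
  toFun u := toConv (g.comp u.ofConv)
  map_one' := WithConv.ofConv_injective (AlgHom.ext fun c => by simp [AlgHom.convOne_apply])
  map_mul' u v := by
    refine WithConv.ofConv_injective ?_
    simp [AlgHom.comp_convMul_distrib]

theorem pp_pp (g' : B' →ₐ[R] B'') (g : B →ₐ[R] B') (u : WithConv (C →ₐ[R] B)) :
    pp g' (pp g u) = pp (g'.comp g) u := rfl

/-- Functoriality of the convolution ring. -/
noncomputable def pl (g : B →ₐ[R] B') : WithConv (C →ₗ[R] B) →+* WithConv (C →ₗ[R] B') where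
  toFun h := toConv (g.toLinearMap ∘ₗ h.ofConv)
  map_one' := WithConv.ofConv_injective (LinearMap.ext fun c => g.commutes _)
  map_mul' u v := WithConv.ofConv_injective (LinearMap.algHom_comp_convMul_distrib g u v)
  map_zero' := WithConv.ofConv_injective (LinearMap.ext fun c => g.toLinearMap.map_zero)
  map_add' u v := WithConv.ofConv_injective (LinearMap.ext fun c => g.toLinearMap.map_add _ _)

theorem pl_lin (g : B →ₐ[R] B') (u : WithConv (C →ₐ[R] B)) : pl g (lin u) = lin (pp g u) := rfl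

theorem pl_pl (g' : B' →ₐ[R] B'') (g : B →ₐ[R] B') (h : WithConv (C →ₗ[R] B)) :
    pl g' (pl g h) = pl (g'.comp g) h := rfl

/-- Composition with a linear map. -/
noncomputable def pr (i : B →ₗ[R] B') : WithConv (C →ₗ[R] B) →+ WithConv (C →ₗ[R] B') where
  toFun h := toConv (i ∘ₗ h.ofConv)
  map_zero' := WithConv.ofConv_injective (LinearMap.ext fun c => i.map_zero)
  map_add' u v := WithConv.ofConv_injective (LinearMap.ext fun c => i.map_add _ _)

theorem pr_pl (i : B' →ₗ[R] B'') (g : B →ₐ[R] B') (j : B →ₗ[R] B'') (hij : ∀ y, i (g y) = j y)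
    (h : WithConv (C →ₗ[R] B)) : pr i (pl g h) = pr j h :=
  WithConv.ofConv_injective (LinearMap.ext fun c => hij _)

theorem pr_mul_left (i : B' →ₗ[R] B) (g : B →ₐ[R] B') (hi : ∀ b y, i (g b * y) = b * i y)
    (x : WithConv (C →ₗ[R] B)) (h : WithConv (C →ₗ[R] B')) : pr i (pl g x * h) = x * pr i h := by
  refine WithConv.ofConv_injective (LinearMap.ext fun c => ?_)
  show i ((pl g x * h).ofConv c) = (x * pr i h).ofConv c
  rw [LinearMap.convMul_def, LinearMap.convMul_def]
  show i (LinearMap.mul' R B' (TensorProduct.map (g.toLinearMap ∘ₗ x.ofConv) h.ofConv (comul c))) =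
    LinearMap.mul' R B (TensorProduct.map x.ofConv (i ∘ₗ h.ofConv) (comul c))
  generalize comul (R := R) c = z
  induction z using TensorProduct.induction_on with
  | zero => simp
  | tmul a b => simp [hi]
  | add a b ha hb => simp only [map_add, ha, hb]

theorem pr_mul_right (i : B' →ₗ[R] B) (g : B →ₐ[R] B') (hi : ∀ b y, i (g b * y) = b * i y)
    (x : WithConv (C →ₗ[R] B)) (h : WithConv (C →ₗ[R] B')) : pr i (h * pl g x) = pr i h * x := by
  refine WithConv.ofConv_injective (LinearMap.ext fun c => ?_)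
  show i ((h * pl g x).ofConv c) = (pr i h * x).ofConv c
  rw [LinearMap.convMul_def, LinearMap.convMul_def]
  show i (LinearMap.mul' R B' (TensorProduct.map h.ofConv (g.toLinearMap ∘ₗ x.ofConv) (comul c))) =
    LinearMap.mul' R B (TensorProduct.map (i ∘ₗ h.ofConv) x.ofConv (comul c))
  generalize comul (R := R) c = z
  induction z using TensorProduct.induction_on with
  | zero => simp
  | tmul a b =>
    simp only [TensorProduct.map_tmul, LinearMap.comp_apply, AlgHom.toLinearMap_apply, LinearMap.mul'_apply]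
    rw [mul_comm (h.ofConv a), hi, mul_comm]
  | add a b ha hb => simp only [map_add, ha, hb]

/-- All values lie in an ideal. -/
def Mem (P : Ideal B) (h : WithConv (C →ₗ[R] B)) : Prop := ∀ c, h.ofConv c ∈ P

variable {P Q : Ideal B} {h h' : WithConv (C →ₗ[R] B)}

theorem Mem.zero : Mem (R := R) (C := C) P (0 : WithConv (C →ₗ[R] B)) := fun _ => P.zero_mem
theorem Mem.add (a : Mem P h) (b : Mem P h') : Mem P (h + h') := fun c => P.add_mem (a c) (b c)
theorem Mem.sub (a : Mem P h) (b : Mem P h') : Mem P (h - h') := fun c => P.sub_mem (a c) (b c)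
theorem Mem.neg (a : Mem P h) : Mem P (-h) := fun c => P.neg_mem (a c)
theorem Mem.mono (a : Mem P h) (hPQ : P ≤ Q) : Mem Q h := fun c => hPQ (a c)
theorem Mem.top (h : WithConv (C →ₗ[R] B)) : Mem (⊤ : Ideal B) h := fun _ => trivial
theorem Mem.mul (a : Mem P h) (b : Mem Q h') : Mem (P * Q) (h * h') := convMul_mem h h' a b
theorem Mem.mul_left (x : WithConv (C →ₗ[R] B)) (a : Mem P h) : Mem P (x * h) :=
  ((Mem.top x).mul a).mono Ideal.mul_le_right
theorem Mem.mul_right (a : Mem P h) (x : WithConv (C →ₗ[R] B)) : Mem P (h * x) :=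
  (a.mul (Mem.top x)).mono Ideal.mul_le_left
theorem Mem.pl (a : Mem P h) (g : B →ₐ[R] B') {P' : Ideal B'} (hg : P.map g ≤ P') : Mem P' (pl g h) :=
  fun c => hg (Ideal.mem_map_of_mem _ (a c))

theorem mem_bot_iff : Mem (⊥ : Ideal B) h ↔ h = 0 :=
  ⟨fun a => WithConv.ofConv_injective (LinearMap.ext fun c => Ideal.mem_bot.1 (a c)),
    fun a => a ▸ Mem.zero⟩

/-- Inverse points modulo an ideal. -/
theorem mem_inv_sub {u : WithConv (C →ₐ[R] B)} {y : WithConv (C →ₗ[R] B)} (hy : Mem P (lin u * y - 1)) :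
    Mem P (lin u⁻¹ - y) := by
  have e : lin u⁻¹ * lin u = (1 : WithConv (C →ₗ[R] B)) := by rw [← map_mul, inv_mul_cancel, map_one]
  have := hy.mul_left (lin u⁻¹)
  rw [mul_sub, ← mul_assoc, e, _root_.one_mul, _root_.mul_one] at this
  simpa using this.neg

/-- A point modulo an ideal near the unit. -/
theorem exists_lift_one_add [Algebra.Smooth R C] (P Q : Ideal B) (hQP : P * P ≤ Q) (hQ : IsNilpotent Q)
    (d : WithConv (C →ₗ[R] B)) (hd : Mem P d)
    (hder : ∀ a b, d.ofConv (a * b) - (counit (R := R) b • d.ofConv a + counit (R := R) a • d.ofConv b) ∈ Q)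
    (h1 : d.ofConv 1 ∈ Q) :
    ∃ γ : WithConv (C →ₐ[R] B), Mem Q (lin γ - (1 + d)) := by
  let k : C →ₗ[R] B ⧸ Q := (Ideal.Quotient.mkₐ R Q).toLinearMap ∘ₗ (1 + d).ofConv
  have hk1 : k 1 = 1 := by
    show Ideal.Quotient.mk Q (algebraMap R B (counit 1) + d.ofConv 1) = 1
    rw [Bialgebra.counit_one, map_one, map_add, map_one, Ideal.Quotient.eq_zero_iff_mem.2 h1, _root_.add_zero]
  have hkm : ∀ a b, k (a * b) = k a * k b := by
    intro a b
    show Ideal.Quotient.mk Q (algebraMap R B (counit (a * b)) + d.ofConv (a * b)) =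
      Ideal.Quotient.mk Q (algebraMap R B (counit a) + d.ofConv a) * Ideal.Quotient.mk Q (algebraMap R B (counit b) + d.ofConv b)
    rw [← map_mul, Ideal.Quotient.eq]
    have h2 := Q.sub_mem (hder a b) (hQP (Ideal.mul_mem_mul (hd a) (hd b)))
    convert h2 using 1
    rw [Bialgebra.counit_mul, map_mul, Algebra.smul_def, Algebra.smul_def]
    ring
  obtain ⟨γ, hγ⟩ := Algebra.FormallySmooth.exists_lift Q hQ (AlgHom.ofLinearMap k hk1 hkm)
  exact ⟨toConv γ, fun c => Ideal.Quotient.eq.1 (congrArg (fun f : C →ₐ[R] B ⧸ Q => f c) hγ)⟩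

theorem deriv_of_lin_sub_one (e : WithConv (C →ₐ[R] B)) (he : Mem P (lin e - 1)) (a b : C) :
    (lin e - 1).ofConv (a * b) -
      (counit (R := R) b • (lin e - 1).ofConv a + counit (R := R) a • (lin e - 1).ofConv b) ∈ P * P := by
  have h2 := Ideal.mul_mem_mul (he a) (he b)
  convert h2 using 1
  show e.ofConv (a * b) - algebraMap R B (counit (a * b)) -
      (counit (R := R) b • (e.ofConv a - algebraMap R B (counit a)) +
        counit (R := R) a • (e.ofConv b - algebraMap R B (counit b))) =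
    (e.ofConv a - algebraMap R B (counit a)) * (e.ofConv b - algebraMap R B (counit b))
  rw [map_mul, Bialgebra.counit_mul, map_mul, Algebra.smul_def, Algebra.smul_def]
  ring

theorem lin_sub_one_apply_one (e : WithConv (C →ₐ[R] B)) : (lin e - 1).ofConv 1 = 0 := by
  show e.ofConv 1 - algebraMap R B (counit 1) = 0
  rw [map_one, Bialgebra.counit_one, map_one, sub_self]

end Pts

section Main

variable {A : Type u} [CommRing A] [HopfAlgebra R A] (T : Type u) [CommRing T] [Algebra R T]

variable (R) in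
/-- The ideal of `T ⊗ X` extended from `T`. -/
noncomputable abbrev Kw (X : Type u) [CommRing X] [Algebra R X] (K : Ideal T) : Ideal (T ⊗[R] X) :=
  K.map (Algebra.TensorProduct.includeLeftRingHom : T →+* T ⊗[R] X)

variable {X Y Z : Type u} [CommRing X] [Algebra R X] [CommRing Y] [Algebra R Y] [CommRing Z] [Algebra R Z]

/-- Base change of an algebra map. -/
noncomputable abbrev L (f : X →ₐ[R] Y) : T ⊗[R] X →ₐ[R] T ⊗[R] Y :=
  Algebra.TensorProduct.map (AlgHom.id R T) f

theorem L_comp (g : Y →ₐ[R] Z) (f : X →ₐ[R] Y) : (L T g).comp (L T f) = L T (g.comp f) :=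
  Algebra.TensorProduct.ext' fun _ _ => rfl

theorem map_Kw (f : X →ₐ[R] Y) (K : Ideal T) : (Kw R T X K).map (L T f) ≤ Kw R T Y K := by
  rw [Kw, Kw, Ideal.map_le_iff_le_comap, Ideal.map_le_iff_le_comap]
  intro k hk
  simp only [Ideal.mem_comap]
  convert Ideal.mem_map_of_mem (Algebra.TensorProduct.includeLeftRingHom : T →+* T ⊗[R] Y) hk using 1
  simp

theorem lTensor_mul_left (i : X →ₗ[R] Y) (t : T) (z : T ⊗[R] X) :
    i.lTensor T ((t ⊗ₜ 1) * z) = (t ⊗ₜ 1) * i.lTensor T z := by
  induction z using TensorProduct.induction_on with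
  | zero => simp
  | tmul s x => simp
  | add a b ha hb => simp only [mul_add, map_add, ha, hb]

theorem lTensor_mem_Kw (i : X →ₗ[R] Y) {K : Ideal T} {z : T ⊗[R] X} (hz : z ∈ Kw R T X K) :
    i.lTensor T z ∈ Kw R T Y K := by
  suffices h : ∀ w, i.lTensor T (w * z) ∈ Kw R T Y K by simpa using h 1
  refine Submodule.span_induction ?_ ?_ ?_ ?_ hz
  · rintro _ ⟨k, hk, rfl⟩ w
    rw [mul_comm, Algebra.TensorProduct.includeLeftRingHom_apply, lTensor_mul_left]
    exact Ideal.mul_mem_right _ _ (Ideal.mem_map_of_mem _ hk)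
  · intro w; simp
  · intro a b _ _ ha hb w; rw [mul_add, map_add]; exact add_mem (ha w) (hb w)
  · intro r a _ ha w; rw [smul_eq_mul, ← mul_assoc]; exact ha _

theorem lTensor_proj (i : Y →ₗ[R] X) (g : X →ₐ[R] Y) (hi : ∀ x y, i (g x * y) = x * i y) (w : T ⊗[R] X)
    (z : T ⊗[R] Y) : i.lTensor T (L T g w * z) = w * i.lTensor T z := by
  induction w using TensorProduct.induction_on with
  | zero => simp
  | add a b ha hb => simp only [map_add, add_mul, ha, hb]
  | tmul t x =>
    induction z using TensorProduct.induction_on with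
    | zero => simp
    | tmul s y => simp [hi]
    | add a b ha hb => simp only [map_add, mul_add, ha, hb]

/-- Slicing against a functional. -/
noncomputable def slice (X : Type u) [CommRing X] [Algebra R X] (α : A →ₗ[R] R) : X ⊗[R] A →ₗ[R] X :=
  (TensorProduct.rid R X).toLinearMap ∘ₗ α.lTensor X

@[simp] theorem slice_tmul (α : A →ₗ[R] R) (x : X) (a : A) : slice X α (x ⊗ₜ a) = α a • x := rfl

theorem slice_proj (α : A →ₗ[R] R) (x : X) (y : X ⊗[R] A) :
    slice X α ((Algebra.TensorProduct.includeLeft : X →ₐ[R] X ⊗[R] A) x * y) = x * slice X α y := by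
  induction y using TensorProduct.induction_on with
  | zero => simp
  | tmul x' a => simp
  | add a b ha hb => simp only [mul_add, map_add, ha, hb]

variable (R A) in
/-- The first projection. -/
noncomputable abbrev p1 : A →ₐ[R] A ⊗[R] A := Algebra.TensorProduct.includeLeft
variable (R A) in
/-- The second projection. -/
noncomputable abbrev p2 : A →ₐ[R] A ⊗[R] A := Algebra.TensorProduct.includeRight
variable (R A) in
/-- Multiplication of the group. -/
noncomputable abbrev dc : A →ₐ[R] A ⊗[R] A := Bialgebra.comulAlgHom R A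
variable (R A) in
noncomputable abbrev q12 : A ⊗[R] A →ₐ[R] (A ⊗[R] A) ⊗[R] A := Algebra.TensorProduct.includeLeft
variable (R A) in
noncomputable abbrev qA : A ⊗[R] A →ₐ[R] (A ⊗[R] A) ⊗[R] A :=
  Algebra.TensorProduct.map (dc R A) (AlgHom.id R A)
variable (R A) in
noncomputable abbrev qB : A ⊗[R] A →ₐ[R] (A ⊗[R] A) ⊗[R] A :=
  Algebra.TensorProduct.map (p2 R A) (AlgHom.id R A)
variable (R A) in
noncomputable abbrev qC : A ⊗[R] A →ₐ[R] (A ⊗[R] A) ⊗[R] A :=
  (Algebra.TensorProduct.assoc R R R A A A).symm.toAlgHom.comp (Algebra.TensorProduct.map (AlgHom.id R A) (dc R A))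

theorem q12_p1 : (q12 R A).comp (p1 R A) = (qC R A).comp (p1 R A) := AlgHom.ext fun a => by
  simp [Algebra.TensorProduct.one_def]

theorem q12_p2 : (q12 R A).comp (p2 R A) = (qB R A).comp (p1 R A) := AlgHom.ext fun a => by simp

theorem qA_p1 : (qA R A).comp (p1 R A) = (q12 R A).comp (dc R A) := AlgHom.ext fun a => by simp

theorem qA_p2 : (qA R A).comp (p2 R A) = (qB R A).comp (p2 R A) := AlgHom.ext fun a => by simp

theorem qC_p2 : (qC R A).comp (p2 R A) = (qB R A).comp (dc R A) := AlgHom.ext fun a => by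
  simp only [AlgHom.comp_apply, Bialgebra.comulAlgHom_apply, Algebra.TensorProduct.includeRight_apply,
    Algebra.TensorProduct.map_tmul, map_one]
  generalize comul (R := R) a = z
  induction z using TensorProduct.induction_on with
  | zero => simp
  | tmul x y => simp
  | add x y hx hy => simp only [map_add, TensorProduct.tmul_add, hx, hy]

theorem qA_dc : (qA R A).comp (dc R A) = (qC R A).comp (dc R A) := AlgHom.ext fun a =>
  (Coalgebra.coassoc_symm_apply (R := R) a).symm

variable {α : A →ₗ[R] R}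

theorem slice_includeLeft (h1 : α 1 = 1) (y : X) :
    slice X α ((Algebra.TensorProduct.includeLeft : X →ₐ[R] X ⊗[R] A) y) = y := by simp [h1]

theorem slice_qA (y : A ⊗[R] A) : slice (A ⊗[R] A) α (qA R A y) = dc R A (slice A α y) := by
  induction y using TensorProduct.induction_on with
  | zero => simp
  | tmul a b => simp
  | add a b ha hb => simp only [map_add, ha, hb]

theorem slice_qB (y : A ⊗[R] A) : slice (A ⊗[R] A) α (qB R A y) = p2 R A (slice A α y) := by
  induction y using TensorProduct.induction_on with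
  | zero => simp
  | tmul a b => simp
  | add a b ha hb => simp only [map_add, ha, hb]

theorem slice_dc (hα : IsInt R α) (a : A) : slice A α (dc R A a) = α a • (1 : A) := by
  have h := congrArg (TensorProduct.lid R A) (hα.2 a).1
  rw [TensorProduct.lid_tmul] at h
  rw [← h, Bialgebra.comulAlgHom_apply]
  generalize comul (R := R) a = z
  induction z using TensorProduct.induction_on with
  | zero => simp
  | tmul x y => simp
  | add x y hx hy => simp only [map_add, hx, hy]

theorem slice_qC (hα : IsInt R α) (y : A ⊗[R] A) :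
    slice (A ⊗[R] A) α (qC R A y) = p1 R A (slice A α y) := by
  induction y using TensorProduct.induction_on with
  | zero => simp
  | tmul a b =>
    have e : ∀ z : A ⊗[R] A, slice (A ⊗[R] A) α ((Algebra.TensorProduct.assoc R R R A A A).symm (a ⊗ₜ z)) =
        a ⊗ₜ slice A α z := by
      intro z
      induction z using TensorProduct.induction_on with
      | zero => simp
      | tmul x y => simp
      | add u v hu hv => simp only [TensorProduct.tmul_add, map_add, hu, hv]
    show slice (A ⊗[R] A) α ((Algebra.TensorProduct.assoc R R R A A A).symm (a ⊗ₜ dc R A b)) = _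
    rw [e, slice_dc hα]
    simp [TensorProduct.tmul_smul, TensorProduct.smul_tmul']
  | add a b ha hb => simp only [map_add, ha, hb]

/-- A point of `C` in `T ⊗ A` is a homomorphism modulo `K`. -/
def IsHomMod (K : Ideal T) (Φ : WithConv (C →ₐ[R] T ⊗[R] A)) : Prop :=
  Mem (Kw R T (A ⊗[R] A) K) (lin (pp (L T (p1 R A)) Φ * pp (L T (p2 R A)) Φ) - lin (pp (L T (dc R A)) Φ))

/-- A homomorphism. -/
def IsHom (Φ : WithConv (C →ₐ[R] T ⊗[R] A)) : Prop :=
  pp (L T (p1 R A)) Φ * pp (L T (p2 R A)) Φ = pp (L T (dc R A)) Φ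

theorem isHomMod_bot {Φ : WithConv (C →ₐ[R] T ⊗[R] A)} : IsHomMod T ⊥ Φ ↔ IsHom T Φ := by
  rw [IsHomMod, Kw, Ideal.map_bot, mem_bot_iff, sub_eq_zero]
  exact lin_injective.eq_iff

variable {T}

theorem IsHomMod.step [Algebra.Smooth R C] (hα : IsInt R α) {K : Ideal T} (hK : IsNilpotent K)
    {Φ : WithConv (C →ₐ[R] T ⊗[R] A)} (h : IsHomMod T K Φ) :
    ∃ Φ' : WithConv (C →ₐ[R] T ⊗[R] A), IsHomMod T (K * K) Φ' ∧ Mem (Kw R T A K) (lin Φ' - lin Φ) := by
  have hKK : IsNilpotent (K * K) := by
    obtain ⟨n, hn⟩ := hK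
    exact ⟨n, by rw [mul_pow, hn, zero_mul]⟩
  set N1 := Kw R T A (K * K)
  set N2 := Kw R T (A ⊗[R] A) (K * K)
  set N3 := Kw R T ((A ⊗[R] A) ⊗[R] A) (K * K)
  have hN1 : Kw R T A K * Kw R T A K ≤ N1 := (Ideal.map_mul _ _ _).ge
  have hN2 : Kw R T (A ⊗[R] A) K * Kw R T (A ⊗[R] A) K ≤ N2 := (Ideal.map_mul _ _ _).ge
  have hN3 : Kw R T ((A ⊗[R] A) ⊗[R] A) K * Kw R T ((A ⊗[R] A) ⊗[R] A) K ≤ N3 := (Ideal.map_mul _ _ _).ge
  set P1 := pp (L T (p1 R A)) Φ
  set P2 := pp (L T (p2 R A)) Φ
  set D := pp (L T (dc R A)) Φ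
  set e := P1 * P2 * D⁻¹ with he
  set d := lin e - 1 with hd
  have hdK : Mem (Kw R T (A ⊗[R] A) K) d := by
    have h2 := Mem.mul_right h (lin D⁻¹)
    rw [sub_mul, ← map_mul, ← map_mul, mul_inv_cancel, map_one] at h2
    exact h2
  set i1 := (slice A α).lTensor T
  set i2 := (slice (A ⊗[R] A) α).lTensor T
  have hi1 : ∀ x y, i1 (L T (p1 R A) x * y) = x * i1 y :=
    lTensor_proj T (slice A α) (p1 R A) fun x y => slice_proj α x y
  have hi2 : ∀ x y, i2 (L T (q12 R A) x * y) = x * i2 y :=
    lTensor_proj T (slice (A ⊗[R] A) α) (q12 R A) fun x y => slice_proj α x y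
  set f := pr i1 d with hf
  have hfK : Mem (Kw R T A K) f := fun c => lTensor_mem_Kw T _ (hdK c)
  -- the corrected point
  obtain ⟨κ, hκ⟩ := exists_lift_one_add (Kw R T A K) N1 hN1 (IsNilpotent.map_ideal hKK _) (-f) hfK.neg
    (fun a b => by
      have h2 := lTensor_mem_Kw T (slice A α) (hN2 (deriv_of_lin_sub_one e hdK a b))
      have h3 := N1.neg_mem h2
      convert h3 using 1
      show -(i1 (d.ofConv (a * b))) - (counit (R := R) b • -(i1 (d.ofConv a)) + counit (R := R) a • -(i1 (d.ofConv b))) =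
        -(i1 (d.ofConv (a * b) - (counit (R := R) b • d.ofConv a + counit (R := R) a • d.ofConv b)))
      rw [map_sub i1, map_add i1, map_smul i1, map_smul i1, smul_neg, smul_neg]
      abel)
    (by
      show -(i1 (d.ofConv 1)) ∈ N1
      rw [hd, lin_sub_one_apply_one, map_zero, neg_zero]
      exact N1.zero_mem)
  refine ⟨κ * Φ, ?_, ?_⟩
  swap
  · have h2 := ((hκ.mono (Ideal.map_mono Ideal.mul_le_right : N1 ≤ Kw R T A K)).add hfK.neg).mul_right (lin Φ)
    convert h2 using 1
    rw [map_mul]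
    noncomm_ring
  -- the cocycle identity
  have hgrp : pp (L T (q12 R A)) e * pp (L T (qA R A)) e =
      pp (L T (q12 R A)) P1 * pp (L T (qB R A)) e * (pp (L T (q12 R A)) P1)⁻¹ * pp (L T (qC R A)) e := by
    simp only [he, P1, P2, D, map_mul, map_inv, pp_pp, L_comp, q12_p1, q12_p2, qA_p1, qA_p2, qC_p2, qA_dc]
    group
  set a := pl (L T (q12 R A)) d
  set b := pl (L T (qA R A)) d
  set c := pl (L T (qB R A)) d
  set g := pl (L T (qC R A)) d
  set X := pl (L T (q12 R A)) (lin P1)
  set Xi := pl (L T (q12 R A)) (lin P1⁻¹)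
  have hXX : X * Xi = 1 := by rw [← map_mul, ← map_mul, mul_inv_cancel, map_one, map_one]
  have hK3 : ∀ q : A ⊗[R] A →ₐ[R] (A ⊗[R] A) ⊗[R] A, Mem (Kw R T ((A ⊗[R] A) ⊗[R] A) K) (pl (L T q) d) :=
    fun q => hdK.pl _ (map_Kw T q K)
  have hcoc : Mem N3 (a + b - (X * c * Xi + g)) := by
    have h2 := congrArg lin hgrp
    simp only [map_mul] at h2
    rw [← map_inv] at h2
    have hq : ∀ q : A ⊗[R] A →ₐ[R] (A ⊗[R] A) ⊗[R] A, lin (pp (L T q) e) = 1 + pl (L T q) d := fun q => by
      rw [hd, map_sub, map_one, pl_lin, add_sub_cancel]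
    rw [hq, hq, hq, hq, show lin (pp (L T (q12 R A)) P1) = X from rfl,
      show lin (pp (L T (q12 R A)) P1⁻¹) = Xi from rfl] at h2
    have h3 : a + b - (X * c * Xi + g) = X * c * Xi * g - a * b := by
      have : (1 + a) * (1 + b) = (1 + X * c * Xi) * (1 + g) := by
        rw [h2]
        congr 1
        rw [mul_add, add_mul, _root_.mul_one, hXX]
      rw [sub_eq_sub_iff_add_eq_add]
      simp only [add_mul, mul_add, _root_.one_mul, _root_.mul_one] at this
      have h4 := congrArg (fun x => x - 1) this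
      simp only [add_assoc, add_sub_cancel_left] at h4
      linear_combination (norm := abel) h4
    rw [h3]
    exact (((((hK3 _).mul_left X).mul_right Xi).mul (hK3 _)).mono hN3).sub (((hK3 _).mul (hK3 _)).mono hN3)
  have hint : Mem N2 (d + pl (L T (dc R A)) f - (lin P1 * pl (L T (p2 R A)) f * lin P1⁻¹ + pl (L T (p1 R A)) f)) := by
    have h2 : Mem N2 (pr i2 (a + b - (X * c * Xi + g))) := fun x => lTensor_mem_Kw T _ (hcoc x)
    have ea : pr i2 a = d := by
      refine (pr_pl i2 _ LinearMap.id ?_ d).trans rfl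
      intro y
      have := hi2 y 1
      rw [_root_.mul_one] at this
      rw [this]
      show y * i2 1 = y
      rw [Algebra.TensorProduct.one_def, LinearMap.lTensor_tmul, Algebra.TensorProduct.one_def, slice_tmul,
        hα.1, one_smul, ← Algebra.TensorProduct.one_def]
      exact _root_.mul_one y
    have eq : ∀ (q : A ⊗[R] A →ₐ[R] (A ⊗[R] A) ⊗[R] A) (p : A →ₐ[R] A ⊗[R] A)
        (_ : ∀ y, slice (A ⊗[R] A) α (q y) = p (slice A α y)), pr i2 (pl (L T q) d) = pl (L T p) f := by
      intro q p hqp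
      refine WithConv.ofConv_injective (LinearMap.ext fun x => ?_)
      show i2 (L T q (d.ofConv x)) = L T p (i1 (d.ofConv x))
      generalize d.ofConv x = z
      induction z using TensorProduct.induction_on with
      | zero => simp
      | tmul t y => simp [i1, i2, hqp]
      | add u v hu hv => simp only [map_add, hu, hv]
    rw [map_sub, map_add, map_add, pr_mul_right i2 _ hi2, pr_mul_left i2 _ hi2, ea, eq _ _ slice_qA,
      eq _ _ slice_qB, eq _ _ (slice_qC hα)] at h2
    exact h2
  -- conclusion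
  set F1 := pl (L T (p1 R A)) f
  set F2 := pl (L T (p2 R A)) f
  set FD := pl (L T (dc R A)) f
  set Ad := lin P1 * F2 * lin P1⁻¹ with hAd
  have hF : ∀ p : A →ₐ[R] A ⊗[R] A, Mem (Kw R T (A ⊗[R] A) K) (pl (L T p) f) := fun p => hfK.pl _ (map_Kw T p K)
  have hAdK : Mem (Kw R T (A ⊗[R] A) K) Ad := ((hF _).mul_left _).mul_right _
  have hr : ∀ p : A →ₐ[R] A ⊗[R] A, Mem N2 (lin (pp (L T p) κ) - (1 - pl (L T p) f)) := fun p => by
    have := hκ.pl (L T p) (map_Kw T p (K * K))
    rwa [map_sub, map_add, map_one, map_neg, pl_lin, ← sub_eq_add_neg] at this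
  unfold IsHomMod
  simp only [map_mul]
  change Mem N2 (lin (pp (L T (p1 R A)) κ) * lin P1 * (lin (pp (L T (p2 R A)) κ) * lin P2) -
    lin (pp (L T (dc R A)) κ) * lin D)
  set k1 := lin (pp (L T (p1 R A)) κ)
  set k2 := lin (pp (L T (p2 R A)) κ)
  set kD := lin (pp (L T (dc R A)) κ)
  have hPP : lin P1⁻¹ * lin P1 = 1 := by rw [← map_mul, inv_mul_cancel, map_one]
  have hde : lin P1 * lin P2 = (1 + d) * lin D := by
    rw [hd, add_sub_cancel, he, map_mul, map_mul, mul_assoc, ← map_mul lin D⁻¹,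
      inv_mul_cancel, map_one, _root_.mul_one]
  have main : Mem N2 (((1 - F1) * (1 - Ad) * (1 + d) - (1 - FD)) * lin D) := by
    refine Mem.mul_right ?_ _
    have h2 := ((hint.add (((hF (p1 R A)).mul hAdK).mono hN2)).sub (((hF (p1 R A)).mul hdK).mono hN2)).sub
      ((hAdK.mul hdK).mono hN2) |>.add (Mem.mul_left F1 ((hAdK.mul hdK).mono hN2))
    convert h2 using 1
    noncomm_ring
  have h2 := (((hr (p1 R A)).mul_right (lin P1 * (k2 * lin P2))).add
    ((((hr (p2 R A)).mul_left ((1 - F1) * lin P1)).mul_right (lin P2)))).sub ((hr (dc R A)).mul_right (lin D))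
  have h3 := h2.add main
  convert h3 using 1
  have e1 : (1 - F1) * lin P1 * (1 - F2) * lin P2 = (1 - F1) * (1 - Ad) * ((1 + d) * lin D) := by
    rw [← hde, hAd]
    simp only [mul_sub, sub_mul, mul_assoc, _root_.mul_one, _root_.one_mul]
    simp only [← mul_assoc (lin P1⁻¹), hPP, _root_.one_mul]
  rw [mul_sub ((1 - F1) * lin P1) k2, sub_mul ((1 - F1) * lin P1 * k2), e1]
  noncomm_ring

/-- Homomorphisms lift along nilpotent ideals. -/
theorem IsHomMod.exists_isHom [Algebra.Smooth R C] (hα : IsInt R α) {K : Ideal T} (hK : IsNilpotent K)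
    {Φ : WithConv (C →ₐ[R] T ⊗[R] A)} (h : IsHomMod T K Φ) :
    ∃ Φ' : WithConv (C →ₐ[R] T ⊗[R] A), IsHom T Φ' ∧ Mem (Kw R T A K) (lin Φ' - lin Φ) := by
  obtain ⟨n, hn⟩ := hK
  have hn' : K ^ (2 ^ n) = ⊥ := le_bot_iff.1 ((Ideal.pow_le_pow_right Nat.lt_two_pow_self.le).trans (by rw [hn]; rfl))
  clear hn
  induction n generalizing K Φ with
  | zero =>
    rw [pow_zero, pow_one] at hn'
    exact ⟨Φ, isHomMod_bot T |>.1 (hn' ▸ h), by rw [sub_self]; exact Mem.zero⟩
  | succ n ih =>
    obtain ⟨Φ', h', hm⟩ := h.step hα ⟨2 ^ (n + 1), hn'⟩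
    obtain ⟨Φ'', h'', hm'⟩ := ih h' (by rw [← pow_two, ← pow_mul, mul_comm, ← pow_succ]; exact hn')
    refine ⟨Φ'', h'', ?_⟩
    have := (hm'.mono (Ideal.map_mono Ideal.mul_le_right)).add hm
    simpa using this

/-- Homomorphisms to smooth groups lift along nilpotent thickenings. -/
theorem exists_isHom_lift [Algebra.Smooth R C] (hα : IsInt R α) {T' : Type u} [CommRing T'] [Algebra R T']
    (g : T →ₐ[R] T') (hg : Function.Surjective g) (hker : IsNilpotent (RingHom.ker g))
    (Φ₀ : WithConv (C →ₐ[R] T' ⊗[R] A)) (h₀ : IsHom T' Φ₀) :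
    ∃ Φ : WithConv (C →ₐ[R] T ⊗[R] A), IsHom T Φ ∧ pp (Algebra.TensorProduct.map g (AlgHom.id R A)) Φ = Φ₀ := by
  let gA := Algebra.TensorProduct.map g (AlgHom.id R A)
  let gA2 := Algebra.TensorProduct.map g (AlgHom.id R (A ⊗[R] A))
  have hk : RingHom.ker gA = Kw R T A (RingHom.ker g) := Algebra.TensorProduct.rTensor_ker g hg
  have hk2 : RingHom.ker gA2 = Kw R T (A ⊗[R] A) (RingHom.ker g) := Algebra.TensorProduct.rTensor_ker g hg
  have hgA : Function.Surjective gA := by
    intro z
    induction z using TensorProduct.induction_on with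
    | zero => exact ⟨0, map_zero _⟩
    | tmul t a => obtain ⟨s, rfl⟩ := hg t; exact ⟨s ⊗ₜ a, rfl⟩
    | add x y hx hy =>
      obtain ⟨u, rfl⟩ := hx; obtain ⟨v, rfl⟩ := hy
      exact ⟨u + v, map_add _ _ _⟩
  obtain ⟨φ, hφ⟩ := Algebra.FormallySmooth.exists_lift (A := C) (RingHom.ker gA) (hk ▸ IsNilpotent.map_ideal hker _)
    ((Ideal.quotientKerAlgEquivOfSurjective hgA).symm.toAlgHom.comp Φ₀.ofConv)
  have hφ' : pp gA (toConv φ) = Φ₀ := by
    refine WithConv.ofConv_injective (AlgHom.ext fun c => ?_)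
    have h2 := congrArg (fun f : C →ₐ[R] _ => Ideal.quotientKerAlgEquivOfSurjective hgA (f c)) hφ
    simp only [AlgHom.comp_apply] at h2
    show gA (φ c) = Φ₀.ofConv c
    exact h2.trans (AlgEquiv.apply_symm_apply _ _)
  have hnat : ∀ q : A →ₐ[R] A ⊗[R] A, gA2.comp (L T q) = (L T' q).comp gA :=
    fun q => Algebra.TensorProduct.ext' fun _ _ => rfl
  have hm : IsHomMod T (RingHom.ker g) (toConv φ) := fun c => by
    rw [← hk2, RingHom.mem_ker]
    have h2 : pl gA2 (lin (pp (L T (p1 R A)) (toConv φ) * pp (L T (p2 R A)) (toConv φ)) -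
        lin (pp (L T (dc R A)) (toConv φ))) = 0 := by
      rw [map_sub, pl_lin, pl_lin, map_mul, pp_pp, pp_pp, pp_pp, hnat, hnat, hnat, ← pp_pp, ← pp_pp, ← pp_pp, hφ',
        h₀, sub_self]
    exact congrArg (fun w : WithConv (C →ₗ[R] T' ⊗[R] (A ⊗[R] A)) => w.ofConv c) h2
  obtain ⟨Φ, hΦ, hmem⟩ := hm.exists_isHom hα hker
  refine ⟨Φ, hΦ, hφ' ▸ lin_injective (sub_eq_zero.1 ?_)⟩
  rw [← pl_lin, ← pl_lin, ← map_sub]
  refine WithConv.ofConv_injective (LinearMap.ext fun c => ?_)
  have h2 := hmem c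
  rw [← hk, RingHom.mem_ker] at h2
  exact h2

end Main

end Groth.Agent.H19Mult.Cohom
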