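import Groth.Agent.H19Mult.ClopenHom
import Groth.Agent.H19Mult.FiniteDual

/-!
A flat affine group with connected fibres over a complete Noetherian base, isotrivial of
multiplicative type modulo the ideal, is isotrivial.
-/

set_option autoImplicit false
set_option linter.style.haveILetI false
set_option backward.isDefEq.respectTransparency false

universe u

open TensorProduct

namespace Groth.Agent.H19Mult

theorem idem_eq_zero_of_connected_fibres {A : Type u} [CommRing A] {C : Type u} [CommRing C] [HopfAlgebra A C]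
    (hconn : ∀ (p : Ideal A) [p.IsPrime], ConnectedSpace (PrimeSpectrum (p.ResidueField ⊗[A] C)))
    (e : C) (he : IsIdempotentElem e) (hε : Coalgebra.counit (R := A) e = 0) : e = 0 := by
  refine he.eq_zero_of_isNilpotent (mem_nilradical.1 ?_)
  rw [nilradical_eq_sInf, Ideal.mem_sInf]
  intro q hq
  haveI : q.IsPrime := hq
  let p := q.comap (algebraMap A C)
  haveI := hconn p
  let κ := p.ResidueField
  let g : κ →ₐ[A] q.ResidueField := Ideal.ResidueField.mapₐ p q (Algebra.ofId A C) rfl
  let Φ : κ ⊗[A] C →ₐ[A] q.ResidueField := Algebra.TensorProduct.lift g (IsScalarTower.toAlgHom A C q.ResidueField)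
    fun _ _ => Commute.all _ _
  have hie : IsIdempotentElem ((1 : κ) ⊗ₜ[A] e) := by
    show _ * _ = _
    rw [Algebra.TensorProduct.tmul_mul_tmul, mul_one, he.eq]
  rcases connected_idem ((1 : κ) ⊗ₜ[A] e) hie with h | h
  · have h1 := congrArg Φ h
    rw [map_zero] at h1
    rw [show Φ ((1 : κ) ⊗ₜ[A] e) = algebraMap C q.ResidueField e by
      refine (Algebra.TensorProduct.lift_tmul _ _ _ _ _).trans ?_
      rw [map_one, one_mul]; rfl] at h1
    exact Ideal.algebraMap_residueField_eq_zero.1 h1
  · have h1 := congrArg (Algebra.TensorProduct.map (AlgHom.id A κ) (Bialgebra.counitAlgHom A C)) h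
    rw [map_one, Algebra.TensorProduct.map_tmul, Bialgebra.counitAlgHom_apply, hε, TensorProduct.tmul_zero] at h1
    have h2 := congrArg (Algebra.TensorProduct.rid A A κ) h1
    rw [map_zero, map_one] at h2
    exact absurd h2 zero_ne_one

theorem isIsotrivial_of_connected_fibres (A : Type u) [CommRing A] [IsNoetherianRing A] (I : Ideal A) [IsAdicComplete I A]
    (C : Type u) [CommRing C] [HopfAlgebra A C] [Module.Flat A C] (hft : Algebra.FiniteType A C)
    (hconn : ∀ (p : Ideal A) [p.IsPrime], ConnectedSpace (PrimeSpectrum (p.ResidueField ⊗[A] C)))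
    (h0 : SGA3b.IsIsotrivial (A ⧸ I) ((A ⧸ I) ⊗[A] C)) : SGA3b.IsIsotrivial A C := by
  obtain ⟨e, he, -, hH, hiso⟩ := exists_clopen_isotrivial A I C hft
    (fun q _ _ => Module.Flat.trans A C (Localization.AtPrime q)) h0
  haveI := hH
  have hε : Coalgebra.counit (R := A) e = 0 :=
    (inferInstance : ((Ideal.span {e}).restrictScalars A).IsCoideal).counit_eq_zero (Ideal.mem_span_singleton_self e)
  have h0' := idem_eq_zero_of_connected_fibres hconn e he hε
  refine isIsotrivial_of_equiv (BialgEquiv.ofBijective (Bialgebra.Quotient.mkBialgHom (R := A) (Ideal.span {e}))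
    ⟨fun x y hxy => ?_, Ideal.Quotient.mk_surjective⟩) hiso
  have h1 := Ideal.Quotient.eq.1 hxy
  rw [h0', Ideal.span_singleton_eq_bot.2 rfl, Ideal.mem_bot, sub_eq_zero] at h1
  exact h1

end Groth.Agent.H19Mult
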