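import Groth.Agent.H19Mult.Lift

/-!
A group of multiplicative type that is diagonalisable modulo a nil ideal is diagonalisable.
-/

set_option autoImplicit false
set_option linter.style.haveILetI false
set_option backward.isDefEq.respectTransparency false

universe u

open TensorProduct Coalgebra

namespace Groth.Agent.H19Mult

/-- The bialgebra homomorphism given by a family of group-like elements. -/
noncomputable def glHom {R : Type u} [CommRing R] {A : Type u} [CommRing A] [Bialgebra R A] {M : Type u}
    [CommGroup M] (y : M →* GroupLike R A) : MonoidAlgebra R M →ₐc[R] A :=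
  MonoidAlgebra.liftGroupLikeBialgHom.comp (MonoidAlgebra.mapDomainBialgHom R y)

@[simp] theorem glHom_single {R : Type u} [CommRing R] {A : Type u} [CommRing A] [Bialgebra R A] {M : Type u}
    [CommGroup M] (y : M →* GroupLike R A) (m : M) (r : R) :
    glHom y (MonoidAlgebra.single m r) = r • (y m).val := by
  simp [glHom]

section GroupAlgebra

variable {S : Type u} [CommRing S] {S₀ : Type u} [CommRing S₀] (g : S →+* S₀)
  {M N : Type u} [CommGroup M] [CommGroup N]

theorem coefL_mapRingHom (x : MonoidAlgebra S N) (n : N) :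
    coefL n (MonoidAlgebra.mapRingHom N g x) = g (coefL n x) := by
  classical
  induction x using MonoidAlgebra.induction_linear with
  | zero => simp
  | add u w hu hw => simp only [map_add, hu, hw]
  | single m r => simp; split <;> simp

variable {g} (hg : Function.Surjective g) (hker : ∀ x ∈ RingHom.ker g, IsNilpotent x)

include hker in
theorem groupLike_eq_of_map_eq {y z : MonoidAlgebra S N} (hy : IsGroupLikeElem S y) (hz : IsGroupLikeElem S z)
    (h : MonoidAlgebra.mapRingHom N g y = MonoidAlgebra.mapRingHom N g z) : y = z :=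
  groupLike_eq_of_isNilpotent hy hz fun m => hker _ (by
    rw [RingHom.mem_ker, map_sub, ← coefL_mapRingHom, ← coefL_mapRingHom, h, sub_self])

theorem map_glHom (ρ : MonoidAlgebra S₀ M →ₐc[S₀] MonoidAlgebra S₀ N) (y : M →* GroupLike S (MonoidAlgebra S N))
    (hy : ∀ m, MonoidAlgebra.mapRingHom N g (y m).val = ρ (MonoidAlgebra.single m 1)) (x : MonoidAlgebra S M) :
    MonoidAlgebra.mapRingHom N g (glHom y x) = ρ (MonoidAlgebra.mapRingHom M g x) := by
  induction x using MonoidAlgebra.induction_linear with
  | zero => simp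
  | add u w hu hw => simp only [map_add, hu, hw]
  | single m r =>
    rw [glHom_single, Algebra.smul_def, map_mul, hy, MonoidAlgebra.mapRingHom_single,
      show MonoidAlgebra.single m (g r) = g r • MonoidAlgebra.single m (1 : S₀) by simp, map_smul,
      Algebra.smul_def]
    congr 1
    refine ext_coef fun n => ?_
    classical
    rw [coefL_mapRingHom, MonoidAlgebra.coe_algebraMap, MonoidAlgebra.coe_algebraMap]
    simp
    split <;> simp

include hg hker in
theorem exists_glHom_inverse (ρ : MonoidAlgebra S₀ M ≃ₐc[S₀] MonoidAlgebra S₀ N) :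
    ∃ z : N →* GroupLike S (MonoidAlgebra S M),
      ∀ n, MonoidAlgebra.mapRingHom M g (z n).val = ρ.symm (MonoidAlgebra.single n 1) := by
  have h : ∀ n : N, ∃ z, IsGroupLikeElem S z ∧
      MonoidAlgebra.mapRingHom M g z = ρ.symm (MonoidAlgebra.single n 1) := fun n => by
    obtain ⟨z, hz, hz'⟩ := exists_groupLike_lift g hg hker
      ((MonoidAlgebra.isGroupLikeElem_single_one (R := S₀) (A := S₀) n).map ρ.symm)
    exact ⟨z, hz, ext_coef fun m => by rw [coefL_mapRingHom, hz' m]⟩
  choose z hz hz' using h
  refine ⟨{ toFun n := ⟨z n, hz n⟩, map_one' := ?_, map_mul' := fun a b => ?_ }, hz'⟩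
  · refine GroupLike.ext (groupLike_eq_of_map_eq hker (hz 1) .one ?_)
    rw [hz', GroupLike.val_one, map_one, ← MonoidAlgebra.one_def, map_one]
  · refine GroupLike.ext (groupLike_eq_of_map_eq hker (hz _) ((hz a).mul (hz b)) ?_)
    show MonoidAlgebra.mapRingHom M g (z (a * b)) = MonoidAlgebra.mapRingHom M g (z a * z b)
    rw [map_mul, hz', hz', hz', ← map_mul, MonoidAlgebra.single_mul_single, one_mul]

include hg hker in
theorem glHom_bijective (ρ : MonoidAlgebra S₀ M ≃ₐc[S₀] MonoidAlgebra S₀ N) (y : M →* GroupLike S (MonoidAlgebra S N))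
    (hy : ∀ m, MonoidAlgebra.mapRingHom N g (y m).val = ρ (MonoidAlgebra.single m 1)) :
    Function.Bijective (glHom y) := by
  obtain ⟨z, hz⟩ := exists_glHom_inverse hg hker ρ
  have hy' := map_glHom (ρ : MonoidAlgebra S₀ M →ₐc[S₀] MonoidAlgebra S₀ N) y hy
  have hz' := map_glHom (ρ.symm : MonoidAlgebra S₀ N →ₐc[S₀] MonoidAlgebra S₀ M) z hz
  refine Function.bijective_iff_has_inverse.2 ⟨glHom z, fun x => ?_, fun x => ?_⟩
  · induction x using MonoidAlgebra.induction_linear with
    | zero => simp
    | add u w hu hw => simp only [map_add, hu, hw]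
    | single m r =>
      rw [glHom_single, map_smul]
      have : glHom z (y m).val = MonoidAlgebra.single m 1 := by
        refine groupLike_eq_of_map_eq hker ((y m).isGroupLikeElem_val.map _)
          (MonoidAlgebra.isGroupLikeElem_single_one m) ?_
        rw [hz', hy, MonoidAlgebra.mapRingHom_single, map_one]
        exact BialgEquiv.symm_apply_apply ρ _
      rw [this]; simp
  · induction x using MonoidAlgebra.induction_linear with
    | zero => simp
    | add u w hu hw => simp only [map_add, hu, hw]
    | single m r =>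
      rw [glHom_single, map_smul]
      have : glHom y (z m).val = MonoidAlgebra.single m 1 := by
        refine groupLike_eq_of_map_eq hker ((z m).isGroupLikeElem_val.map _)
          (MonoidAlgebra.isGroupLikeElem_single_one m) ?_
        rw [hy', hz, MonoidAlgebra.mapRingHom_single, map_one]
        exact BialgEquiv.apply_symm_apply ρ _
      rw [this]; simp

end GroupAlgebra

section Descend

variable {R : Type u} [CommRing R] {A : Type u} [CommRing A] [HopfAlgebra R A]

/-- Bijectivity is detected by flat charts covering the spectrum. -/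
theorem bijective_of_charts {B : Type u} [AddCommGroup B] [Module R B] (f : B →ₗ[R] A)
    (H : ∀ p : PrimeSpectrum R, ∃ (R' : Type u) (_ : CommRing R') (_ : Algebra R R'), Module.Flat R R' ∧
      p ∈ Set.range (PrimeSpectrum.comap (algebraMap R R')) ∧ Function.Bijective (f.lTensor R')) :
    Function.Bijective f := by
  refine ⟨(injective_iff_map_eq_zero f).2 fun b hb => eq_zero_of_charts (R := R) b fun p => ?_, ?_⟩
  · obtain ⟨R', _, _, hfl, hp, hbij⟩ := H p
    exact ⟨R', inferInstance, inferInstance, hfl, hp, hbij.1 (by simp [hb])⟩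
  · refine LinearMap.range_eq_top.1 (Submodule.eq_top_iff'.2 fun a => ?_)
    refine (Submodule.Quotient.mk_eq_zero _).1 (eq_zero_of_charts (R := R) _ fun p => ?_)
    obtain ⟨R', _, _, hfl, hp, hbij⟩ := H p
    refine ⟨R', inferInstance, inferInstance, hfl, hp, ?_⟩
    obtain ⟨w, hw⟩ := hbij.2 ((1 : R') ⊗ₜ a)
    show (LinearMap.range f).mkQ.lTensor R' ((1 : R') ⊗ₜ a) = 0
    rw [← hw, ← LinearMap.comp_apply, ← LinearMap.lTensor_comp, LinearMap.range_mkQ_comp, LinearMap.lTensor_zero,
      LinearMap.zero_apply]

theorem isDiag_of_isDiag_nil (h : SGA3b.IsMultType R A) {R₀ : Type u} [CommRing R₀] [Algebra R R₀]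
    (hg : Function.Surjective (algebraMap R R₀)) (hker : ∀ x ∈ RingHom.ker (algebraMap R R₀), IsNilpotent x)
    (h₀ : SGA3b.IsDiag R₀ (R₀ ⊗[R] A)) : SGA3b.IsDiag R A := by
  obtain ⟨M, _, ⟨e⟩⟩ := h₀
  let g : R →ₐ[R] R₀ := Algebra.ofId R R₀
  let x₀ : M → R₀ ⊗[R] A := fun m => e.symm (MonoidAlgebra.single m 1)
  have hx₀ : ∀ m, IsGL (x₀ m) := fun m => (isGL_iff _).2 ((MonoidAlgebra.isGroupLikeElem_single_one m).map e.symm)
  have hl : ∀ m, ∃ x, IsGL x ∧ mapA g x = x₀ m := fun m => exists_isGL_lift h g hg hker (hx₀ m)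
  choose x hx hxg using hl
  have hx1 : x 1 = 1 := eq_of_isGL h g hg hker (hx 1) ((isGL_iff _).2 .one) (by
    rw [hxg, map_one]
    show e.symm (MonoidAlgebra.single 1 1) = 1
    rw [← MonoidAlgebra.one_def, map_one])
  have hxm : ∀ a b, x (a * b) = x a * x b := fun a b =>
    eq_of_isGL h g hg hker (hx _) ((isGL_iff _).2 (((isGL_iff _).1 (hx a)).mul ((isGL_iff _).1 (hx b)))) (by
      rw [map_mul, hxg, hxg, hxg]
      show e.symm (MonoidAlgebra.single (a * b) 1) =
        e.symm (MonoidAlgebra.single a 1) * e.symm (MonoidAlgebra.single b 1)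
      rw [← map_mul, MonoidAlgebra.single_mul_single, _root_.one_mul])
  let lid : R ⊗[R] A ≃ₐc[R] A := Bialgebra.TensorProduct.lid R A
  let y : M →* GroupLike R A :=
    { toFun m := ⟨lid (x m), ((isGL_iff _).1 (hx m)).map lid⟩
      map_one' := GroupLike.ext (by show lid (x 1) = 1; rw [hx1, map_one])
      map_mul' a b := GroupLike.ext (by show lid (x (a * b)) = lid (x a) * lid (x b); rw [hxm, map_mul]) }
  suffices hb : Function.Bijective (glHom y) from ⟨M, inferInstance, ⟨(BialgEquiv.ofBijective (glHom y) hb).symm⟩⟩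
  refine bijective_of_charts ((glHom y : MonoidAlgebra R M →ₐc[R] A) : MonoidAlgebra R M →ₐ[R] A).toLinearMap
    fun p => ?_
  obtain ⟨P, _, _, hfl, hp, N, _, ⟨eP⟩⟩ := exists_chart h p
  refine ⟨P, inferInstance, inferInstance, hfl, hp, ?_⟩
  let P₀ := P ⊗[R] R₀
  letI : Algebra R₀ P₀ := Algebra.TensorProduct.rightAlgebra
  obtain ⟨eM₀, hM₀⟩ := exists_chart_map e P₀
  obtain ⟨eN₀, hN₀⟩ := exists_chart_map eP P₀
  let gP : P →+* P₀ := Algebra.TensorProduct.includeLeftRingHom
  have hfac : ∀ w : P, gP w = Algebra.TensorProduct.map (AlgHom.id R P) g (w ⊗ₜ 1) := fun w => by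
    show w ⊗ₜ (1 : R₀) = w ⊗ₜ g 1
    rw [map_one]
  have hgP : Function.Surjective gP := fun w => by
    obtain ⟨v, rfl⟩ := mapId_surjective (P := P) (g := g) hg w
    refine ⟨Algebra.TensorProduct.rid R R P v, ?_⟩
    rw [hfac]
    congr 1
    exact (Algebra.TensorProduct.rid R R P).symm_apply_apply v
  have hkP : ∀ w ∈ RingHom.ker gP, IsNilpotent w := fun w hw => by
    have := isNilpotent_of_mem_ker_mapId (P := P) (g := g) hg hker (w ⊗ₜ 1) (by rw [RingHom.mem_ker, ← hfac]; exact hw)
    simpa using this.map (Algebra.TensorProduct.rid R R P)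
  let z : M →* GroupLike P (MonoidAlgebra P N) :=
    { toFun m := ⟨eP ((1 : P) ⊗ₜ (y m).val),
        ((isGL_iff _).1 (by
          have := (hx m).map (Algebra.ofId R P)
          have e1 : mapA (Algebra.ofId R P) (x m) = (1 : P) ⊗ₜ (y m).val := by
            show _ = (1 : P) ⊗ₜ lid (x m)
            induction x m using TensorProduct.induction_on with
            | zero => simp
            | tmul r a =>
              show algebraMap R P r ⊗ₜ[R] a = (1 : P) ⊗ₜ[R] (r • a)
              rw [TensorProduct.tmul_smul, TensorProduct.smul_tmul', Algebra.smul_def, _root_.mul_one]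
            | add u w hu hw => simp only [map_add, TensorProduct.tmul_add, hu, hw]
          rwa [e1] at this)).map eP⟩
      map_one' := GroupLike.ext (by simp [← Algebra.TensorProduct.one_def])
      map_mul' a b := GroupLike.ext (by
        show eP ((1 : P) ⊗ₜ (y (a * b)).val) = eP ((1 : P) ⊗ₜ (y a).val) * eP ((1 : P) ⊗ₜ (y b).val)
        rw [← map_mul, Algebra.TensorProduct.tmul_mul_tmul, _root_.one_mul, map_mul]
        rfl) }
  have hz := glHom_bijective hgP hkP (eM₀.symm.trans eN₀) z fun m => by
    refine ext_coef fun n => ?_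
    rw [coefL_mapRingHom]
    show gP (coefL n (eP ((1 : P) ⊗ₜ (y m).val))) = coefL n (eN₀ (eM₀.symm (MonoidAlgebra.single m 1)))
    refine (hN₀ _ n).symm.trans ?_
    congr 2
    refine (EquivLike.injective eM₀ ?_)
    rw [BialgEquiv.apply_symm_apply]
    have e2 : mapA (IsScalarTower.toAlgHom R P P₀) ((1 : P) ⊗ₜ (y m).val) =
        mapA (IsScalarTower.toAlgHom R R₀ P₀) (x₀ m) := by
      rw [← hxg m, mapA_mapA]
      show mapA _ ((1 : P) ⊗ₜ lid (x m)) = _
      induction x m using TensorProduct.induction_on with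
      | zero => simp
      | tmul r a =>
        show mapA _ ((1 : P) ⊗ₜ[R] (r • a)) = _
        rw [TensorProduct.tmul_smul, TensorProduct.smul_tmul']
        simp only [mapA_tmul]
        congr 1
        rw [Subsingleton.elim ((IsScalarTower.toAlgHom R R₀ P₀).comp g) (Algebra.ofId R P₀)]
        simp [Algebra.smul_def]
      | add u w hu hw => simp only [map_add, TensorProduct.tmul_add, hu, hw]
    rw [e2]
    classical
    refine ext_coef fun n => ?_
    rw [hM₀]
    show algebraMap R₀ P₀ (coefL n (e (e.symm (MonoidAlgebra.single m 1)))) = _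
    rw [BialgEquiv.apply_symm_apply, coefL_single, coefL_single]
    split <;> simp
  have hcomp : ∀ w : P ⊗[R] MonoidAlgebra R M, eP (LinearMap.lTensor P
      ((glHom y : MonoidAlgebra R M →ₐc[R] A) : MonoidAlgebra R M →ₐ[R] A).toLinearMap w) =
      glHom z (scalarBialgEquiv R P M w) := by
    intro w
    induction w using TensorProduct.induction_on with
    | zero => simp
    | add u v hu hv => simp only [map_add, hu, hv]
    | tmul p b =>
      induction b using MonoidAlgebra.induction_linear with
      | zero => simp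
      | add u v hu hv => simp only [TensorProduct.tmul_add, map_add, hu, hv]
      | single m r =>
        show eP (p ⊗ₜ glHom y (MonoidAlgebra.single m r)) =
          glHom z (MonoidAlgebra.scalarTensorEquiv R P (p ⊗ₜ MonoidAlgebra.single m r))
        rw [MonoidAlgebra.scalarTensorEquiv_tmul, glHom_single]
        simp
        show _ = _ • eP _
        rw [← map_smul, TensorProduct.smul_tmul', TensorProduct.smul_tmul']
        simp [Algebra.smul_def, mul_comm]
  refine (EquivLike.comp_bijective _ eP).1 ?_
  rw [show (⇑eP ∘ ⇑(LinearMap.lTensor P ((glHom y : MonoidAlgebra R M →ₐc[R] A) :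
      MonoidAlgebra R M →ₐ[R] A).toLinearMap)) = glHom z ∘ scalarBialgEquiv R P M from funext hcomp]
  exact hz.comp (EquivLike.bijective _)

end Descend

end Groth.Agent.H19Mult
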