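import Groth.Agent.H19Mult.ModDesc
import Groth.Agent.H19Mult.Descent
import Groth.Agent.H19Mult.LiftDiag

/-!
Descent data of group algebras along a flat covering family, and the descended algebra.
-/

set_option autoImplicit false
set_option linter.style.haveILetI false
set_option backward.isDefEq.respectTransparency false

universe u

open TensorProduct

namespace Groth.Agent.H19Mult

/-- The map on group algebras induced by two points and a transition map. -/
noncomputable def transHom {R : Type u} [CommRing R] {A B : Type u} [CommRing A] [Algebra R A] [CommRing B]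
    [Algebra R B] {M N : Type u} [CommGroup M] [CommGroup N] (χ : M →* MonoidAlgebra (A ⊗[R] B) N)
    {S : Type u} [CommRing S] [Algebra R S] (a : A →ₐ[R] S) (b : B →ₐ[R] S) :
    MonoidAlgebra S M →ₐ[S] MonoidAlgebra S N :=
  MonoidAlgebra.lift S (MonoidAlgebra S N) M
    ((MonoidAlgebra.mapRingHom N
      (Algebra.TensorProduct.lift a b fun _ _ => Commute.all _ _).toRingHom).toMonoidHom.comp χ)

theorem transHom_single {R : Type u} [CommRing R] {A B : Type u} [CommRing A] [Algebra R A] [CommRing B]
    [Algebra R B] {M N : Type u} [CommGroup M] [CommGroup N] (χ : M →* MonoidAlgebra (A ⊗[R] B) N)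
    {S : Type u} [CommRing S] [Algebra R S] (a : A →ₐ[R] S) (b : B →ₐ[R] S) (m : M) (s : S) :
    transHom χ a b (MonoidAlgebra.single m s) =
      s • MonoidAlgebra.mapRingHom N (Algebra.TensorProduct.lift a b fun _ _ => Commute.all _ _).toRingHom (χ m) :=
  MonoidAlgebra.lift_single _ _ _

variable {R : Type u} [CommRing R] {ι : Type} (T : ι → Type u) [∀ i, CommRing (T i)] [∀ i, Algebra R (T i)]

/-- A descent datum of group algebras, without the condition of being group-like. -/
structure GDatum (M : ι → Type u) [∀ i, CommGroup (M i)] where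
  χ : ∀ i j, M i →* MonoidAlgebra (T i ⊗[R] T j) (M j)
  unit : ∀ i m, MonoidAlgebra.mapRingHom (M i) (Algebra.TensorProduct.lmul' (S := T i) R).toRingHom (χ i i m) =
    MonoidAlgebra.single m 1
  cocycle : ∀ i j k (S : Type u) [CommRing S] [Algebra R S] (a : T i →ₐ[R] S) (b : T j →ₐ[R] S) (c : T k →ₐ[R] S)
    (m : M i), transHom (χ j k) b c (transHom (χ i j) a b (MonoidAlgebra.single m 1)) =
      transHom (χ i k) a c (MonoidAlgebra.single m 1)

namespace GDatum

variable {T} {M : ι → Type u} [∀ i, CommGroup (M i)] (D : GDatum (R := R) T M)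

/-- `(T i ⊗ T j)[M] ≃ T i ⊗ T j[M]`. -/
noncomputable def phi (i j : ι) : MonoidAlgebra (T i ⊗[R] T j) (M j) ≃ₐ[T i] T i ⊗[R] MonoidAlgebra (T j) (M j) :=
  (MonoidAlgebra.rTensorEquivAlgEquiv R (T i) (T i) (T j)).symm

theorem phi_single (i j : ι) (m : M j) (t : T i) (s : T j) :
    phi (R := R) (T := T) (M := M) i j (MonoidAlgebra.single m (t ⊗ₜ s)) = t ⊗ₜ MonoidAlgebra.single m s :=
  MonoidAlgebra.rTensorEquiv_symm_singleAlgEquiv _ _ _

/-- The structure maps of the descent datum. -/
noncomputable def rho (i j : ι) : MonoidAlgebra (T i) (M i) →ₐ[T i] T i ⊗[R] MonoidAlgebra (T j) (M j) :=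
  (phi (R := R) (T := T) (M := M) i j).toAlgHom.comp (MonoidAlgebra.lift (T i) _ (M i) (D.χ i j))

theorem rho_single (i j : ι) (m : M i) (t : T i) :
    D.rho i j (MonoidAlgebra.single m t) = t • phi i j (D.χ i j m) := by
  show phi i j (MonoidAlgebra.lift (T i) _ (M i) (D.χ i j) (MonoidAlgebra.single m t)) = _
  rw [MonoidAlgebra.lift_single, map_smul]

theorem unit_rho (i : ι) (x : MonoidAlgebra (T i) (M i)) :
    (LinearMap.id : MonoidAlgebra (T i) (M i) →ₗ[R] MonoidAlgebra (T i) (M i)).liftBaseChange (T i)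
      (D.rho i i x) = x := by
  set μ := (LinearMap.id : MonoidAlgebra (T i) (M i) →ₗ[R] MonoidAlgebra (T i) (M i)).liftBaseChange (T i)
  have hμ : ∀ y, μ (phi i i y) =
      MonoidAlgebra.mapRingHom (M i) (Algebra.TensorProduct.lmul' (S := T i) R).toRingHom y := by
    intro y
    induction y using MonoidAlgebra.induction_linear with
    | zero => simp
    | add u w hu hw => simp only [map_add, hu, hw]
    | single m z =>
      induction z using TensorProduct.induction_on with
      | zero => simp
      | tmul t s => rw [phi_single, MonoidAlgebra.mapRingHom_single]; simp [μ]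
      | add u w hu hw => simp only [MonoidAlgebra.single_add, map_add, hu, hw]
  induction x using MonoidAlgebra.induction_linear with
  | zero => simp
  | add u w hu hw => simp only [map_add, hu, hw]
  | single m t => rw [rho_single, map_smul, hμ, D.unit, MonoidAlgebra.smul_single', mul_one]

/-- `T i ⊗ (T j ⊗ T k[M]) ≃ (T i ⊗ (T j ⊗ T k))[M]`. -/
noncomputable def phi3 (i j k : ι) : T i ⊗[R] (T j ⊗[R] MonoidAlgebra (T k) (M k)) ≃ₐ[R]
    MonoidAlgebra (T i ⊗[R] (T j ⊗[R] T k)) (M k) :=
  (Algebra.TensorProduct.congr (R := R) (S := R) (AlgEquiv.refl : T i ≃ₐ[R] T i)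
      ((phi (R := R) (T := T) (M := M) j k).symm.restrictScalars R)).trans
    (MonoidAlgebra.rTensorEquivAlgEquiv R R (T i) (T j ⊗[R] T k))

theorem phi3_tmul (i j k : ι) (t : T i) (y : MonoidAlgebra (T j ⊗[R] T k) (M k)) :
    phi3 i j k (t ⊗ₜ phi j k y) = t •
      MonoidAlgebra.mapRingHom (M k) (Algebra.TensorProduct.includeRight : T j ⊗[R] T k →ₐ[R] T i ⊗[R] (T j ⊗[R] T k)).toRingHom y := by
  show MonoidAlgebra.rTensorEquivAlgEquiv R R (T i) (T j ⊗[R] T k) (t ⊗ₜ (phi j k).symm (phi j k y)) = _
  rw [AlgEquiv.symm_apply_apply, MonoidAlgebra.rTensorEquiv_tmulAlgEquiv]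
  rfl

theorem co_rho (i j k : ι) (x : MonoidAlgebra (T i) (M i)) :
    LinearMap.lTensor (T i) ((D.rho j k).toLinearMap.restrictScalars R) (D.rho i j x) =
      LinearMap.lTensor (T i) (TensorProduct.mk R (T j) (MonoidAlgebra (T k) (M k)) 1) (D.rho i k x) := by
  let U := T i ⊗[R] (T j ⊗[R] T k)
  let a : T i →ₐ[R] U := Algebra.TensorProduct.includeLeft
  let b : T j →ₐ[R] U := Algebra.TensorProduct.includeRight.comp Algebra.TensorProduct.includeLeft
  let c : T k →ₐ[R] U := Algebra.TensorProduct.includeRight.comp Algebra.TensorProduct.includeRight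
  have hbc : (Algebra.TensorProduct.lift b c fun _ _ => Commute.all _ _) =
      (Algebra.TensorProduct.includeRight : T j ⊗[R] T k →ₐ[R] U) := Algebra.TensorProduct.ext' fun s s' => by
    rw [Algebra.TensorProduct.lift_tmul]
    show ((1 : T i) ⊗ₜ[R] (s ⊗ₜ[R] (1 : T k))) * ((1 : T i) ⊗ₜ[R] ((1 : T j) ⊗ₜ[R] s')) =
      (1 : T i) ⊗ₜ[R] (s ⊗ₜ[R] s')
    simp
  have h1 : ∀ y, phi3 i j k (LinearMap.lTensor (T i) ((D.rho j k).toLinearMap.restrictScalars R) (phi i j y)) =
      transHom (D.χ j k) b c (MonoidAlgebra.mapRingHom (M j)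
        (Algebra.TensorProduct.lift a b fun _ _ => Commute.all _ _).toRingHom y) := by
    intro y
    induction y using MonoidAlgebra.induction_linear with
    | zero => simp
    | add u w hu hw => simp only [map_add, hu, hw]
    | single m z =>
      induction z using TensorProduct.induction_on with
      | zero => simp
      | tmul t s =>
        rw [phi_single, LinearMap.lTensor_tmul, MonoidAlgebra.mapRingHom_single, transHom_single, hbc]
        show phi3 i j k (t ⊗ₜ[R] D.rho j k (MonoidAlgebra.single m s)) = _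
        rw [rho_single, ← map_smul, phi3_tmul, Algebra.smul_def s, map_mul, Algebra.smul_def, Algebra.smul_def,
          ← mul_assoc]
        congr 1
        simp [MonoidAlgebra.single_mul_single]
        show t ⊗ₜ[R] (s ⊗ₜ[R] (1 : T k)) = (t ⊗ₜ[R] ((1 : T j) ⊗ₜ[R] (1 : T k))) * ((1 : T i) ⊗ₜ[R] (s ⊗ₜ[R] (1 : T k)))
        simp
      | add u w hu hw => simp only [MonoidAlgebra.single_add, map_add, hu, hw]
  have h2 : ∀ y, phi3 i j k (LinearMap.lTensor (T i) (TensorProduct.mk R (T j) (MonoidAlgebra (T k) (M k)) 1)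
      (phi i k y)) = MonoidAlgebra.mapRingHom (M k)
        (Algebra.TensorProduct.lift a c fun _ _ => Commute.all _ _).toRingHom y := by
    intro y
    induction y using MonoidAlgebra.induction_linear with
    | zero => simp
    | add u w hu hw => simp only [map_add, hu, hw]
    | single m z =>
      induction z using TensorProduct.induction_on with
      | zero => simp
      | tmul t s =>
        rw [phi_single, LinearMap.lTensor_tmul, TensorProduct.mk_apply,
          show (1 : T j) ⊗ₜ[R] MonoidAlgebra.single m s = phi j k (MonoidAlgebra.single m ((1 : T j) ⊗ₜ s)) from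
            (phi_single ..).symm, phi3_tmul, MonoidAlgebra.mapRingHom_single, MonoidAlgebra.mapRingHom_single,
          Algebra.smul_def]
        simp [MonoidAlgebra.single_mul_single]
        show t ⊗ₜ[R] ((1 : T j) ⊗ₜ[R] s) = (t ⊗ₜ[R] ((1 : T j) ⊗ₜ[R] (1 : T k))) * ((1 : T i) ⊗ₜ[R] ((1 : T j) ⊗ₜ[R] s))
        simp
      | add u w hu hw => simp only [MonoidAlgebra.single_add, map_add, hu, hw]
  refine (phi3 i j k).injective ?_
  induction x using MonoidAlgebra.induction_linear with
  | zero => simp
  | add u w hu hw => simp only [map_add, hu, hw]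
  | single m t =>
    rw [rho_single, rho_single, ← map_smul (phi i j), ← map_smul (phi i k), h1, h2,
      Algebra.smul_def, Algebra.smul_def, map_mul, map_mul, map_mul]
    have h := D.cocycle i j k U a b c m
    rw [transHom_single, transHom_single, one_smul, one_smul] at h
    rw [h]
    congr 1
    simp [transHom_single, a]
    rw [MonoidAlgebra.one_def, MonoidAlgebra.smul_single', mul_one]

/-- The descended algebra. -/
noncomputable def alg : Subalgebra R (∀ i, MonoidAlgebra (T i) (M i)) where
  carrier := {x | ∀ i j, D.rho i j (x i) = (1 : T i) ⊗ₜ[R] x j}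
  mul_mem' {x y} hx hy i j := by
    simp only [Pi.mul_apply, map_mul, hx i j, hy i j, Algebra.TensorProduct.tmul_mul_tmul, mul_one]
  add_mem' {x y} hx hy i j := by
    simp only [Pi.add_apply, map_add, hx i j, hy i j, TensorProduct.tmul_add]
  algebraMap_mem' r i j := by
    show D.rho i j (algebraMap R (MonoidAlgebra (T i) (M i)) r) = (1 : T i) ⊗ₜ[R] algebraMap R _ r
    rw [IsScalarTower.algebraMap_apply R (T i) (MonoidAlgebra (T i) (M i)), AlgHom.commutes,
      ← IsScalarTower.algebraMap_apply R (T i)]
    rw [Algebra.algebraMap_eq_smul_one, Algebra.algebraMap_eq_smul_one, ← TensorProduct.smul_tmul,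
      ← TensorProduct.smul_tmul', ← Algebra.TensorProduct.one_def]

theorem mem_alg_iff {x : ∀ i, MonoidAlgebra (T i) (M i)} :
    x ∈ D.alg ↔ ∀ i j, D.rho i j (x i) = (1 : T i) ⊗ₜ[R] x j := Iff.rfl

/-- A component of the descended algebra. -/
noncomputable def comp' (i : ι) : D.alg →ₐ[R] MonoidAlgebra (T i) (M i) :=
  (Pi.evalAlgHom R (fun i => MonoidAlgebra (T i) (M i)) i).comp D.alg.val

theorem rho_comp' (i j : ι) (x : D.alg) : D.rho i j (D.comp' i x) = (1 : T i) ⊗ₜ[R] D.comp' j x := x.2 i j

theorem comp'_ext {x y : D.alg} (h : ∀ i, D.comp' i x = D.comp' i y) : x = y :=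
  Subtype.ext (funext h)

/-- The chart of the descended algebra. -/
noncomputable def chart (i : ι) : T i ⊗[R] D.alg →ₐ[T i] MonoidAlgebra (T i) (M i) :=
  Algebra.TensorProduct.lift (Algebra.ofId (T i) _) (D.comp' i) fun _ _ => Commute.all _ _

theorem chart_tmul (i : ι) (t : T i) (x : D.alg) : D.chart i (t ⊗ₜ x) = t • D.comp' i x := by
  simp [chart, Algebra.smul_def]

theorem chart_bijective [Fintype ι] [DecidableEq ι] [∀ i, Module.Flat R (T i)] (i : ι) :
    Function.Bijective (D.chart i) := by
  let V := fun i => MonoidAlgebra (T i) (M i)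
  let ρ : ∀ i j, V i →ₗ[T i] T i ⊗[R] V j := fun i j => (D.rho i j).toLinearMap
  have hb := ModDesc.compare_bijective T V ρ D.unit_rho D.co_rho i
  let e : D.alg →ₗ[R] ModDesc.desc T V ρ :=
    (D.alg.val.toLinearMap).codRestrict _ fun x => (ModDesc.mem_desc_iff T V ρ).2 x.2
  have he : Function.Bijective e :=
    ⟨fun x y h => Subtype.ext (congrArg Subtype.val h :), fun x => ⟨⟨x.1, (ModDesc.mem_desc_iff T V ρ).1 x.2⟩, rfl⟩⟩
  have heq : ∀ z, D.chart i z = ModDesc.compare T V ρ i
      (LinearEquiv.lTensor (T i) (LinearEquiv.ofBijective e he) z) := fun z => by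
    induction z using TensorProduct.induction_on with
    | zero => simp
    | tmul t x => rw [chart_tmul]; simp [ModDesc.compare_tmul, e, comp', V]
    | add u w hu hw => simp only [map_add, hu, hw]
  rw [show (D.chart i : T i ⊗[R] D.alg → V i) = ModDesc.compare T V ρ i ∘
    LinearEquiv.lTensor (T i) (LinearEquiv.ofBijective e he) from funext heq]
  exact hb.comp (LinearEquiv.bijective _)

end GDatum

end Groth.Agent.H19Mult
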