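import Groth.Agent.H19Mult.DatumLift
import Groth.Agent.H19Mult.AdicHom

/-!
The lifted datum descends to a lift of the given Hopf algebra.
-/

set_option autoImplicit false
set_option linter.style.haveILetI false
set_option backward.isDefEq.respectTransparency false
set_option maxHeartbeats 800000

universe u

open TensorProduct

namespace Groth.Agent.H19Mult

theorem GDatum.trans_comp' {R : Type u} [CommRing R] {ι : Type} {T : ι → Type u} [∀ i, CommRing (T i)]
    [∀ i, Algebra R (T i)] {M : ι → Type u} [∀ i, CommGroup (M i)] (D : GDatum (R := R) T M) (i j : ι)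
    {S : Type u} [CommRing S] [Algebra R S] (a : T i →ₐ[R] S) (b : T j →ₐ[R] S) (x : D.alg) :
    transHom (D.χ i j) a b (MonoidAlgebra.mapRingHom (M i) a.toRingHom (D.comp' i x)) =
      MonoidAlgebra.mapRingHom (M j) b.toRingHom (D.comp' j x) := by
  let bm : MonoidAlgebra (T j) (M j) →ₐ[R] MonoidAlgebra S (M j) :=
    { MonoidAlgebra.mapRingHom (M j) b.toRingHom with
      commutes' := fun r => by
        show MonoidAlgebra.mapRingHom (M j) b.toRingHom (algebraMap R (MonoidAlgebra (T j) (M j)) r) = _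
        rw [MonoidAlgebra.coe_algebraMap, MonoidAlgebra.coe_algebraMap, Function.comp_apply, Function.comp_apply,
          MonoidAlgebra.mapRingHom_single]
        simp }
  let Ψ : T i ⊗[R] MonoidAlgebra (T j) (M j) →ₐ[R] MonoidAlgebra S (M j) :=
    Algebra.TensorProduct.lift ((IsScalarTower.toAlgHom R S (MonoidAlgebra S (M j))).comp a) bm
      fun _ _ => Commute.all _ _
  have hphi : ∀ y, Ψ (GDatum.phi i j y) = MonoidAlgebra.mapRingHom (M j)
      (Algebra.TensorProduct.lift a b fun _ _ => Commute.all _ _).toRingHom y := by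
    intro y
    induction y using MonoidAlgebra.induction_linear with
    | zero => simp
    | add u w hu hw => simp only [map_add, hu, hw]
    | single m z =>
      induction z using TensorProduct.induction_on with
      | zero => simp
      | add u w hu hw => simp only [MonoidAlgebra.single_add, map_add, hu, hw]
      | tmul t s =>
        rw [GDatum.phi_single, MonoidAlgebra.mapRingHom_single]
        refine (Algebra.TensorProduct.lift_tmul _ _ _ _ _).trans ?_
        show algebraMap S (MonoidAlgebra S (M j)) (a t) * MonoidAlgebra.mapRingHom (M j) b.toRingHom (MonoidAlgebra.single m s) = _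
        rw [MonoidAlgebra.mapRingHom_single, ← Algebra.smul_def, MonoidAlgebra.smul_single']
        congr 1
  have hrho : ∀ z, Ψ (D.rho i j z) = transHom (D.χ i j) a b (MonoidAlgebra.mapRingHom (M i) a.toRingHom z) := by
    intro z
    induction z using MonoidAlgebra.induction_linear with
    | zero => simp
    | add u w hu hw => simp only [map_add, hu, hw]
    | single m t =>
      rw [GDatum.rho_single, ← map_smul, hphi, MonoidAlgebra.mapRingHom_single, transHom_single,
        Algebra.smul_def, map_mul, Algebra.smul_def]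
      congr 1
      simp
  rw [← hrho, D.rho_comp']
  show Ψ ((1 : T i) ⊗ₜ[R] D.comp' j x) = bm (D.comp' j x)
  refine (Algebra.TensorProduct.lift_tmul _ _ _ _ _).trans ?_
  rw [map_one, one_mul]

section charts

variable {R : Type u} [CommRing R] {ι : Type} [Fintype ι] [DecidableEq ι] {T : ι → Type u} [∀ i, CommRing (T i)]
  [∀ i, Algebra R (T i)] [∀ i, Module.Flat R (T i)]
  (hcov : ∀ p : PrimeSpectrum R, ∃ i, p ∈ Set.range (PrimeSpectrum.comap (algebraMap R (T i))))

include hcov in
theorem ext_of_charts {X : Type u} [AddCommGroup X] [Module R X] {x y : X}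
    (h : ∀ i, (1 : T i) ⊗ₜ[R] x = (1 : T i) ⊗ₜ[R] y) : x = y := by
  haveI := faithfullyFlat_pi T hcov
  refine Module.FaithfullyFlat.tensorProduct_mk_injective (A := R) (B := ∀ i, T i) X
    ((piLeftEquiv T X).injective (funext fun i => ?_))
  rw [TensorProduct.mk_apply, TensorProduct.mk_apply, piLeftEquiv_tmul, piLeftEquiv_tmul]
  exact h i

include hcov in
/-- An algebra map which becomes an isomorphism of bialgebras on a covering is one. -/
theorem exists_bialgEquiv_of_charts {X Y : Type u} [CommRing X] [HopfAlgebra R X] [CommRing Y] [HopfAlgebra R Y]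
    (Φ : X →ₐ[R] Y) (h : ∀ i, ∃ Ψ : (T i ⊗[R] X) ≃ₐc[T i] T i ⊗[R] Y,
      ∀ x, Ψ ((1 : T i) ⊗ₜ[R] x) = (1 : T i) ⊗ₜ[R] Φ x) :
    ∃ Φ' : X ≃ₐc[R] Y, ∀ x, Φ' x = Φ x := by
  choose Ψ hΨ using h
  let Φc : X →ₐc[R] Y := BialgHom.ofAlgHom Φ
    (AlgHom.ext fun x => by
      show Coalgebra.counit (R := R) (Φ x) = Coalgebra.counit (R := R) x
      refine ext_of_charts hcov fun i => (TensorProduct.rid R (T i)).injective ?_
      have h1 := CoalgHomClass.counit_comp_apply (Ψ i) ((1 : T i) ⊗ₜ[R] x)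
      rw [hΨ] at h1
      simpa [TensorProduct.counit_tmul, Algebra.smul_def] using h1)
    (AlgHom.ext fun x => by
      show Algebra.TensorProduct.map Φ Φ (Coalgebra.comul (R := R) x) = Coalgebra.comul (R := R) (Φ x)
      refine ext_of_charts hcov fun i => ?_
      have h1 : (1 : T i) ⊗ₜ[R] Coalgebra.comul (R := R) (Φ x) = comulT (T i) (Ψ i ((1 : T i) ⊗ₜ[R] x)) := by
        rw [hΨ]; rfl
      rw [h1, ← psi_comul, ← CoalgHomClass.map_comp_comul_apply (Ψ i) ((1 : T i) ⊗ₜ[R] x)]
      simp only [TensorProduct.comul_tmul, CommSemiring.comul_apply]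
      generalize CoalgebraStruct.comul (R := R) x = z
      induction z using TensorProduct.induction_on with
      | zero => simp
      | add u w hu hw => simp only [TensorProduct.tmul_add, map_add, hu, hw]
      | tmul p q =>
        simp only [Algebra.TensorProduct.map_tmul, TensorProduct.AlgebraTensorModule.tensorTensorTensorComm_tmul,
          TensorProduct.map_tmul]
        show (1 : T i) ⊗ₜ[R] (Φ p ⊗ₜ[R] Φ q) = psi (T i) (Ψ i ((1 : T i) ⊗ₜ[R] p) ⊗ₜ[T i] Ψ i ((1 : T i) ⊗ₜ[R] q))
        rw [psi_tmul, hΨ, hΨ]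
        simp [inl2, inr2])
  refine ⟨BialgEquiv.ofBijective Φc (GDatum.bijective_of_charts hcov (X := X) (Y := Y) Φ.toLinearMap fun i => ?_),
    fun x => rfl⟩
  have h1 : (LinearMap.lTensor (T i) Φ.toLinearMap : _ → _) = Ψ i := funext fun z => by
    induction z using TensorProduct.induction_on with
    | zero => simp
    | add u w hu hw => simp only [map_add, hu, hw]
    | tmul t x =>
      conv_rhs => rw [show t ⊗ₜ[R] x = t • ((1 : T i) ⊗ₜ[R] x) by rw [TensorProduct.smul_tmul', smul_eq_mul, mul_one],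
        map_smul, hΨ]
      simp [TensorProduct.smul_tmul']
  rw [h1]
  exact EquivLike.bijective (Ψ i)

end charts

variable {R : Type u} [CommRing R] {R₀ : Type u} [CommRing R₀] [Algebra R R₀]
  {A₀ : Type u} [CommRing A₀] [HopfAlgebra R₀ A₀] [Algebra R A₀] [IsScalarTower R R₀ A₀]
  {ι : Type} [Fintype ι] [DecidableEq ι] {T : ι → Type u} [∀ i, CommRing (T i)] [∀ i, Algebra R (T i)]
  {T₀ : ι → Type u} [∀ i, CommRing (T₀ i)] [∀ i, Algebra R (T₀ i)] [∀ i, Algebra R₀ (T₀ i)]
  [∀ i, IsScalarTower R R₀ (T₀ i)] [∀ i, Module.Flat R₀ (T₀ i)]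
  {M : ι → Type u} [∀ i, CommGroup (M i)] (π : ∀ i, T i →ₐ[R] T₀ i)
  (e : ∀ i, (T₀ i ⊗[R₀] A₀) ≃ₐc[T₀ i] MonoidAlgebra (T₀ i) (M i)) (D : HDatum (R := R) T M)
  (hcov₀ : ∀ p : PrimeSpectrum R₀, ∃ i, p ∈ Set.range (PrimeSpectrum.comap (algebraMap R₀ (T₀ i))))
  (htr : ∀ i j (S : Type u) [CommRing S] [Algebra R S] [Algebra R₀ S] [IsScalarTower R R₀ S]
      (a : T₀ i →ₐ[R₀] S) (b : T₀ j →ₐ[R₀] S) (x : A₀),
      transHom (D.χ i j) ((a.restrictScalars R).comp (π i)) ((b.restrictScalars R).comp (π j))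
        (MonoidAlgebra.mapRingHom (M i) a.toRingHom (e i ((1 : T₀ i) ⊗ₜ[R₀] x))) =
        MonoidAlgebra.mapRingHom (M j) b.toRingHom (e j ((1 : T₀ j) ⊗ₜ[R₀] x)))

include hcov₀ htr in
theorem exists_elt (x : D.A) : ∃ a : A₀, ∀ i,
    e i ((1 : T₀ i) ⊗ₜ[R₀] a) = MonoidAlgebra.mapRingHom (M i) (π i).toRingHom (D.comp' i x) := by
  let w : ∀ i, T₀ i ⊗[R₀] A₀ := fun i => (e i).symm (MonoidAlgebra.mapRingHom (M i) (π i).toRingHom (D.comp' i x))
  have hw : ∀ i j, mapA (A := A₀) (Algebra.TensorProduct.includeRight : T₀ j →ₐ[R₀] T₀ i ⊗[R₀] T₀ j) (w j) =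
      mapA (A := A₀) (Algebra.TensorProduct.includeLeft : T₀ i →ₐ[R₀] T₀ i ⊗[R₀] T₀ j) (w i) := by
    intro i j
    let S := T₀ i ⊗[R₀] T₀ j
    let a : T₀ i →ₐ[R₀] S := Algebra.TensorProduct.includeLeft
    let b : T₀ j →ₐ[R₀] S := Algebra.TensorProduct.includeRight
    haveI : IsScalarTower R R₀ S := IsScalarTower.of_algebraMap_eq (R := R) (S := R₀) (A := S) fun r => by
      show algebraMap R (T₀ i) r ⊗ₜ[R₀] (1 : T₀ j) = algebraMap R₀ (T₀ i) (algebraMap R R₀ r) ⊗ₜ[R₀] (1 : T₀ j)
      rw [← IsScalarTower.algebraMap_apply]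
    obtain ⟨ea, ha⟩ := exists_chart_point (e i) a
    obtain ⟨eb, hb⟩ := exists_chart_point (e j) b
    have hΘ : ∀ z, eb z = transHom (D.χ i j) ((a.restrictScalars R).comp (π i)) ((b.restrictScalars R).comp (π j)) (ea z) := by
      intro z
      induction z using TensorProduct.induction_on with
      | zero => simp
      | add u v hu hv => simp only [map_add, hu, hv]
      | tmul s y =>
        rw [show s ⊗ₜ[R₀] y = s • ((1 : S) ⊗ₜ[R₀] y) by rw [TensorProduct.smul_tmul', smul_eq_mul, mul_one],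
          map_smul, map_smul, map_smul]
        congr 1
        have h1 := htr i j S a b y
        rw [← ha, ← hb] at h1
        simpa using h1.symm
    refine EquivLike.injective eb ?_
    rw [hb, hΘ (mapA _ (w i)), ha]
    simp only [w, BialgEquiv.apply_symm_apply]
    have h2 : ∀ {N : Type u} [CommGroup N] (k : ι) (c : T₀ k →ₐ[R₀] S) (z : MonoidAlgebra (T k) N),
        MonoidAlgebra.mapRingHom N c.toRingHom (MonoidAlgebra.mapRingHom N (π k).toRingHom z) =
          MonoidAlgebra.mapRingHom N ((c.restrictScalars R).comp (π k)).toRingHom z := fun {N} _ k c z => by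
      induction z using MonoidAlgebra.induction_linear with
      | zero => simp
      | add u v hu hv => simp only [map_add, hu, hv]
      | single m r => simp
    rw [h2, h2, D.toGDatum.trans_comp']
  obtain ⟨a, ha⟩ := exists_of_family (R := R₀) T₀ hcov₀ (N := A₀) w fun i j => by
    have hl : ∀ z : T₀ i ⊗[R₀] A₀, Algebra.TensorProduct.assoc R₀ R₀ R₀ (T₀ i) (T₀ j) A₀
        (mapA (A := A₀) (Algebra.TensorProduct.includeLeft : T₀ i →ₐ[R₀] T₀ i ⊗[R₀] T₀ j) z) =
        LinearMap.lTensor (T₀ i) (TensorProduct.mk R₀ (T₀ j) A₀ 1) z := fun z => by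
      induction z using TensorProduct.induction_on with
      | zero => simp
      | tmul t y => simp
      | add u v hu hv => simp only [map_add, hu, hv]
    have hr : ∀ z : T₀ j ⊗[R₀] A₀, Algebra.TensorProduct.assoc R₀ R₀ R₀ (T₀ i) (T₀ j) A₀
        (mapA (A := A₀) (Algebra.TensorProduct.includeRight : T₀ j →ₐ[R₀] T₀ i ⊗[R₀] T₀ j) z) =
        TensorProduct.mk R₀ (T₀ i) (T₀ j ⊗[R₀] A₀) 1 z := fun z => by
      induction z using TensorProduct.induction_on with
      | zero => simp
      | tmul t y => simp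
      | add u v hu hv => simp only [map_add, hu, hv]
    rw [← hr, ← hl, hw]
  exact ⟨a, fun i => by rw [ha]; exact BialgEquiv.apply_symm_apply _ _⟩

include hcov₀ htr in
/-- The descended Hopf algebra lifts the given one. -/
theorem exists_fibre_equiv : Nonempty ((R₀ ⊗[R] D.A) ≃ₐc[R₀] A₀) := by
  choose f hf using exists_elt π e D hcov₀ htr
  have hext : ∀ {a a' : A₀}, (∀ i, e i ((1 : T₀ i) ⊗ₜ[R₀] a) = e i ((1 : T₀ i) ⊗ₜ[R₀] a')) → a = a' := fun h =>
    ext_of_charts hcov₀ fun i => EquivLike.injective (e i) (h i)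
  have hinc : ∀ i (a a' : A₀), e i ((1 : T₀ i) ⊗ₜ[R₀] (a * a')) =
      e i ((1 : T₀ i) ⊗ₜ[R₀] a) * e i ((1 : T₀ i) ⊗ₜ[R₀] a') := fun i a a' => by
    rw [← map_mul, Algebra.TensorProduct.tmul_mul_tmul, mul_one]
  let φ : D.A →ₐ[R] A₀ :=
    { toFun := f
      map_one' := hext fun i => by rw [hf, map_one, map_one, ← Algebra.TensorProduct.one_def, map_one]
      map_mul' := fun p q => hext fun i => by rw [hf, hinc, hf, hf, map_mul, map_mul]
      map_zero' := hext fun i => by rw [hf, map_zero, map_zero, TensorProduct.tmul_zero, map_zero]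
      map_add' := fun p q => hext fun i => by rw [hf, TensorProduct.tmul_add, map_add (e i), hf, hf, map_add, map_add]
      commutes' := fun r => hext fun i => by
        rw [hf, AlgHom.commutes, IsScalarTower.algebraMap_apply R R₀ A₀,
          ← Algebra.TensorProduct.includeRight_apply, AlgHom.commutes,
          IsScalarTower.algebraMap_apply R₀ (T₀ i) (T₀ i ⊗[R₀] A₀), AlgHomClass.commutes (e i),
          MonoidAlgebra.coe_algebraMap, MonoidAlgebra.coe_algebraMap, Function.comp_apply, Function.comp_apply,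
          MonoidAlgebra.mapRingHom_single, ← IsScalarTower.algebraMap_apply R R₀ (T₀ i)]
        exact congrArg _ ((π i).commutes r) }
  let Φ : R₀ ⊗[R] D.A →ₐ[R₀] A₀ := Algebra.TensorProduct.lift (Algebra.ofId R₀ A₀) φ fun _ _ => Commute.all _ _
  have hΦ : ∀ r x, Φ (r ⊗ₜ x) = r • f x := fun r x => by
    rw [Algebra.smul_def]
    exact Algebra.TensorProduct.lift_tmul _ _ _ _ _
  obtain ⟨Φ', -⟩ := exists_bialgEquiv_of_charts hcov₀ Φ fun i => by
    obtain ⟨eD, heD⟩ := D.exists_chart i
    letI : Algebra (T i) (T₀ i) := (π i).toRingHom.toAlgebra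
    haveI : IsScalarTower R (T i) (T₀ i) := IsScalarTower.of_algebraMap_eq fun r => ((π i).commutes r).symm
    obtain ⟨eT, heT⟩ := exists_chart_map eD (T₀ i)
    refine ⟨((cancelEquiv (R := R) (A := D.A) R₀ (T₀ i)).trans eT).trans (e i).symm, fun z => ?_⟩
    refine EquivLike.injective (e i) ?_
    show e i ((e i).symm (eT (cancelEquiv (R := R) (A := D.A) R₀ (T₀ i) ((1 : T₀ i) ⊗ₜ[R₀] z)))) = _
    rw [BialgEquiv.apply_symm_apply]
    induction z using TensorProduct.induction_on with
    | zero => simp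
    | add u v hu hv => simp only [TensorProduct.tmul_add, map_add, hu, hv]
    | tmul r x =>
      rw [show (1 : T₀ i) ⊗ₜ[R₀] (r ⊗ₜ[R] x) = r • ((1 : T₀ i) ⊗ₜ[R₀] ((1 : R₀) ⊗ₜ[R] x)) by
          rw [← TensorProduct.tmul_smul, TensorProduct.smul_tmul', smul_eq_mul, mul_one],
        hΦ, TensorProduct.tmul_smul, ← IsScalarTower.algebraMap_smul (T₀ i) r, map_smul, map_smul,
        ← IsScalarTower.algebraMap_smul (T₀ i) r ((1 : T₀ i) ⊗ₜ[R₀] f x), map_smul, hf]
      congr 1
      rw [cancelEquiv_tmul, one_smul]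
      refine ext_coef fun m => ?_
      have h1 := heT ((1 : T i) ⊗ₜ[R] x) m
      rw [mapA_tmul, map_one, heD] at h1
      rw [h1, coefL_mapRingHom]
      rfl
  exact ⟨Φ'⟩

end Groth.Agent.H19Mult
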