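import Groth.Agent.H19Mult.DatumFibre
import Groth.Agent.H9Hens.Pair
import Groth.Agent.S0532

/-!
Isotrivial groups of multiplicative type lift along henselian pairs.
-/

set_option autoImplicit false
set_option linter.style.haveILetI false
set_option backward.isDefEq.respectTransparency false
set_option maxHeartbeats 800000

universe u

open TensorProduct

namespace Groth.Agent.H19Mult

/-- Group-like elements of a group algebra lift when idempotents do. -/
theorem exists_groupLike_lift_of_idem {S : Type u} [CommRing S] (J : Ideal S) (hJ : J ≤ Ideal.jacobson ⊥)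
    (hidem : ∀ b : S, b * b - b ∈ J → ∃ e, IsIdempotentElem e ∧ e - b ∈ J) {N : Type u} [CommGroup N]
    {y₀ : MonoidAlgebra (S ⧸ J) N} (hy : IsGroupLikeElem (S ⧸ J) y₀) :
    ∃ y : MonoidAlgebra S N, IsGroupLikeElem S y ∧ MonoidAlgebra.mapRingHom N (Ideal.Quotient.mk J) y = y₀ := by
  classical
  let ι := {m : N // m ∈ y₀.coeff.support}
  choose b hb using fun i : ι => Ideal.Quotient.mk_surjective (coefL i.1 y₀)
  choose e he heb using fun i : ι => hidem (b i) (by
    rw [← Ideal.Quotient.eq, map_mul, hb, groupLike_coef_idem hy])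
  have hee : ∀ i : ι, Ideal.Quotient.mk J (e i) = coefL i.1 y₀ := fun i => by
    rw [← hb, Ideal.Quotient.eq]; exact heb i
  have hort : ∀ i j, i ≠ j → e i * e j = 0 := fun i j hij => by
    refine idem_eq_of_jacobson (by rw [mul_mul_mul_comm, (he i).eq, (he j).eq]) (zero_mul _) (hJ ?_)
    rw [sub_zero, ← Ideal.Quotient.eq_zero_iff_mem, map_mul, hee, hee, groupLike_coef_mul hy,
      if_neg fun h => hij (Subtype.ext h)]
  have horth : OrthogonalIdempotents e := ⟨he, hort⟩
  have hsum : ∑ i : ι, coefL i.1 y₀ = 1 := by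
    have h := congrArg (Coalgebra.counit (R := S ⧸ J)) (MonoidAlgebra.sum_coeff_single y₀)
    rw [hy.counit_eq_one, map_finsuppSum] at h
    simp only [MonoidAlgebra.counit_single, CommSemiring.counit_apply] at h
    rw [Finset.univ_eq_attach]
    exact (Finset.sum_attach y₀.coeff.support (fun m => coefL m y₀)).trans h
  have hc : CompleteOrthogonalIdempotents e := ⟨horth,
    idem_eq_of_jacobson horth.isIdempotentElem_sum.eq (one_mul 1) (hJ (by
      rw [← Ideal.Quotient.eq_zero_iff_mem, map_sub, map_sum, map_one]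
      simp only [hee, hsum, sub_self]))⟩
  refine ⟨∑ i, MonoidAlgebra.single i.1 (e i), isGroupLikeElem_of_complete hc fun i => i.1, ext_coef fun m => ?_⟩
  rw [coefL_mapRingHom, map_sum, map_sum]
  simp only [coefL_single]
  by_cases hm : m ∈ y₀.coeff.support
  · rw [Finset.sum_eq_single ⟨m, hm⟩]
    · rw [if_pos rfl]; exact hee ⟨m, hm⟩
    · intro j _ hj
      rw [if_neg fun h => hj (Subtype.ext h), map_zero]
    · simp
  · rw [Finset.sum_eq_zero]
    · exact (Finsupp.notMem_support_iff.1 hm).symm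
    · intro j _
      rw [if_neg fun h : j.1 = m => hm (by rw [← h]; exact j.2), map_zero]

theorem map_le_jacobson_of_finite {R : Type u} [CommRing R] (I : Ideal R) [HenselianRing R I]
    (P : Type u) [CommRing P] [Algebra R P] [Module.Finite R P] : I.map (algebraMap R P) ≤ Ideal.jacobson ⊥ := by
  refine le_sInf fun m hm => ?_
  haveI : m.IsMaximal := hm.2
  haveI : (m.comap (algebraMap R P)).IsMaximal := Ideal.isMaximal_comap_of_isIntegral_of_isMaximal m
  exact Ideal.map_le_iff_le_comap.2 ((HenselianRing.jac (I := I)).trans (sInf_le ⟨bot_le, inferInstance⟩))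

theorem exists_isotrivial_lift {R : Type u} [CommRing R] (I : Ideal R) [HenselianRing R I]
    (A₀ : Type u) [CommRing A₀] [HopfAlgebra (R ⧸ I) A₀] (h0 : SGA3b.IsIsotrivial (R ⧸ I) A₀) :
    ∃ (A : Type u) (_ : CommRing A) (_ : HopfAlgebra R A), SGA3b.IsIsotrivial R A ∧
      Nonempty (((R ⧸ I) ⊗[R] A) ≃ₐc[R ⧸ I] A₀) := by
  obtain ⟨T₀, _, _, het, hfin, hff, M, _, ⟨e⟩⟩ := h0
  haveI := het
  haveI := hfin
  haveI := hff
  obtain ⟨T, _, _, hTfin, hTet, ⟨eT⟩⟩ := S0532.result R I T₀
  haveI := hTfin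
  haveI := hTet
  haveI : Module.Flat R T := inferInstance
  letI : Algebra R T₀ := ((algebraMap (R ⧸ I) T₀).comp (algebraMap R (R ⧸ I))).toAlgebra
  haveI : IsScalarTower R (R ⧸ I) T₀ := IsScalarTower.of_algebraMap_eq' rfl
  letI : Algebra R A₀ := ((algebraMap (R ⧸ I) A₀).comp (algebraMap R (R ⧸ I))).toAlgebra
  haveI : IsScalarTower R (R ⧸ I) A₀ := IsScalarTower.of_algebraMap_eq' rfl
  have hI : RingHom.ker (algebraMap R (R ⧸ I)) = I := by rw [Ideal.Quotient.algebraMap_eq, Ideal.mk_ker]
  let incl : T →ₐ[R] (R ⧸ I) ⊗[R] T := Algebra.TensorProduct.includeRight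
  let π : T →ₐ[R] T₀ := (eT.restrictScalars R).toAlgHom.comp incl
  have hincl : Function.Surjective incl := by
    intro z
    induction z using TensorProduct.induction_on with
    | zero => exact ⟨0, map_zero _⟩
    | tmul r s =>
      obtain ⟨r, rfl⟩ := Ideal.Quotient.mk_surjective r
      refine ⟨r • s, ?_⟩
      show (1 : R ⧸ I) ⊗ₜ[R] (r • s) = _
      rw [← TensorProduct.smul_tmul, Algebra.smul_def, mul_one]
      rfl
    | add u w hu hw =>
      obtain ⟨a, rfl⟩ := hu
      obtain ⟨b, rfl⟩ := hw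
      exact ⟨a + b, map_add _ _ _⟩
  have hπs : Function.Surjective π := eT.surjective.comp hincl
  have hπk : RingHom.ker π ≤ (RingHom.ker (algebraMap R (R ⧸ I))).map (algebraMap R T) := fun x hx => by
    rw [hI]
    have h1 : (1 : R ⧸ I) ⊗ₜ[R] x = 0 := eT.injective (hx.trans (map_zero eT).symm)
    have h2 := congrArg (TensorProduct.quotTensorEquivQuotSMul T I) h1
    rw [map_zero, show (1 : R ⧸ I) = Ideal.Quotient.mk I 1 from rfl,
      TensorProduct.quotTensorEquivQuotSMul_mk_tmul, one_smul, Submodule.Quotient.mk_eq_zero,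
      Ideal.smul_top_eq_map, Submodule.restrictScalars_mem] at h2
    exact h2
  haveI : Module.FaithfullyFlat R T := by
    refine ⟨fun m hm hne => ?_⟩
    rw [Ideal.smul_top_eq_map] at hne
    have hne' : m.map (algebraMap R T) = ⊤ := by
      rwa [Submodule.restrictScalars_eq_top_iff] at hne
    have hIm : I ≤ m := (HenselianRing.jac (I := I)).trans (sInf_le ⟨bot_le, hm⟩)
    haveI : (m.map (Ideal.Quotient.mk I)).IsPrime :=
      Ideal.map_isPrime_of_surjective (H := hm.isPrime) Ideal.Quotient.mk_surjective (by rwa [Ideal.mk_ker])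
    obtain ⟨q, hq⟩ := PrimeSpectrum.comap_surjective_of_faithfullyFlat (A := R ⧸ I) (B := T₀)
      ⟨m.map (Ideal.Quotient.mk I), inferInstance⟩
    have h2 : m.map (algebraMap R T) ≤ q.asIdeal.comap π := Ideal.map_le_iff_le_comap.2 fun r hr => by
      show π (algebraMap R T r) ∈ q.asIdeal
      rw [π.commutes, IsScalarTower.algebraMap_apply R (R ⧸ I) T₀]
      show algebraMap R (R ⧸ I) r ∈ (PrimeSpectrum.comap (algebraMap (R ⧸ I) T₀) q).asIdeal
      rw [hq]
      exact Ideal.mem_map_of_mem _ hr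
    rw [hne'] at h2
    exact q.isPrime.ne_top ((Ideal.eq_top_iff_one _).2 (by simpa using h2 (Submodule.mem_top : (1 : T) ∈ ⊤)))
  have hj : ∀ (P : Type u) [CommRing P] [Algebra R P] [Module.Finite R P],
      (RingHom.ker (algebraMap R (R ⧸ I))).map (algebraMap R P) ≤ Ideal.jacobson ⊥ := fun P _ _ _ => by
    rw [hI]; exact map_le_jacobson_of_finite I P
  obtain ⟨D, hD⟩ := exists_lift_datum (ι := Fin 1) (T := fun _ => T) (T₀ := fun _ => T₀) (A₀ := A₀) (M := fun _ => M)
    (fun _ => π) (fun _ => e) (Ideal.Quotient.mk_surjective (I := I)) (fun _ => hπs) (fun _ => hπk)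
    (fun i j y₀ hy₀ => exists_groupLike_lift_of_idem _ (hj _) (fun b hb => by
      rw [hI] at hb ⊢
      exact H9Hens.exists_idem_lift b hb) hy₀)
    (fun _ => hj T) (fun _ _ => hj _) (fun _ _ _ => hj _) (fun _ => inferInstance)
    (fun p => ⟨0, PrimeSpectrum.comap_surjective_of_faithfullyFlat p⟩)
  refine ⟨D.A, inferInstance, inferInstance, ⟨T, inferInstance, inferInstance, inferInstance, inferInstance,
    inferInstance, D.isDiag_chart 0⟩, exists_fibre_equiv (fun _ => π) (fun _ => e) D
    (fun p => ⟨0, PrimeSpectrum.comap_surjective_of_faithfullyFlat p⟩) hD⟩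

end Groth.Agent.H19Mult
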