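import Groth.Agent.H19Mult.DatumMap

/-!
The Hopf algebra descended from a datum of group algebras by group-like transition functions.
-/

set_option autoImplicit false
set_option linter.style.haveILetI false
set_option backward.isDefEq.respectTransparency false

universe u

open TensorProduct

namespace Groth.Agent.H19Mult

variable {R : Type u} [CommRing R] {ι : Type} [Fintype ι] [DecidableEq ι] (T : ι → Type u)
  [∀ i, CommRing (T i)] [∀ i, Algebra R (T i)]

/-- A datum for descending a twisted diagonalisable group along a covering. -/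
structure HDatum (M : ι → Type u) [∀ i, CommGroup (M i)] extends GDatum (R := R) T M where
  flat : ∀ i, Module.Flat R (T i)
  cover : ∀ p : PrimeSpectrum R, ∃ i, p ∈ Set.range (PrimeSpectrum.comap (algebraMap R (T i)))
  groupLike : ∀ i j m, IsGroupLikeElem (T i ⊗[R] T j) (χ i j m)

namespace HDatum

variable {T} {M : ι → Type u} [∀ i, CommGroup (M i)] (D : HDatum (R := R) T M)

/-- The descended algebra. -/
noncomputable abbrev A := D.toGDatum.alg

/-- The diagonal. -/
abbrev diag (i : ι) : M i →* M i × M i := (MonoidHom.id (M i)).prod (MonoidHom.id (M i))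

theorem chi_diag (i j : ι) (m : M i) :
    mD (T i ⊗[R] T j) (diag j) (D.χ i j m) =
      mD (T i ⊗[R] T j) (MonoidHom.inl (M j) (M j)) (D.χ i j m) * mD (T i ⊗[R] T j) (MonoidHom.inr (M j) (M j)) (D.χ i j m) := by
  rw [← tensorEquiv_comul, (D.groupLike i j m).comul_eq_tmul_self, tensorEquiv_tmul]

theorem chi_one (i j : ι) (m : M i) : mD (T i ⊗[R] T j) (1 : M j →* PUnit.{u+1}) (D.χ i j m) = 1 := by
  have h : ∀ y : MonoidAlgebra (T i ⊗[R] T j) (M j), mD (T i ⊗[R] T j) (1 : M j →* PUnit.{u+1}) y =
      MonoidAlgebra.single 1 (Coalgebra.counit (R := T i ⊗[R] T j) y) := fun y => by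
    induction y using MonoidAlgebra.induction_linear with
    | zero => simp
    | add u w hu hw => simp only [map_add, hu, hw, MonoidAlgebra.single_add]
    | single m s => simp [mD_single]
  rw [h, (D.groupLike i j m).counit_eq_one, MonoidAlgebra.one_def]

theorem isHom_diag : GDatum.IsHom D.toGDatum (D.toGDatum.prod D.toGDatum) diag := fun i j m =>
  (D.chi_diag i j m).symm

theorem isHom_inv : GDatum.IsHom D.toGDatum D.toGDatum fun i => (invMonoidHom : M i →* M i) := fun i j m => by
  let U := T i ⊗[R] T j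
  let f : M j × M j →* M j := (invMonoidHom.comp (MonoidHom.fst _ _)) * MonoidHom.snd _ _
  have h := congrArg (mD U f) (D.chi_diag i j m)
  rw [map_mul, mD_mD, mD_mD, mD_mD,
    show f.comp (MonoidHom.inl (M j) (M j)) = invMonoidHom from MonoidHom.ext fun x => by simp [f],
    show f.comp (MonoidHom.inr (M j) (M j)) = MonoidHom.id _ from MonoidHom.ext fun x => by simp [f],
    show f.comp (diag j) = (1 : PUnit.{u+1} →* M j).comp 1 from MonoidHom.ext fun x => by simp [f],
    ← mD_mD, D.chi_one, map_one,
    show mD U (MonoidHom.id (M j)) (D.χ i j m) = D.χ i j m by simp [mD]] at h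
  show D.χ i j m⁻¹ = _
  refine left_inv_eq_right_inv (a := D.χ i j m) ?_ ?_
  · rw [← map_mul, inv_mul_cancel, map_one]
  · rw [mul_comm]; exact h.symm

theorem theta_bijective :
    Function.Bijective (GDatum.theta D.toGDatum D.toGDatum) := by
  haveI := D.flat
  exact GDatum.theta_bijective D.cover

include D in
theorem punit_bijective :
    Function.Bijective (algebraMap R (GDatum.punit (R := R) (T := T)).alg) := by
  haveI := D.flat
  exact GDatum.algebraMap_punit_bijective D.cover

/-- Comultiplication. -/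
noncomputable def Δ : D.A →ₐ[R] D.A ⊗[R] D.A :=
  (AlgEquiv.ofBijective (GDatum.theta D.toGDatum D.toGDatum) D.theta_bijective).symm.toAlgHom.comp D.isHom_diag.map

/-- Counit. -/
noncomputable def ε : D.A →ₐ[R] R :=
  (AlgEquiv.ofBijective (Algebra.ofId R (GDatum.punit (R := R) (T := T)).alg) D.punit_bijective).symm.toAlgHom.comp
    (GDatum.isHom_one D.chi_one).map

theorem theta_Δ (x : D.A) (i : ι) :
    (D.toGDatum.prod D.toGDatum).comp' i (GDatum.theta D.toGDatum D.toGDatum (D.Δ x)) =
      mD (T i) (diag i) (D.comp' i x) := by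
  show (D.toGDatum.prod D.toGDatum).comp' i (GDatum.theta D.toGDatum D.toGDatum
    ((AlgEquiv.ofBijective (GDatum.theta D.toGDatum D.toGDatum) D.theta_bijective).symm (D.isHom_diag.map x))) = _
  rw [← AlgEquiv.ofBijective_apply (GDatum.theta D.toGDatum D.toGDatum) (hf := D.theta_bijective),
    AlgEquiv.apply_symm_apply, GDatum.IsHom.comp'_map]

theorem ε_eq (x : D.A) (i : ι) : algebraMap R (MonoidAlgebra (T i) PUnit.{u+1}) (D.ε x) =
    mD (T i) 1 (D.comp' i x) := by
  rw [← AlgHom.commutes ((GDatum.punit (R := R) (T := T)).comp' i),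
    show algebraMap R (GDatum.punit (R := R) (T := T)).alg (D.ε x) = (GDatum.isHom_one D.chi_one).map x from
      (AlgEquiv.ofBijective (Algebra.ofId R (GDatum.punit (R := R) (T := T)).alg) D.punit_bijective).apply_symm_apply _,
    GDatum.IsHom.comp'_map]

theorem algebraMap_ε (x : D.A) (i : ι) : algebraMap R (T i) (D.ε x) =
    Coalgebra.counit (R := T i) (D.comp' i x) := by
  have h := congrArg (coefL (1 : PUnit.{u+1})) (D.ε_eq x i)
  have h2 : ∀ y : MonoidAlgebra (T i) (M i), coefL (1 : PUnit.{u+1}) (mD (T i) (1 : M i →* PUnit.{u+1}) y) =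
      Coalgebra.counit (R := T i) y := fun y => by
    induction y using MonoidAlgebra.induction_linear with
    | zero => simp
    | add u w hu hw => simp only [map_add, hu, hw]
    | single m s => simp [mD_single]
  rw [← h2, ← h, IsScalarTower.algebraMap_apply R (T i) (MonoidAlgebra (T i) PUnit.{u+1}),
    MonoidAlgebra.coe_algebraMap]
  simp

theorem theta_injective_comp {X : GDatum (R := R) T M} {N : ι → Type u} [∀ i, CommGroup (N i)]
    (Y : GDatum (R := R) T N) {z w : X.alg ⊗[R] Y.alg}
    (h : ∀ i, (X.prod Y).comp' i (GDatum.theta X Y z) = (X.prod Y).comp' i (GDatum.theta X Y w))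
    (hX : Function.Bijective (GDatum.theta X Y)) : z = w := hX.1 (GDatum.comp'_ext _ h)

theorem coassoc : (Algebra.TensorProduct.assoc R R R D.A D.A D.A).toAlgHom.comp
      ((Algebra.TensorProduct.map D.Δ (.id R D.A)).comp D.Δ) =
      (Algebra.TensorProduct.map (.id R D.A) D.Δ).comp D.Δ := by
  haveI := D.flat
  let G := D.toGDatum
  let θ := GDatum.theta G G
  let θ3 := (GDatum.theta G (G.prod G)).comp (Algebra.TensorProduct.map (AlgHom.id R G.alg) θ)
  have hθ3 : Function.Bijective θ3 := by
    have h1 : Function.Bijective (Algebra.TensorProduct.map (AlgHom.id R G.alg) θ) :=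
      (Algebra.TensorProduct.congr (R := R) (S := R) (AlgEquiv.refl : G.alg ≃ₐ[R] G.alg)
        (AlgEquiv.ofBijective θ D.theta_bijective)).bijective
    exact (GDatum.theta_bijective D.cover).comp h1
  refine AlgHom.ext fun x => hθ3.1 (GDatum.comp'_ext _ fun i => ?_)
  let F : G.alg ⊗[R] (G.alg ⊗[R] G.alg) →ₐ[R] MonoidAlgebra (T i) (M i × (M i × M i)) :=
    ((G.prod (G.prod G)).comp' i).comp θ3
  have hF : ∀ a b c, F (a ⊗ₜ (b ⊗ₜ c)) = mD (T i) (MonoidHom.inl _ _) (G.comp' i a) *
      mD (T i) (MonoidHom.inr _ _) (mD (T i) (MonoidHom.inl _ _) (G.comp' i b) *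
        mD (T i) (MonoidHom.inr _ _) (G.comp' i c)) := fun a b c => by
    show (G.prod (G.prod G)).comp' i (GDatum.theta G (G.prod G) (a ⊗ₜ θ (b ⊗ₜ c))) = _
    rw [GDatum.comp'_theta, GDatum.comp'_theta]
  let asM : (M i × M i) × M i →* M i × (M i × M i) :=
    ((MonoidHom.fst _ _).comp (MonoidHom.fst _ _)).prod
      (((MonoidHom.snd _ _).comp (MonoidHom.fst _ _)).prod (MonoidHom.snd _ _))
  let F2 : G.alg ⊗[R] G.alg →ₐ[R] MonoidAlgebra (T i) (M i × M i) := ((G.prod G).comp' i).comp θ
  have hF2 : ∀ a b, F2 (a ⊗ₜ b) = mD (T i) (MonoidHom.inl _ _) (G.comp' i a) *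
      mD (T i) (MonoidHom.inr _ _) (G.comp' i b) := fun a b => GDatum.comp'_theta i a b
  have hl : ∀ w : G.alg ⊗[R] G.alg, F (Algebra.TensorProduct.assoc R R R D.A D.A D.A
      (Algebra.TensorProduct.map D.Δ (AlgHom.id R D.A) w)) =
      mD (T i) (asM.comp ((diag i).prodMap (MonoidHom.id (M i)))) (F2 w) := by
    intro w
    induction w using TensorProduct.induction_on with
    | zero => simp
    | add u v hu hv => simp only [map_add, hu, hv]
    | tmul a b =>
      rw [Algebra.TensorProduct.map_tmul, AlgHom.id_apply]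
      have key : ∀ z, F (Algebra.TensorProduct.assoc R R R D.A D.A D.A (z ⊗ₜ b)) =
          mD (T i) asM (mD (T i) (MonoidHom.inl _ _) (F2 z) * mD (T i) (MonoidHom.inr _ _) (G.comp' i b)) := by
        intro z
        induction z using TensorProduct.induction_on with
        | zero => simp
        | add u v hu hv => simp only [TensorProduct.add_tmul, map_add, add_mul, hu, hv]
        | tmul p q =>
          rw [Algebra.TensorProduct.assoc_tmul, hF, hF2]
          simp only [map_mul, mD_mD, mul_assoc]
          rfl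
      rw [key, hF2, show F2 (D.Δ a) = mD (T i) (diag i) (D.comp' i a) from D.theta_Δ a i]
      simp only [map_mul, mD_mD]
      rfl
  have hr : ∀ w : G.alg ⊗[R] G.alg, F (Algebra.TensorProduct.map (AlgHom.id R D.A) D.Δ w) =
      mD (T i) ((MonoidHom.id (M i)).prodMap (diag i)) (F2 w) := by
    intro w
    induction w using TensorProduct.induction_on with
    | zero => simp
    | add u v hu hv => simp only [map_add, hu, hv]
    | tmul a b =>
      rw [Algebra.TensorProduct.map_tmul, AlgHom.id_apply]
      show (G.prod (G.prod G)).comp' i (GDatum.theta G (G.prod G) (a ⊗ₜ θ (D.Δ b))) = _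
      rw [GDatum.comp'_theta, D.theta_Δ b i, hF2]
      simp only [map_mul, mD_mD]
      rfl
  show F (Algebra.TensorProduct.assoc R R R D.A D.A D.A (Algebra.TensorProduct.map D.Δ (AlgHom.id R D.A) (D.Δ x))) =
    F (Algebra.TensorProduct.map (AlgHom.id R D.A) D.Δ (D.Δ x))
  rw [hl, hr, show F2 (D.Δ x) = mD (T i) (diag i) (D.comp' i x) from D.theta_Δ x i, mD_mD, mD_mD]
  rfl

theorem counit_left : (Algebra.TensorProduct.map D.ε (.id R D.A)).comp D.Δ =
    (Algebra.TensorProduct.lid R D.A).symm := by
  refine AlgHom.ext fun x => (Algebra.TensorProduct.lid R D.A).injective (GDatum.comp'_ext _ fun i => ?_)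
  have key : ∀ w : D.A ⊗[R] D.A, D.comp' i (Algebra.TensorProduct.lid R D.A
      (Algebra.TensorProduct.map D.ε (AlgHom.id R D.A) w)) =
      mD (T i) (MonoidHom.snd (M i) (M i)) ((D.toGDatum.prod D.toGDatum).comp' i
        (GDatum.theta D.toGDatum D.toGDatum w)) := by
    intro w
    induction w using TensorProduct.induction_on with
    | zero => simp
    | add u v hu hv => simp only [map_add, hu, hv]
    | tmul a b =>
      rw [Algebra.TensorProduct.map_tmul, Algebra.TensorProduct.lid_tmul, AlgHom.id_apply, GDatum.comp'_theta,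
        map_smul, map_mul, mD_mD, mD_mD, MonoidHom.snd_comp_inr,
        show (MonoidHom.snd (M i) (M i)).comp (MonoidHom.inl (M i) (M i)) = (1 : PUnit.{u+1} →* M i).comp 1 from
          MonoidHom.ext fun y => by simp, ← mD_mD, ← D.ε_eq, Algebra.smul_def,
        IsScalarTower.algebraMap_apply R (T i) (MonoidAlgebra (T i) PUnit.{u+1}), AlgHom.commutes,
        ← IsScalarTower.algebraMap_apply]
      simp [mD]
  show D.comp' i (Algebra.TensorProduct.lid R D.A (Algebra.TensorProduct.map D.ε (AlgHom.id R D.A) (D.Δ x))) =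
    D.comp' i (Algebra.TensorProduct.lid R D.A ((Algebra.TensorProduct.lid R D.A).symm x))
  rw [key, D.theta_Δ, mD_mD, AlgEquiv.apply_symm_apply]
  simp [diag, mD]

theorem comm_Δ (x : D.A) : Algebra.TensorProduct.comm R D.A D.A (D.Δ x) = D.Δ x := by
  refine D.theta_bijective.1 (GDatum.comp'_ext _ fun i => ?_)
  have key : ∀ w : D.A ⊗[R] D.A, (D.toGDatum.prod D.toGDatum).comp' i (GDatum.theta D.toGDatum D.toGDatum
      (Algebra.TensorProduct.comm R D.A D.A w)) = mD (T i) ((MonoidHom.snd (M i) (M i)).prod (MonoidHom.fst _ _))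
        ((D.toGDatum.prod D.toGDatum).comp' i (GDatum.theta D.toGDatum D.toGDatum w)) := by
    intro w
    induction w using TensorProduct.induction_on with
    | zero => simp
    | add u v hu hv => simp only [map_add, hu, hv]
    | tmul a b =>
      rw [Algebra.TensorProduct.comm_tmul, GDatum.comp'_theta, GDatum.comp'_theta, map_mul, mD_mD, mD_mD, mul_comm]
      rfl
  rw [key, D.theta_Δ, mD_mD]
  rfl

theorem counit_right : (Algebra.TensorProduct.map (.id R D.A) D.ε).comp D.Δ =
    (Algebra.TensorProduct.rid R R D.A).symm := by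
  refine AlgHom.ext fun x => (Algebra.TensorProduct.rid R R D.A).injective ?_
  have key : ∀ w : D.A ⊗[R] D.A, Algebra.TensorProduct.rid R R D.A (Algebra.TensorProduct.map (AlgHom.id R D.A) D.ε w)
      = Algebra.TensorProduct.lid R D.A (Algebra.TensorProduct.map D.ε (AlgHom.id R D.A)
        (Algebra.TensorProduct.comm R D.A D.A w)) := by
    intro w
    induction w using TensorProduct.induction_on with
    | zero => simp
    | add u v hu hv => simp only [map_add, hu, hv]
    | tmul a b => simp
  show Algebra.TensorProduct.rid R R D.A (Algebra.TensorProduct.map (AlgHom.id R D.A) D.ε (D.Δ x)) =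
    Algebra.TensorProduct.rid R R D.A ((Algebra.TensorProduct.rid R R D.A).symm x)
  rw [key, D.comm_Δ, ← AlgHom.comp_apply, D.counit_left]
  simp

noncomputable instance instBialgebra : Bialgebra R D.A :=
  Bialgebra.ofAlgHom D.Δ D.ε D.coassoc D.counit_left D.counit_right

/-- The antipode. -/
noncomputable def antip : D.A →ₐ[R] D.A := D.isHom_inv.map

theorem lift_Δ (s t : D.A →ₐ[R] D.A) (f g : ∀ i, M i →* M i)
    (hs : ∀ i x, D.comp' i (s x) = mD (T i) (f i) (D.comp' i x))
    (ht : ∀ i x, D.comp' i (t x) = mD (T i) (g i) (D.comp' i x)) (hfg : ∀ i m, f i m * g i m = 1) :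
    (Algebra.TensorProduct.lift s t fun _ _ => Commute.all _ _).comp D.Δ = (Algebra.ofId R D.A).comp D.ε := by
  refine AlgHom.ext fun x => GDatum.comp'_ext _ fun i => ?_
  have key : ∀ w : D.A ⊗[R] D.A, D.comp' i (Algebra.TensorProduct.lift s t (fun _ _ => Commute.all _ _) w) =
      mD (T i) ((f i).comp (MonoidHom.fst _ _) * (g i).comp (MonoidHom.snd _ _))
        ((D.toGDatum.prod D.toGDatum).comp' i (GDatum.theta D.toGDatum D.toGDatum w)) := by
    intro w
    induction w using TensorProduct.induction_on with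
    | zero => simp
    | add u v hu hv => simp only [map_add, hu, hv]
    | tmul a b =>
      rw [Algebra.TensorProduct.lift_tmul, map_mul, hs, ht, GDatum.comp'_theta, map_mul, mD_mD, mD_mD]
      congr 2 <;> exact congrArg (fun φ => mD (T i) φ) (MonoidHom.ext fun y => by simp)
  show D.comp' i (Algebra.TensorProduct.lift s t (fun _ _ => Commute.all _ _) (D.Δ x)) = D.comp' i (algebraMap R D.A (D.ε x))
  rw [key, D.theta_Δ, mD_mD, AlgHom.commutes,
    show ((f i).comp (MonoidHom.fst (M i) (M i)) * (g i).comp (MonoidHom.snd (M i) (M i))).comp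
        ((MonoidHom.id (M i)).prod (MonoidHom.id (M i))) =
      (1 : PUnit.{u+1} →* M i).comp 1 from MonoidHom.ext fun y => by simp [hfg],
    ← mD_mD, ← D.ε_eq, IsScalarTower.algebraMap_apply R (T i) (MonoidAlgebra (T i) PUnit.{u+1}), AlgHom.commutes,
    ← IsScalarTower.algebraMap_apply]

noncomputable instance instHopf : HopfAlgebra R D.A :=
  HopfAlgebra.ofAlgHom D.antip
    (D.lift_Δ D.antip (AlgHom.id R D.A) (fun _ => invMonoidHom) (fun i => MonoidHom.id (M i))
      (fun _ _ => rfl) (fun i x => by simp [mD]) (fun _ _ => by simp))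
    (D.lift_Δ (AlgHom.id R D.A) D.antip (fun i => MonoidHom.id (M i)) (fun _ => invMonoidHom)
      (fun i x => by simp [mD]) (fun _ _ => rfl) (fun _ _ => by simp))

/-- The descended Hopf algebra becomes a group algebra on the covering. -/
theorem exists_chart (i : ι) : ∃ e : (T i ⊗[R] D.A) ≃ₐc[T i] MonoidAlgebra (T i) (M i),
    ∀ x : D.A, e ((1 : T i) ⊗ₜ[R] x) = D.comp' i x := by
  haveI := D.flat
  let c := D.toGDatum.chart i
  have hc : ∀ x : D.A, c ((1 : T i) ⊗ₜ[R] x) = D.comp' i x := fun x => by
    rw [GDatum.chart_tmul, one_smul]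
  let φ : (T i ⊗[R] D.A) →ₐc[T i] MonoidAlgebra (T i) (M i) := BialgHom.ofAlgHom c
    (Algebra.TensorProduct.ext' fun t x => by
      show Coalgebra.counit (R := T i) (c (t ⊗ₜ x)) = Coalgebra.counit (R := T i) (t ⊗ₜ[R] x)
      rw [GDatum.chart_tmul, map_smul, TensorProduct.counit_tmul]
      show t • Coalgebra.counit (D.comp' i x) = (D.ε x) • t
      rw [← D.algebraMap_ε, Algebra.smul_def (D.ε x) t, smul_eq_mul, mul_comm])
    (Algebra.TensorProduct.ext' fun t x => by
      refine (MonoidAlgebra.tensorEquiv (T i)).injective ?_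
      show MonoidAlgebra.tensorEquiv (T i) (Algebra.TensorProduct.map c c
        (Coalgebra.comul (R := T i) (t ⊗ₜ[R] x))) =
        MonoidAlgebra.tensorEquiv (T i) (Coalgebra.comul (R := T i) (c (t ⊗ₜ x)))
      rw [tensorEquiv_comul, GDatum.chart_tmul, map_smul, ← D.theta_Δ x i]
      simp only [TensorProduct.comul_tmul, CommSemiring.comul_apply]
      show MonoidAlgebra.tensorEquiv (T i) (Algebra.TensorProduct.map c c _) = _
      rw [show (Coalgebra.comul (R := R) x : D.A ⊗[R] D.A) = D.Δ x from rfl]
      generalize D.Δ x = z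
      induction z using TensorProduct.induction_on with
      | zero => simp
      | add u v hu hv => simp only [TensorProduct.tmul_add, map_add, smul_add, hu, hv]
      | tmul p q =>
        simp only [TensorProduct.AlgebraTensorModule.tensorTensorTensorComm_tmul, Algebra.TensorProduct.map_tmul]
        rw [GDatum.comp'_theta, tensorEquiv_tmul, hc, GDatum.chart_tmul, map_smul, mul_smul_comm])
  refine ⟨BialgEquiv.ofBijective φ (D.toGDatum.chart_bijective i), hc⟩

theorem isDiag_chart (i : ι) : SGA3b.IsDiag (T i) (T i ⊗[R] D.A) :=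
  ⟨M i, inferInstance, ⟨(D.exists_chart i).choose⟩⟩

end HDatum

end Groth.Agent.H19Mult
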