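import Groth.Agent.H19Mult.DatumHopf

/-!
Lifting the descent datum of a twisted diagonalisable group along a thickening of the base.
-/

set_option autoImplicit false
set_option linter.style.haveILetI false
set_option backward.isDefEq.respectTransparency false
set_option maxHeartbeats 400000

universe u

open TensorProduct

namespace Groth.Agent.H19Mult

theorem isGroupLikeElem_iff_diag {S : Type u} [CommRing S] {M : Type u} [CommGroup M] (y : MonoidAlgebra S M) :
    IsGroupLikeElem S y ↔ Coalgebra.counit (R := S) y = 1 ∧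
      mD S ((MonoidHom.id M).prod (MonoidHom.id M)) y = mD S (MonoidHom.inl M M) y * mD S (MonoidHom.inr M M) y := by
  refine ⟨fun h => ⟨h.counit_eq_one, ?_⟩, fun h => ⟨h.1, (MonoidAlgebra.tensorEquiv S).injective ?_⟩⟩
  · rw [← tensorEquiv_comul, h.comul_eq_tmul_self, tensorEquiv_tmul]
  · rw [tensorEquiv_comul, tensorEquiv_tmul, h.2]

theorem isGroupLikeElem_mapRingHom {S S' : Type u} [CommRing S] [CommRing S'] (g : S →+* S') {M : Type u}
    [CommGroup M] {y : MonoidAlgebra S M} (h : IsGroupLikeElem S y) :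
    IsGroupLikeElem S' (MonoidAlgebra.mapRingHom M g y) := by
  obtain ⟨h1, h2⟩ := (isGroupLikeElem_iff_diag y).1 h
  refine (isGroupLikeElem_iff_diag _).2 ⟨?_, ?_⟩
  · have : ∀ x : MonoidAlgebra S M, Coalgebra.counit (R := S') (MonoidAlgebra.mapRingHom M g x) =
        g (Coalgebra.counit (R := S) x) := fun x => by
      induction x using MonoidAlgebra.induction_linear with
      | zero => simp
      | add u w hu hw => simp only [map_add, hu, hw]
      | single m s => simp
    rw [this, h1, map_one]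
  · rw [← mapRingHom_mD, ← mapRingHom_mD, ← mapRingHom_mD, h2, map_mul]

theorem idem_eq_of_jacobson {S : Type u} [CommRing S] {a b : S} (ha : a * a = a) (hb : b * b = b)
    (h : a - b ∈ Ideal.jacobson (⊥ : Ideal S)) : a = b := by
  have h3 : (a - b) * ((a - b) * (a - b)) = a - b := by
    linear_combination (a - 3 * b + 1) * ha + (3 * a - b - 1) * hb
  have hu : IsUnit ((a - b) * (-(a - b)) + 1) := Ideal.mem_jacobson_bot.1 h _
  refine sub_eq_zero.1 (hu.mul_left_eq_zero.1 ?_)
  linear_combination -h3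

theorem groupLike_eq_of_jacobson {S S₀ : Type u} [CommRing S] [CommRing S₀] (g : S →+* S₀)
    (hker : RingHom.ker g ≤ Ideal.jacobson ⊥) {M : Type u} [CommGroup M] {y z : MonoidAlgebra S M}
    (hy : IsGroupLikeElem S y) (hz : IsGroupLikeElem S z)
    (h : MonoidAlgebra.mapRingHom M g y = MonoidAlgebra.mapRingHom M g z) : y = z :=
  ext_coef fun m => idem_eq_of_jacobson (groupLike_coef_idem hy m) (groupLike_coef_idem hz m)
    (hker (by rw [RingHom.mem_ker, map_sub, ← coefL_mapRingHom, ← coefL_mapRingHom, h, sub_self]))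

/-- Rigidity of group-like elements modulo an ideal in the Jacobson radical. -/
theorem groupLike_eq_of_quotient {S : Type u} [CommRing S] (J : Ideal S) (hJ : J ≤ Ideal.jacobson ⊥) {M : Type u}
    [CommGroup M] {y z : MonoidAlgebra S M} (hy : IsGroupLikeElem S y) (hz : IsGroupLikeElem S z)
    (h : MonoidAlgebra.mapRingHom M (Ideal.Quotient.mk J) y = MonoidAlgebra.mapRingHom M (Ideal.Quotient.mk J) z) :
    y = z :=
  groupLike_eq_of_jacobson (Ideal.Quotient.mk J) (le_of_eq_of_le Ideal.mk_ker hJ) hy hz h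

/-- The reduction of an algebra is an algebra over the thinned base. -/
theorem exists_resHom {R : Type u} [CommRing R] {R₀ : Type u} [CommRing R₀] [Algebra R R₀]
    (hR : Function.Surjective (algebraMap R R₀)) (P : Type u) [CommRing P] [Algebra R P] :
    ∃ g : R₀ →+* P ⧸ (RingHom.ker (algebraMap R R₀)).map (algebraMap R P),
      ∀ r, g (algebraMap R R₀ r) = algebraMap R _ r :=
  ⟨(algebraMap R R₀).liftOfSurjective hR ⟨algebraMap R (P ⧸ (RingHom.ker (algebraMap R R₀)).map (algebraMap R P)),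
    fun r hr => by
      rw [RingHom.mem_ker,
        IsScalarTower.algebraMap_apply R P (P ⧸ (RingHom.ker (algebraMap R R₀)).map (algebraMap R P)),
        Ideal.Quotient.algebraMap_eq, Ideal.Quotient.eq_zero_iff_mem]
      exact Ideal.mem_map_of_mem _ hr⟩,
    fun r => RingHom.liftOfRightInverse_comp_apply _ _ _ _ r⟩

/-- The thinning of an algebra, as an abstract algebra. -/
theorem exists_thin {R : Type u} [CommRing R] {R₀ : Type u} [CommRing R₀] [Algebra R R₀]
    (hR : Function.Surjective (algebraMap R R₀)) (P : Type u) [CommRing P] [Algebra R P]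
    (hj : (RingHom.ker (algebraMap R R₀)).map (algebraMap R P) ≤ Ideal.jacobson ⊥) :
    ∃ (S₁ : Type u) (_ : CommRing S₁) (_ : Algebra R S₁) (_ : Algebra R₀ S₁) (_ : IsScalarTower R R₀ S₁)
      (q : P →ₐ[R] S₁), Function.Surjective q ∧ RingHom.ker q.toRingHom ≤ Ideal.jacobson ⊥ := by
  obtain ⟨g, hg⟩ := exists_resHom hR P
  letI : Algebra R₀ (P ⧸ (RingHom.ker (algebraMap R R₀)).map (algebraMap R P)) := g.toAlgebra
  haveI : IsScalarTower R R₀ (P ⧸ (RingHom.ker (algebraMap R R₀)).map (algebraMap R P)) :=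
    IsScalarTower.of_algebraMap_eq fun r => (hg r).symm
  exact ⟨P ⧸ (RingHom.ker (algebraMap R R₀)).map (algebraMap R P), inferInstance, inferInstance, inferInstance,
    inferInstance, Ideal.Quotient.mkₐ R _, Ideal.Quotient.mkₐ_surjective R _, le_of_eq_of_le Ideal.mk_ker hj⟩

section trans

variable {R : Type u} [CommRing R] {A B : Type u} [CommRing A] [Algebra R A] [CommRing B] [Algebra R B]
  {M N : Type u} [CommGroup M] [CommGroup N] (χ : M →* MonoidAlgebra (A ⊗[R] B) N)
  {S : Type u} [CommRing S] [Algebra R S] (a : A →ₐ[R] S) (b : B →ₐ[R] S)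

theorem mapRingHom_transHom {S' : Type u} [CommRing S'] [Algebra R S'] (g : S →ₐ[R] S') (y : MonoidAlgebra S M) :
    MonoidAlgebra.mapRingHom N g.toRingHom (transHom χ a b y) =
      transHom χ (g.comp a) (g.comp b) (MonoidAlgebra.mapRingHom M g.toRingHom y) := by
  have hl : (Algebra.TensorProduct.lift (g.comp a) (g.comp b) fun _ _ => Commute.all _ _) =
      g.comp (Algebra.TensorProduct.lift a b fun _ _ => Commute.all _ _) :=
    Algebra.TensorProduct.ext' fun p q => by simp
  induction y using MonoidAlgebra.induction_linear with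
  | zero => simp
  | add u w hu hw => simp only [map_add, hu, hw]
  | single m s =>
    rw [MonoidAlgebra.mapRingHom_single, transHom_single, transHom_single, hl, Algebra.smul_def, map_mul,
      Algebra.smul_def]
    congr 1
    · simp
    · generalize χ m = z
      induction z using MonoidAlgebra.induction_linear <;> simp_all

theorem isGroupLikeElem_transHom (hχ : ∀ m, IsGroupLikeElem (A ⊗[R] B) (χ m)) {y : MonoidAlgebra S M}
    (hy : IsGroupLikeElem S y) : IsGroupLikeElem S (transHom χ a b y) := by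
  let Y : M →* GroupLike S (MonoidAlgebra S N) :=
    { toFun := fun m => ⟨_, isGroupLikeElem_mapRingHom
        (Algebra.TensorProduct.lift a b fun _ _ => Commute.all _ _).toRingHom (hχ m)⟩
      map_one' := GroupLike.ext (by simp)
      map_mul' := fun m m' => GroupLike.ext (by simp) }
  have h : ∀ x, transHom χ a b x = glHom Y x := fun x => by
    induction x using MonoidAlgebra.induction_linear with
    | zero => simp
    | add u w hu hw => simp only [map_add, hu, hw]
    | single m s => rw [transHom_single, glHom_single]; rfl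
  rw [h]
  exact hy.map (glHom Y)

end trans

theorem exists_factor {R : Type u} [CommRing R] {R₀ : Type u} [CommRing R₀] [Algebra R R₀] (I : Ideal R) {T : Type u} [CommRing T] [Algebra R T] {T₀ : Type u} [CommRing T₀] [Algebra R T₀] [Algebra R₀ T₀] [IsScalarTower R R₀ T₀] (π : T →ₐ[R] T₀) {P : Type u} [CommRing P] [Algebra R P] (hπ : Function.Surjective π)
    (hπk : RingHom.ker π ≤ I.map (algebraMap R T)) (hI : RingHom.ker (algebraMap R R₀) = I)
    (hR : Function.Surjective (algebraMap R R₀)) [Algebra R₀ P] [IsScalarTower R R₀ P]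
    (a : T →ₐ[R] P) : ∃ a₀ : T₀ →ₐ[R₀] P, ∀ t, a₀ (π t) = a t := by
  have hk : RingHom.ker π ≤ RingHom.ker a := hπk.trans (Ideal.map_le_iff_le_comap.2 fun r hr => by
    show a (algebraMap R T r) = 0
    rw [← hI, RingHom.mem_ker] at hr
    rw [a.commutes, IsScalarTower.algebraMap_apply R R₀ P, hr, map_zero])
  let a₁ : T₀ →ₐ[R] P := AlgHom.liftOfSurjective π hπ a hk
  refine ⟨{ toRingHom := a₁.toRingHom, commutes' := fun r => ?_ }, fun t => ?_⟩
  · obtain ⟨r, rfl⟩ := hR r
    show a₁ (algebraMap R₀ T₀ (algebraMap R R₀ r)) = _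
    rw [← IsScalarTower.algebraMap_apply, a₁.commutes, ← IsScalarTower.algebraMap_apply]
  · show a₁ (π t) = a t
    exact AlgHom.liftOfSurjective_apply π hπ a hk t

/-- A bialgebra chart at a point. -/
theorem exists_chart_point {R₀ : Type u} [CommRing R₀] {A₀ : Type u} [CommRing A₀] [HopfAlgebra R₀ A₀]
    {R' : Type u} [CommRing R'] [Algebra R₀ R'] {M : Type u} [CommGroup M]
    (e : (R' ⊗[R₀] A₀) ≃ₐc[R'] MonoidAlgebra R' M) {S : Type u} [CommRing S] [Algebra R₀ S] (a : R' →ₐ[R₀] S) :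
    ∃ eS : (S ⊗[R₀] A₀) ≃ₐc[S] MonoidAlgebra S M, ∀ z,
      eS (mapA a z) = MonoidAlgebra.mapRingHom M a.toRingHom (e z) := by
  letI : Algebra R' S := a.toRingHom.toAlgebra
  haveI : IsScalarTower R₀ R' S := IsScalarTower.of_algebraMap_eq fun r => (a.commutes r).symm
  obtain ⟨eS, h⟩ := exists_chart_map e S
  refine ⟨eS, fun z => ext_coef fun m => ?_⟩
  rw [coefL_mapRingHom]
  exact h z m

variable {R : Type u} [CommRing R] {R₀ : Type u} [CommRing R₀] [Algebra R R₀]
  {A₀ : Type u} [CommRing A₀] [HopfAlgebra R₀ A₀]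
  {ι : Type} {T : ι → Type u} [∀ i, CommRing (T i)] [∀ i, Algebra R (T i)]
  {T₀ : ι → Type u} [∀ i, CommRing (T₀ i)] [∀ i, Algebra R (T₀ i)] [∀ i, Algebra R₀ (T₀ i)]
  [∀ i, IsScalarTower R R₀ (T₀ i)]
  {M : ι → Type u} [∀ i, CommGroup (M i)] (π : ∀ i, T i →ₐ[R] T₀ i)
  (e : ∀ i, (T₀ i ⊗[R₀] A₀) ≃ₐc[T₀ i] MonoidAlgebra (T₀ i) (M i))

/-- The transition from one chart to another at a pair of points of the thinned covering. -/
theorem exists_transition {S : Type u} [CommRing S] [Algebra R₀ S] (i j : ι) (a : T₀ i →ₐ[R₀] S) (b : T₀ j →ₐ[R₀] S) :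
    ∃ Θ : MonoidAlgebra S (M i) ≃ₐc[S] MonoidAlgebra S (M j), ∀ x : A₀,
      Θ (MonoidAlgebra.mapRingHom (M i) a.toRingHom (e i ((1 : T₀ i) ⊗ₜ[R₀] x))) =
        MonoidAlgebra.mapRingHom (M j) b.toRingHom (e j ((1 : T₀ j) ⊗ₜ[R₀] x)) := by
  obtain ⟨ea, ha⟩ := exists_chart_point (e i) a
  obtain ⟨eb, hb⟩ := exists_chart_point (e j) b
  refine ⟨ea.symm.trans eb, fun x => ?_⟩
  show eb (ea.symm _) = _
  rw [← ha, BialgEquiv.symm_apply_apply, ← hb]
  simp

theorem linearMap_ext_chart {S : Type u} [CommRing S] [Algebra R₀ S] (i : ι) (a : T₀ i →ₐ[R₀] S)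
    {W : Type u} [AddCommGroup W] [Module S W] {f g : MonoidAlgebra S (M i) →ₗ[S] W}
    (h : ∀ x : A₀, f (MonoidAlgebra.mapRingHom (M i) a.toRingHom (e i ((1 : T₀ i) ⊗ₜ[R₀] x))) =
      g (MonoidAlgebra.mapRingHom (M i) a.toRingHom (e i ((1 : T₀ i) ⊗ₜ[R₀] x)))) (y : MonoidAlgebra S (M i)) :
    f y = g y := by
  obtain ⟨ea, ha⟩ := exists_chart_point (e i) a
  obtain ⟨z, rfl⟩ := EquivLike.surjective ea y
  induction z using TensorProduct.induction_on with
  | zero => simp
  | add u w hu hw => simp only [map_add, hu, hw]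
  | tmul s x =>
    rw [show s ⊗ₜ[R₀] x = s • ((1 : S) ⊗ₜ[R₀] x) by rw [TensorProduct.smul_tmul', smul_eq_mul, mul_one],
      map_smul, map_smul, map_smul, show (1 : S) ⊗ₜ[R₀] x = mapA a ((1 : T₀ i) ⊗ₜ[R₀] x) by simp, ha, h]

variable (hR : Function.Surjective (algebraMap R R₀))
  (hπ : ∀ i, Function.Surjective (π i))
  (hπk : ∀ i, RingHom.ker (π i) ≤ (RingHom.ker (algebraMap R R₀)).map (algebraMap R (T i)))

include hR hπ hπk in
/-- The lifted transition functions. -/
theorem exists_chi (i j : ι)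
    (hlift : ∀ y₀ : MonoidAlgebra ((T i ⊗[R] T j) ⧸ (RingHom.ker (algebraMap R R₀)).map (algebraMap R (T i ⊗[R] T j))) (M j),
      IsGroupLikeElem ((T i ⊗[R] T j) ⧸ (RingHom.ker (algebraMap R R₀)).map (algebraMap R (T i ⊗[R] T j))) y₀ →
      ∃ y, IsGroupLikeElem (T i ⊗[R] T j) y ∧ MonoidAlgebra.mapRingHom (M j) (Ideal.Quotient.mk _) y = y₀)
    (hj2 : (RingHom.ker (algebraMap R R₀)).map (algebraMap R (T i ⊗[R] T j)) ≤ Ideal.jacobson ⊥) :
    ∃ χ : M i →* MonoidAlgebra (T i ⊗[R] T j) (M j), (∀ m, IsGroupLikeElem (T i ⊗[R] T j) (χ m)) ∧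
      ∀ (S : Type u) [CommRing S] [Algebra R S] [Algebra R₀ S] [IsScalarTower R R₀ S]
      (a : T₀ i →ₐ[R₀] S) (b : T₀ j →ₐ[R₀] S) (x : A₀),
      transHom χ ((a.restrictScalars R).comp (π i)) ((b.restrictScalars R).comp (π j))
        (MonoidAlgebra.mapRingHom (M i) a.toRingHom (e i ((1 : T₀ i) ⊗ₜ[R₀] x))) =
        MonoidAlgebra.mapRingHom (M j) b.toRingHom (e j ((1 : T₀ j) ⊗ₜ[R₀] x)) := by
  let U := T i ⊗[R] T j
  let S₁ := U ⧸ (RingHom.ker (algebraMap R R₀)).map (algebraMap R U)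
  obtain ⟨g, hg⟩ := exists_resHom hR U
  letI : Algebra R₀ S₁ := g.toAlgebra
  haveI : IsScalarTower R R₀ S₁ := IsScalarTower.of_algebraMap_eq fun r => (hg r).symm
  let q : U →ₐ[R] S₁ := Ideal.Quotient.mkₐ R _
  obtain ⟨a₁, ha₁⟩ := exists_factor (RingHom.ker (algebraMap R R₀)) (π i) (hπ i) (hπk i) rfl hR (q.comp Algebra.TensorProduct.includeLeft)
  obtain ⟨b₁, hb₁⟩ := exists_factor (RingHom.ker (algebraMap R R₀)) (π j) (hπ j) (hπk j) rfl hR (q.comp Algebra.TensorProduct.includeRight)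
  obtain ⟨Θ, hΘ⟩ := exists_transition e i j a₁ b₁
  choose y hy hy0 using fun m : M i => hlift (Θ (MonoidAlgebra.single m 1))
    ((MonoidAlgebra.isGroupLikeElem_single_one m).map Θ)
  have huniq : ∀ {z w : MonoidAlgebra U (M j)}, IsGroupLikeElem U z → IsGroupLikeElem U w →
      MonoidAlgebra.mapRingHom (M j) (Ideal.Quotient.mk ((RingHom.ker (algebraMap R R₀)).map (algebraMap R U))) z =
        MonoidAlgebra.mapRingHom (M j) (Ideal.Quotient.mk _) w → z = w := fun hz hw h =>
    groupLike_eq_of_quotient _ hj2 hz hw h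
  let χ : M i →* MonoidAlgebra U (M j) :=
    { toFun := y
      map_one' := huniq (hy 1) IsGroupLikeElem.one (by
        rw [hy0, map_one, ← MonoidAlgebra.one_def, map_one])
      map_mul' := fun m m' => huniq (hy _) ((hy m).mul (hy m')) (by
        rw [hy0, map_mul, hy0, hy0, ← map_mul, MonoidAlgebra.single_mul_single, mul_one]) }
  refine ⟨χ, hy, fun S _ _ _ _ a b x => ?_⟩
  have hq : (Algebra.TensorProduct.lift ((a₁.restrictScalars R).comp (π i)) ((b₁.restrictScalars R).comp (π j))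
      fun _ _ => Commute.all _ _) = q := Algebra.TensorProduct.ext' fun s t => by
    rw [Algebra.TensorProduct.lift_tmul]
    show a₁ (π i s) * b₁ (π j t) = q (s ⊗ₜ t)
    rw [ha₁, hb₁]
    show q (s ⊗ₜ (1 : T j)) * q ((1 : T i) ⊗ₜ t) = q (s ⊗ₜ t)
    rw [← map_mul, Algebra.TensorProduct.tmul_mul_tmul, mul_one, one_mul]
  have hΘ' : ∀ z, transHom χ ((a₁.restrictScalars R).comp (π i)) ((b₁.restrictScalars R).comp (π j)) z = Θ z := by
    intro z
    induction z using MonoidAlgebra.induction_linear with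
    | zero => simp
    | add u w hu hw => simp only [map_add, hu, hw]
    | single m s =>
      rw [transHom_single, hq, show MonoidAlgebra.single m s = s • MonoidAlgebra.single m (1 : S₁) by
        rw [MonoidAlgebra.smul_single', mul_one], map_smul, ← hy0]
      rfl
  let ab : U →ₐ[R] S := Algebra.TensorProduct.lift ((a.restrictScalars R).comp (π i))
    ((b.restrictScalars R).comp (π j)) fun _ _ => Commute.all _ _
  let h : S₁ →ₐ[R] S := Ideal.Quotient.liftₐ _ ab fun u hu => by
    have : (RingHom.ker (algebraMap R R₀)).map (algebraMap R U) ≤ RingHom.ker ab := Ideal.map_le_iff_le_comap.2 fun r hr => by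
      show ab (algebraMap R U r) = 0
      rw [AlgHom.commutes, IsScalarTower.algebraMap_apply R R₀ S, RingHom.mem_ker.1 hr, map_zero]
    exact this hu
  have hha : ∀ t, h (a₁ t) = a t := fun t => by
    obtain ⟨t, rfl⟩ := hπ i t
    rw [ha₁]
    show ab (t ⊗ₜ (1 : T j)) = a (π i t)
    refine (Algebra.TensorProduct.lift_tmul _ _ _ _ _).trans ?_
    rw [map_one, mul_one]
    rfl
  have hhb : ∀ t, h (b₁ t) = b t := fun t => by
    obtain ⟨t, rfl⟩ := hπ j t
    rw [hb₁]
    show ab ((1 : T i) ⊗ₜ t) = b (π j t)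
    refine (Algebra.TensorProduct.lift_tmul _ _ _ _ _).trans ?_
    rw [map_one, one_mul]
    rfl
  have hpush : ∀ {N : Type u} [CommGroup N] (i : ι) (a₂ : T₀ i →ₐ[R₀] S₁) (a' : T₀ i →ₐ[R₀] S)
      (_ : ∀ t, h (a₂ t) = a' t) (w : MonoidAlgebra (T₀ i) N),
      MonoidAlgebra.mapRingHom N h.toRingHom (MonoidAlgebra.mapRingHom N a₂.toRingHom w) =
        MonoidAlgebra.mapRingHom N a'.toRingHom w := fun {N} _ i a₂ a' ha' w => by
    induction w using MonoidAlgebra.induction_linear with
    | zero => simp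
    | add u w hu hw => simp only [map_add, hu, hw]
    | single m s => simp [← ha']
  have h1 := congrArg (MonoidAlgebra.mapRingHom (M j) h.toRingHom)
    ((hΘ' (MonoidAlgebra.mapRingHom (M i) a₁.toRingHom (e i ((1 : T₀ i) ⊗ₜ[R₀] x)))).trans (hΘ x))
  rw [mapRingHom_transHom, hpush i a₁ a hha, hpush j b₁ b hhb,
    show h.comp ((a₁.restrictScalars R).comp (π i)) = (a.restrictScalars R).comp (π i) from AlgHom.ext fun t => hha _,
    show h.comp ((b₁.restrictScalars R).comp (π j)) = (b.restrictScalars R).comp (π j) from AlgHom.ext fun t => hhb _] at h1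
  exact h1

include hR hπ hπk in
theorem chi_unit (χ : ∀ i j, M i →* MonoidAlgebra (T i ⊗[R] T j) (M j))
    (hgl : ∀ i j m, IsGroupLikeElem (T i ⊗[R] T j) (χ i j m))
    (htr : ∀ i j (S : Type u) [CommRing S] [Algebra R S] [Algebra R₀ S] [IsScalarTower R R₀ S]
      (a : T₀ i →ₐ[R₀] S) (b : T₀ j →ₐ[R₀] S) (x : A₀),
      transHom (χ i j) ((a.restrictScalars R).comp (π i)) ((b.restrictScalars R).comp (π j))
        (MonoidAlgebra.mapRingHom (M i) a.toRingHom (e i ((1 : T₀ i) ⊗ₜ[R₀] x))) =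
        MonoidAlgebra.mapRingHom (M j) b.toRingHom (e j ((1 : T₀ j) ⊗ₜ[R₀] x)))
    (hj1 : ∀ i, (RingHom.ker (algebraMap R R₀)).map (algebraMap R (T i)) ≤ Ideal.jacobson ⊥) (i : ι) (m : M i) :
    MonoidAlgebra.mapRingHom (M i) (Algebra.TensorProduct.lmul' (S := T i) R).toRingHom (χ i i m) =
      MonoidAlgebra.single m 1 := by
  let J := (RingHom.ker (algebraMap R R₀)).map (algebraMap R (T i))
  let S₁ := T i ⧸ J
  obtain ⟨g, hg⟩ := exists_resHom hR (T i)
  letI : Algebra R₀ S₁ := g.toAlgebra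
  haveI : IsScalarTower R R₀ S₁ := IsScalarTower.of_algebraMap_eq fun r => (hg r).symm
  obtain ⟨a, ha⟩ := exists_factor (RingHom.ker (algebraMap R R₀)) (π i) (hπ i) (hπk i) rfl hR (Ideal.Quotient.mkₐ R J)
  have hak : (a.restrictScalars R).comp (π i) = Ideal.Quotient.mkₐ R J := AlgHom.ext ha
  refine groupLike_eq_of_quotient J (hj1 i)
    (isGroupLikeElem_mapRingHom _ (hgl i i m)) (MonoidAlgebra.isGroupLikeElem_single_one m) ?_
  have h1 := linearMap_ext_chart e i a
    (f := (transHom (χ i i) (Ideal.Quotient.mkₐ R J) (Ideal.Quotient.mkₐ R J)).toLinearMap) (g := LinearMap.id)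
    (fun x => by
      have := htr i i S₁ a a x
      rw [hak] at this
      exact this) (MonoidAlgebra.single m 1)
  change transHom (χ i i) (Ideal.Quotient.mkₐ R J) (Ideal.Quotient.mkₐ R J) (MonoidAlgebra.single m 1) =
    MonoidAlgebra.single m 1 at h1
  rw [MonoidAlgebra.mapRingHom_single, map_one]
  refine Eq.trans ?_ h1
  rw [transHom_single, one_smul]
  generalize χ i i m = z
  induction z using MonoidAlgebra.induction_linear with
  | zero => simp
  | add u w hu hw => simp only [map_add, hu, hw]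
  | single n s =>
    rw [MonoidAlgebra.mapRingHom_single, MonoidAlgebra.mapRingHom_single, MonoidAlgebra.mapRingHom_single]
    congr 1
    induction s using TensorProduct.induction_on with
    | zero => simp
    | tmul s t => simp
    | add u w hu hw => simp only [map_add, hu, hw]

include hR hπ hπk in
theorem chi_cocycle (χ : ∀ i j, M i →* MonoidAlgebra (T i ⊗[R] T j) (M j))
    (hgl : ∀ i j m, IsGroupLikeElem (T i ⊗[R] T j) (χ i j m))
    (htr : ∀ i j (S : Type u) [CommRing S] [Algebra R S] [Algebra R₀ S] [IsScalarTower R R₀ S]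
      (a : T₀ i →ₐ[R₀] S) (b : T₀ j →ₐ[R₀] S) (x : A₀),
      transHom (χ i j) ((a.restrictScalars R).comp (π i)) ((b.restrictScalars R).comp (π j))
        (MonoidAlgebra.mapRingHom (M i) a.toRingHom (e i ((1 : T₀ i) ⊗ₜ[R₀] x))) =
        MonoidAlgebra.mapRingHom (M j) b.toRingHom (e j ((1 : T₀ j) ⊗ₜ[R₀] x)))
    (hj3 : ∀ i j k, (RingHom.ker (algebraMap R R₀)).map (algebraMap R (T i ⊗[R] (T j ⊗[R] T k))) ≤ Ideal.jacobson ⊥)
    (i j k : ι) (S : Type u) [CommRing S] [Algebra R S] (a : T i →ₐ[R] S) (b : T j →ₐ[R] S) (c : T k →ₐ[R] S)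
    (m : M i) : transHom (χ j k) b c (transHom (χ i j) a b (MonoidAlgebra.single m 1)) =
      transHom (χ i k) a c (MonoidAlgebra.single m 1) := by
  let U := T i ⊗[R] (T j ⊗[R] T k)
  let a' : T i →ₐ[R] U := Algebra.TensorProduct.includeLeft
  let b' : T j →ₐ[R] U := Algebra.TensorProduct.includeRight.comp Algebra.TensorProduct.includeLeft
  let c' : T k →ₐ[R] U := Algebra.TensorProduct.includeRight.comp Algebra.TensorProduct.includeRight
  have key : transHom (χ j k) b' c' (transHom (χ i j) a' b' (MonoidAlgebra.single m 1)) =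
      transHom (χ i k) a' c' (MonoidAlgebra.single m 1) := by
    obtain ⟨S₁, _, _, _, _, q, -, hq⟩ := exists_thin hR U (hj3 i j k)
    obtain ⟨a₁, ha₁⟩ := exists_factor (RingHom.ker (algebraMap R R₀)) (π i) (hπ i) (hπk i) rfl hR (P := S₁) (q.comp a')
    obtain ⟨b₁, hb₁⟩ := exists_factor (RingHom.ker (algebraMap R R₀)) (π j) (hπ j) (hπk j) rfl hR (P := S₁) (q.comp b')
    obtain ⟨c₁, hc₁⟩ := exists_factor (RingHom.ker (algebraMap R R₀)) (π k) (hπ k) (hπk k) rfl hR (P := S₁) (q.comp c')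
    have hgl1 : IsGroupLikeElem U (MonoidAlgebra.single m (1 : U) : MonoidAlgebra U (M i)) :=
      MonoidAlgebra.isGroupLikeElem_single_one m
    refine groupLike_eq_of_jacobson q.toRingHom hq
      (isGroupLikeElem_transHom _ _ _ (hgl j k) (isGroupLikeElem_transHom _ _ _ (hgl i j) hgl1))
      (isGroupLikeElem_transHom _ _ _ (hgl i k) hgl1) ?_
    rw [mapRingHom_transHom, mapRingHom_transHom, mapRingHom_transHom]
    rw [MonoidAlgebra.mapRingHom_single, map_one,
      ← show (a₁.restrictScalars R).comp (π i) = q.comp a' from AlgHom.ext ha₁,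
      ← show (b₁.restrictScalars R).comp (π j) = q.comp b' from AlgHom.ext hb₁,
      ← show (c₁.restrictScalars R).comp (π k) = q.comp c' from AlgHom.ext hc₁]
    exact linearMap_ext_chart e i a₁
      (f := ((transHom (χ j k) ((b₁.restrictScalars R).comp (π j)) ((c₁.restrictScalars R).comp (π k))).comp
        (transHom (χ i j) ((a₁.restrictScalars R).comp (π i)) ((b₁.restrictScalars R).comp (π j)))).toLinearMap)
      (g := (transHom (χ i k) ((a₁.restrictScalars R).comp (π i)) ((c₁.restrictScalars R).comp (π k))).toLinearMap)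
      (fun x => by
        show transHom (χ j k) _ _ (transHom (χ i j) _ _ _) = transHom (χ i k) _ _ _
        rw [htr i j S₁ a₁ b₁ x, htr j k S₁ b₁ c₁ x, htr i k S₁ a₁ c₁ x]) (MonoidAlgebra.single m 1)
  let f : U →ₐ[R] S := Algebra.TensorProduct.lift a
    (Algebra.TensorProduct.lift b c fun _ _ => Commute.all _ _) fun _ _ => Commute.all _ _
  have h2 := congrArg (MonoidAlgebra.mapRingHom (M k) f.toRingHom) key
  rw [mapRingHom_transHom, mapRingHom_transHom, mapRingHom_transHom, MonoidAlgebra.mapRingHom_single, map_one,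
    show f.comp a' = a from AlgHom.ext fun t => by
      show f (t ⊗ₜ (1 : T j ⊗[R] T k)) = a t
      refine (Algebra.TensorProduct.lift_tmul _ _ _ _ _).trans ?_
      rw [map_one, mul_one],
    show f.comp b' = b from AlgHom.ext fun t => by
      show f ((1 : T i) ⊗ₜ (t ⊗ₜ (1 : T k))) = b t
      refine (Algebra.TensorProduct.lift_tmul _ _ _ _ _).trans ?_
      rw [Algebra.TensorProduct.lift_tmul, map_one, map_one, one_mul, mul_one],
    show f.comp c' = c from AlgHom.ext fun t => by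
      show f ((1 : T i) ⊗ₜ ((1 : T j) ⊗ₜ t)) = c t
      refine (Algebra.TensorProduct.lift_tmul _ _ _ _ _).trans ?_
      rw [Algebra.TensorProduct.lift_tmul, map_one, map_one, one_mul, one_mul]] at h2
  exact h2


include hR hπ hπk in
/-- Lifts of the transition functions form a datum. -/
theorem exists_lift_datum
    (hlift : ∀ i j (y₀ : MonoidAlgebra ((T i ⊗[R] T j) ⧸ (RingHom.ker (algebraMap R R₀)).map (algebraMap R (T i ⊗[R] T j))) (M j)),
      IsGroupLikeElem ((T i ⊗[R] T j) ⧸ (RingHom.ker (algebraMap R R₀)).map (algebraMap R (T i ⊗[R] T j))) y₀ → ∃ y, IsGroupLikeElem (T i ⊗[R] T j) y ∧ MonoidAlgebra.mapRingHom (M j) (Ideal.Quotient.mk _) y = y₀)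
    (hj1 : ∀ i, (RingHom.ker (algebraMap R R₀)).map (algebraMap R (T i)) ≤ Ideal.jacobson ⊥)
    (hj2 : ∀ i j, (RingHom.ker (algebraMap R R₀)).map (algebraMap R (T i ⊗[R] T j)) ≤ Ideal.jacobson ⊥)
    (hj3 : ∀ i j k, (RingHom.ker (algebraMap R R₀)).map (algebraMap R (T i ⊗[R] (T j ⊗[R] T k))) ≤ Ideal.jacobson ⊥)
    (hfl : ∀ i, Module.Flat R (T i))
    (hcov : ∀ p : PrimeSpectrum R, ∃ i, p ∈ Set.range (PrimeSpectrum.comap (algebraMap R (T i)))) :
    ∃ D : HDatum (R := R) T M, ∀ i j (S : Type u) [CommRing S] [Algebra R S] [Algebra R₀ S] [IsScalarTower R R₀ S]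
      (a : T₀ i →ₐ[R₀] S) (b : T₀ j →ₐ[R₀] S) (x : A₀),
      transHom (D.χ i j) ((a.restrictScalars R).comp (π i)) ((b.restrictScalars R).comp (π j))
        (MonoidAlgebra.mapRingHom (M i) a.toRingHom (e i ((1 : T₀ i) ⊗ₜ[R₀] x))) =
        MonoidAlgebra.mapRingHom (M j) b.toRingHom (e j ((1 : T₀ j) ⊗ₜ[R₀] x)) := by
  choose χ hgl htr using fun i j => exists_chi π e hR hπ hπk i j (hlift i j) (hj2 i j)
  exact ⟨{ χ := χ, unit := chi_unit π e hR hπ hπk χ hgl htr hj1, cocycle := chi_cocycle π e hR hπ hπk χ hgl htr hj3,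
           flat := hfl, cover := hcov, groupLike := hgl }, htr⟩

end Groth.Agent.H19Mult
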