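import Groth.Agent.H19Mult.Datum

/-!
Functoriality of the algebra descended from a datum of group algebras, and products of data.
-/

set_option autoImplicit false
set_option linter.style.haveILetI false
set_option backward.isDefEq.respectTransparency false

universe u

open TensorProduct

namespace Groth.Agent.H19Mult

/-- The map of group algebras over `S` induced by a homomorphism of groups. -/
noncomputable abbrev mD (S : Type u) [CommRing S] {M N : Type u} [CommGroup M] [CommGroup N] (f : M →* N) :
    MonoidAlgebra S M →ₐ[S] MonoidAlgebra S N :=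
  MonoidAlgebra.mapDomainAlgHom S S f

theorem mD_single {S : Type u} [CommRing S] {M N : Type u} [CommGroup M] [CommGroup N] (f : M →* N) (m : M) (s : S) :
    mD S f (MonoidAlgebra.single m s) = MonoidAlgebra.single (f m) s := by
  simp [mD]

theorem mD_mD {S : Type u} [CommRing S] {M N P : Type u} [CommGroup M] [CommGroup N] [CommGroup P]
    (f : M →* N) (g : N →* P) (x : MonoidAlgebra S M) : mD S g (mD S f x) = mD S (g.comp f) x := by
  induction x using MonoidAlgebra.induction_linear with
  | zero => simp
  | add u w hu hw => simp only [map_add, hu, hw]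
  | single m s => simp [mD_single]

theorem mapRingHom_mD {S S' : Type u} [CommRing S] [CommRing S'] (g : S →+* S') {M N : Type u} [CommGroup M]
    [CommGroup N] (f : M →* N) (x : MonoidAlgebra S M) :
    MonoidAlgebra.mapRingHom N g (mD S f x) = mD S' f (MonoidAlgebra.mapRingHom M g x) := by
  induction x using MonoidAlgebra.induction_linear with
  | zero => simp
  | add u w hu hw => simp only [map_add, hu, hw]
  | single m s => simp [mD_single]

theorem tensorEquiv_tmul {S : Type u} [CommRing S] {M N : Type u} [CommGroup M] [CommGroup N]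
    (x : MonoidAlgebra S M) (y : MonoidAlgebra S N) :
    MonoidAlgebra.tensorEquiv S (x ⊗ₜ y) = mD S (MonoidHom.inl M N) x * mD S (MonoidHom.inr M N) y := by
  induction x using MonoidAlgebra.induction_linear with
  | zero => simp
  | add u w hu hw => simp only [TensorProduct.add_tmul, map_add, hu, hw, add_mul]
  | single m s =>
    induction y using MonoidAlgebra.induction_linear with
    | zero => simp
    | add u w hu hw => simp only [TensorProduct.tmul_add, map_add, hu, hw, mul_add]
    | single n t => simp [mD_single, MonoidAlgebra.single_mul_single]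

theorem tensorEquiv_comul {S : Type u} [CommRing S] {M : Type u} [CommGroup M] (x : MonoidAlgebra S M) :
    MonoidAlgebra.tensorEquiv S (Coalgebra.comul (R := S) x) =
      mD S ((MonoidHom.id M).prod (MonoidHom.id M)) x := by
  induction x using MonoidAlgebra.induction_linear with
  | zero => simp
  | add u w hu hw => simp only [map_add, hu, hw]
  | single m s => simp [mD_single, MonoidAlgebra.comul_single]

theorem transHom_natural {R : Type u} [CommRing R] {A B : Type u} [CommRing A] [Algebra R A] [CommRing B]
    [Algebra R B] {M M' N N' : Type u} [CommGroup M] [CommGroup M'] [CommGroup N] [CommGroup N']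
    (χ : M →* MonoidAlgebra (A ⊗[R] B) N) (χ' : M' →* MonoidAlgebra (A ⊗[R] B) N') (f : M →* M') (g : N →* N')
    (h : ∀ m, χ' (f m) = mD _ g (χ m)) {S : Type u} [CommRing S] [Algebra R S] (a : A →ₐ[R] S) (b : B →ₐ[R] S)
    (x : MonoidAlgebra S M) : transHom χ' a b (mD S f x) = mD S g (transHom χ a b x) := by
  induction x using MonoidAlgebra.induction_linear with
  | zero => simp
  | add u w hu hw => simp only [map_add, hu, hw]
  | single m s => rw [mD_single, transHom_single, transHom_single, h, mapRingHom_mD, map_smul]

variable {R : Type u} [CommRing R] {ι : Type} {T : ι → Type u} [∀ i, CommRing (T i)] [∀ i, Algebra R (T i)]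

namespace GDatum

variable {M : ι → Type u} [∀ i, CommGroup (M i)] {N : ι → Type u} [∀ i, CommGroup (N i)]

theorem phi_mD (i j : ι) (f : M j →* N j) (y : MonoidAlgebra (T i ⊗[R] T j) (M j)) :
    phi i j (mD (T i ⊗[R] T j) f y) =
      Algebra.TensorProduct.map (AlgHom.id (T i) (T i)) ((mD (T j) f).restrictScalars R) (phi i j y) := by
  induction y using MonoidAlgebra.induction_linear with
  | zero => simp
  | add u w hu hw => simp only [map_add, hu, hw]
  | single m z =>
    induction z using TensorProduct.induction_on with
    | zero => simp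
    | tmul t s => rw [mD_single, phi_single, phi_single]; simp [mD_single]
    | add u w hu hw => simp only [MonoidAlgebra.single_add, map_add, hu, hw]

/-- Compatible families of homomorphisms of groups. -/
def IsHom (D : GDatum (R := R) T M) (D' : GDatum (R := R) T N) (f : ∀ i, M i →* N i) : Prop :=
  ∀ i j m, D'.χ i j (f i m) = mD _ (f j) (D.χ i j m)

variable {D : GDatum (R := R) T M} {D' : GDatum (R := R) T N} {f : ∀ i, M i →* N i}

theorem IsHom.rho_mD (hf : IsHom D D' f) (i j : ι) (x : MonoidAlgebra (T i) (M i)) :
    D'.rho i j (mD (T i) (f i) x) =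
      Algebra.TensorProduct.map (AlgHom.id (T i) (T i)) ((mD (T j) (f j)).restrictScalars R) (D.rho i j x) := by
  induction x using MonoidAlgebra.induction_linear with
  | zero => simp
  | add u w hu hw => simp only [map_add, hu, hw]
  | single m t => rw [mD_single, rho_single, rho_single, hf, phi_mD, map_smul]

/-- The map of descended algebras. -/
noncomputable def IsHom.map (hf : IsHom D D' f) : D.alg →ₐ[R] D'.alg :=
  ((AlgHom.pi fun i => ((mD (T i) (f i)).restrictScalars R).comp (D.comp' i)) :
    D.alg →ₐ[R] ∀ i, MonoidAlgebra (T i) (N i)).codRestrict D'.alg fun x i j => by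
      show D'.rho i j (mD (T i) (f i) (D.comp' i x)) = (1 : T i) ⊗ₜ[R] mD (T j) (f j) (D.comp' j x)
      rw [hf.rho_mD, D.rho_comp']
      simp

theorem IsHom.comp'_map (hf : IsHom D D' f) (i : ι) (x : D.alg) :
    D'.comp' i (hf.map x) = mD (T i) (f i) (D.comp' i x) := rfl

/-- The trivial datum. -/
noncomputable def punit : GDatum (R := R) T (fun _ => PUnit.{u+1}) where
  χ _ _ := 1
  unit i m := by simp [MonoidAlgebra.one_def, Subsingleton.elim m 1]
  cocycle i j k S _ _ a b c m := by simp [transHom_single]

theorem isHom_one (hD : ∀ i j m, mD (T i ⊗[R] T j) (1 : M j →* PUnit.{u+1}) (D.χ i j m) = 1) :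
    IsHom D (punit (R := R) (T := T)) fun _ => 1 := fun i j m => (hD i j m).symm

/-- The product of two data. -/
noncomputable def prod (D : GDatum (R := R) T M) (D' : GDatum (R := R) T N) :
    GDatum (R := R) T (fun i => M i × N i) where
  χ i j := ((mD _ (MonoidHom.inl (M j) (N j))).toMonoidHom.comp (D.χ i j)).coprod
    ((mD _ (MonoidHom.inr (M j) (N j))).toMonoidHom.comp (D'.χ i j))
  unit i m := by
    show MonoidAlgebra.mapRingHom _ _ (mD _ (MonoidHom.inl (M i) (N i)) (D.χ i i m.1) * mD _ (MonoidHom.inr (M i) (N i)) (D'.χ i i m.2)) = _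
    rw [map_mul, mapRingHom_mD, mapRingHom_mD, D.unit, D'.unit, mD_single, mD_single,
      MonoidAlgebra.single_mul_single, mul_one]
    simp
  cocycle i j k S _ _ a b c m := by
    rw [show MonoidAlgebra.single m (1 : S) = mD S (MonoidHom.inl (M i) (N i)) (MonoidAlgebra.single m.1 1) *
      mD S (MonoidHom.inr (M i) (N i)) (MonoidAlgebra.single m.2 1) by
      simp [mD_single, MonoidAlgebra.single_mul_single]]
    simp only [map_mul]
    rw [transHom_natural (D.χ i j) _ _ (MonoidHom.inl (M j) (N j)) (fun m => by simp),
      transHom_natural (D'.χ i j) _ _ (MonoidHom.inr (M j) (N j)) (fun m => by simp),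
      transHom_natural (D.χ j k) _ _ (MonoidHom.inl (M k) (N k)) (fun m => by simp),
      transHom_natural (D'.χ j k) _ _ (MonoidHom.inr (M k) (N k)) (fun m => by simp),
      transHom_natural (D.χ i k) _ _ (MonoidHom.inl (M k) (N k)) (fun m => by simp),
      transHom_natural (D'.χ i k) _ _ (MonoidHom.inr (M k) (N k)) (fun m => by simp),
      D.cocycle, D'.cocycle]

theorem isHom_inl : IsHom D (D.prod D') fun i => MonoidHom.inl (M i) (N i) := fun i j m => by
  simp [prod]

theorem isHom_inr : IsHom D' (D.prod D') fun i => MonoidHom.inr (M i) (N i) := fun i j m => by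
  simp [prod]

/-- Comparison of the tensor product with the product datum. -/
noncomputable def theta (D : GDatum (R := R) T M) (D' : GDatum (R := R) T N) :
    D.alg ⊗[R] D'.alg →ₐ[R] (D.prod D').alg :=
  Algebra.TensorProduct.lift isHom_inl.map isHom_inr.map fun _ _ => Commute.all _ _

theorem comp'_theta (i : ι) (a : D.alg) (b : D'.alg) :
    (D.prod D').comp' i (theta D D' (a ⊗ₜ b)) =
      mD (T i) (MonoidHom.inl (M i) (N i)) (D.comp' i a) * mD (T i) (MonoidHom.inr (M i) (N i)) (D'.comp' i b) := by
  rw [theta, Algebra.TensorProduct.lift_tmul, map_mul, IsHom.comp'_map, IsHom.comp'_map]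

section bijective

variable [Fintype ι] [DecidableEq ι] [∀ i, Module.Flat R (T i)]
  (hcov : ∀ p : PrimeSpectrum R, ∃ i, p ∈ Set.range (PrimeSpectrum.comap (algebraMap R (T i))))

include hcov in
theorem bijective_of_charts {X Y : Type u} [AddCommGroup X] [Module R X] [AddCommGroup Y] [Module R Y]
    (g : X →ₗ[R] Y) (h : ∀ i, Function.Bijective (LinearMap.lTensor (T i) g)) : Function.Bijective g := by
  haveI := faithfullyFlat_pi T hcov
  rw [← Module.FaithfullyFlat.lTensor_bijective_iff_bijective R (∀ i, T i) g]
  let E : ∀ (Z : Type u) [AddCommGroup Z] [Module R Z], (∀ i, T i) ⊗[R] Z ≃ₗ[R] ∀ i, T i ⊗[R] Z :=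
    fun Z _ _ => piLeftEquiv T Z
  have hE : ∀ z i, E Y (LinearMap.lTensor (∀ i, T i) g z) i = LinearMap.lTensor (T i) g (E X z i) := by
    intro z i
    induction z using TensorProduct.induction_on with
    | zero => simp
    | tmul t x => simp [E]
    | add u w hu hw => simp only [map_add, Pi.add_apply, hu, hw]
  have h1 : (LinearMap.lTensor (∀ i, T i) g : _ → _) = (E Y).symm ∘ (fun w i => LinearMap.lTensor (T i) g (w i)) ∘ E X :=
    funext fun z => (E Y).injective (funext fun i => by simp [hE])
  rw [h1]
  exact (E Y).symm.bijective.comp ((Function.Bijective.piMap fun i => h i).comp (E X).bijective)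

include hcov in
theorem theta_bijective : Function.Bijective (theta D D') := by
  refine bijective_of_charts hcov (X := D.alg ⊗[R] D'.alg) (Y := (D.prod D').alg) (theta D D').toLinearMap fun i => ?_
  let eM := LinearEquiv.ofBijective (D.chart i).toLinearMap (D.chart_bijective i)
  let eN := LinearEquiv.ofBijective (D'.chart i).toLinearMap (D'.chart_bijective i)
  let e2 := ((TensorProduct.AlgebraTensorModule.distribBaseChange R (T i) D.alg D'.alg).trans
    (TensorProduct.congr eM eN)).trans (MonoidAlgebra.tensorEquiv (T i))
  have h1 : ∀ z, (D.prod D').chart i (LinearMap.lTensor (T i) (theta D D').toLinearMap z) = e2 z := fun z => by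
    induction z using TensorProduct.induction_on with
    | zero => simp
    | add u w hu hw => simp only [map_add, hu, hw]
    | tmul t w =>
      induction w using TensorProduct.induction_on with
      | zero => simp
      | add u w hu hw => simp only [TensorProduct.tmul_add, map_add, hu, hw]
      | tmul a b =>
        rw [LinearMap.lTensor_tmul, chart_tmul]
        show t • (D.prod D').comp' i (theta D D' (a ⊗ₜ b)) = _
        rw [comp'_theta]
        simp [e2, eM, eN, TensorProduct.AlgebraTensorModule.distribBaseChange, tensorEquiv_tmul, chart_tmul]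
  have h2 := (D.prod D').chart_bijective i
  exact ⟨fun x y hxy => e2.injective (by rw [← h1, ← h1, hxy]), fun y => by
    obtain ⟨z, hz⟩ := e2.surjective ((D.prod D').chart i y)
    exact ⟨z, h2.1 ((h1 z).trans hz)⟩⟩

include hcov in
theorem algebraMap_punit_bijective :
    Function.Bijective (algebraMap R (punit (R := R) (T := T)).alg) := by
  refine bijective_of_charts hcov (Algebra.linearMap R (punit (R := R) (T := T)).alg) fun i => ?_
  have h2 := (punit (R := R) (T := T)).chart_bijective i
  have h1 : ∀ z, (punit (R := R) (T := T)).chart i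
      (LinearMap.lTensor (T i) (Algebra.linearMap R (punit (R := R) (T := T)).alg) z) =
      MonoidAlgebra.single 1 (TensorProduct.rid R (T i) z) := fun z => by
    induction z using TensorProduct.induction_on with
    | zero => simp
    | add u w hu hw => simp only [map_add, hu, hw, MonoidAlgebra.single_add]
    | tmul t r =>
      rw [LinearMap.lTensor_tmul, chart_tmul, Algebra.linearMap_apply, AlgHom.commutes, TensorProduct.rid_tmul,
        Algebra.algebraMap_eq_smul_one, MonoidAlgebra.one_def, MonoidAlgebra.smul_single, MonoidAlgebra.smul_single]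
      simp [Algebra.smul_def, mul_comm]
  refine ⟨fun x y hxy => ?_, fun y => ?_⟩
  · have := congrArg ((punit (R := R) (T := T)).chart i) hxy
    rw [h1, h1] at this
    exact (TensorProduct.rid R (T i)).injective (by simpa using congrArg (coefL (1 : PUnit.{u+1})) this)
  · have hy : ∀ w : MonoidAlgebra (T i) PUnit.{u+1}, w = MonoidAlgebra.single 1 (coefL 1 w) := fun w =>
      ext_coef fun m => by simp [Subsingleton.elim m 1]
    obtain ⟨z, hz⟩ := (TensorProduct.rid R (T i)).surjective (coefL 1 ((punit (R := R) (T := T)).chart i y))
    exact ⟨z, h2.1 (by rw [h1, hz, ← hy])⟩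

end bijective

end GDatum

end Groth.Agent.H19Mult
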