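import Mathlib
import Groth.Agent.H9Hens.EtaleQuotLift

/-!
Etale covers lift along nil thickenings.
-/

set_option autoImplicit false
set_option linter.style.haveILetI false
set_option backward.isDefEq.respectTransparency false

universe u

open TensorProduct

namespace Groth.Agent.H19Mult

/-- A faithfully flat étale algebra over a nil thinning lifts, finiteness being preserved. -/
theorem exists_etale_lift_nil {R : Type u} [CommRing R] {R₀ : Type u} [CommRing R₀] [Algebra R R₀]
    (hg : Function.Surjective (algebraMap R R₀)) (hker : ∀ x ∈ RingHom.ker (algebraMap R R₀), IsNilpotent x)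
    (C : Type u) [CommRing C] [Algebra R₀ C] [Algebra R C] [IsScalarTower R R₀ C] [Algebra.Etale R₀ C]
    [Module.FaithfullyFlat R₀ C] :
    ∃ (S : Type u) (_ : CommRing S) (_ : Algebra R S), Algebra.Etale R S ∧ Module.FaithfullyFlat R S ∧
      (Module.Finite R₀ C → Module.Finite R S) ∧
      ∃ π : S →ₐ[R] C, Function.Surjective π ∧ (∀ x ∈ RingHom.ker π, IsNilpotent x) ∧
        RingHom.ker π ≤ (RingHom.ker (algebraMap R R₀)).map (algebraMap R S) := by
  let I := RingHom.ker (algebraMap R R₀)
  let q : (R ⧸ I) ≃+* R₀ := RingHom.quotientKerEquivOfSurjective hg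
  letI : Algebra (R ⧸ I) R₀ := q.toRingHom.toAlgebra
  letI : Algebra (R ⧸ I) C := ((algebraMap R₀ C).comp q.toRingHom).toAlgebra
  haveI : IsScalarTower (R ⧸ I) R₀ C := IsScalarTower.of_algebraMap_eq' rfl
  haveI : IsScalarTower R (R ⧸ I) C := IsScalarTower.of_algebraMap_eq fun r => by
    show algebraMap R C r = algebraMap R₀ C (q (Ideal.Quotient.mk I r))
    rw [IsScalarTower.algebraMap_apply R R₀ C]
    rfl
  haveI : Algebra.Etale (R ⧸ I) R₀ :=
    RingHom.etale_algebraMap.1 (RingHom.Etale.of_bijective (f := algebraMap (R ⧸ I) R₀) q.bijective)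
  haveI : Algebra.Etale (R ⧸ I) C := Algebra.Etale.comp (R ⧸ I) R₀ C
  obtain ⟨S, _, _, _, ⟨eC⟩⟩ := H9Hens.exists_etale_lift_quotient R I C
  let π : S →ₐ[R] C := (eC.restrictScalars R).toAlgHom.comp Algebra.TensorProduct.includeRight
  let p : S →ₐ[R] (R ⧸ I) ⊗[R] S := Algebra.TensorProduct.includeRight
  have hps : Function.Surjective p := by
    intro z
    induction z using TensorProduct.induction_on with
    | zero => exact ⟨0, map_zero _⟩
    | tmul r s =>
      obtain ⟨r, rfl⟩ := Ideal.Quotient.mk_surjective r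
      refine ⟨r • s, ?_⟩
      show (1 : R ⧸ I) ⊗ₜ[R] (r • s) = _
      rw [← TensorProduct.smul_tmul, Algebra.smul_def, mul_one]
      rfl
    | add u w hu hw =>
      obtain ⟨a, rfl⟩ := hu
      obtain ⟨b, rfl⟩ := hw
      exact ⟨a + b, map_add _ _ _⟩
  have hpk : ∀ x ∈ RingHom.ker p, IsNilpotent x := by
    intro x hx
    have h1 : x ⊗ₜ[R] (1 : R) ∈ RingHom.ker (Algebra.TensorProduct.map (AlgHom.id R S) (Ideal.Quotient.mkₐ R I)) := by
      rw [RingHom.mem_ker, Algebra.TensorProduct.map_tmul, map_one, AlgHom.id_apply]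
      exact (TensorProduct.comm R S (R ⧸ I)).injective (by rw [map_zero]; exact hx)
    rw [Algebra.TensorProduct.lTensor_ker _ (Ideal.Quotient.mkₐ_surjective R I)] at h1
    have h2 : (RingHom.ker (Ideal.Quotient.mkₐ R I)).map
        (Algebra.TensorProduct.includeRight : R →ₐ[R] S ⊗[R] R) ≤ nilradical _ :=
      Ideal.map_le_iff_le_comap.2 fun y hy =>
        mem_nilradical.2 ((hker y (Ideal.Quotient.eq_zero_iff_mem.1 hy)).map _)
    simpa using (mem_nilradical.1 (h2 h1)).map (Algebra.TensorProduct.rid R R S)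
  have hpI : ∀ x ∈ RingHom.ker p, x ∈ I.map (algebraMap R S) := by
    intro x hx
    have h1 : x ⊗ₜ[R] (1 : R) ∈ RingHom.ker (Algebra.TensorProduct.map (AlgHom.id R S) (Ideal.Quotient.mkₐ R I)) := by
      rw [RingHom.mem_ker, Algebra.TensorProduct.map_tmul, map_one, AlgHom.id_apply]
      exact (TensorProduct.comm R S (R ⧸ I)).injective (by rw [map_zero]; exact hx)
    rw [Algebra.TensorProduct.lTensor_ker _ (Ideal.Quotient.mkₐ_surjective R I)] at h1
    have h2 : (RingHom.ker (Ideal.Quotient.mkₐ R I)).map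
        (Algebra.TensorProduct.includeRight : R →ₐ[R] S ⊗[R] R) ≤
        (I.map (algebraMap R S)).comap (Algebra.TensorProduct.rid R R S).toAlgHom :=
      Ideal.map_le_iff_le_comap.2 fun y hy => by
        show Algebra.TensorProduct.rid R R S ((1 : S) ⊗ₜ[R] y) ∈ I.map (algebraMap R S)
        rw [Algebra.TensorProduct.rid_tmul, Algebra.smul_def, mul_one]
        exact Ideal.mem_map_of_mem _ (Ideal.Quotient.eq_zero_iff_mem.1 hy)
    have h3 : Algebra.TensorProduct.rid R R S (x ⊗ₜ[R] (1 : R)) ∈ I.map (algebraMap R S) := h2 h1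
    rwa [Algebra.TensorProduct.rid_tmul, one_smul] at h3
  have hπs : Function.Surjective π := eC.surjective.comp hps
  have hπk : ∀ x ∈ RingHom.ker π, IsNilpotent x := fun x hx =>
    hpk x (eC.injective (hx.trans (map_zero _).symm))
  refine ⟨S, inferInstance, inferInstance, inferInstance, ?_, fun hfin => ?_, π, hπs, hπk, fun x hx => hpI x (eC.injective (hx.trans (map_zero _).symm))⟩
  · refine Module.FaithfullyFlat.of_comap_surjective fun x => ?_
    have hIx : I ≤ x.asIdeal := fun r hr => by
      obtain ⟨n, hn⟩ := hker r hr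
      exact x.isPrime.mem_of_pow_mem n (hn ▸ zero_mem _)
    obtain ⟨y, hy⟩ : ∃ y, PrimeSpectrum.comap (algebraMap R R₀) y = x := by
      have : x ∈ Set.range (PrimeSpectrum.comap (algebraMap R R₀)) := by
        rw [range_comap_of_surjective _ _ hg]
        exact hIx
      exact this
    obtain ⟨w, hw⟩ := PrimeSpectrum.comap_surjective_of_faithfullyFlat (A := R₀) (B := C) y
    refine ⟨PrimeSpectrum.comap π.toRingHom w, ?_⟩
    rw [← hy, ← hw]
    ext r
    show π (algebraMap R S r) ∈ w.asIdeal ↔ algebraMap R₀ C (algebraMap R R₀ r) ∈ w.asIdeal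
    rw [π.commutes, IsScalarTower.algebraMap_apply R R₀ C]
  · haveI : Algebra.IsIntegral R S := ⟨fun x => by
      obtain ⟨p₀, hp₀, hp₀x⟩ := (Algebra.IsIntegral.of_finite R₀ C).isIntegral (π x)
      obtain ⟨p', hp', -, hp'm⟩ := Polynomial.lifts_and_natDegree_eq_and_monic
        ((Polynomial.lifts_iff_coeff_lifts p₀).2 fun k => hg _) hp₀
      obtain ⟨n, hn⟩ := hπk (Polynomial.aeval x p') (by
        rw [RingHom.mem_ker, ← Polynomial.aeval_algHom_apply, Polynomial.aeval_def,
          IsScalarTower.algebraMap_eq R R₀ C, ← Polynomial.eval₂_map, hp']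
        exact hp₀x)
      exact ⟨p' ^ n, hp'm.pow n, by rw [← Polynomial.aeval_def, map_pow, hn]⟩⟩
    exact Algebra.IsIntegral.finite

end Groth.Agent.H19Mult
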