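import Groth.Agent.H19Mult.AdicDescent
import Groth.Agent.H19Mult.LiftDiag

/-!
Homomorphisms between finite groups of multiplicative type: rigidity modulo the Jacobson radical,
lifting from a point over which both are split, and descent.
-/

set_option autoImplicit false
set_option linter.style.haveILetI false
set_option backward.isDefEq.respectTransparency false

universe u

open TensorProduct WithConv Coalgebra

namespace Groth.Agent.H19Mult

variable {R : Type u} [CommRing R] {C : Type u} [CommRing C] [HopfAlgebra R C]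

/-- Rigidity modulo the Jacobson radical for a finite source. -/
theorem IsHomD.eq_of_jacobson [Module.Finite R C] {T : Type u} [CommRing T] [Algebra R T] {M : Type u} [CommGroup M]
    {F G : C →ₐ[R] MonoidAlgebra T M} (hF : IsHomD F) (hG : IsHomD G)
    (hcomm : CommConv R C T) {J : Ideal T} (hJ : J ≤ Ideal.jacobson ⊥)
    (h : ∀ m c, coefL m (F c) - coefL m (G c) ∈ J) : F = G := by
  classical
  refine AlgHom.ext fun c => ext_coef fun m => sub_eq_zero.1 ?_
  set a := cc F m
  set b := cc G m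
  have hcube : a - b = (a - b) * ((a - b) * (a - b)) := by
    have h1 : a * a = a := hF.idem m
    have h2 : b * b = b := hG.idem m
    have hc : a * b = b * a := hcomm a b
    simp only [sub_mul, mul_sub]
    rw [h1, h2, ← hc]
    simp only [← mul_assoc, h1]
    rw [show b * a * b = a * b by rw [← hc, mul_assoc, h2], h2]
    abel
  obtain ⟨s, hs⟩ := Module.Finite.fg_top (R := R) (M := C)
  let D : Ideal T := Ideal.span (Set.range fun x : {x // x ∈ s} => (a - b).ofConv x.1)
  have hD : ∀ z, (a - b).ofConv z ∈ D := by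
    intro z
    have hz : z ∈ Submodule.span R (s : Set C) := by rw [hs]; trivial
    induction hz using Submodule.span_induction with
    | mem x hx => exact Ideal.subset_span ⟨⟨x, hx⟩, rfl⟩
    | zero => simp
    | add u v _ _ hu hv => rw [map_add]; exact add_mem hu hv
    | smul r u _ hu => rw [map_smul, Algebra.smul_def]; exact Ideal.mul_mem_left _ _ hu
  have hDJ : D ≤ J := Ideal.span_le.2 (by rintro _ ⟨x, rfl⟩; exact h m x.1)
  have hD3 : D ≤ D * (D * D) := Ideal.span_le.2 (by
    rintro _ ⟨x, rfl⟩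
    show (a - b).ofConv x.1 ∈ _
    rw [hcube]
    exact convMul_mem _ _ hD (convMul_mem _ _ hD hD) x.1)
  have hD0 : D = ⊥ := by
    refine Submodule.eq_bot_of_le_smul_of_le_jacobson_bot J D (Submodule.fg_span (Set.finite_range _)) ?_ hJ
    refine hD3.trans ?_
    rw [Ideal.smul_eq_mul]
    exact Ideal.mul_mono hDJ Ideal.mul_le_left
  have hc := hD c
  rw [hD0, Ideal.mem_bot] at hc
  exact hc

/-- Homomorphisms from a split group lift from a domain quotient. -/
theorem exists_lift_split {T : Type u} [CommRing T] [Algebra R T] {N M : Type u} [CommGroup N] [CommGroup M]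
    (eC : (T ⊗[R] C) ≃ₐc[T] MonoidAlgebra T N) {T₀ : Type u} [CommRing T₀] [IsDomain T₀] [Algebra R T₀]
    [Algebra T T₀] [IsScalarTower R T T₀] (F₀ : C →ₐ[R] MonoidAlgebra T₀ M) (hF₀ : IsHomD F₀) :
    ∃ G : C →ₐ[R] MonoidAlgebra T M, IsHomD G ∧
      ∀ c m, algebraMap T T₀ (coefL m (G c)) = coefL m (F₀ c) := by
  classical
  obtain ⟨Φ₀, hΦ₀⟩ := hF₀.exists_bialgHom
  obtain ⟨e₀, he₀⟩ := exists_chart_map eC T₀
  let ρ : MonoidAlgebra T₀ N →ₐc[T₀] MonoidAlgebra T₀ M :=
    Φ₀.comp (e₀.symm : MonoidAlgebra T₀ N →ₐc[T₀] T₀ ⊗[R] C)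
  have hρ : ∀ ν, ∃ μ : M, MonoidAlgebra.single μ 1 = ρ (MonoidAlgebra.single ν 1) := fun ν =>
    MonoidAlgebra.isGroupLikeElem_iff_mem_range_single_one.1
      ((MonoidAlgebra.isGroupLikeElem_single_one ν).map ρ)
  choose μ hμ using hρ
  let μh : N →* M :=
    { toFun := μ
      map_one' := by
        have h1 : MonoidAlgebra.single (μ 1) (1 : T₀) = MonoidAlgebra.single 1 1 := by
          rw [hμ, ← MonoidAlgebra.one_def, map_one, MonoidAlgebra.one_def]
        exact MonoidAlgebra.of_injective h1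
      map_mul' := fun x y => by
        refine MonoidAlgebra.of_injective (R := T₀) ?_
        show MonoidAlgebra.single (μ (x * y)) (1 : T₀) = MonoidAlgebra.single (μ x * μ y) 1
        rw [hμ, show MonoidAlgebra.single (x * y) (1 : T₀) =
          MonoidAlgebra.single x 1 * MonoidAlgebra.single y 1 by rw [MonoidAlgebra.single_mul_single, mul_one],
          map_mul, ← hμ, ← hμ, MonoidAlgebra.single_mul_single, mul_one] }
  let Ψ : (T ⊗[R] C) →ₐc[T] MonoidAlgebra T M :=
    (MonoidAlgebra.mapDomainBialgHom T μh).comp (eC : (T ⊗[R] C) →ₐc[T] MonoidAlgebra T N)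
  refine ⟨restr Ψ, isHomD_restr Ψ, fun c m => ?_⟩
  have key : ∀ x : MonoidAlgebra T N, MonoidAlgebra.mapRingHom M (algebraMap T T₀)
      (MonoidAlgebra.mapDomainBialgHom T μh x) = ρ (MonoidAlgebra.mapRingHom N (algebraMap T T₀) x) := by
    intro x
    induction x using MonoidAlgebra.induction_linear with
    | zero => simp
    | add u w hu hw => simp only [map_add, hu, hw]
    | single ν r =>
      rw [MonoidAlgebra.mapDomainBialgHom_single, MonoidAlgebra.mapRingHom_single, MonoidAlgebra.mapRingHom_single,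
        show MonoidAlgebra.single ν (algebraMap T T₀ r) = algebraMap T T₀ r • MonoidAlgebra.single ν (1 : T₀) by rw [MonoidAlgebra.smul_single', mul_one],
        map_smul, ← hμ]
      rw [MonoidAlgebra.smul_single', mul_one]
      rfl
  show algebraMap T T₀ (coefL m (MonoidAlgebra.mapDomainBialgHom T μh (eC ((1 : T) ⊗ₜ[R] c)))) = _
  rw [← coefL_mapRingHom (algebraMap T T₀), key,
    show MonoidAlgebra.mapRingHom N (algebraMap T T₀) (eC ((1 : T) ⊗ₜ[R] c)) = e₀ ((1 : T₀) ⊗ₜ[R] c) from
      ext_coef fun n => by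
        have h1 := he₀ ((1 : T) ⊗ₜ[R] c) n
        rw [mapA_tmul, map_one] at h1
        rw [h1, coefL_mapRingHom]]
  show coefL m (Φ₀ (e₀.symm (e₀ ((1 : T₀) ⊗ₜ[R] c)))) = _
  rw [BialgEquiv.symm_apply_apply, hΦ₀, one_smul]

/-- Faithfully flat descent of homomorphisms. -/
theorem exists_hom_of_desc {B : Type u} [CommRing B] [HopfAlgebra R B] {T : Type u} [CommRing T] [Algebra R T]
    [Module.FaithfullyFlat R T] (G : (T ⊗[R] C) →ₐc[T] T ⊗[R] B)
    (hagree : ∀ c, mapA (A := B) (Algebra.TensorProduct.includeLeft : T →ₐ[R] T ⊗[R] T) (G ((1 : T) ⊗ₜ[R] c)) =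
      mapA (A := B) (Algebra.TensorProduct.includeRight : T →ₐ[R] T ⊗[R] T) (G ((1 : T) ⊗ₜ[R] c))) :
    ∃ φ : C →ₐc[R] B, ∀ c, (1 : T) ⊗ₜ[R] φ c = G ((1 : T) ⊗ₜ[R] c) := by
  let x : C → T ⊗[R] B := fun c => G ((1 : T) ⊗ₜ[R] c)
  have hinj := Module.FaithfullyFlat.tensorProduct_mk_injective (A := R) (B := T) B
  have hdesc : ∀ c, ∃ y : B, (1 : T) ⊗ₜ[R] y = x c := fun c => by
    refine S1156.result R T B (x c) ?_
    have hl : ∀ w : T ⊗[R] B, Algebra.TensorProduct.assoc R R R T T B
        (mapA (A := B) (Algebra.TensorProduct.includeLeft : T →ₐ[R] T ⊗[R] T) w) =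
        LinearMap.lTensor T (TensorProduct.mk R T B 1) w := fun w => by
      induction w using TensorProduct.induction_on with
      | zero => simp
      | tmul t y => simp
      | add u v hu hv => simp only [map_add, hu, hv]
    have hr : ∀ w : T ⊗[R] B, Algebra.TensorProduct.assoc R R R T T B
        (mapA (A := B) (Algebra.TensorProduct.includeRight : T →ₐ[R] T ⊗[R] T) w) =
        TensorProduct.mk R T (T ⊗[R] B) 1 w := fun w => by
      induction w using TensorProduct.induction_on with
      | zero => simp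
      | tmul t y => simp
      | add u v hu hv => simp only [map_add, hu, hv]
    rw [← hr, ← hl, hagree]
  choose y hy using hdesc
  let j : B →ₐ[R] T ⊗[R] B := Algebra.TensorProduct.includeRight
  let xh : C →ₐ[R] T ⊗[R] B := ((G : (T ⊗[R] C) →ₐ[T] T ⊗[R] B).restrictScalars R).comp
    Algebra.TensorProduct.includeRight
  have hj : ∀ c, j (y c) = xh c := hy
  let ψ : C →ₐ[R] B :=
    { toFun := y
      map_one' := hinj (show j (y 1) = j 1 by rw [hj, map_one, map_one])
      map_mul' := fun a b => hinj (show j (y (a * b)) = j (y a * y b) by rw [hj, map_mul, map_mul, hj, hj])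
      map_zero' := hinj (show j (y 0) = j 0 by rw [hj, map_zero, map_zero])
      map_add' := fun a b => hinj (show j (y (a + b)) = j (y a + y b) by rw [hj, map_add, map_add, hj, hj])
      commutes' := fun r => hinj (show j (y (algebraMap R C r)) = j (algebraMap R B r) by
        rw [hj, AlgHom.commutes, AlgHom.commutes]) }
  refine ⟨BialgHom.ofAlgHom ψ ?_ ?_, fun c => hy c⟩
  · refine AlgHom.ext fun c => FaithfulSMul.algebraMap_injective R T ?_
    show algebraMap R T (counit (R := R) (y c)) = algebraMap R T (counit (R := R) c)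
    have h1 := CoalgHomClass.counit_comp_apply G ((1 : T) ⊗ₜ[R] c)
    rw [show G ((1 : T) ⊗ₜ[R] c) = (1 : T) ⊗ₜ[R] y c from (hy c).symm] at h1
    simpa [TensorProduct.counit_tmul, Algebra.smul_def] using h1
  · refine AlgHom.ext fun c => Module.FaithfullyFlat.tensorProduct_mk_injective (A := R) (B := T) (B ⊗[R] B) ?_
    show (1 : T) ⊗ₜ[R] (Algebra.TensorProduct.map ψ ψ (comul (R := R) c)) = (1 : T) ⊗ₜ[R] comul (R := R) (y c)
    have h1 : (1 : T) ⊗ₜ[R] comul (R := R) (y c) = comulT T (G ((1 : T) ⊗ₜ[R] c)) := by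
      rw [show G ((1 : T) ⊗ₜ[R] c) = (1 : T) ⊗ₜ[R] y c from (hy c).symm]
      rfl
    rw [h1, ← psi_comul, ← CoalgHomClass.map_comp_comul_apply G ((1 : T) ⊗ₜ[R] c)]
    simp only [TensorProduct.comul_tmul, CommSemiring.comul_apply]
    generalize CoalgebraStruct.comul (R := R) c = z
    induction z using TensorProduct.induction_on with
    | zero => simp
    | add u w hu hw => simp only [TensorProduct.tmul_add, map_add, hu, hw]
    | tmul p q =>
      simp only [Algebra.TensorProduct.map_tmul, TensorProduct.AlgebraTensorModule.tensorTensorTensorComm_tmul,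
        TensorProduct.map_tmul]
      show (1 : T) ⊗ₜ[R] (y p ⊗ₜ[R] y q) = psi T (G ((1 : T) ⊗ₜ[R] p) ⊗ₜ[T] G ((1 : T) ⊗ₜ[R] q))
      rw [psi_tmul, show G ((1 : T) ⊗ₜ[R] p) = (1 : T) ⊗ₜ[R] y p from (hy p).symm,
        show G ((1 : T) ⊗ₜ[R] q) = (1 : T) ⊗ₜ[R] y q from (hy q).symm]
      simp [inl2, inr2]

end Groth.Agent.H19Mult
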