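import Groth.Agent.H19Mult.QuasiIso
import Groth.Agent.H19Mult.LocalCriterion

/-!
Spreading of the local criteria for multiplicative type to an arbitrary base.
-/

set_option autoImplicit false
set_option linter.style.haveILetI false
set_option backward.isDefEq.respectTransparency false

universe u

open TensorProduct IsLocalRing

namespace Groth.Agent.H19Mult

variable {R : Type u} [CommRing R] {A : Type u} [CommRing A] [HopfAlgebra R A]

/-- A flat finitely presented group of multiplicative type over the local ring at a point is diagonalised by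
an étale neighbourhood. -/
theorem exists_etale_chart_of_atPrime [Module.Flat R A] (hfp : Algebra.FinitePresentation R A) (p : PrimeSpectrum R)
    (h : SGA3b.IsMultType (Localization.AtPrime p.asIdeal) (Localization.AtPrime p.asIdeal ⊗[R] A)) :
    ∃ (S : Type u) (_ : CommRing S) (_ : Algebra R S), Algebra.Etale R S ∧
      p ∈ Set.range (PrimeSpectrum.comap (algebraMap R S)) ∧ SGA3b.IsDiag S (S ⊗[R] A) := by
  haveI hft : Algebra.FiniteType R A := inferInstance
  classical
  let K := p.asIdeal.ResidueField
  obtain ⟨k, _, _, hk⟩ : ∃ (k : Type u) (_ : Field k) (_ : Algebra K k), IsSepClosure K k :=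
    ⟨SeparableClosure K, inferInstance, inferInstance, inferInstance⟩
  haveI : IsSepClosed k := hk.sep_closed
  haveI : Algebra.IsSeparable K k := hk.separable
  letI : Algebra R k := ((algebraMap K k).comp (algebraMap R K)).toAlgebra
  haveI : IsScalarTower R K k := IsScalarTower.of_algebraMap_eq fun _ => rfl
  obtain ⟨H, _, _, π, hπ⟩ := H9Hens.exists_isPtColim R k
  haveI := hπ.isLocalRing
  haveI := hπ.henselianLocalRing
  have hu : ∀ y : p.asIdeal.primeCompl, IsUnit (algebraMap R H y) := fun y => hπ.isUnit_iff_ne_zero.mpr fun h0 => y.2 (by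
    rw [π.commutes, IsScalarTower.algebraMap_apply R K k, map_eq_zero_iff _ (algebraMap K k).injective,
      Ideal.algebraMap_residueField_eq_zero] at h0
    exact h0)
  letI : Algebra (Localization.AtPrime p.asIdeal) H :=
    (IsLocalization.lift (M := p.asIdeal.primeCompl) (g := algebraMap R H) hu).toAlgebra
  haveI : IsScalarTower R (Localization.AtPrime p.asIdeal) H :=
    IsScalarTower.of_algebraMap_eq fun r => (IsLocalization.lift_eq hu r).symm
  letI : Algebra (Localization.AtPrime p.asIdeal) k :=
    (π.toRingHom.comp (algebraMap (Localization.AtPrime p.asIdeal) H)).toAlgebra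
  haveI : IsScalarTower R (Localization.AtPrime p.asIdeal) k := IsScalarTower.of_algebraMap_eq fun r => by
    show algebraMap R k r = π (algebraMap (Localization.AtPrime p.asIdeal) H (algebraMap R _ r))
    rw [← IsScalarTower.algebraMap_apply, π.commutes]
  have hπs : Function.Surjective π := surjective_of_isPtColim p.asIdeal hπ
  let F := ResidueField H
  obtain ⟨k', _, _, hfin, hsep, M, _, hM, ⟨e⟩⟩ := exists_split_separable
    (A := k ⊗[R] A) inferInstance (isMultType_trans (R := R) (C := A) (Localization.AtPrime p.asIdeal) h k)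
  haveI := hsep
  have hk' : Function.Bijective (algebraMap k k') :=
    ⟨(algebraMap k k').injective, IsSepClosed.algebraMap_surjective k k'⟩
  letI : Algebra R k' := ((algebraMap k k').comp (algebraMap R k)).toAlgebra
  haveI : IsScalarTower R k k' := IsScalarTower.of_algebraMap_eq fun _ => rfl
  let e' := (cancelEquiv (R := R) (A := A) k k').symm.trans e
  let g : F →+* k := Ideal.Quotient.lift (maximalIdeal H) π.toRingHom fun x hx => by
    rw [hπ.maximalIdeal_eq] at hx; exact hx
  have hgs : Function.Surjective g := fun y => (hπs y).elim fun x hx => ⟨residue H x, hx⟩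
  let eg : F ≃+* k := RingEquiv.ofBijective g ⟨g.injective, hgs⟩
  let rk : k →+* F := eg.symm.toRingHom
  have hrk : ∀ x, rk (π x) = residue H x := fun x => eg.symm_apply_apply (residue H x)
  let kk : k' →+* k := (RingEquiv.ofBijective (algebraMap k k') hk').symm.toRingHom
  letI : Algebra k' F := (rk.comp kk).toAlgebra
  haveI : IsScalarTower R k' F := IsScalarTower.of_algebraMap_eq fun r => by
    show algebraMap R F r = rk (kk (algebraMap k k' (algebraMap R k r)))
    rw [show kk (algebraMap k k' (algebraMap R k r)) = algebraMap R k r from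
      RingEquiv.symm_apply_apply (RingEquiv.ofBijective (algebraMap k k') hk') _, ← π.commutes, hrk]
    rfl
  obtain ⟨eF⟩ := isDiag_baseChange e' F
  obtain ⟨N, _, ⟨eH⟩⟩ := isDiag_of_henselian (R := H) (A := H ⊗[R] A) inferInstance (isMultType_trans (R := R) (C := A) (Localization.AtPrime p.asIdeal) h H)
    ((isDiag_cancel (R := R) (A := A) H F).2 ⟨M, inferInstance, ⟨eF⟩⟩)
  haveI : Monoid.FG N := MonoidAlgebra.finiteType_iff_fg.1
    (Algebra.FiniteType.equiv (inferInstance : Algebra.FiniteType H (H ⊗[R] A))
      (AlgEquivClass.toAlgEquiv eH : H ⊗[R] A ≃ₐ[H] _))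
  obtain ⟨S, _, _, hS, σ, hd⟩ := exists_etale_isDiag_of_colim hfp hπ
    ⟨N, inferInstance, Group.fg_iff_monoid_fg.2 ‹_›, ⟨eH⟩⟩
  refine ⟨S, inferInstance, inferInstance, hS, ⟨⟨RingHom.ker (π.comp σ).toRingHom, RingHom.ker_isPrime _⟩,
    PrimeSpectrum.ext ?_⟩, hd⟩
  show Ideal.comap (algebraMap R S) (RingHom.ker (π.comp σ).toRingHom) = p.asIdeal
  rw [RingHom.comap_ker, show (π.comp σ).toRingHom.comp (algebraMap R S) = algebraMap R k from (π.comp σ).comp_algebraMap,
    IsScalarTower.algebraMap_eq R K k,
    RingHom.ker_comp_of_injective _ (algebraMap K k).injective, Ideal.ker_algebraMap_residueField]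

/-- Multiplicative type may be checked at the local rings for flat finitely presented groups. -/
theorem isMultType_of_atPrime [Module.Flat R A] (hfp : Algebra.FinitePresentation R A)
    (h : ∀ p : PrimeSpectrum R,
      SGA3b.IsMultType (Localization.AtPrime p.asIdeal) (Localization.AtPrime p.asIdeal ⊗[R] A)) :
    SGA3b.IsMultType R A := by
  classical
  choose S iC iA hS hp hd using fun p => exists_etale_chart_of_atPrime hfp p (h p)
  have hopen : ∀ p, IsOpen (Set.range (PrimeSpectrum.comap (algebraMap R (S p)))) := fun p => by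
    haveI := hS p
    exact (PrimeSpectrum.isOpenMap_comap_of_hasGoingDown_of_finitePresentation (R := R) (S := S p)).isOpen_range
  obtain ⟨t, ht⟩ := isCompact_univ.elim_finite_subcover _ hopen fun q _ => Set.mem_iUnion.2 ⟨q, hp q⟩
  let ι := {p // p ∈ t}
  let e := (Fintype.equivFin ι).symm
  haveI : ∀ i, Module.Flat R (S (e i).1) := fun i => by
    haveI := hS (e i).1
    infer_instance
  refine isMultType_of_charts (fun i => S (e i).1) (fun q => ?_) fun i => hd _
  obtain ⟨p, hpt, hq⟩ := Set.mem_iUnion₂.1 (ht (Set.mem_univ q))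
  refine ⟨e.symm ⟨p, hpt⟩, ?_⟩
  rw [Equiv.apply_symm_apply]
  exact hq

end Groth.Agent.H19Mult

namespace Groth.Agent.H19Mult.LocalCriterion

variable {R : Type u} [CommRing R] {C : Type u} [CommRing C] [HopfAlgebra R C]

/-- The fibre hypotheses of the local criteria at a local ring of the base. -/
theorem local_hyps [Module.Flat R C] (p : Ideal R) [p.IsPrime]
    (hs : SGA3b.IsMultType p.ResidueField (p.ResidueField ⊗[R] C)) :
    (∀ (q : Ideal (Localization.AtPrime p ⊗[R] C)) [q.IsPrime],
      Module.Flat (Localization.AtPrime p) (Localization.AtPrime q)) ∧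
    SGA3b.IsMultType (IsLocalRing.ResidueField (Localization.AtPrime p))
      (IsLocalRing.ResidueField (Localization.AtPrime p) ⊗[Localization.AtPrime p] (Localization.AtPrime p ⊗[R] C)) :=
  ⟨fun q _ => Module.Flat.trans (Localization.AtPrime p) (Localization.AtPrime p ⊗[R] C) (Localization.AtPrime q),
    LocalDescent.isMultType_congr (cancelEquiv (R := R) (A := C) (Localization.AtPrime p) p.ResidueField) hs⟩

/-- A flat finitely presented group with connected fibres of multiplicative type is of multiplicative type. -/
theorem isMultType_of_connected_fibres [Module.Flat R C] (hfp : Algebra.FinitePresentation R C)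
    (hfib : ∀ (p : Ideal R) [p.IsPrime], SGA3b.IsMultType p.ResidueField (p.ResidueField ⊗[R] C) ∧
      ConnectedSpace (PrimeSpectrum (p.ResidueField ⊗[R] C))) :
    SGA3b.IsMultType R C := by
  haveI := hfp
  refine isMultType_of_atPrime hfp fun ⟨p, hp⟩ => ?_
  haveI := hp
  let L := Localization.AtPrime p
  obtain ⟨h₁, h₂⟩ := local_hyps p (hfib p).1
  obtain ⟨T, _, _, -, hff, e, M, _, φ, he, -, hsurj, hker⟩ :=
    exists_local_idem_chart L (L ⊗[R] C) (fun q _ _ => h₁ q) h₂
  haveI := hff
  refine isMultType_of_idem_zero φ hsurj hker ?_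
  letI : Algebra R T := ((algebraMap L T).comp (algebraMap R L)).toAlgebra
  haveI : IsScalarTower R L T := IsScalarTower.of_algebraMap_eq' rfl
  let E := cancelEquiv (R := R) (A := C) L T
  have hφe : φ e = 0 := RingHom.mem_ker.1 (hker ▸ Ideal.mem_span_singleton_self e)
  have hε : Coalgebra.counit (R := T) (E e) = 0 := by
    rw [CoalgHomClass.counit_comp_apply, ← CoalgHomClass.counit_comp_apply φ e, hφe, map_zero]
  refine EquivLike.injective E ((idem_eq_zero_of_connected_base (fun q _ => (hfib q).2) (E e)
    (he.map E) hε).trans (map_zero E).symm)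

/-- A flat finitely presented group with fibres of multiplicative type and finite torsion is of multiplicative type. -/
theorem isMultType_of_torsion_finite [Coalgebra.IsCocomm R C] [Module.Flat R C] (hfp : Algebra.FinitePresentation R C)
    (hfib : ∀ (p : Ideal R) [p.IsPrime], SGA3b.IsMultType p.ResidueField (p.ResidueField ⊗[R] C))
    (hfin : ∀ n : ℕ, 0 < n → Module.Finite R (C ⧸ SGA3b.torsionIdeal R C n)) :
    SGA3b.IsMultType R C := by
  haveI := hfp
  refine isMultType_of_atPrime hfp fun ⟨p, hp⟩ => ?_
  haveI := hp
  obtain ⟨h₁, h₂⟩ := local_hyps p (hfib p)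
  refine isMultType_local_torsion (Localization.AtPrime p) (Localization.AtPrime p ⊗[R] C) (fun q _ _ => h₁ q) h₂
    fun n hn => ?_
  haveI := hfin n hn
  exact finite_torsion_baseChange (Localization.AtPrime p) n

end Groth.Agent.H19Mult.LocalCriterion
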