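import Groth.Agent.H19Mult.Lift
import Groth.Agent.H19Mult.LiftDiag
import Groth.Agent.H19Mult.BaseChange

/-!
Homomorphisms into diagonalisable groups as algebra maps `C → T[M]` whose coefficients are
orthogonal idempotent functionals.
-/

set_option autoImplicit false
set_option linter.style.haveILetI false
set_option backward.isDefEq.respectTransparency false

universe u

open TensorProduct WithConv Coalgebra

namespace Groth.Agent.H19Mult

variable {R : Type u} [CommRing R] {C : Type u} [CommRing C] [HopfAlgebra R C]

section Def

variable {T : Type u} [CommRing T] [Algebra R T] {M : Type u} [CommGroup M]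

/-- The coefficient functional of an algebra map into `T[M]`. -/
noncomputable def cc (F : C →ₐ[R] MonoidAlgebra T M) (m : M) : WithConv (C →ₗ[R] T) :=
  toConv ((coefL m).restrictScalars R ∘ₗ F.toLinearMap)

theorem cc_apply (F : C →ₐ[R] MonoidAlgebra T M) (m : M) (c : C) : (cc F m).ofConv c = coefL m (F c) := rfl

/-- An algebra map into `T[M]` coming from a homomorphism over `T`. -/
structure IsHomD (F : C →ₐ[R] MonoidAlgebra T M) : Prop where
  idem : ∀ m, cc F m * cc F m = cc F m
  ortho : ∀ a b, a ≠ b → cc F a * cc F b = 0
  counit_eq : ∀ c, counit (R := T) (F c) = algebraMap R T (counit c)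

/-- The coefficientwise push of an algebra map into `T[M]`. -/
noncomputable def push {T' : Type u} [CommRing T'] [Algebra R T'] (g : T →ₐ[R] T')
    (F : C →ₐ[R] MonoidAlgebra T M) : C →ₐ[R] MonoidAlgebra T' M :=
  { (MonoidAlgebra.mapRingHom M g.toRingHom).comp F.toRingHom with
    commutes' := fun r => by
      show MonoidAlgebra.mapRingHom M g.toRingHom (F (algebraMap R C r)) = _
      rw [AlgHom.commutes, IsScalarTower.algebraMap_apply R T (MonoidAlgebra T M),
        IsScalarTower.algebraMap_apply R T' (MonoidAlgebra T' M)]
      simp [MonoidAlgebra.coe_algebraMap] }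

theorem coefL_push {T' : Type u} [CommRing T'] [Algebra R T'] (g : T →ₐ[R] T')
    (F : C →ₐ[R] MonoidAlgebra T M) (m : M) (c : C) : coefL m (push g F c) = g (coefL m (F c)) :=
  coefL_mapRingHom g.toRingHom (F c) m

theorem cc_push {T' : Type u} [CommRing T'] [Algebra R T'] (g : T →ₐ[R] T')
    (F : C →ₐ[R] MonoidAlgebra T M) (m : M) :
    cc (push g F) m = toConv (g.toLinearMap ∘ₗ (cc F m).ofConv) :=
  WithConv.ofConv_injective (LinearMap.ext fun c => coefL_push g F m c)

theorem IsHomD.push {T' : Type u} [CommRing T'] [Algebra R T'] (g : T →ₐ[R] T')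
    {F : C →ₐ[R] MonoidAlgebra T M} (hF : IsHomD F) : IsHomD (push g F) where
  idem m := by
    rw [cc_push]
    refine WithConv.ofConv_injective ?_
    rw [← LinearMap.algHom_comp_convMul_distrib, hF.idem]
  ortho a b hab := by
    rw [cc_push, cc_push]
    refine WithConv.ofConv_injective ?_
    rw [← LinearMap.algHom_comp_convMul_distrib, hF.ortho a b hab]
    exact LinearMap.comp_zero _
  counit_eq c := by
    show counit (R := T') (MonoidAlgebra.mapRingHom M g.toRingHom (F c)) = _
    rw [← g.commutes, ← hF.counit_eq]
    generalize F c = y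
    induction y using MonoidAlgebra.induction_linear with
    | zero => simp
    | add u v hu hv => simp only [map_add, hu, hv]
    | single m r => simp

/-- Convolution of functionals is commutative. -/
def CommConv (R C : Type u) [CommRing R] [CommRing C] [HopfAlgebra R C] (T : Type u) [CommRing T] [Algebra R T] :
    Prop :=
  ∀ f g : WithConv (C →ₗ[R] T), f * g = g * f

/-- Rigidity: two homomorphisms agreeing modulo a nilpotent ideal agree. -/
theorem IsHomD.eq_of_sub_mem {F G : C →ₐ[R] MonoidAlgebra T M} (hF : IsHomD F) (hG : IsHomD G)
    (hcomm : CommConv R C T) {J : Ideal T} (hJ : IsNilpotent J)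
    (h : ∀ m c, coefL m (F c) - coefL m (G c) ∈ J) : F = G := by
  refine AlgHom.ext fun c => ext_coef fun m => sub_eq_zero.1 ?_
  set a := cc F m
  set b := cc G m
  have h0 : ∀ z, (a - b).ofConv z ∈ J := fun z => h m z
  have hcube : a - b = (a - b) * ((a - b) * (a - b)) := by
    have h1 : a * a = a := hF.idem m
    have h2 : b * b = b := hG.idem m
    have hc : a * b = b * a := hcomm a b
    simp only [sub_mul, mul_sub]
    rw [h1, h2, ← hc]
    simp only [← mul_assoc, h1]
    rw [show b * a * b = a * b by rw [← hc, mul_assoc, h2], h2]
    abel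
  obtain ⟨N, hN⟩ := hJ
  have hpow : ∀ (j : ℕ) z, (a - b).ofConv z ∈ J ^ (j + 1) := by
    intro j
    induction j with
    | zero => simpa using h0
    | succ j ih =>
      intro z
      rw [hcube]
      refine (show J ^ (j + 1) * (J * J) ≤ J ^ (j + 2) from ?_) (convMul_mem _ _ ih (convMul_mem _ _ h0 h0) z)
      rw [pow_succ J (j + 1)]
      exact Ideal.mul_mono_right Ideal.mul_le_right
  have := Ideal.pow_le_pow_right (Nat.le_succ N) (hpow N c)
  rw [hN, Ideal.zero_eq_bot, Ideal.mem_bot] at this
  exact this

theorem pair_ext {S : Type u} [CommRing S] (z w : MonoidAlgebra S M ⊗[S] MonoidAlgebra S M)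
    (h : ∀ a b, LinearMap.mul' S S (TensorProduct.map (coefL a) (coefL b) z) =
      LinearMap.mul' S S (TensorProduct.map (coefL a) (coefL b) w)) : z = w := by
  classical
  let bM : Module.Basis M S (MonoidAlgebra S M) := .ofRepr (MonoidAlgebra.coeffLinearEquiv S)
  have key : ∀ z p, (bM.tensorProduct bM).repr z p =
      LinearMap.mul' S S (TensorProduct.map (coefL p.1) (coefL p.2) z) := by
    intro z p
    induction z using TensorProduct.induction_on with
    | zero => simp
    | tmul x y =>
      obtain ⟨a, b⟩ := p
      rw [Module.Basis.tensorProduct_repr_tmul_apply]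
      simp [bM, coefL, mul_comm]
    | add u v hu hv => simp only [map_add, Finsupp.add_apply, hu, hv]
  exact (bM.tensorProduct bM).repr.injective (Finsupp.ext fun p => by rw [key, key, h])

/-- Functionals on `C` as functionals on `T ⊗ C`. -/
noncomputable def extL (f : WithConv (C →ₗ[R] T)) : WithConv ((T ⊗[R] C) →ₗ[T] T) :=
  toConv (TensorProduct.AlgebraTensorModule.lift
    { toFun := fun t => t • f.ofConv
      map_add' := fun a b => add_smul a b _
      map_smul' := fun a b => by simp [smul_smul] })

theorem extL_tmul (f : WithConv (C →ₗ[R] T)) (t : T) (c : C) : (extL f).ofConv (t ⊗ₜ c) = t * f.ofConv c := by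
  simp [extL]

theorem extL_mul (f g : WithConv (C →ₗ[R] T)) : extL (f * g) = extL f * extL g := by
  refine WithConv.ofConv_injective (LinearMap.ext fun z => ?_)
  induction z using TensorProduct.induction_on with
  | zero => simp
  | add u v hu hv => simp only [map_add, hu, hv]
  | tmul t c =>
    rw [extL_tmul, LinearMap.convMul_def, LinearMap.convMul_def]
    show t * LinearMap.mul' R T (TensorProduct.map f.ofConv g.ofConv (comul c)) =
      LinearMap.mul' T T (TensorProduct.map (extL f).ofConv (extL g).ofConv (comul (t ⊗ₜ[R] c)))
    simp only [TensorProduct.comul_tmul, CommSemiring.comul_apply]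
    generalize CoalgebraStruct.comul (R := R) c = z
    induction z using TensorProduct.induction_on with
    | zero => simp
    | tmul p q => simp [extL_tmul]; ring
    | add u w hu hw => simp only [TensorProduct.tmul_add, map_add, mul_add, hu, hw]

/-- The homomorphism over `T` of an algebra map into `T[M]`. -/
theorem IsHomD.exists_bialgHom {F : C →ₐ[R] MonoidAlgebra T M} (hF : IsHomD F) :
    ∃ Φ : (T ⊗[R] C) →ₐc[T] MonoidAlgebra T M, ∀ t c, Φ (t ⊗ₜ[R] c) = t • F c := by
  classical
  let L : (T ⊗[R] C) →ₐ[T] MonoidAlgebra T M :=
    Algebra.TensorProduct.lift (Algebra.ofId T _) F fun _ _ => Commute.all _ _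
  have hL : ∀ t c, L (t ⊗ₜ[R] c) = t • F c := fun t c => by simp [L, Algebra.smul_def]
  have hcoef : ∀ m z, coefL m (L z) = (extL (cc F m)).ofConv z := by
    intro m z
    induction z using TensorProduct.induction_on with
    | zero => simp
    | add u v hu hv => simp only [map_add, hu, hv]
    | tmul t c => rw [hL, map_smul, extL_tmul, smul_eq_mul]; rfl
  refine ⟨BialgHom.ofAlgHom L ?_ ?_, hL⟩
  · refine AlgHom.ext fun z => ?_
    show counit (R := T) (L z) = counit (R := T) z
    induction z using TensorProduct.induction_on with
    | zero => simp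
    | add u v hu hv => simp only [map_add, hu, hv]
    | tmul t c =>
      rw [hL, map_smul, hF.counit_eq, TensorProduct.counit_tmul, CommSemiring.counit_apply]
      simp [Algebra.smul_def, mul_comm]
  · refine AlgHom.ext fun z => pair_ext _ _ fun a b => ?_
    have hcm : ∀ x : MonoidAlgebra T M, LinearMap.mul' T T (TensorProduct.map (coefL a) (coefL b)
        (CoalgebraStruct.comul (R := T) x)) = if a = b then coefL a x else 0 := by
      intro x
      induction x using MonoidAlgebra.induction_linear with
      | zero => simp
      | add u w hu hw =>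
        simp only [map_add, hu, hw]
        split <;> simp
      | single x r =>
        rw [MonoidAlgebra.comul_single, CommSemiring.comul_apply]
        simp only [TensorProduct.map_tmul, MonoidAlgebra.lsingle_apply, coefL_single, LinearMap.mul'_apply]
        by_cases h1 : x = a <;> by_cases h2 : x = b <;> by_cases h3 : a = b <;> simp_all
    show LinearMap.mul' T T (TensorProduct.map (coefL a) (coefL b)
      (TensorProduct.map L.toLinearMap L.toLinearMap (CoalgebraStruct.comul (R := T) z))) =
      LinearMap.mul' T T (TensorProduct.map (coefL a) (coefL b) (CoalgebraStruct.comul (R := T) (L z)))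
    rw [hcm, TensorProduct.map_map]
    have hcomp : ∀ m, coefL m ∘ₗ L.toLinearMap = (extL (cc F m)).ofConv := fun m => LinearMap.ext fun z => hcoef m z
    rw [hcomp, hcomp]
    show (extL (cc F a) * extL (cc F b)).ofConv z = _
    rw [← extL_mul]
    split
    · next hab => subst hab; rw [hF.idem, ← hcoef]
    · next hab => rw [hF.ortho a b hab]; induction z using TensorProduct.induction_on with
        | zero => simp
        | add u v hu hv => simp only [map_add, hu, hv, add_zero]
        | tmul t c => simp [extL_tmul]

/-- Restriction of a homomorphism over `T` to `C`. -/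
noncomputable def restr (Φ : (T ⊗[R] C) →ₐc[T] MonoidAlgebra T M) : C →ₐ[R] MonoidAlgebra T M :=
  (((Φ : (T ⊗[R] C) →ₐ[T] MonoidAlgebra T M).restrictScalars R)).comp Algebra.TensorProduct.includeRight

theorem restr_apply (Φ : (T ⊗[R] C) →ₐc[T] MonoidAlgebra T M) (c : C) : restr Φ c = Φ ((1 : T) ⊗ₜ[R] c) := rfl

theorem isHomD_restr (Φ : (T ⊗[R] C) →ₐc[T] MonoidAlgebra T M) : IsHomD (restr Φ) := by
  classical
  have hcc : ∀ m, extL (cc (restr Φ) m) = coef Φ m := fun m => WithConv.ofConv_injective (LinearMap.ext fun z => by
    induction z using TensorProduct.induction_on with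
    | zero => simp
    | add u v hu hv => simp only [map_add, hu, hv]
    | tmul t c =>
      rw [extL_tmul, cc_apply, restr_apply, coef_apply, ← smul_eq_mul, ← map_smul, ← map_smul,
        TensorProduct.smul_tmul', smul_eq_mul, mul_one])
  have hinj : ∀ f g : WithConv (C →ₗ[R] T), extL f = extL g → f = g := fun f g h =>
    WithConv.ofConv_injective (LinearMap.ext fun c => by
      have := congrArg (fun k : WithConv ((T ⊗[R] C) →ₗ[T] T) => k.ofConv ((1 : T) ⊗ₜ[R] c)) h
      simpa [extL_tmul] using this)
  refine ⟨fun m => hinj _ _ ?_, fun a b hab => hinj _ _ ?_, fun c => ?_⟩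
  · rw [extL_mul, hcc, coef_mul_coef, if_pos rfl]
  · rw [extL_mul, hcc, hcc, coef_mul_coef, if_neg hab]
    exact WithConv.ofConv_injective (LinearMap.ext fun z => by
      induction z using TensorProduct.induction_on with
      | zero => simp
      | add u v hu hv => rw [map_add, map_add, hu, hv]
      | tmul t c => simp [extL_tmul])
  · rw [restr_apply, CoalgHomClass.counit_comp_apply Φ, TensorProduct.counit_tmul, CommSemiring.counit_apply,
      Algebra.smul_def, mul_one]

end Def

/-- A group of multiplicative type is cocommutative for functionals with values in any algebra. -/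
theorem commConv_of_isMultType (h : SGA3b.IsMultType R C) (T : Type u) [CommRing T] [Algebra R T] :
    CommConv R C T := by
  intro f g
  refine WithConv.ofConv_injective (LinearMap.ext fun c => ?_)
  have hsym : TensorProduct.comm R C C (comul c) = comul (R := R) c := by
    refine eq_of_isMultType h _ _ fun P _ _ _ ⟨N, _, ⟨e⟩⟩ => ?_
    let S : P ⊗[R] (C ⊗[R] C) →ₗ[P] P ⊗[R] (C ⊗[R] C) := (TensorProduct.comm R C C).toLinearMap.baseChange P
    have hS : ∀ y : MonoidAlgebra P N, S (comulT P (e.symm y)) = comulT P (e.symm y) := by
      intro y
      induction y using MonoidAlgebra.induction_linear with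
      | zero => simp
      | add u v hu hv => simp only [map_add, hu, hv]
      | single m r =>
        rw [show MonoidAlgebra.single m r = r • MonoidAlgebra.single m (1 : P) by simp, map_smul, map_smul, map_smul,
          ((isGL_iff _).2 ((MonoidAlgebra.isGroupLikeElem_single_one m).map e.symm)).2]
        congr 1
        have hsw : ∀ z w : P ⊗[R] C, S (inl2 P z * inr2 P w) = inl2 P w * inr2 P z := by
          intro z w
          induction z using TensorProduct.induction_on with
          | zero => simp
          | add u v hu hv => simp only [map_add, add_mul, mul_add, hu, hv]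
          | tmul t a =>
            induction w using TensorProduct.induction_on with
            | zero => simp
            | add u v hu hv => simp only [map_add, add_mul, mul_add, hu, hv]
            | tmul t' b => simp [S, inl2, inr2, _root_.mul_comm]
        exact hsw _ _
    have h := hS (e ((1 : P) ⊗ₜ[R] c))
    rw [BialgEquiv.symm_apply_apply] at h
    exact h
  rw [LinearMap.convMul_def, LinearMap.convMul_def]
  show LinearMap.mul' R T (TensorProduct.map f.ofConv g.ofConv (comul c)) =
    LinearMap.mul' R T (TensorProduct.map g.ofConv f.ofConv (comul c))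
  conv_rhs => rw [← hsym]
  generalize CoalgebraStruct.comul (R := R) c = z
  induction z using TensorProduct.induction_on with
  | zero => simp
  | tmul p q => simp [mul_comm]
  | add u w hu hw => simp only [map_add, hu, hw]

end Groth.Agent.H19Mult
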