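import Mathlib

/-!
Descent of a finitely presented Hopf algebra to a Noetherian subring of the base.
-/

set_option autoImplicit false
set_option maxHeartbeats 800000
set_option linter.style.haveILetI false
set_option backward.isDefEq.respectTransparency false

universe u

open TensorProduct

namespace Groth.Agent.H19Mult.HopfModel

section maps

variable {R₀ : Type u} [CommRing R₀] {R : Type u} [CommRing R] [Algebra R₀ R]
  {V : Type u} [CommRing V] [Algebra R₀ V] {W : Type u} [CommRing W] [Algebra R₀ W]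
  {V' : Type u} [CommRing V'] [Algebra R V'] [Algebra R₀ V'] [IsScalarTower R₀ R V']
  {W' : Type u} [CommRing W'] [Algebra R W'] [Algebra R₀ W'] [IsScalarTower R₀ R W']

variable (R) in
/-- The pair of two maps. -/
noncomputable def pairHom (f : V →ₐ[R₀] V') (g : W →ₐ[R₀] W') : V ⊗[R₀] W →ₐ[R₀] V' ⊗[R] W' :=
  Algebra.TensorProduct.lift (Algebra.TensorProduct.includeLeft.comp f)
    (((Algebra.TensorProduct.includeRight : W' →ₐ[R] V' ⊗[R] W').restrictScalars R₀).comp g) fun _ _ => Commute.all _ _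

theorem pairHom_tmul (f : V →ₐ[R₀] V') (g : W →ₐ[R₀] W') (v : V) (w : W) :
    pairHom R f g (v ⊗ₜ w) = f v ⊗ₜ[R] g w := by
  refine (Algebra.TensorProduct.lift_tmul _ _ _ _ _).trans ?_
  show (f v ⊗ₜ[R] (1 : W')) * ((1 : V') ⊗ₜ[R] g w) = _
  rw [Algebra.TensorProduct.tmul_mul_tmul, mul_one, one_mul]

variable (R) in
/-- The linear extension of a map. -/
noncomputable def bc (f : V →ₐ[R₀] V') : R ⊗[R₀] V →ₐ[R] V' :=
  Algebra.TensorProduct.lift (Algebra.ofId R V') f fun _ _ => Commute.all _ _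

theorem bc_tmul (f : V →ₐ[R₀] V') (r : R) (v : V) : bc R f (r ⊗ₜ v) = algebraMap R V' r * f v :=
  Algebra.TensorProduct.lift_tmul _ _ _ _ _

theorem bc_one_tmul (f : V →ₐ[R₀] V') (v : V) : bc R f (1 ⊗ₜ v) = f v := by
  rw [bc_tmul, map_one, one_mul]

theorem bc_pair_bijective {f : V →ₐ[R₀] V'} {g : W →ₐ[R₀] W'} (hf : Function.Bijective (bc R f))
    (hg : Function.Bijective (bc R g)) : Function.Bijective (bc R (pairHom R f g)) := by
  let e : R ⊗[R₀] (V ⊗[R₀] W) ≃ₗ[R] V' ⊗[R] W' :=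
    (TensorProduct.AlgebraTensorModule.distribBaseChange R₀ R V W).trans
      (TensorProduct.congr (AlgEquiv.ofBijective _ hf).toLinearEquiv (AlgEquiv.ofBijective _ hg).toLinearEquiv)
  have h : (bc R (pairHom R f g) : _ → _) = e := funext fun z => by
    induction z using TensorProduct.induction_on with
    | zero => simp
    | add u w hu hw => rw [map_add, map_add, hu, hw]
    | tmul r z =>
      induction z using TensorProduct.induction_on with
      | zero => rw [TensorProduct.tmul_zero, map_zero, map_zero]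
      | add u w hu hw => rw [TensorProduct.tmul_add, map_add, map_add, hu, hw]
      | tmul v w =>
        rw [bc_tmul, pairHom_tmul]
        simp only [e, LinearEquiv.trans_apply, TensorProduct.AlgebraTensorModule.distribBaseChange_tmul,
          TensorProduct.congr_tmul]
        show _ = bc R f _ ⊗ₜ[R] bc R g _
        rw [bc_tmul, bc_tmul, map_one, one_mul, Algebra.TensorProduct.algebraMap_apply,
          Algebra.TensorProduct.tmul_mul_tmul, one_mul]
  rw [h]
  exact e.bijective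

end maps

section stages

variable {R₀ : Type u} [CommRing R₀] {R : Type u} [CommRing R] [Algebra R₀ R]
  {C₀ : Type u} [CommRing C₀] [Algebra R₀ C₀] [Algebra.FiniteType R₀ C₀]
  {V : Type u} [CommRing V] [Algebra R₀ V]

/-- Two homomorphisms which agree after tensoring with `R` agree at a stage. -/
theorem exists_stage_eq_hom (P Q : C₀ →ₐ[R₀] V)
    (h : ∀ c, (1 : R) ⊗ₜ[R₀] P c = (1 : R) ⊗ₜ[R₀] Q c) :
    ∃ T : Subalgebra R₀ R, T.FG ∧ ∀ T' : Subalgebra R₀ R, T ≤ T' →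
      ∀ c, (1 : T') ⊗ₜ[R₀] P c = (1 : T') ⊗ₜ[R₀] Q c := by
  classical
  obtain ⟨s, hs⟩ := Algebra.FiniteType.out (R := R₀) (A := C₀)
  have hc : ∀ c, ∃ T : Subalgebra R₀ R, T.FG ∧ ∀ T' : Subalgebra R₀ R, T ≤ T' →
      (1 : T') ⊗ₜ[R₀] P c = (1 : T') ⊗ₜ[R₀] Q c := by
    intro c
    obtain ⟨B, hB, hBfg, hz⟩ := TensorProduct.Algebra.eq_of_fg_of_subtype_eq (A := (⊥ : Subalgebra R₀ R))
      Subalgebra.fg_bot (t := (1 : (⊥ : Subalgebra R₀ R)) ⊗ₜ[R₀] P c)
      (t' := (1 : (⊥ : Subalgebra R₀ R)) ⊗ₜ[R₀] Q c) (h c)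
    refine ⟨B, hBfg, fun T' hT' => ?_⟩
    exact congrArg (LinearMap.rTensor V (Subalgebra.inclusion hT').toLinearMap) hz
  choose Tc hTc hTeq using hc
  refine ⟨s.sup Tc, Finset.sup_induction (p := Subalgebra.FG) Subalgebra.fg_bot
    (fun a ha b hb => ha.sup hb) fun x _ => hTc x, fun T' hT' c => ?_⟩
  have he : (Algebra.TensorProduct.includeRight : V →ₐ[R₀] T' ⊗[R₀] V).comp P =
      (Algebra.TensorProduct.includeRight : V →ₐ[R₀] T' ⊗[R₀] V).comp Q :=
    AlgHom.ext_of_adjoin_eq_top hs fun x hx => hTeq x T' ((Finset.le_sup hx).trans hT')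
  exact AlgHom.congr_fun he c

/-- A homomorphism to a tensor product with `R` lifts to a stage. -/
theorem exists_stage_lift_hom [IsNoetherianRing R₀] (s : C₀ →ₐ[R₀] R ⊗[R₀] V) :
    ∃ T : Subalgebra R₀ R, T.FG ∧ ∀ T' : Subalgebra R₀ R, T ≤ T' →
      ∃ t : C₀ →ₐ[R₀] T' ⊗[R₀] V, ∀ c, Algebra.TensorProduct.map T'.val (AlgHom.id R₀ V) (t c) = s c := by
  classical
  haveI : Algebra.FinitePresentation R₀ C₀ := Algebra.FinitePresentation.of_finiteType.1 inferInstance
  obtain ⟨n, π, hπ, ⟨rel, hrel⟩⟩ := Algebra.FinitePresentation.out (R := R₀) (A := C₀)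
  choose Ti hTi xi hxi using fun i : Fin n => TensorProduct.Algebra.exists_of_fg (s (π (MvPolynomial.X i)))
  let T₀ : Subalgebra R₀ R := Finset.univ.sup Ti
  have hT₀ : T₀.FG := Finset.sup_induction (p := Subalgebra.FG) Subalgebra.fg_bot
    (fun a ha b hb => ha.sup hb) fun x _ => hTi x
  have hle : ∀ i, Ti i ≤ T₀ := fun i => Finset.le_sup (Finset.mem_univ i)
  let x₀ : Fin n → T₀ ⊗[R₀] V := fun i =>
    Algebra.TensorProduct.map (Subalgebra.inclusion (hle i)) (AlgHom.id R₀ V) (xi i)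
  let m₀ := Algebra.TensorProduct.map T₀.val (AlgHom.id R₀ V)
  have hm : ∀ p, m₀ (MvPolynomial.aeval x₀ p) = s (π p) := by
    refine AlgHom.congr_fun (MvPolynomial.algHom_ext (f := m₀.comp (MvPolynomial.aeval x₀)) (g := s.comp π) fun i => ?_)
    show m₀ (MvPolynomial.aeval x₀ (MvPolynomial.X i)) = s (π (MvPolynomial.X i))
    rw [MvPolynomial.aeval_X, ← hxi i]
    show m₀ (Algebra.TensorProduct.map (Subalgebra.inclusion (hle i)) (AlgHom.id R₀ V) (xi i)) = _
    generalize xi i = z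
    induction z using TensorProduct.induction_on with
    | zero => simp
    | tmul a v => rfl
    | add a b ha hb => simp only [map_add, ha, hb]
  have hr : ∀ r ∈ rel, ∃ T : Subalgebra R₀ R, T.FG ∧ ∃ h : T₀ ≤ T,
      LinearMap.rTensor V (Subalgebra.inclusion h).toLinearMap (MvPolynomial.aeval x₀ r) = 0 := by
    intro r hr
    have hp : π r = 0 := by
      have : r ∈ RingHom.ker π := hrel ▸ Ideal.subset_span hr
      exact this
    obtain ⟨B, hB, hBfg, hz⟩ := TensorProduct.Algebra.eq_of_fg_of_subtype_eq hT₀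
      (t := MvPolynomial.aeval x₀ r) (t' := 0) (by
        rw [map_zero]
        exact (hm r).trans (by rw [hp, map_zero]))
    exact ⟨B, hBfg, hB, by rw [hz, map_zero]⟩
  choose! Tr hTr hTle hTz using hr
  refine ⟨T₀ ⊔ rel.sup Tr, hT₀.sup (Finset.sup_induction (p := Subalgebra.FG) Subalgebra.fg_bot
    (fun a ha b hb => ha.sup hb) fun x hx => hTr x hx), fun T' hT' => ?_⟩
  have h₀ : T₀ ≤ T' := le_sup_left.trans hT'
  let inc := Algebra.TensorProduct.map (Subalgebra.inclusion h₀) (AlgHom.id R₀ V)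
  let t' := inc.comp (MvPolynomial.aeval x₀)
  have hker : RingHom.ker π ≤ RingHom.ker t' := by
    refine (le_of_eq hrel.symm).trans (Ideal.span_le.2 fun r hr => ?_)
    have h₁ : Tr r ≤ T' := ((Finset.le_sup hr).trans le_sup_right).trans hT'
    show inc (MvPolynomial.aeval x₀ r) = 0
    rw [← map_zero (LinearMap.rTensor V (Subalgebra.inclusion h₁).toLinearMap), ← hTz r hr]
    generalize MvPolynomial.aeval x₀ r = z
    induction z using TensorProduct.induction_on with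
    | zero => simp
    | tmul a v => rfl
    | add a b ha hb => simp only [map_add, ha, hb]
  let e := Ideal.quotientKerAlgEquivOfSurjective hπ
  refine ⟨(Ideal.Quotient.liftₐ (RingHom.ker π) t' fun p hp => hker hp).comp e.symm.toAlgHom, fun c => ?_⟩
  obtain ⟨p, rfl⟩ := hπ c
  have hs : e.symm (π p) = Ideal.Quotient.mk _ p := (AlgEquiv.symm_apply_eq _).2 rfl
  show Algebra.TensorProduct.map T'.val (AlgHom.id R₀ V)
    ((Ideal.Quotient.liftₐ (RingHom.ker π) t' fun p hp => hker hp) (e.symm (π p))) = _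
  rw [hs, ← hm p]
  show Algebra.TensorProduct.map T'.val (AlgHom.id R₀ V) (inc (MvPolynomial.aeval x₀ p)) = _
  generalize MvPolynomial.aeval x₀ p = z
  induction z using TensorProduct.induction_on with
  | zero => simp
  | tmul a v => rfl
  | add a b ha hb => simp only [map_add, ha, hb]

end stages

section squares

variable {R₀ : Type u} [CommRing R₀] {R : Type u} [CommRing R] [Algebra R₀ R]
  {C₀ : Type u} [CommRing C₀] [Algebra R₀ C₀]
  {C : Type u} [CommRing C] [Algebra R C] [Algebra R₀ C] [IsScalarTower R₀ R C]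
  (ι : C₀ →ₐ[R₀] C) (d : C₀ →ₐ[R₀] C₀ ⊗[R₀] C₀) (Δ : C →ₐ[R] C ⊗[R] C)
  (hd : ∀ c, Δ (ι c) = pairHom R ι ι (d c))

include hd

theorem sq_lift {f₀ g₀ : C₀ →ₐ[R₀] C₀} {f g : C →ₐ[R] C} (hf : ∀ c, f (ι c) = ι (f₀ c))
    (hg : ∀ c, g (ι c) = ι (g₀ c)) (c : C₀) :
    Algebra.TensorProduct.lift f g (fun _ _ => Commute.all _ _) (Δ (ι c)) =
      ι (Algebra.TensorProduct.lift f₀ g₀ (fun _ _ => Commute.all _ _) (d c)) := by
  rw [hd]
  generalize d c = z
  induction z using TensorProduct.induction_on with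
  | zero => simp
  | add a b ha hb => simp only [map_add, ha, hb]
  | tmul a b =>
    rw [pairHom_tmul]
    refine (Algebra.TensorProduct.lift_tmul _ _ _ _ _).trans ?_
    rw [hf, hg, ← map_mul]
    exact congrArg ι (Algebra.TensorProduct.lift_tmul _ _ _ _ _).symm

theorem sq_left (c : C₀) :
    (Algebra.TensorProduct.assoc R R R C C C).toAlgHom
        ((Algebra.TensorProduct.map Δ (AlgHom.id R C)) (Δ (ι c))) =
      pairHom R ι (pairHom R ι ι)
        ((Algebra.TensorProduct.assoc R₀ R₀ R₀ C₀ C₀ C₀).toAlgHom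
          ((Algebra.TensorProduct.map d (AlgHom.id R₀ C₀)) (d c))) := by
  rw [hd]
  generalize d c = z
  induction z using TensorProduct.induction_on with
  | zero => simp
  | add a b ha hb => simp only [map_add, ha, hb]
  | tmul a b =>
    rw [pairHom_tmul, Algebra.TensorProduct.map_tmul, Algebra.TensorProduct.map_tmul, hd, AlgHom.id_apply,
      AlgHom.id_apply]
    generalize d a = w
    induction w using TensorProduct.induction_on with
    | zero => simp
    | add p q hp hq => simp only [map_add, TensorProduct.add_tmul, hp, hq]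
    | tmul p q => simp [pairHom_tmul]

theorem sq_right (c : C₀) :
    (Algebra.TensorProduct.map (AlgHom.id R C) Δ) (Δ (ι c)) =
      pairHom R ι (pairHom R ι ι) ((Algebra.TensorProduct.map (AlgHom.id R₀ C₀) d) (d c)) := by
  rw [hd]
  generalize d c = z
  induction z using TensorProduct.induction_on with
  | zero => simp
  | add a b ha hb => simp only [map_add, ha, hb]
  | tmul a b => simp [pairHom_tmul, hd]

end squares

/-- A Hopf algebra from algebra homomorphisms. -/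
@[reducible] noncomputable def hopfOfAlgHom {R : Type u} [CommRing R] {A : Type u} [CommRing A] [Algebra R A]
    (Δ : A →ₐ[R] A ⊗[R] A) (ε : A →ₐ[R] R) (σ : A →ₐ[R] A)
    (hco : ∀ a, (Algebra.TensorProduct.assoc R R R A A A).toAlgHom
        ((Algebra.TensorProduct.map Δ (AlgHom.id R A)) (Δ a)) = (Algebra.TensorProduct.map (AlgHom.id R A) Δ) (Δ a))
    (hl : ∀ a, Algebra.TensorProduct.lift ((Algebra.ofId R A).comp ε) (AlgHom.id R A)
      (fun _ _ => Commute.all _ _) (Δ a) = a)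
    (hr : ∀ a, Algebra.TensorProduct.lift (AlgHom.id R A) ((Algebra.ofId R A).comp ε)
      (fun _ _ => Commute.all _ _) (Δ a) = a)
    (hσl : ∀ a, Algebra.TensorProduct.lift σ (AlgHom.id R A) (fun _ _ => Commute.all _ _) (Δ a) = algebraMap R A (ε a))
    (hσr : ∀ a, Algebra.TensorProduct.lift (AlgHom.id R A) σ (fun _ _ => Commute.all _ _) (Δ a) = algebraMap R A (ε a)) :
    HopfAlgebra R A :=
  have hL : (Algebra.TensorProduct.map ε (AlgHom.id R A)).comp Δ = (Algebra.TensorProduct.lid R A).symm :=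
    (AlgHom.ext fun a => by
      refine ((Algebra.TensorProduct.lid R A).eq_symm_apply).2 ?_
      refine Eq.trans ?_ (hl a)
      show Algebra.TensorProduct.lid R A (Algebra.TensorProduct.map ε (AlgHom.id R A) (Δ a)) = _
      generalize Δ a = z
      induction z using TensorProduct.induction_on with
      | zero => simp
      | tmul p q => simp [Algebra.smul_def]
      | add p q hp hq => simp only [map_add, hp, hq])
  have hR : (Algebra.TensorProduct.map (AlgHom.id R A) ε).comp Δ = (Algebra.TensorProduct.rid R R A).symm :=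
    (AlgHom.ext fun a => by
      refine ((Algebra.TensorProduct.rid R R A).eq_symm_apply).2 ?_
      refine Eq.trans ?_ (hr a)
      show Algebra.TensorProduct.rid R R A (Algebra.TensorProduct.map (AlgHom.id R A) ε (Δ a)) = _
      generalize Δ a = z
      induction z using TensorProduct.induction_on with
      | zero => simp
      | tmul p q => simp [Algebra.smul_def, mul_comm]
      | add p q hp hq => simp only [map_add, hp, hq])
  letI C : Coalgebra R A :=
    { comul := Δ.toLinearMap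
      counit := ε.toLinearMap
      coassoc := LinearMap.ext hco
      rTensor_counit_comp_comul := congr(($hL).toLinearMap)
      lTensor_counit_comp_comul := congr(($hR).toLinearMap) }
  letI : Bialgebra R A :=
    { (inferInstance : Algebra R A), C with
      counit_one := map_one ε
      mul_compr₂_counit := LinearMap.ext fun x => LinearMap.ext fun y => map_mul ε x y
      comul_one := map_one Δ
      mul_compr₂_comul := LinearMap.ext fun x => LinearMap.ext fun y => map_mul Δ x y }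
  { antipode := σ.toLinearMap
    mul_antipode_rTensor_comul := LinearMap.ext fun a => by
      refine Eq.trans ?_ (hσl a)
      show LinearMap.mul' R A (σ.toLinearMap.rTensor A (Δ a)) = _
      generalize Δ a = z
      induction z using TensorProduct.induction_on with
      | zero => simp
      | tmul p q => simp
      | add p q hp hq => simp only [map_add, hp, hq]
    mul_antipode_lTensor_comul := LinearMap.ext fun a => by
      refine Eq.trans ?_ (hσr a)
      show LinearMap.mul' R A (σ.toLinearMap.lTensor A (Δ a)) = _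
      generalize Δ a = z
      induction z using TensorProduct.induction_on with
      | zero => simp
      | tmul p q => simp
      | add p q hp hq => simp only [map_add, hp, hq] }

/-- The axioms on three structure maps. -/
structure StageAxioms {R : Type u} [CommRing R] {A : Type u} [CommRing A] [Algebra R A]
    (Δ : A →ₐ[R] A ⊗[R] A) (ε : A →ₐ[R] R) (σ : A →ₐ[R] A) : Prop where
  coassoc : ∀ a, (Algebra.TensorProduct.assoc R R R A A A).toAlgHom
      ((Algebra.TensorProduct.map Δ (AlgHom.id R A)) (Δ a)) = (Algebra.TensorProduct.map (AlgHom.id R A) Δ) (Δ a)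
  left : ∀ a, Algebra.TensorProduct.lift ((Algebra.ofId R A).comp ε) (AlgHom.id R A)
      (fun _ _ => Commute.all _ _) (Δ a) = a
  right : ∀ a, Algebra.TensorProduct.lift (AlgHom.id R A) ((Algebra.ofId R A).comp ε)
      (fun _ _ => Commute.all _ _) (Δ a) = a
  antipode_left : ∀ a, Algebra.TensorProduct.lift σ (AlgHom.id R A) (fun _ _ => Commute.all _ _) (Δ a) = algebraMap R A (ε a)
  antipode_right : ∀ a, Algebra.TensorProduct.lift (AlgHom.id R A) σ (fun _ _ => Commute.all _ _) (Δ a) = algebraMap R A (ε a)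

section stage

variable {R₀ : Type u} [CommRing R₀] {T : Type u} [CommRing T] [Algebra R₀ T]
  {R : Type u} [CommRing R] [Algebra R₀ R] [Algebra T R] [IsScalarTower R₀ T R]
  {C₀ : Type u} [CommRing C₀] [Algebra R₀ C₀]
  {C : Type u} [CommRing C] [Algebra R C] [Algebra R₀ C] [IsScalarTower R₀ R C]

/-- Homomorphisms out of a base change are determined on the original algebra. -/
theorem hom_ext {B : Type u} [CommRing B] [Algebra T B] {f g : T ⊗[R₀] C₀ →ₐ[T] B}
    (h : ∀ c, f ((1 : T) ⊗ₜ c) = g ((1 : T) ⊗ₜ c)) (a : T ⊗[R₀] C₀) : f a = g a := by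
  induction a using TensorProduct.induction_on with
  | zero => simp
  | add p q hp hq => rw [map_add, map_add, hp, hq]
  | tmul t c =>
    rw [show t ⊗ₜ[R₀] c = t • ((1 : T) ⊗ₜ[R₀] c) by rw [TensorProduct.smul_tmul', smul_eq_mul, mul_one],
      map_smul, map_smul, h]

theorem bc_trans_bijective [Algebra T C] [IsScalarTower T R C] [IsScalarTower R₀ T C] (ι : C₀ →ₐ[R₀] C)
    (hι : Function.Bijective (bc R ι)) : Function.Bijective (bc R (bc T ι)) := by
  let E := Algebra.TensorProduct.cancelBaseChange R₀ T R R C₀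
  have h : ∀ z, bc R (bc T ι) z = bc R ι (E z) := fun z => by
    induction z using TensorProduct.induction_on with
    | zero => simp
    | add a b ha hb => simp only [map_add, ha, hb]
    | tmul r w =>
      induction w using TensorProduct.induction_on with
      | zero => simp
      | add a b ha hb => simp only [TensorProduct.tmul_add, map_add, ha, hb]
      | tmul t c =>
        simp only [E, Algebra.TensorProduct.cancelBaseChange_tmul, bc_tmul, Algebra.smul_def, map_mul,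
          ← IsScalarTower.algebraMap_apply T R C t]
        ring
  rw [show (bc R (bc T ι) : _ → _) = bc R ι ∘ E from funext h]
  exact hι.comp E.bijective

theorem pair_bc [Algebra T C] [IsScalarTower T R C] [IsScalarTower R₀ T C] (ι : C₀ →ₐ[R₀] C)
    (z : T ⊗[R₀] (C₀ ⊗[R₀] C₀)) :
    pairHom R (bc T ι) (bc T ι) (bc T (pairHom T (Algebra.TensorProduct.includeRight : C₀ →ₐ[R₀] T ⊗[R₀] C₀)
        Algebra.TensorProduct.includeRight) z) =
      bc R (pairHom R ι ι) (Algebra.TensorProduct.map (IsScalarTower.toAlgHom R₀ T R) (AlgHom.id R₀ _) z) := by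
  induction z using TensorProduct.induction_on with
  | zero => simp
  | add a b ha hb => simp only [map_add, ha, hb]
  | tmul t w =>
    rw [bc_tmul, map_mul, AlgHom.commutes, Algebra.TensorProduct.map_tmul, AlgHom.id_apply, bc_tmul,
      IsScalarTower.toAlgHom_apply, ← IsScalarTower.algebraMap_apply T R (C ⊗[R] C) t]
    congr 1
    induction w using TensorProduct.induction_on with
    | zero => simp
    | add a b ha hb => simp only [map_add, ha, hb]
    | tmul a b => simp [pairHom_tmul, bc_one_tmul]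

theorem bc_map [Algebra T C] [IsScalarTower T R C] [IsScalarTower R₀ T C] (ι : C₀ →ₐ[R₀] C)
    (z : T ⊗[R₀] C₀) :
    bc T ι z = bc R ι (Algebra.TensorProduct.map (IsScalarTower.toAlgHom R₀ T R) (AlgHom.id R₀ C₀) z) := by
  induction z using TensorProduct.induction_on with
  | zero => simp
  | add a b ha hb => simp only [map_add, ha, hb]
  | tmul t w => simp [bc_tmul, ← IsScalarTower.algebraMap_apply T R C t]

/-- An identity out of a base change, checked on the original algebra. -/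
theorem lift_eq {CT : Type u} [CommRing CT] [Algebra T CT] (F G H : CT →ₐ[T] CT)
    (Δ : T ⊗[R₀] C₀ →ₐ[T] CT ⊗[T] CT) (j : T ⊗[R₀] C₀ →ₐ[T] CT)
    (h : ∀ c, Algebra.TensorProduct.lift F G (fun _ _ => Commute.all _ _) (Δ ((1 : T) ⊗ₜ c)) = H (j ((1 : T) ⊗ₜ c)))
    (a : T ⊗[R₀] C₀) : Algebra.TensorProduct.lift F G (fun _ _ => Commute.all _ _) (Δ a) = H (j a) :=
  hom_ext (f := (Algebra.TensorProduct.lift F G fun _ _ => Commute.all _ _).comp Δ) (g := H.comp j) h a

/-- The structure maps at a stage. -/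
theorem exists_stage_maps (d : C₀ →ₐ[R₀] C₀ ⊗[R₀] C₀) (e : C₀ →ₐ[R₀] R₀) (s : C₀ →ₐ[R₀] C₀)
    (hco : ∀ c, (1 : T) ⊗ₜ[R₀] (Algebra.TensorProduct.assoc R₀ R₀ R₀ C₀ C₀ C₀).toAlgHom
        ((Algebra.TensorProduct.map d (AlgHom.id R₀ C₀)) (d c)) =
      (1 : T) ⊗ₜ[R₀] (Algebra.TensorProduct.map (AlgHom.id R₀ C₀) d) (d c))
    (hl : ∀ c, (1 : T) ⊗ₜ[R₀] Algebra.TensorProduct.lift ((Algebra.ofId R₀ C₀).comp e) (AlgHom.id R₀ C₀)
      (fun _ _ => Commute.all _ _) (d c) = (1 : T) ⊗ₜ[R₀] c)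
    (hr : ∀ c, (1 : T) ⊗ₜ[R₀] Algebra.TensorProduct.lift (AlgHom.id R₀ C₀) ((Algebra.ofId R₀ C₀).comp e)
      (fun _ _ => Commute.all _ _) (d c) = (1 : T) ⊗ₜ[R₀] c)
    (hσl : ∀ c, (1 : T) ⊗ₜ[R₀] Algebra.TensorProduct.lift s (AlgHom.id R₀ C₀)
      (fun _ _ => Commute.all _ _) (d c) = (1 : T) ⊗ₜ[R₀] algebraMap R₀ C₀ (e c))
    (hσr : ∀ c, (1 : T) ⊗ₜ[R₀] Algebra.TensorProduct.lift (AlgHom.id R₀ C₀) s
      (fun _ _ => Commute.all _ _) (d c) = (1 : T) ⊗ₜ[R₀] algebraMap R₀ C₀ (e c)) :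
    ∃ (Δ : T ⊗[R₀] C₀ →ₐ[T] (T ⊗[R₀] C₀) ⊗[T] (T ⊗[R₀] C₀)) (ε : T ⊗[R₀] C₀ →ₐ[T] T) (σ : T ⊗[R₀] C₀ →ₐ[T] T ⊗[R₀] C₀),
      StageAxioms Δ ε σ ∧
      (∀ c, Δ ((1 : T) ⊗ₜ c) = pairHom T (Algebra.TensorProduct.includeRight : C₀ →ₐ[R₀] T ⊗[R₀] C₀)
        Algebra.TensorProduct.includeRight (d c)) ∧
      ∀ c, ε ((1 : T) ⊗ₜ c) = algebraMap R₀ T (e c) :=
  let iC : C₀ →ₐ[R₀] T ⊗[R₀] C₀ := Algebra.TensorProduct.includeRight
  have hΔ : ∀ c, bc T ((pairHom T iC iC).comp d) (iC c) = pairHom T iC iC (d c) := fun c => bc_one_tmul _ c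
  have hσ : ∀ c, bc T (iC.comp s) (iC c) = iC (s c) := fun c => bc_one_tmul _ c
  have hε : ∀ c, ((Algebra.ofId T (T ⊗[R₀] C₀)).comp (bc T ((Algebra.ofId R₀ T).comp e))) (iC c) =
      iC ((Algebra.ofId R₀ C₀).comp e c) := fun c => by
    show algebraMap T (T ⊗[R₀] C₀) (bc T ((Algebra.ofId R₀ T).comp e) ((1 : T) ⊗ₜ c)) = iC (algebraMap R₀ C₀ (e c))
    rw [iC.commutes, bc_one_tmul, AlgHom.comp_apply, Algebra.ofId_apply, ← IsScalarTower.algebraMap_apply]
  have hid : ∀ c, AlgHom.id T (T ⊗[R₀] C₀) (iC c) = iC (AlgHom.id R₀ C₀ c) := fun _ => rfl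
  ⟨bc T ((pairHom T iC iC).comp d), bc T ((Algebra.ofId R₀ T).comp e), bc T (iC.comp s), ⟨
    (hom_ext (f := ((Algebra.TensorProduct.assoc T T T _ _ _).toAlgHom.comp
        (Algebra.TensorProduct.map (bc T ((pairHom T iC iC).comp d)) (AlgHom.id T _))).comp (bc T ((pairHom T iC iC).comp d)))
      (g := (Algebra.TensorProduct.map (AlgHom.id T _) (bc T ((pairHom T iC iC).comp d))).comp
        (bc T ((pairHom T iC iC).comp d)))
      fun c => by
        refine (sq_left iC d _ hΔ c).trans (Eq.trans ?_ (sq_right iC d _ hΔ c).symm)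
        rw [← bc_one_tmul (R := T) (pairHom T iC (pairHom T iC iC)), ← bc_one_tmul (R := T) (pairHom T iC (pairHom T iC iC)),
          hco c]),
    (lift_eq ((Algebra.ofId T (T ⊗[R₀] C₀)).comp (bc T ((Algebra.ofId R₀ T).comp e))) (AlgHom.id T (T ⊗[R₀] C₀)) (AlgHom.id T (T ⊗[R₀] C₀)) (bc T ((pairHom T iC iC).comp d)) (AlgHom.id T (T ⊗[R₀] C₀)) fun c => (sq_lift iC d _ hΔ hε hid c).trans (hl c)),
    (lift_eq (AlgHom.id T (T ⊗[R₀] C₀)) ((Algebra.ofId T (T ⊗[R₀] C₀)).comp (bc T ((Algebra.ofId R₀ T).comp e))) (AlgHom.id T (T ⊗[R₀] C₀)) (bc T ((pairHom T iC iC).comp d)) (AlgHom.id T (T ⊗[R₀] C₀)) fun c => (sq_lift iC d _ hΔ hid hε c).trans (hr c)),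
    (lift_eq (bc T (iC.comp s)) (AlgHom.id T (T ⊗[R₀] C₀)) ((Algebra.ofId T (T ⊗[R₀] C₀)).comp (bc T ((Algebra.ofId R₀ T).comp e))) (bc T ((pairHom T iC iC).comp d)) (AlgHom.id T (T ⊗[R₀] C₀)) fun c => (sq_lift iC d _ hΔ hσ hid c).trans ((hσl c).trans (hε c).symm)),
    (lift_eq (AlgHom.id T (T ⊗[R₀] C₀)) (bc T (iC.comp s)) ((Algebra.ofId T (T ⊗[R₀] C₀)).comp (bc T ((Algebra.ofId R₀ T).comp e))) (bc T ((pairHom T iC iC).comp d)) (AlgHom.id T (T ⊗[R₀] C₀)) fun c => (sq_lift iC d _ hΔ hid hσ c).trans ((hσr c).trans (hε c).symm))⟩,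
    fun c => bc_one_tmul _ c, fun c => bc_one_tmul _ c⟩

end stage

section stageEquiv

variable {R₀ : Type u} [CommRing R₀] {T : Type u} [CommRing T] [Algebra R₀ T]
  {R : Type u} [CommRing R] [Algebra R₀ R] [Algebra T R] [IsScalarTower R₀ T R]
  {C₀ : Type u} [CommRing C₀] [Algebra R₀ C₀]
  {C : Type u} [CommRing C] [HopfAlgebra R C] [Algebra R₀ C] [IsScalarTower R₀ R C]

theorem nonempty_bialgEquiv {CT : Type u} [CommRing CT] [HopfAlgebra T CT] [Algebra R₀ CT] [IsScalarTower R₀ T CT]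
    (j : C₀ →ₐ[R₀] CT) (E : R ⊗[T] CT ≃ₐ[R] C) (ι : C₀ →ₐ[R₀] C)
    (hE : ∀ c, E ((1 : R) ⊗ₜ[T] j c) = ι c)
    (hgen : Algebra.adjoin T (Set.range j) = ⊤) (d : C₀ →ₐ[R₀] C₀ ⊗[R₀] C₀) (e : C₀ →ₐ[R₀] R₀)
    (hdT : ∀ c, Coalgebra.comul (R := T) (j c) = pairHom T j j (d c))
    (heT : ∀ c, Coalgebra.counit (R := T) (j c) = algebraMap R₀ T (e c))
    (hd : ∀ x, Bialgebra.comulAlgHom R C (ι x) = pairHom R ι ι (d x))
    (he : ∀ x, Coalgebra.counit (R := R) (ι x) = algebraMap R₀ R (e x)) :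
    Nonempty ((R ⊗[T] CT) ≃ₐc[R] C) := by
  have hext : ∀ {B : Type u} [CommRing B] [Algebra R B]
      (f g : R ⊗[T] CT →ₐ[R] B), (∀ c, f ((1 : R) ⊗ₜ[T] j c) = g ((1 : R) ⊗ₜ[T] j c)) → f = g := by
    intro B _ _ f g h
    suffices h1 : ∀ w, f ((1 : R) ⊗ₜ[T] w) = g ((1 : R) ⊗ₜ[T] w) by
      refine AlgHom.ext fun a => ?_
      induction a using TensorProduct.induction_on with
      | zero => simp
      | add p q hp hq => rw [map_add, map_add, hp, hq]
      | tmul r w =>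
        rw [show r ⊗ₜ[T] w = r • ((1 : R) ⊗ₜ[T] w) by rw [TensorProduct.smul_tmul', smul_eq_mul, mul_one],
          map_smul, map_smul, h1]
    intro w
    have hw : w ∈ Algebra.adjoin T (Set.range j) := hgen ▸ trivial
    induction hw using Algebra.adjoin_induction with
    | mem x hx =>
      obtain ⟨c, rfl⟩ := hx
      exact h c
    | algebraMap t =>
      have h1 : (1 : R) ⊗ₜ[T] algebraMap T CT t = algebraMap R (R ⊗[T] CT) (algebraMap T R t) := by
        rw [Algebra.TensorProduct.algebraMap_apply, Algebra.algebraMap_self, RingHom.id_apply,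
          Algebra.algebraMap_eq_smul_one, ← TensorProduct.smul_tmul, Algebra.algebraMap_eq_smul_one (A := R)]
      rw [h1, AlgHom.commutes, AlgHom.commutes]
    | add x y _ _ hx hy => rw [TensorProduct.tmul_add, map_add, map_add, hx, hy]
    | mul x y _ _ hx hy =>
      rw [show (1 : R) ⊗ₜ[T] (x * y) = ((1 : R) ⊗ₜ[T] x) * ((1 : R) ⊗ₜ[T] y) by
        rw [Algebra.TensorProduct.tmul_mul_tmul, one_mul], map_mul, map_mul, hx, hy]
  refine ⟨BialgEquiv.ofAlgEquiv E (hext _ _ fun c => ?_) (hext _ _ fun c => ?_)⟩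
  · show Coalgebra.counit (R := R) (E ((1 : R) ⊗ₜ[T] j c)) = Coalgebra.counit (R := R) ((1 : R) ⊗ₜ[T] j c)
    rw [hE, he, TensorProduct.counit_tmul, CommSemiring.counit_apply, heT, Algebra.smul_def, mul_one,
      ← IsScalarTower.algebraMap_apply]
  · show Algebra.TensorProduct.map E.toAlgHom E.toAlgHom (Coalgebra.comul (R := R) ((1 : R) ⊗ₜ[T] j c)) =
      Coalgebra.comul (R := R) (E ((1 : R) ⊗ₜ[T] j c))
    rw [hE, TensorProduct.comul_tmul, CommSemiring.comul_apply, hdT]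
    refine Eq.trans ?_ (hd c).symm
    generalize d c = z
    induction z using TensorProduct.induction_on with
    | zero => simp
    | add a b ha hb => simp only [map_add, TensorProduct.tmul_add, ha, hb]
    | tmul a b =>
      rw [pairHom_tmul, pairHom_tmul, TensorProduct.AlgebraTensorModule.tensorTensorTensorComm_tmul,
        Algebra.TensorProduct.map_tmul]
      show E _ ⊗ₜ[R] E _ = _
      rw [hE, hE]

end stageEquiv

section stageD

variable {R₀ : Type u} [CommRing R₀] {T : Type u} [CommRing T] [Algebra R₀ T] {C₀ : Type u} [CommRing C₀] [Algebra R₀ C₀]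

/-- The comultiplication of a stage from a lift. -/
noncomputable def stageD (td : C₀ →ₐ[R₀] T ⊗[R₀] (C₀ ⊗[R₀] C₀)) :
    T ⊗[R₀] C₀ →ₐ[T] (T ⊗[R₀] C₀) ⊗[T] (T ⊗[R₀] C₀) :=
  let j : T ⊗[R₀] (C₀ ⊗[R₀] C₀) →ₐ[T] (T ⊗[R₀] C₀) ⊗[T] (T ⊗[R₀] C₀) :=
    bc T (pairHom T (Algebra.TensorProduct.includeRight : C₀ →ₐ[R₀] T ⊗[R₀] C₀) Algebra.TensorProduct.includeRight)
  bc T ((j.restrictScalars R₀).comp td)

theorem stageD_one_tmul (td : C₀ →ₐ[R₀] T ⊗[R₀] (C₀ ⊗[R₀] C₀)) (c : C₀) :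
    stageD td ((1 : T) ⊗ₜ c) = bc T (pairHom T (Algebra.TensorProduct.includeRight : C₀ →ₐ[R₀] T ⊗[R₀] C₀)
      Algebra.TensorProduct.includeRight) (td c) := bc_one_tmul _ c

end stageD

section generic

variable {R₀ : Type u} [CommRing R₀] {T : Type u} [CommRing T] [Algebra R₀ T]
  {R : Type u} [CommRing R] [Algebra R₀ R] [Algebra T R] [IsScalarTower R₀ T R]
  {C₀ : Type u} [CommRing C₀] [Algebra R₀ C₀]
  {C : Type u} [CommRing C] [HopfAlgebra R C] [Algebra R₀ C] [IsScalarTower R₀ R C]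

theorem exists_hopf_generic {CT : Type u} [CommRing CT] [Algebra T CT] [Algebra R₀ CT] [IsScalarTower R₀ T CT]
    [Algebra.FiniteType T CT]
    {Δ : CT →ₐ[T] CT ⊗[T] CT} {ε : CT →ₐ[T] T} {σ : CT →ₐ[T] CT} (hax : StageAxioms Δ ε σ)
    (j : C₀ →ₐ[R₀] CT) (E : R ⊗[T] CT ≃ₐ[R] C) (ι : C₀ →ₐ[R₀] C)
    (hE : ∀ c, E ((1 : R) ⊗ₜ[T] j c) = ι c)
    (hgen : Algebra.adjoin T (Set.range j) = ⊤) (d : C₀ →ₐ[R₀] C₀ ⊗[R₀] C₀) (e : C₀ →ₐ[R₀] R₀)
    (hdT : ∀ c, Δ (j c) = pairHom T j j (d c))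
    (heT : ∀ c, ε (j c) = algebraMap R₀ T (e c))
    (hd : ∀ x, Bialgebra.comulAlgHom R C (ι x) = pairHom R ι ι (d x))
    (he : ∀ x, Coalgebra.counit (R := R) (ι x) = algebraMap R₀ R (e x)) :
    ∃ (C₁ : Type u) (_ : CommRing C₁) (_ : HopfAlgebra T C₁),
      Algebra.FiniteType T C₁ ∧ Nonempty ((R ⊗[T] C₁) ≃ₐc[R] C) := by
  letI H : HopfAlgebra T CT :=
    hopfOfAlgHom Δ ε σ hax.coassoc hax.left hax.right hax.antipode_left hax.antipode_right
  exact ⟨CT, inferInstance, H, (inferInstance : Algebra.FiniteType T CT),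
    nonempty_bialgEquiv j E ι hE hgen d e hdT heT hd he⟩

end generic

section preStage

variable {R₀ : Type u} [CommRing R₀] {T : Type u} [CommRing T] [Algebra R₀ T]
  {R : Type u} [CommRing R] [Algebra R₀ R] [Algebra T R] [IsScalarTower R₀ T R]
  {C₀ : Type u} [CommRing C₀] [Algebra R₀ C₀]
  {C : Type u} [CommRing C] [HopfAlgebra R C] [Algebra R₀ C] [IsScalarTower R₀ R C]
  [Algebra T C] [IsScalarTower T R C] [IsScalarTower R₀ T C] (ι : C₀ →ₐ[R₀] C)

theorem compat_comul (td : C₀ →ₐ[R₀] T ⊗[R₀] (C₀ ⊗[R₀] C₀))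
    (h : ∀ c, bc R (pairHom R ι ι) (Algebra.TensorProduct.map (IsScalarTower.toAlgHom R₀ T R) (AlgHom.id R₀ _) (td c)) =
      Bialgebra.comulAlgHom R C (ι c)) (x : T ⊗[R₀] C₀) :
    Bialgebra.comulAlgHom R C (bc T ι x) = pairHom R (bc T ι) (bc T ι) (stageD td x) := by
  refine hom_ext (f := ((Bialgebra.comulAlgHom R C).restrictScalars T).comp (bc T ι))
    (g := ((pairHom R (bc T ι) (bc T ι)).comp (stageD td))) (fun c => ?_) x
  rw [AlgHom.comp_apply, AlgHom.comp_apply, AlgHom.restrictScalars_apply, bc_one_tmul, stageD_one_tmul, pair_bc, h]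

theorem compat_counit (et : C₀ →ₐ[R₀] T) (h : ∀ c, algebraMap T R (et c) = Coalgebra.counit (R := R) (ι c))
    (x : T ⊗[R₀] C₀) : Coalgebra.counit (R := R) (bc T ι x) = algebraMap T R (bc T et x) := by
  refine hom_ext (f := ((Bialgebra.counitAlgHom R C).restrictScalars T).comp (bc T ι))
    (g := (IsScalarTower.toAlgHom T T R).comp (bc T et)) (fun c => ?_) x
  simp only [AlgHom.comp_apply, AlgHom.restrictScalars_apply, bc_one_tmul]
  exact (h c).symm

theorem compat_antipode (ts : C₀ →ₐ[R₀] T ⊗[R₀] C₀)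
    (h : ∀ c, bc R ι (Algebra.TensorProduct.map (IsScalarTower.toAlgHom R₀ T R) (AlgHom.id R₀ _) (ts c)) =
      HopfAlgebra.antipodeAlgHom R C (ι c)) (x : T ⊗[R₀] C₀) :
    HopfAlgebra.antipode R (bc T ι x) = bc T ι (bc T ts x) := by
  refine hom_ext (f := ((HopfAlgebra.antipodeAlgHom R C).restrictScalars T).comp (bc T ι))
    (g := (bc T ι).comp (bc T ts)) (fun c => ?_) x
  simp only [AlgHom.comp_apply, AlgHom.restrictScalars_apply, bc_one_tmul]
  rw [bc_map (R := R) ι (ts c), h]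

/-- The structure maps of a stage from lifts. -/
theorem preModel_of_lifts (hι : Function.Bijective (bc R ι)) (td : C₀ →ₐ[R₀] T ⊗[R₀] (C₀ ⊗[R₀] C₀))
    (et : C₀ →ₐ[R₀] T) (ts : C₀ →ₐ[R₀] T ⊗[R₀] C₀)
    (h₁ : ∀ c, bc R (pairHom R ι ι) (Algebra.TensorProduct.map (IsScalarTower.toAlgHom R₀ T R) (AlgHom.id R₀ _) (td c)) =
      Bialgebra.comulAlgHom R C (ι c))
    (h₂ : ∀ c, algebraMap T R (et c) = Coalgebra.counit (R := R) (ι c))
    (h₃ : ∀ c, bc R ι (Algebra.TensorProduct.map (IsScalarTower.toAlgHom R₀ T R) (AlgHom.id R₀ _) (ts c)) =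
      HopfAlgebra.antipodeAlgHom R C (ι c)) :
    ∃ ιT : T ⊗[R₀] C₀ →ₐ[T] C, Function.Bijective (bc R ιT) ∧
      ∃ (d : T ⊗[R₀] C₀ →ₐ[T] (T ⊗[R₀] C₀) ⊗[T] (T ⊗[R₀] C₀)) (e : T ⊗[R₀] C₀ →ₐ[T] T)
        (s : T ⊗[R₀] C₀ →ₐ[T] T ⊗[R₀] C₀),
        (∀ x, Bialgebra.comulAlgHom R C (ιT x) = pairHom R ιT ιT (d x)) ∧
        (∀ x, Coalgebra.counit (R := R) (ιT x) = algebraMap T R (e x)) ∧
        ∀ x, HopfAlgebra.antipode R (ιT x) = ιT (s x) :=
  ⟨bc T ι, bc_trans_bijective ι hι, stageD td, bc T et, bc T ts, compat_comul ι td h₁, compat_counit ι et h₂,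
    compat_antipode ι ts h₃⟩

end preStage

section algebraic

variable {R₀ : Type u} [CommRing R₀] [IsNoetherianRing R₀] {R : Type u} [CommRing R] [Algebra R₀ R]
  {C₀ : Type u} [CommRing C₀] [Algebra R₀ C₀] [Algebra.FiniteType R₀ C₀]
  {C : Type u} [CommRing C] [HopfAlgebra R C] [Algebra R₀ C] [IsScalarTower R₀ R C]

/-- Comultiplication, counit and antipode are defined at a stage. -/
theorem exists_preModel (ι : C₀ →ₐ[R₀] C) (hι : Function.Bijective (bc R ι)) :
    ∃ T : Subalgebra R₀ R, T.FG ∧ ∃ ιT : T ⊗[R₀] C₀ →ₐ[T] C, Function.Bijective (bc R ιT) ∧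
      ∃ (d : T ⊗[R₀] C₀ →ₐ[T] (T ⊗[R₀] C₀) ⊗[T] (T ⊗[R₀] C₀)) (e : T ⊗[R₀] C₀ →ₐ[T] T)
        (s : T ⊗[R₀] C₀ →ₐ[T] T ⊗[R₀] C₀),
        (∀ x, Bialgebra.comulAlgHom R C (ιT x) = pairHom R ιT ιT (d x)) ∧
        (∀ x, Coalgebra.counit (R := R) (ιT x) = algebraMap T R (e x)) ∧
        ∀ x, HopfAlgebra.antipode R (ιT x) = ιT (s x) := by
  classical
  have hι2 : Function.Bijective (bc R (pairHom R ι ι)) := bc_pair_bijective hι hι
  let E1 := AlgEquiv.ofBijective _ hι
  let E2 := AlgEquiv.ofBijective _ hι2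
  let dR : C₀ →ₐ[R₀] R ⊗[R₀] (C₀ ⊗[R₀] C₀) :=
    ((E2.symm.toAlgHom.comp (Bialgebra.comulAlgHom R C)).restrictScalars R₀).comp ι
  let sR : C₀ →ₐ[R₀] R ⊗[R₀] C₀ :=
    ((E1.symm.toAlgHom.comp (HopfAlgebra.antipodeAlgHom R C)).restrictScalars R₀).comp ι
  let eR : C₀ →ₐ[R₀] R := ((Bialgebra.counitAlgHom R C).restrictScalars R₀).comp ι
  obtain ⟨Td, hTd, hd⟩ := exists_stage_lift_hom dR
  obtain ⟨Ts, hTs, hs⟩ := exists_stage_lift_hom sR
  have hTe : eR.range.FG := by
    rw [← Algebra.map_top]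
    exact Subalgebra.FG.map _ Algebra.FiniteType.out
  let T := Td ⊔ Ts ⊔ eR.range
  obtain ⟨td, htd⟩ := hd T (le_sup_left.trans le_sup_left)
  obtain ⟨ts, hts⟩ := hs T (le_sup_right.trans le_sup_left)
  let et : C₀ →ₐ[R₀] T := eR.codRestrict T fun c => (le_sup_right : eR.range ≤ T) ⟨c, rfl⟩
  refine ⟨T, (hTd.sup hTs).sup hTe, preModel_of_lifts ι hι td et ts (fun c => ?_) (fun c => rfl) (fun c => ?_)⟩
  · exact (congrArg E2 (htd c)).trans (E2.apply_symm_apply _)
  · exact (congrArg E1 (hts c)).trans (E1.apply_symm_apply _)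

/-- The axioms of a Hopf algebra hold after tensoring with `R`. -/
theorem axioms_top (ι : C₀ →ₐ[R₀] C) (hι : Function.Bijective (bc R ι))
    (d : C₀ →ₐ[R₀] C₀ ⊗[R₀] C₀) (e : C₀ →ₐ[R₀] R₀) (s : C₀ →ₐ[R₀] C₀)
    (hd : ∀ x, Bialgebra.comulAlgHom R C (ι x) = pairHom R ι ι (d x))
    (he : ∀ x, Coalgebra.counit (R := R) (ι x) = algebraMap R₀ R (e x))
    (hs : ∀ x, HopfAlgebra.antipode R (ι x) = ι (s x)) (c : C₀) :
    ((1 : R) ⊗ₜ[R₀] (((Algebra.TensorProduct.assoc R₀ R₀ R₀ C₀ C₀ C₀).toAlgHom.comp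
        (Algebra.TensorProduct.map d (AlgHom.id R₀ C₀))).comp d) c =
      (1 : R) ⊗ₜ[R₀] ((Algebra.TensorProduct.map (AlgHom.id R₀ C₀) d).comp d) c) ∧
    ((1 : R) ⊗ₜ[R₀] ((Algebra.TensorProduct.lift ((Algebra.ofId R₀ C₀).comp e) (AlgHom.id R₀ C₀)
        fun _ _ => Commute.all _ _).comp d) c = (1 : R) ⊗ₜ[R₀] c) ∧
    ((1 : R) ⊗ₜ[R₀] ((Algebra.TensorProduct.lift (AlgHom.id R₀ C₀) ((Algebra.ofId R₀ C₀).comp e)
        fun _ _ => Commute.all _ _).comp d) c = (1 : R) ⊗ₜ[R₀] c) ∧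
    ((1 : R) ⊗ₜ[R₀] ((Algebra.TensorProduct.lift s (AlgHom.id R₀ C₀)
        fun _ _ => Commute.all _ _).comp d) c = (1 : R) ⊗ₜ[R₀] ((Algebra.ofId R₀ C₀).comp e) c) ∧
    ((1 : R) ⊗ₜ[R₀] ((Algebra.TensorProduct.lift (AlgHom.id R₀ C₀) s
        fun _ _ => Commute.all _ _).comp d) c = (1 : R) ⊗ₜ[R₀] ((Algebra.ofId R₀ C₀).comp e) c) := by
  classical
  let oe := (Algebra.ofId R₀ C₀).comp e
  let εC := (Algebra.ofId R C).comp (Bialgebra.counitAlgHom R C)
  let σC := HopfAlgebra.antipodeAlgHom R C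
  have hoe : ∀ x, εC (ι x) = ι (oe x) := fun x => by
    show algebraMap R C (Coalgebra.counit (R := R) (ι x)) = ι (algebraMap R₀ C₀ (e x))
    rw [he, ι.commutes, ← IsScalarTower.algebraMap_apply]
  have hinj : ∀ (u v : C₀), ι u = ι v → (1 : R) ⊗ₜ[R₀] u = (1 : R) ⊗ₜ[R₀] v := fun u v h =>
    hι.1 (by rw [bc_one_tmul, bc_one_tmul, h])
  have hinj3 : ∀ (u v : C₀ ⊗[R₀] (C₀ ⊗[R₀] C₀)), pairHom R ι (pairHom R ι ι) u = pairHom R ι (pairHom R ι ι) v →
      (1 : R) ⊗ₜ[R₀] u = (1 : R) ⊗ₜ[R₀] v := fun u v h =>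
    (bc_pair_bijective hι (bc_pair_bijective hι hι)).1 (by rw [bc_one_tmul, bc_one_tmul, h])
  let idC := AlgHom.id R C
  let id₀ := AlgHom.id R₀ C₀
  have hC : ∀ x : C,
      Algebra.TensorProduct.lift εC idC (fun _ _ => Commute.all _ _) (Bialgebra.comulAlgHom R C x) = x ∧
      Algebra.TensorProduct.lift idC εC (fun _ _ => Commute.all _ _) (Bialgebra.comulAlgHom R C x) = x ∧
      Algebra.TensorProduct.lift σC idC (fun _ _ => Commute.all _ _) (Bialgebra.comulAlgHom R C x) = εC x ∧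
      Algebra.TensorProduct.lift idC σC (fun _ _ => Commute.all _ _) (Bialgebra.comulAlgHom R C x) = εC x := by
    intro x
    refine ⟨?_, ?_, ?_, ?_⟩
    · have h := congrArg (TensorProduct.lid R C) (Coalgebra.rTensor_counit_comul (R := R) x)
      rw [TensorProduct.lid_tmul, one_smul] at h
      refine Eq.trans ?_ h
      rw [Bialgebra.comulAlgHom_apply]
      generalize Coalgebra.comul (R := R) x = z
      induction z using TensorProduct.induction_on with
      | zero => simp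
      | tmul p q => simp [εC, idC, Algebra.smul_def]
      | add p q hp hq => simp only [map_add, hp, hq]
    · have h := congrArg (TensorProduct.rid R C) (Coalgebra.lTensor_counit_comul (R := R) x)
      rw [TensorProduct.rid_tmul, one_smul] at h
      refine Eq.trans ?_ h
      rw [Bialgebra.comulAlgHom_apply]
      generalize Coalgebra.comul (R := R) x = z
      induction z using TensorProduct.induction_on with
      | zero => simp
      | tmul p q => simp [εC, idC, Algebra.smul_def, mul_comm]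
      | add p q hp hq => simp only [map_add, hp, hq]
    · refine Eq.trans ?_ (HopfAlgebra.mul_antipode_rTensor_comul_apply (R := R) x)
      rw [Bialgebra.comulAlgHom_apply]
      generalize Coalgebra.comul (R := R) x = z
      induction z using TensorProduct.induction_on with
      | zero => simp
      | tmul p q => simp [σC, idC]
      | add p q hp hq => simp only [map_add, hp, hq]
    · refine Eq.trans ?_ (HopfAlgebra.mul_antipode_lTensor_comul_apply (R := R) x)
      rw [Bialgebra.comulAlgHom_apply]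
      generalize Coalgebra.comul (R := R) x = z
      induction z using TensorProduct.induction_on with
      | zero => simp
      | tmul p q => simp [σC, idC]
      | add p q hp hq => simp only [map_add, hp, hq]
  have hid : ∀ x, idC (ι x) = ι (id₀ x) := fun _ => rfl
  refine ⟨hinj3 _ _ ?_, hinj _ _ ?_, hinj _ _ ?_, hinj _ _ ?_, hinj _ _ ?_⟩
  · exact (sq_left ι d (Bialgebra.comulAlgHom R C) hd c).symm.trans ((Coalgebra.coassoc_apply (R := R) (ι c)).trans
      (sq_right ι d (Bialgebra.comulAlgHom R C) hd c))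
  · exact (sq_lift ι d (Bialgebra.comulAlgHom R C) hd hoe hid c).symm.trans (hC _).1
  · exact (sq_lift ι d (Bialgebra.comulAlgHom R C) hd hid hoe c).symm.trans (hC _).2.1
  · exact (sq_lift ι d (Bialgebra.comulAlgHom R C) hd hs hid c).symm.trans ((hC _).2.2.1.trans (hoe c))
  · exact (sq_lift ι d (Bialgebra.comulAlgHom R C) hd hid hs c).symm.trans ((hC _).2.2.2.trans (hoe c))

omit [IsNoetherianRing R₀] in
/-- A Hopf algebra at a stage where the axioms hold. -/
theorem exists_hopf_of_stage {T : Type u} [CommRing T] [Algebra R₀ T] [Algebra T R] [IsScalarTower R₀ T R]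
    (ι : C₀ →ₐ[R₀] C) (hι : Function.Bijective (bc R ι))
    (d : C₀ →ₐ[R₀] C₀ ⊗[R₀] C₀) (e : C₀ →ₐ[R₀] R₀) (s : C₀ →ₐ[R₀] C₀)
    (hd : ∀ x, Bialgebra.comulAlgHom R C (ι x) = pairHom R ι ι (d x))
    (he : ∀ x, Coalgebra.counit (R := R) (ι x) = algebraMap R₀ R (e x))
    (h₁ : ∀ c, (1 : T) ⊗ₜ[R₀] (((Algebra.TensorProduct.assoc R₀ R₀ R₀ C₀ C₀ C₀).toAlgHom.comp
        (Algebra.TensorProduct.map d (AlgHom.id R₀ C₀))).comp d) c =
      (1 : T) ⊗ₜ[R₀] ((Algebra.TensorProduct.map (AlgHom.id R₀ C₀) d).comp d) c)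
    (h₂ : ∀ c, (1 : T) ⊗ₜ[R₀] ((Algebra.TensorProduct.lift ((Algebra.ofId R₀ C₀).comp e) (AlgHom.id R₀ C₀)
        fun _ _ => Commute.all _ _).comp d) c = (1 : T) ⊗ₜ[R₀] c)
    (h₃ : ∀ c, (1 : T) ⊗ₜ[R₀] ((Algebra.TensorProduct.lift (AlgHom.id R₀ C₀) ((Algebra.ofId R₀ C₀).comp e)
        fun _ _ => Commute.all _ _).comp d) c = (1 : T) ⊗ₜ[R₀] c)
    (h₄ : ∀ c, (1 : T) ⊗ₜ[R₀] ((Algebra.TensorProduct.lift s (AlgHom.id R₀ C₀)
        fun _ _ => Commute.all _ _).comp d) c = (1 : T) ⊗ₜ[R₀] ((Algebra.ofId R₀ C₀).comp e) c)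
    (h₅ : ∀ c, (1 : T) ⊗ₜ[R₀] ((Algebra.TensorProduct.lift (AlgHom.id R₀ C₀) s
        fun _ _ => Commute.all _ _).comp d) c = (1 : T) ⊗ₜ[R₀] ((Algebra.ofId R₀ C₀).comp e) c) :
    ∃ (C₁ : Type u) (_ : CommRing C₁) (_ : HopfAlgebra T C₁),
      Algebra.FiniteType T C₁ ∧ Nonempty ((R ⊗[T] C₁) ≃ₐc[R] C) := by
  obtain ⟨Δ, ε, σ, hax, hΔ, hε⟩ := exists_stage_maps (T := T) d e s h₁ h₂ h₃ h₄ h₅
  refine exists_hopf_generic (R₀ := R₀) hax (Algebra.TensorProduct.includeRight : C₀ →ₐ[R₀] T ⊗[R₀] C₀)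
    ((Algebra.TensorProduct.cancelBaseChange R₀ T R R C₀).trans (AlgEquiv.ofBijective _ hι)) ι (fun c => ?_) ?_ d e
    hΔ hε hd he
  · show bc R ι (Algebra.TensorProduct.cancelBaseChange R₀ T R R C₀ ((1 : R) ⊗ₜ[T] ((1 : T) ⊗ₜ[R₀] c))) = _
    rw [Algebra.TensorProduct.cancelBaseChange_tmul, one_smul, bc_one_tmul]
  · refine eq_top_iff.2 fun x _ => ?_
    induction x using TensorProduct.induction_on with
    | zero => exact zero_mem _
    | add a b ha hb => exact add_mem (ha trivial) (hb trivial)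
    | tmul t c =>
      rw [show t ⊗ₜ[R₀] c = t • ((1 : T) ⊗ₜ[R₀] c) by rw [TensorProduct.smul_tmul', smul_eq_mul, mul_one]]
      exact Subalgebra.smul_mem _ (Algebra.subset_adjoin (Set.mem_range_self c)) t

/-- The axioms hold at a stage. -/
theorem exists_hopfModel_of_pre (ι : C₀ →ₐ[R₀] C) (hι : Function.Bijective (bc R ι))
    (d : C₀ →ₐ[R₀] C₀ ⊗[R₀] C₀) (e : C₀ →ₐ[R₀] R₀) (s : C₀ →ₐ[R₀] C₀)
    (hd : ∀ x, Bialgebra.comulAlgHom R C (ι x) = pairHom R ι ι (d x))
    (he : ∀ x, Coalgebra.counit (R := R) (ι x) = algebraMap R₀ R (e x))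
    (hs : ∀ x, HopfAlgebra.antipode R (ι x) = ι (s x)) :
    ∃ T : Subalgebra R₀ R, T.FG ∧ ∃ (C₁ : Type u) (_ : CommRing C₁) (_ : HopfAlgebra T C₁),
      Algebra.FiniteType T C₁ ∧ Nonempty ((R ⊗[T] C₁) ≃ₐc[R] C) := by
  classical
  have h := axioms_top ι hι d e s hd he hs
  obtain ⟨T₁, hT₁, h₁⟩ := exists_stage_eq_hom (R := R) _ _ fun c => (h c).1
  obtain ⟨T₂, hT₂, h₂⟩ := exists_stage_eq_hom (R := R) _ (AlgHom.id R₀ C₀) fun c => (h c).2.1
  obtain ⟨T₃, hT₃, h₃⟩ := exists_stage_eq_hom (R := R) _ (AlgHom.id R₀ C₀) fun c => (h c).2.2.1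
  obtain ⟨T₄, hT₄, h₄⟩ := exists_stage_eq_hom (R := R) _ _ fun c => (h c).2.2.2.1
  obtain ⟨T₅, hT₅, h₅⟩ := exists_stage_eq_hom (R := R) _ _ fun c => (h c).2.2.2.2
  exact ⟨T₁ ⊔ T₂ ⊔ T₃ ⊔ T₄ ⊔ T₅, (((hT₁.sup hT₂).sup hT₃).sup hT₄).sup hT₅,
    exists_hopf_of_stage ι hι d e s hd he
      (h₁ _ (((le_sup_left.trans le_sup_left).trans le_sup_left).trans le_sup_left))
      (h₂ _ (((le_sup_right.trans le_sup_left).trans le_sup_left).trans le_sup_left))
      (h₃ _ ((le_sup_right.trans le_sup_left).trans le_sup_left))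
      (h₄ _ (le_sup_right.trans le_sup_left)) (h₅ _ le_sup_right)⟩

/-- An equivalence with a base change gives a bijective extension. -/
theorem exists_bc_of_equiv {R₀ R C₀ C : Type u} [CommRing R₀] [CommRing R] [Algebra R₀ R] [CommRing C₀] [Algebra R₀ C₀]
    [CommRing C] [Algebra R C] [Algebra R₀ C] [IsScalarTower R₀ R C] (E : (R ⊗[R₀] C₀) ≃ₐ[R] C) :
    ∃ ι : C₀ →ₐ[R₀] C, Function.Bijective (bc R ι) := by
  refine ⟨(E.toAlgHom.restrictScalars R₀).comp Algebra.TensorProduct.includeRight, ?_⟩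
  rw [show bc R ((E.toAlgHom.restrictScalars R₀).comp Algebra.TensorProduct.includeRight) = E.toAlgHom from
    Algebra.TensorProduct.ext (Subsingleton.elim _ _) (AlgHom.ext fun c => bc_one_tmul _ c)]
  exact E.bijective

/-- A finitely presented algebra is defined over a Noetherian ring. -/
theorem exists_algebra_model (R : Type u) [CommRing R] (C : Type u) [CommRing C] [Algebra R C]
    [Algebra.FinitePresentation R C] :
    ∃ (R₀ : Type u) (_ : CommRing R₀) (_ : IsNoetherianRing R₀) (_ : Algebra R₀ R) (_ : Algebra R₀ C)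
      (_ : IsScalarTower R₀ R C) (C₀ : Type u) (_ : CommRing C₀) (_ : Algebra R₀ C₀) (ι : C₀ →ₐ[R₀] C),
      Algebra.FiniteType R₀ C₀ ∧ Function.Bijective (bc R ι) := by
  let P := Algebra.Presentation.ofFinitePresentation R C
  haveI : IsNoetherianRing P.Core := Algebra.FiniteType.isNoetherianRing ℤ P.Core
  obtain ⟨ι, hι⟩ := exists_bc_of_equiv (P.tensorModelOfHasCoeffsEquiv P.Core)
  exact ⟨P.Core, inferInstance, inferInstance, inferInstance, inferInstance, inferInstance,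
    P.ModelOfHasCoeffs P.Core, inferInstance, inferInstance, ι, inferInstance, hι⟩

/-- A finitely presented Hopf algebra is defined over a Noetherian ring. -/
theorem exists_noetherian_hopf_model (R : Type u) [CommRing R] (C : Type u) [CommRing C] [HopfAlgebra R C]
    [Algebra.FinitePresentation R C] :
    ∃ (R₀ : Type u) (_ : CommRing R₀) (_ : IsNoetherianRing R₀) (_ : Algebra R₀ R)
      (C₀ : Type u) (_ : CommRing C₀) (_ : HopfAlgebra R₀ C₀), Algebra.FiniteType R₀ C₀ ∧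
      Nonempty ((R ⊗[R₀] C₀) ≃ₐc[R] C) := by
  obtain ⟨A, _, _, _, _, _, C₀, _, _, ι, hft₀, hι⟩ := exists_algebra_model R C
  haveI := hft₀
  obtain ⟨T, hT, ιT, hιT, d, e, s, hd, he, hs⟩ := exists_preModel ι hι
  haveI : Algebra.FiniteType A T := T.fg_iff_finiteType.1 hT
  haveI : IsNoetherianRing T := Algebra.FiniteType.isNoetherianRing A T
  obtain ⟨T', hT', C₁, iC₁, hH, hft, ⟨φ⟩⟩ := exists_hopfModel_of_pre ιT hιT d e s hd he hs
  haveI : Algebra.FiniteType T T' := T'.fg_iff_finiteType.1 hT'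
  exact ⟨T', inferInstance, Algebra.FiniteType.isNoetherianRing T T', inferInstance, C₁, iC₁, hH, hft, ⟨φ⟩⟩

end algebraic

end Groth.Agent.H19Mult.HopfModel
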