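import Groth.Agent.H19Mult.Lift

/-!
Groups of multiplicative type have an invariant integral.
-/

set_option autoImplicit false
set_option linter.style.haveILetI false
set_option backward.isDefEq.respectTransparency false

universe u

open TensorProduct Coalgebra

namespace Groth.Agent.H19Mult

variable {R : Type u} [CommRing R] {A : Type u} [CommRing A] [HopfAlgebra R A]

/-- A normalised two-sided invariant functional with values in an algebra. -/
def IsInt (Q : Type u) [CommRing Q] [Algebra R Q] (f : A →ₗ[R] Q) : Prop :=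
  f 1 = 1 ∧ ∀ a, TensorProduct.map f (LinearMap.id (M := A)) (TensorProduct.comm R A A (comul a)) = f a ⊗ₜ[R] (1 : A) ∧
    TensorProduct.map f (LinearMap.id (M := A)) (comul a) = f a ⊗ₜ[R] (1 : A)

theorem IsInt.push {Q Q' : Type u} [CommRing Q] [Algebra R Q] [CommRing Q'] [Algebra R Q'] {f : A →ₗ[R] Q}
    (h : IsInt Q f) (g : Q →ₐ[R] Q') : IsInt Q' (g.toLinearMap ∘ₗ f) := by
  refine ⟨by simp [h.1], fun a => ?_⟩
  obtain ⟨h1, h2⟩ := h.2 a
  constructor
  · have := congrArg (TensorProduct.map g.toLinearMap (LinearMap.id (M := A))) h1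
    rw [TensorProduct.map_map, LinearMap.id_comp] at this
    rw [this]; rfl
  · have := congrArg (TensorProduct.map g.toLinearMap (LinearMap.id (M := A))) h2
    rw [TensorProduct.map_map, LinearMap.id_comp] at this
    rw [this]; rfl

theorem IsInt.unique {Q : Type u} [CommRing Q] [Algebra R Q] {f g : A →ₗ[R] Q} (hf : IsInt Q f) (hg : IsInt Q g) :
    f = g := by
  refine LinearMap.ext fun a => ?_
  let m : ∀ g : A →ₗ[R] Q, Q ⊗[R] A →ₗ[R] Q := fun g => LinearMap.mul' R Q ∘ₗ TensorProduct.map LinearMap.id g
  have h1 := congrArg (m g) (hf.2 a).2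
  have h2 := congrArg (m f) (hg.2 a).1
  simp only [m, LinearMap.comp_apply, TensorProduct.map_tmul, LinearMap.id_apply, hf.1, hg.1,
    LinearMap.mul'_apply, _root_.mul_one] at h1 h2
  rw [← h1, ← h2]
  generalize comul (R := R) a = z
  induction z using TensorProduct.induction_on with
  | zero => simp
  | tmul x y => simp [mul_comm]
  | add x y hx hy => simp only [map_add, hx, hy]

theorem exists_isInt_chart {P : Type u} [CommRing P] [Algebra R P] (h : SGA3b.IsDiag P (P ⊗[R] A)) :
    ∃ f : A →ₗ[R] P, IsInt P f := by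
  classical
  obtain ⟨M, _, ⟨e⟩⟩ := h
  let α : (P ⊗[R] A) →ₗ[P] P := coefL (R := P) (1 : M) ∘ₗ (e : (P ⊗[R] A) →ₐc[P] MonoidAlgebra P M).toLinearMap
  refine ⟨α.restrictScalars R ∘ₗ TensorProduct.mk R P A 1, ?_, fun a => ?_⟩
  · show coefL (1 : M) (e 1) = 1
    rw [map_one, MonoidAlgebra.one_def]
    simp
  · let e' := (e : (P ⊗[R] A) →ₐc[P] MonoidAlgebra P M)
    have he : Function.Injective e' := e.injective
    -- slicing over `P`
    let sl : (P ⊗[R] A) ⊗[P] (P ⊗[R] A) →ₗ[P] P ⊗[R] A := (TensorProduct.rid P _).toLinearMap ∘ₗ α.lTensor _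
    let sr : (P ⊗[R] A) ⊗[P] (P ⊗[R] A) →ₗ[P] P ⊗[R] A := (TensorProduct.lid P _).toLinearMap ∘ₗ α.rTensor _
    let Sl : MonoidAlgebra P M ⊗[P] MonoidAlgebra P M →ₗ[P] MonoidAlgebra P M :=
      (TensorProduct.rid P _).toLinearMap ∘ₗ (coefL (1 : M)).lTensor _
    let Sr : MonoidAlgebra P M ⊗[P] MonoidAlgebra P M →ₗ[P] MonoidAlgebra P M :=
      (TensorProduct.lid P _).toLinearMap ∘ₗ (coefL (1 : M)).rTensor _
    have hn : ∀ z, e' (sl z) = Sl (TensorProduct.map e'.toLinearMap e'.toLinearMap z) ∧
        e' (sr z) = Sr (TensorProduct.map e'.toLinearMap e'.toLinearMap z) := by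
      intro z
      induction z using TensorProduct.induction_on with
      | zero => simp
      | tmul x y => exact ⟨by simp [sl, Sl, α, e'] <;> rfl, by simp [sr, Sr, α, e'] <;> rfl⟩
      | add x y hx hy => simp only [map_add, hx.1, hx.2, hy.1, hy.2, and_self]
    have key : ∀ x : MonoidAlgebra P M, Sl (comul x) = coefL (1 : M) x • 1 ∧ Sr (comul x) = coefL (1 : M) x • 1 := by
      intro x
      induction x using MonoidAlgebra.induction_linear with
      | zero => simp
      | add u v hu hv => simp only [map_add, hu.1, hu.2, hv.1, hv.2, add_smul, and_self]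
      | single m r =>
        rw [MonoidAlgebra.comul_single, CommSemiring.comul_apply]
        by_cases hm : m = 1
        · subst hm
          simp [Sl, Sr, MonoidAlgebra.lsingle_apply, coefL_single, MonoidAlgebra.one_def]
        · simp [Sl, Sr, MonoidAlgebra.lsingle_apply, coefL_single, hm]
    have hb : ∀ x, sl (comul x) = α x • 1 ∧ sr (comul x) = α x • 1 := by
      intro x
      have hc : TensorProduct.map e'.toLinearMap e'.toLinearMap (comul x) = comul (e' x) :=
        CoalgHomClass.map_comp_comul_apply e' x
      constructor <;> apply he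
      · rw [(hn _).1, hc, (key _).1, map_smul, map_one]; rfl
      · rw [(hn _).2, hc, (key _).2, map_smul, map_one]; rfl
    obtain ⟨h1, h2⟩ := hb (1 ⊗ₜ a)
    simp only [TensorProduct.comul_tmul, CommSemiring.comul_apply, Algebra.smul_def] at h1 h2
    have hr : (α.restrictScalars R ∘ₗ TensorProduct.mk R P A 1) a ⊗ₜ[R] (1 : A) =
        algebraMap P (P ⊗[R] A) (α (1 ⊗ₜ a)) * 1 := by
      simp [Algebra.TensorProduct.algebraMap_apply]
    rw [hr, ← h1]
    refine ⟨?_, h1.symm ▸ ?_⟩
    · generalize comul (R := R) a = z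
      induction z using TensorProduct.induction_on with
      | zero => simp
      | tmul x y => simp [sl, TensorProduct.smul_tmul']
      | add x y hx hy => simp only [TensorProduct.tmul_add, map_add, hx, hy]
    · rw [← h2]
      generalize comul (R := R) a = z
      induction z using TensorProduct.induction_on with
      | zero => simp
      | tmul x y => simp [sr, TensorProduct.smul_tmul']
      | add x y hx hy => simp only [TensorProduct.tmul_add, map_add, hx, hy]

/-- Groups of multiplicative type have a normalised invariant integral. -/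
theorem exists_isInt (h : SGA3b.IsMultType R A) : ∃ α : A →ₗ[R] R, IsInt R α := by
  obtain ⟨n, P, _, _, hfl, hcov, hd⟩ := exists_finite_charts h
  haveI := hfl
  choose f hf using fun i => exists_isInt_chart (hd i)
  have hinj : ∀ r r' : R, (∀ i, algebraMap R (P i) r = algebraMap R (P i) r') → r = r' := by
    intro r r' H
    refine sub_eq_zero.1 (eq_zero_of_charts (R := R) (r - r') fun p => ?_)
    obtain ⟨i, hp⟩ := hcov p
    refine ⟨P i, inferInstance, inferInstance, hfl i, hp, ?_⟩
    apply (TensorProduct.rid R (P i)).injective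
    simp [Algebra.smul_def, H i]
  have hex : ∀ a, ∃ r : R, ∀ i, algebraMap R (P i) r = f i a := by
    intro a
    obtain ⟨r, hr⟩ := exists_of_family P hcov (N := R) (fun i => f i a ⊗ₜ[R] (1 : R)) fun i j => by
      let l : P i →ₐ[R] P i ⊗[R] P j := Algebra.TensorProduct.includeLeft
      let r : P j →ₐ[R] P i ⊗[R] P j := Algebra.TensorProduct.includeRight
      have := LinearMap.congr_fun (((hf i).push l).unique ((hf j).push r)) a
      simp only [LinearMap.comp_apply, AlgHom.toLinearMap_apply, l, r, Algebra.TensorProduct.includeLeft_apply,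
        Algebra.TensorProduct.includeRight_apply] at this
      have h2 := congrArg ((TensorProduct.assoc R (P i) (P j) R).toLinearMap ∘ₗ
        (TensorProduct.mk R (P i ⊗[R] P j) R).flip 1) this
      simp at h2
      simpa using h2.symm
    refine ⟨r, fun i => ?_⟩
    have := congrArg (TensorProduct.rid R (P i)) (hr i)
    simpa [Algebra.smul_def] using this
  choose r hr using hex
  refine ⟨{ toFun := r
            map_add' := fun a b => hinj _ _ fun i => by simp [hr]
            map_smul' := fun s a => hinj _ _ fun i => by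
              rw [RingHom.id_apply, smul_eq_mul, map_mul, hr, hr, map_smul, Algebra.smul_def] }, hinj _ _ fun i => by simp [hr, (hf i).1], fun a => ?_⟩
  have key : ∀ z : A ⊗[R] A, ∀ c : R,
      (∀ i, TensorProduct.map (f i) (LinearMap.id (M := A)) z = algebraMap R (P i) c ⊗ₜ[R] (1 : A)) →
      ∀ (α : A →ₗ[R] R), (∀ i x, algebraMap R (P i) (α x) = f i x) →
      TensorProduct.map α (LinearMap.id (M := A)) z = c ⊗ₜ[R] (1 : A) := by
    intro z c hz α hα
    apply (TensorProduct.lid R A).injective
    refine sub_eq_zero.1 (eq_zero_of_charts (R := R) _ fun p => ?_)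
    obtain ⟨i, hp⟩ := hcov p
    refine ⟨P i, inferInstance, inferInstance, hfl i, hp, ?_⟩
    rw [TensorProduct.tmul_sub, sub_eq_zero]
    have e : ∀ w : A ⊗[R] A, (1 : P i) ⊗ₜ[R] TensorProduct.lid R A (TensorProduct.map α LinearMap.id w) =
        TensorProduct.map (f i) LinearMap.id w := by
      intro w
      induction w using TensorProduct.induction_on with
      | zero => simp
      | tmul x y =>
        rw [TensorProduct.map_tmul, TensorProduct.lid_tmul, LinearMap.id_apply, TensorProduct.tmul_smul,
          TensorProduct.smul_tmul', Algebra.smul_def, _root_.mul_one, TensorProduct.map_tmul,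
          LinearMap.id_apply, hα]
      | add x y hx hy => simp only [map_add, TensorProduct.tmul_add, hx, hy]
    rw [e, hz i, TensorProduct.lid_tmul, TensorProduct.tmul_smul, TensorProduct.smul_tmul', Algebra.smul_def,
      _root_.mul_one]
  exact ⟨key _ _ (fun i => by rw [((hf i).2 a).1]; exact congrArg (· ⊗ₜ[R] (1 : A)) (hr a i).symm) _ fun i x => hr x i,
    key _ _ (fun i => by rw [((hf i).2 a).2]; exact congrArg (· ⊗ₜ[R] (1 : A)) (hr a i).symm) _ fun i x => hr x i⟩

end Groth.Agent.H19Mult
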