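import Groth.Agent.H19Mult.Charts
import Groth.Agent.H19Mult.Quotient

/-!
The kernel of a homomorphism into a group of multiplicative type of finite type.
-/

set_option autoImplicit false
set_option linter.style.haveILetI false
set_option backward.isDefEq.respectTransparency false

universe u

open TensorProduct Coalgebra

namespace Groth.Agent.H19Mult

variable {R : Type u} [CommRing R] {A : Type u} [CommRing A] [HopfAlgebra R A]

theorem powConv_one (c : A) : SGA3b.powConv R A 1 c = c := by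
  show ((WithConv.toConv (AlgHom.id R A)) ^ 1).ofConv c = c
  rw [pow_one]
  rfl

theorem torsionIdeal_one : SGA3b.torsionIdeal R A 1 = RingHom.ker (Bialgebra.counitAlgHom R A) := by
  show Ideal.map (SGA3b.powConv R A 1).toRingHom _ = _
  rw [show (SGA3b.powConv R A 1).toRingHom = RingHom.id A from RingHom.ext powConv_one, Ideal.map_id]

/-- A family of group-like elements of a group algebra becomes constant on a cover. -/
theorem exists_constant_cover {W : Type u} [CommRing W] {L M : Type u} [CommGroup L] [CommGroup M] [Group.FG L]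
    (Φ : MonoidAlgebra W L →ₐc[W] MonoidAlgebra W M) :
    ∃ s : Finset W, Ideal.span (s : Set W) = ⊤ ∧ ∀ c ∈ s, ∀ l, ∃ m,
      MonoidAlgebra.mapRingHom M (algebraMap W (Localization.Away c)) (Φ (MonoidAlgebra.single l 1)) =
        MonoidAlgebra.single m 1 := by
  classical
  have hgl : ∀ l, IsGroupLikeElem W (Φ (MonoidAlgebra.single l 1)) := fun l =>
    (MonoidAlgebra.isGroupLikeElem_single_one l).map Φ
  obtain ⟨S, hS⟩ := (inferInstance : Group.FG L).out
  let F : L → Finset M := fun l => (Φ (MonoidAlgebra.single l 1)).coeff.support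
  let val : (∀ l ∈ S, M) → W := fun g => ∏ l ∈ S.attach, coefL (g l.1 l.2) (Φ (MonoidAlgebra.single l.1 1))
  refine ⟨(S.pi F).image val, ?_, fun c hc => ?_⟩
  · have hone : ∀ l, ∑ m ∈ F l, coefL m (Φ (MonoidAlgebra.single l 1)) = 1 := fun l => by
      have h := congrArg (counit (R := W)) (MonoidAlgebra.sum_coeff_single (Φ (MonoidAlgebra.single l 1)))
      rw [(hgl l).counit_eq_one, map_finsuppSum] at h
      simp only [MonoidAlgebra.counit_single, CommSemiring.counit_apply] at h
      exact h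
    rw [Ideal.eq_top_iff_one]
    have h1 : (1 : W) = ∏ l ∈ S, ∑ m ∈ F l, coefL m (Φ (MonoidAlgebra.single l 1)) :=
      (Finset.prod_eq_one fun l _ => hone l).symm
    rw [h1, Finset.prod_sum]
    exact Ideal.sum_mem _ fun g hg => Ideal.subset_span (Finset.mem_image.2 ⟨g, hg, rfl⟩)
  obtain ⟨g, -, rfl⟩ := Finset.mem_image.1 hc
  let T := Localization.Away (val g)
  let τ := MonoidAlgebra.mapRingHom M (algebraMap W T)
  let H₀ : Subgroup L :=
    { carrier := {l | ∃ m, τ (Φ (MonoidAlgebra.single l 1)) = MonoidAlgebra.single m 1}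
      one_mem' := ⟨1, by rw [← MonoidAlgebra.one_def, map_one, map_one, MonoidAlgebra.one_def]⟩
      mul_mem' := by
        rintro x y ⟨m, hm⟩ ⟨n, hn⟩
        refine ⟨m * n, ?_⟩
        rw [show MonoidAlgebra.single (x * y) (1 : W) = MonoidAlgebra.single x 1 * MonoidAlgebra.single y 1 by
          rw [MonoidAlgebra.single_mul_single, _root_.one_mul], map_mul, map_mul, hm, hn,
          MonoidAlgebra.single_mul_single, _root_.one_mul]
      inv_mem' := by
        rintro x ⟨m, hm⟩
        refine ⟨m⁻¹, ?_⟩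
        calc τ (Φ (MonoidAlgebra.single x⁻¹ 1))
            = τ (Φ (MonoidAlgebra.single x⁻¹ 1)) * (MonoidAlgebra.single m 1 * MonoidAlgebra.single m⁻¹ 1) := by
              rw [MonoidAlgebra.single_mul_single, mul_inv_cancel, _root_.mul_one, ← MonoidAlgebra.one_def,
                _root_.mul_one]
          _ = τ (Φ (MonoidAlgebra.single x⁻¹ 1 * MonoidAlgebra.single x 1)) * MonoidAlgebra.single m⁻¹ 1 := by
              rw [map_mul, map_mul, hm, _root_.mul_assoc]
          _ = MonoidAlgebra.single m⁻¹ 1 := by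
              rw [MonoidAlgebra.single_mul_single, inv_mul_cancel, _root_.mul_one, ← MonoidAlgebra.one_def, map_one,
                map_one, _root_.one_mul] }
  have hH₀ : H₀ = ⊤ := by
    rw [eq_top_iff, ← hS, Subgroup.closure_le]
    intro l hl
    refine ⟨g l hl, ext_coef fun m => ?_⟩
    have hu : IsUnit (algebraMap W T (coefL (g l hl) (Φ (MonoidAlgebra.single l 1)))) := by
      refine isUnit_of_dvd_unit (map_dvd (algebraMap W T) ?_) (IsLocalization.Away.algebraMap_isUnit (val g))
      exact Finset.dvd_prod_of_mem (fun l : {x // x ∈ S} => coefL (g l.1 l.2) (Φ (MonoidAlgebra.single l.1 1)))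
        (Finset.mem_attach S ⟨l, hl⟩)
    show coefL m (τ _) = _
    rw [coefL_mapRingHom, coefL_single]
    by_cases hm : g l hl = m
    · subst hm
      rw [if_pos rfl]
      exact hu.mul_left_cancel (by rw [← map_mul, groupLike_coef_idem (hgl l), _root_.mul_one])
    · rw [if_neg hm]
      exact hu.mul_right_eq_zero.1 (by rw [← map_mul, groupLike_coef_mul (hgl l), if_neg hm, map_zero])
  exact fun l => show l ∈ H₀ by rw [hH₀]; trivial

theorem isDiag_subsingleton {T : Type u} [CommRing T] [Subsingleton T] (B : Type u) [CommRing B] [HopfAlgebra T B]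
    (M : Type u) [CommGroup M] : SGA3b.IsDiag T B := by
  haveI : Subsingleton B := Module.subsingleton T _
  haveI : Subsingleton (MonoidAlgebra T M) := Module.subsingleton T _
  exact ⟨M, inferInstance, ⟨BialgEquiv.ofBijective
    ((Bialgebra.unitBialgHom T (MonoidAlgebra T M)).comp (Bialgebra.counitBialgHom T B))
    ⟨fun _ _ _ => Subsingleton.elim _ _, fun y => ⟨0, Subsingleton.elim _ _⟩⟩⟩⟩

variable {C : Type u} [CommRing C] [HopfAlgebra R C]

theorem chartHom_natural {W T : Type u} [CommRing W] [Algebra R W] [CommRing T] [Algebra R T] [Algebra W T]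
    [IsScalarTower R W T] {M : Type u} [CommGroup M] (eA : (W ⊗[R] A) ≃ₐc[W] MonoidAlgebra W M)
    (eT : (T ⊗[R] A) ≃ₐc[T] MonoidAlgebra T M)
    (heT : ∀ (z : W ⊗[R] A) (m : M),
      coefL m (eT (mapA (IsScalarTower.toAlgHom R W T) z)) = algebraMap W T (coefL m (eA z)))
    (φ : C →ₐc[R] A) (z : W ⊗[R] C) :
    chartHom eT φ (mapA (IsScalarTower.toAlgHom R W T) z) =
      MonoidAlgebra.mapRingHom M (algebraMap W T) (chartHom eA φ z) := by
  induction z using TensorProduct.induction_on with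
  | zero => simp
  | add u v hu hv => simp only [map_add, hu, hv]
  | tmul w x =>
    refine ext_coef fun m => ?_
    rw [coefL_mapRingHom, mapA_tmul, chartHom_tmul, chartHom_tmul, ← heT, mapA_tmul]

theorem isDiag_kernel_of_singles {T : Type u} [CommRing T] [Algebra R T] {M L : Type u} [CommGroup M] [CommGroup L]
    (eT : (T ⊗[R] A) ≃ₐc[T] MonoidAlgebra T M) (eCT : (T ⊗[R] C) ≃ₐc[T] MonoidAlgebra T L) (φ : C →ₐc[R] A)
    (J : Ideal A) [J.IsHopfIdeal R] (hJ : J = Ideal.map φ (RingHom.ker (Bialgebra.counitAlgHom R C)))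
    (hall : ∀ l, ∃ m, chartHom eT φ (eCT.symm (MonoidAlgebra.single l 1)) = MonoidAlgebra.single m 1) :
    SGA3b.IsDiag T (T ⊗[R] (A ⧸ J)) := by
  rcases subsingleton_or_nontrivial T with hT | hT
  · exact isDiag_subsingleton _ M
  let ΦT : MonoidAlgebra T L →ₐc[T] MonoidAlgebra T M :=
    (chartHom eT φ).comp (eCT.symm : MonoidAlgebra T L →ₐc[T] (T ⊗[R] C))
  choose θ hθ using hall
  change ∀ l, ΦT (MonoidAlgebra.single l 1) = MonoidAlgebra.single (θ l) 1 at hθ
  have hθmul : ∀ x y, θ (x * y) = θ x * θ y := fun x y => by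
    apply MonoidAlgebra.single_left_injective (R := T) one_ne_zero
    show MonoidAlgebra.single (θ (x * y)) (1 : T) = MonoidAlgebra.single (θ x * θ y) 1
    rw [← hθ, show MonoidAlgebra.single (x * y) (1 : T) = MonoidAlgebra.single x 1 * MonoidAlgebra.single y 1 by
      rw [MonoidAlgebra.single_mul_single, _root_.one_mul], map_mul, hθ, hθ, MonoidAlgebra.single_mul_single,
      _root_.one_mul]
  let θh : L →* M := MonoidHom.mk' θ hθmul
  obtain ⟨e'⟩ := isDiag_quotient J eT θh.range (by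
    have haug : Ideal.map (gmap eCT) (RingHom.ker (Bialgebra.counitAlgHom R C)) =
        Ideal.span ((fun h => MonoidAlgebra.single h 1 - 1) '' (Set.univ : Set L)) := by
      rw [← torsionIdeal_one, map_gmap_torsionIdeal]
      congr 1
      ext y
      simp [MonoidHom.mem_range]
    have hcomp : (gmap eT).toRingHom.comp (φ : C →ₐ[R] A).toRingHom =
        (ΦT : MonoidAlgebra T L →ₐ[T] MonoidAlgebra T M).toRingHom.comp (gmap eCT).toRingHom := by
      refine RingHom.ext fun x => ?_
      show eT ((1 : T) ⊗ₜ[R] φ x) = chartHom eT φ (eCT.symm (eCT ((1 : T) ⊗ₜ[R] x)))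
      rw [BialgEquiv.symm_apply_apply, chartHom_tmul]
    rw [hJ]
    show Ideal.map (gmap eT).toRingHom (Ideal.map (φ : C →ₐ[R] A).toRingHom _) = _
    rw [Ideal.map_map, hcomp, ← Ideal.map_map]
    show Ideal.map _ (Ideal.map (gmap eCT) _) = _
    rw [haug, Ideal.map_span]
    congr 1
    ext y
    constructor
    · rintro ⟨_, ⟨l, -, rfl⟩, rfl⟩
      refine ⟨θ l, ⟨l, rfl⟩, ?_⟩
      show _ = ΦT (MonoidAlgebra.single l 1 - 1)
      rw [map_sub, map_one, hθ]
    · rintro ⟨_, ⟨l, rfl⟩, rfl⟩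
      refine ⟨_, ⟨l, trivial, rfl⟩, ?_⟩
      show ΦT (MonoidAlgebra.single l 1 - 1) = _
      rw [map_sub, map_one, hθ]
      rfl)
  exact ⟨M ⧸ θh.range, inferInstance, ⟨e'⟩⟩

/-- Charts on which the kernel is diagonalisable, over one product of charts. -/
theorem exists_kernel_cover {P Q : Type u} [CommRing P] [Algebra R P] [CommRing Q] [Algebra R Q]
    (hA : SGA3b.IsDiag P (P ⊗[R] A)) (hC : SGA3b.IsDiag Q (Q ⊗[R] C)) (hCft : Algebra.FiniteType R C)
    (φ : C →ₐc[R] A) (J : Ideal A) [J.IsHopfIdeal R]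
    (hJ : J = Ideal.map φ (RingHom.ker (Bialgebra.counitAlgHom R C))) :
    ∃ s : Finset (P ⊗[R] Q), Ideal.span (s : Set (P ⊗[R] Q)) = ⊤ ∧ ∀ c ∈ s,
      SGA3b.IsDiag (Localization.Away c) (Localization.Away c ⊗[R] (A ⧸ J)) := by
  classical
  let W := P ⊗[R] Q
  rcases subsingleton_or_nontrivial W with hW | hW
  · refine ⟨∅, ?_, by simp⟩
    rw [Subsingleton.elim (Ideal.span _) (⊤ : Ideal W)]
  obtain ⟨M, _, ⟨eA₀⟩⟩ := hA
  obtain ⟨L, _, ⟨eC₀⟩⟩ := hC
  letI : Algebra Q W := Algebra.TensorProduct.rightAlgebra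
  obtain ⟨eA⟩ := isDiag_baseChange eA₀ W
  obtain ⟨eC⟩ := isDiag_baseChange eC₀ W
  haveI := fg_of_chart hCft eC
  obtain ⟨s, hs, hsl⟩ := exists_constant_cover
    ((chartHom eA φ).comp (eC.symm : MonoidAlgebra W L →ₐc[W] (W ⊗[R] C)))
  refine ⟨s, hs, fun c hc => ?_⟩
  obtain ⟨eT, heT⟩ := exists_chart_map eA (Localization.Away c)
  obtain ⟨eCT, heCT⟩ := exists_chart_map eC (Localization.Away c)
  refine isDiag_kernel_of_singles eT eCT φ J hJ fun l => ?_
  obtain ⟨m, hm⟩ := hsl c hc l
  refine ⟨m, Eq.trans ?_ hm⟩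
  rw [show eCT.symm (MonoidAlgebra.single l 1) =
      mapA (IsScalarTower.toAlgHom R W (Localization.Away c)) (eC.symm (MonoidAlgebra.single l 1)) from
    EquivLike.injective eCT (by
      rw [BialgEquiv.apply_symm_apply]
      refine ext_coef fun x => ?_
      rw [heCT, BialgEquiv.apply_symm_apply, coefL_single, coefL_single]
      split <;> simp), chartHom_natural eA eT heT]
  rfl

theorem kernel_isMultType (hA : SGA3b.IsMultType R A) 
    (hC : SGA3b.IsMultType R C) (hCft : Algebra.FiniteType R C) (φ : C →ₐc[R] A)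
    (J : Ideal A) [J.IsHopfIdeal R] (hJ : J = Ideal.map φ (RingHom.ker (Bialgebra.counitAlgHom R C))) :
    SGA3b.IsMultType R (A ⧸ J) := by
  classical
  obtain ⟨a, P, iP, iP', hPfl, hPcov, hPd⟩ := exists_finite_charts hA
  obtain ⟨b, Q, iQ, iQ', hQfl, hQcov, hQd⟩ := exists_finite_charts hC
  haveI := hPfl
  haveI := hQfl
  have key : ∀ ij : Fin a × Fin b, ∃ (s : Finset (P ij.1 ⊗[R] Q ij.2)),
      Ideal.span (s : Set (P ij.1 ⊗[R] Q ij.2)) = ⊤ ∧ ∀ c ∈ s,
        SGA3b.IsDiag (Localization.Away c) (Localization.Away c ⊗[R] (A ⧸ J)) := fun ij =>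
    exists_kernel_cover (hPd ij.1) (hQd ij.2) hCft φ J hJ
  choose s hs hsd using key
  let ι := Σ ij : Fin a × Fin b, Fin (s ij).card
  let el : ∀ x : ι, P x.1.1 ⊗[R] Q x.1.2 := fun x => ((s x.1).equivFin.symm x.2).1
  let U : ι → Type u := fun x => Localization.Away (el x)
  haveI : ∀ x, Module.Flat R (U x) := fun x => by
    haveI : Module.Flat (P x.1.1 ⊗[R] Q x.1.2) (U x) := IsLocalization.flat _ (Submonoid.powers (el x))
    exact Module.Flat.trans R (P x.1.1 ⊗[R] Q x.1.2) (U x)
  refine isMultType_of_charts U (fun p => ?_) fun x => hsd x.1 _ ((s x.1).equivFin.symm x.2).2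
  obtain ⟨i, p', hp'⟩ := hPcov p
  obtain ⟨j, q', hq'⟩ := hQcov p
  obtain ⟨K, _, gP, gQ, hg, hkP, -⟩ := exists_field_of_points (R := R) p' q' (hp'.trans hq'.symm)
  letI : Algebra R K := (gP.comp (algebraMap R (P i))).toAlgebra
  let gPa : P i →ₐ[R] K := { gP with commutes' := fun r => rfl }
  let gQa : Q j →ₐ[R] K := { gQ with commutes' := fun r => (RingHom.congr_fun hg r).symm }
  let gW : P i ⊗[R] Q j →ₐ[R] K := Algebra.TensorProduct.lift gPa gQa fun _ _ => Commute.all _ _
  obtain ⟨c, hc, hc0⟩ : ∃ c ∈ s (i, j), gW c ≠ 0 := by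
    by_contra hne
    push Not at hne
    have : Ideal.span (s (i, j) : Set (P i ⊗[R] Q j)) ≤ RingHom.ker gW := Ideal.span_le.2 hne
    rw [hs] at this
    exact one_ne_zero ((map_one gW).symm.trans (this Submodule.mem_top))
  let x : ι := ⟨(i, j), (s (i, j)).equivFin ⟨c, hc⟩⟩
  have hel : el x = c := by simp [el, x]
  have hu : IsUnit (gW.toRingHom (el x)) := by rw [hel]; exact isUnit_iff_ne_zero.2 hc0
  let gU : U x →+* K := IsLocalization.Away.lift (el x) hu
  refine ⟨x, PrimeSpectrum.comap gU ⟨⊥, Ideal.isPrime_bot⟩, ?_⟩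
  rw [← hp']
  ext r
  show gU (algebraMap R (U x) r) = 0 ↔ algebraMap R (P i) r ∈ p'.asIdeal
  rw [IsScalarTower.algebraMap_apply R (P i ⊗[R] Q j) (U x), IsLocalization.Away.lift_eq, ← hkP, RingHom.mem_ker]
  show gW (algebraMap R _ r) = 0 ↔ _
  rw [gW.commutes]
  rfl

end Groth.Agent.H19Mult
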