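import Groth.Agent.H19Mult.KernelLocal
import Groth.Agent.H19Mult.GlobalCriterion

/-!
Kernels of homomorphisms from groups of multiplicative type to finitely presented affine groups.
-/

set_option autoImplicit false
set_option linter.style.haveILetI false
set_option backward.isDefEq.respectTransparency false

universe u

open TensorProduct WithConv

namespace Groth.Agent.H19Mult

/-- The ideal of the kernel in a chart. -/
theorem map_gmap_map_aug {R A C T M : Type u} [CommRing R] [CommRing A] [HopfAlgebra R A] [CommRing C] [HopfAlgebra R C]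
    [CommRing T] [Algebra R T] [CommGroup M] (e : (T ⊗[R] A) ≃ₐc[T] MonoidAlgebra T M) (φ : C →ₐc[R] A) :
    Ideal.map (gmap e) (Ideal.map φ (RingHom.ker (Bialgebra.counitAlgHom R C))) =
      Ideal.map (chartHom e φ) (RingHom.ker (Bialgebra.counitAlgHom T (T ⊗[R] C))) := by
  refine le_antisymm (Ideal.map_le_iff_le_comap.2 (Ideal.map_le_iff_le_comap.2 fun c hc => ?_))
    (Ideal.map_le_iff_le_comap.2 fun z hz => ?_)
  · show gmap e (φ c) ∈ Ideal.map (chartHom e φ) (RingHom.ker (Bialgebra.counitAlgHom T (T ⊗[R] C)))
    rw [gmap_apply, ← chartHom_tmul e φ]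
    refine Ideal.mem_map_of_mem _ ?_
    show Coalgebra.counit (R := T) ((1 : T) ⊗ₜ[R] c) = 0
    rw [TensorProduct.counit_tmul, show Coalgebra.counit (R := R) c = 0 from hc, zero_smul]
  · have hall : ∀ z : T ⊗[R] C, chartHom e φ (z - algebraMap T _ (Coalgebra.counit (R := T) z)) ∈
        Ideal.map (gmap e) (Ideal.map φ (RingHom.ker (Bialgebra.counitAlgHom R C))) := by
      intro z
      induction z using TensorProduct.induction_on with
      | zero => simp
      | add u w hu hw =>
        rw [map_add, map_add, add_sub_add_comm, map_add]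
        exact add_mem hu hw
      | tmul t c =>
        have e1 : t ⊗ₜ[R] c - algebraMap T (T ⊗[R] C) (Coalgebra.counit (R := T) (t ⊗ₜ[R] c)) =
            algebraMap T (T ⊗[R] C) t * ((1 : T) ⊗ₜ[R] (c - algebraMap R C (Coalgebra.counit (R := R) c))) := by
          rw [TensorProduct.counit_tmul, CommSemiring.counit_apply, Algebra.TensorProduct.algebraMap_apply,
            Algebra.TensorProduct.algebraMap_apply, Algebra.algebraMap_self, RingHom.id_apply, RingHom.id_apply,
            Algebra.TensorProduct.tmul_mul_tmul, mul_one, one_mul, TensorProduct.tmul_sub,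
            Algebra.algebraMap_eq_smul_one, ← TensorProduct.smul_tmul]
        rw [e1, map_mul]
        refine Ideal.mul_mem_left _ _ ?_
        rw [chartHom_tmul, ← gmap_apply]
        refine Ideal.mem_map_of_mem _ (Ideal.mem_map_of_mem _ ?_)
        show Bialgebra.counitAlgHom R C (c - algebraMap R C (Coalgebra.counit (R := R) c)) = 0
        rw [map_sub, AlgHom.commutes]
        exact sub_self _
    have h := hall z
    rwa [show Coalgebra.counit (R := T) z = 0 from hz, map_zero, sub_zero] at h

/-- Kernels are of multiplicative type. -/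
theorem isMultType_kernel {R A C : Type u} [CommRing R] [CommRing A] [HopfAlgebra R A] [CommRing C] [HopfAlgebra R C]
    (hft : Algebra.FiniteType R A) (h : SGA3b.IsMultType R A) (hC : Algebra.FinitePresentation R C)
    (φ : C →ₐc[R] A) (J : Ideal A) [J.IsHopfIdeal R]
    (hJ : J = Ideal.map φ (RingHom.ker (Bialgebra.counitAlgHom R C))) : SGA3b.IsMultType R (A ⧸ J) := by
  haveI := finitePresentation_of_isMultType hft h
  haveI := hC
  have hJfg : J.FG := by
    rw [hJ]
    exact Ideal.FG.map (Algebra.FinitePresentation.ker_fG_of_surjective (Bialgebra.counitAlgHom R C)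
      fun r => ⟨algebraMap R C r, AlgHom.commutes _ r⟩) (φ : C →ₐ[R] A).toRingHom
  have hfp : Algebra.FinitePresentation R (A ⧸ J) := Algebra.FinitePresentation.quotient hJfg
  have hloc : ∀ (p : Ideal R) [p.IsPrime],
      SGA3b.IsMultType (Localization.AtPrime p) (Localization.AtPrime p ⊗[R] (A ⧸ J)) := by
    intro p _
    let L := Localization.AtPrime p
    obtain ⟨T, _, _, _, hff, -, M, _, hM, ⟨e₀⟩⟩ := SubgroupLocal.exists_local_chart (R := L) (A := L ⊗[R] A)
      inferInstance (isMultType_baseChange h L)
    haveI := hff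
    haveI := hM
    letI : Algebra R T := ((algebraMap L T).comp (algebraMap R L)).toAlgebra
    haveI : IsScalarTower R L T := IsScalarTower.of_algebraMap_eq' rfl
    let e := (cancelEquiv (R := R) (A := A) L T).symm.trans e₀
    haveI : Algebra.FiniteType R C := inferInstance
    obtain ⟨N, hN⟩ := KernelLocal.exists_subgroup_of_hom (C := T ⊗[R] C) inferInstance (chartHom e φ)
    obtain ⟨e'⟩ := isDiag_quotient J e N (by rw [hJ, map_gmap_map_aug]; exact hN)
    exact isMultType_of_charts (ι := Fin 1) (fun _ => T)
      (fun q => ⟨0, PrimeSpectrum.comap_surjective_of_faithfullyFlat q⟩) fun _ =>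
      (isDiag_cancel (R := R) (A := A ⧸ J) L T).2 ⟨M ⧸ N, inferInstance, ⟨e'⟩⟩
  haveI : ∀ P : Ideal R, ∀ [P.IsMaximal], IsLocalizedModule.AtPrime P
      (TensorProduct.mk R (Localization.AtPrime P) (A ⧸ J) 1) := fun P _ =>
    (isLocalizedModule_iff_isBaseChange P.primeCompl (Localization.AtPrime P) _).2
      (TensorProduct.isBaseChange R (A ⧸ J) (Localization.AtPrime P))
  haveI : Module.Flat R (A ⧸ J) :=
    Module.flat_of_isLocalized_maximal (R := R) (S := R) (M := A ⧸ J)
      (fun P _ => Localization.AtPrime P ⊗[R] (A ⧸ J))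
      (fun P _ => TensorProduct.mk R (Localization.AtPrime P) (A ⧸ J) 1) fun P _ => by
        haveI : Module.Flat (Localization.AtPrime P) (Localization.AtPrime P ⊗[R] (A ⧸ J)) :=
          flat_of_isMultType (hloc P)
        exact Module.Flat.trans R (Localization.AtPrime P) _
  exact isMultType_of_atPrime hfp fun p => hloc p.asIdeal

end Groth.Agent.H19Mult
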