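import Groth.Agent.H19Mult.GroupLikeBC
import Groth.Agent.H19Mult.Descent
import Groth.Agent.H19Mult.Field

/-!
Unique lifting of group-like elements of groups of multiplicative type along nilpotent thickenings.
-/

set_option autoImplicit false
set_option linter.style.haveILetI false
set_option backward.isDefEq.respectTransparency false

universe u

open TensorProduct Coalgebra

namespace Groth.Agent.H19Mult

variable {R : Type u} [CommRing R] {A : Type u} [CommRing A] [HopfAlgebra R A]

/-- Finitely many flat charts cover the spectrum. -/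
theorem exists_finite_charts (h : SGA3b.IsMultType R A) :
    ∃ (n : ℕ) (P : Fin n → Type u) (_ : ∀ i, CommRing (P i)) (_ : ∀ i, Algebra R (P i)),
      (∀ i, Module.Flat R (P i)) ∧
      (∀ p : PrimeSpectrum R, ∃ i, p ∈ Set.range (PrimeSpectrum.comap (algebraMap R (P i)))) ∧
      ∀ i, SGA3b.IsDiag (P i) (P i ⊗[R] A) := by
  obtain ⟨s, hs, h⟩ := h
  obtain ⟨s', hs', h1⟩ := Submodule.mem_span_finite_of_mem_span (show (1 : R) ∈ Ideal.span s by rw [hs]; trivial)
  have key : ∀ f : {f // f ∈ s'}, ∃ (T : Type u) (_ : CommRing T) (_ : Algebra R T), Module.Flat R T ∧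
      {p | f.1 ∉ p.asIdeal} ⊆ Set.range (PrimeSpectrum.comap (algebraMap R T)) ∧
      SGA3b.IsDiag T (T ⊗[R] A) := by
    intro f
    obtain ⟨T, _, _, hff, M, _, ⟨e⟩⟩ := h f.1 (hs' f.2)
    letI : Algebra R T :=
      ((algebraMap (Localization.Away f.1) T).comp (algebraMap R (Localization.Away f.1))).toAlgebra
    haveI : IsScalarTower R (Localization.Away f.1) T := IsScalarTower.of_algebraMap_eq' rfl
    haveI : Module.Flat R (Localization.Away f.1) := IsLocalization.flat _ (Submonoid.powers f.1)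
    haveI := hff
    refine ⟨T, inferInstance, inferInstance, Module.Flat.trans R (Localization.Away f.1) T, ?_, M, inferInstance,
      ⟨(cancelEquiv (R := R) (A := A) (Localization.Away f.1) T).symm.trans e⟩⟩
    intro p hfp
    have hp : p ∈ Set.range (PrimeSpectrum.comap (algebraMap R (Localization.Away f.1))) := by
      rw [PrimeSpectrum.localization_away_comap_range (Localization.Away f.1) f.1]
      exact hfp
    obtain ⟨q, rfl⟩ := hp
    obtain ⟨q', rfl⟩ := PrimeSpectrum.comap_surjective_of_faithfullyFlat (A := Localization.Away f.1) (B := T) q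
    exact ⟨q', rfl⟩
  choose T iC iA hfl hcov hd using key
  let eq := s'.equivFin.symm
  refine ⟨s'.card, fun i => T (eq i), fun i => iC _, fun i => iA _, fun i => hfl _, fun p => ?_, fun i => hd _⟩
  obtain ⟨f, hf, hfp⟩ : ∃ f ∈ s', f ∉ p.asIdeal := by
    by_contra hc
    push Not at hc
    exact p.isPrime.ne_top ((Ideal.eq_top_iff_one _).2 (Ideal.span_le.2 hc h1))
  obtain ⟨i, hi⟩ := eq.surjective ⟨f, hf⟩
  exact ⟨i, hcov (eq i) (by rw [hi]; exact hfp)⟩

section Tensor

variable {P T T₀ : Type u} [CommRing P] [Algebra R P] [CommRing T] [Algebra R T] [CommRing T₀] [Algebra R T₀]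

theorem mapId_surjective {g : T →ₐ[R] T₀} (hg : Function.Surjective g) :
    Function.Surjective (Algebra.TensorProduct.map (AlgHom.id R P) g) :=
  LinearMap.lTensor_surjective P (g := g.toLinearMap) hg

theorem isNilpotent_of_mem_ker_mapId {g : T →ₐ[R] T₀} (hg : Function.Surjective g)
    (hker : ∀ x ∈ RingHom.ker g, IsNilpotent x) :
    ∀ x ∈ RingHom.ker (Algebra.TensorProduct.map (AlgHom.id R P) g), IsNilpotent x := by
  intro x hx
  rw [Algebra.TensorProduct.lTensor_ker g hg] at hx
  have : (RingHom.ker g).map (Algebra.TensorProduct.includeRight : T →ₐ[R] P ⊗[R] T) ≤ nilradical _ :=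
    Ideal.map_le_iff_le_comap.2 fun y hy => mem_nilradical.2 ((hker y hy).map _)
  exact mem_nilradical.1 (this hx)

theorem mapA_surjective {g : T →ₐ[R] T₀} (hg : Function.Surjective g) :
    Function.Surjective (mapA (A := A) g) :=
  LinearMap.rTensor_surjective A (g := g.toLinearMap) hg

/-- Association of `P ⊗ T ⊗ N`. -/
noncomputable def asc (P T N : Type u) [CommRing P] [Algebra R P] [CommRing T] [Algebra R T] [AddCommGroup N]
    [Module R N] : (P ⊗[R] T) ⊗[R] N ≃ₗ[R] P ⊗[R] (T ⊗[R] N) :=
  TensorProduct.assoc R P T N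

theorem asc_mapA_includeRight (x : T ⊗[R] A) :
    asc P T A (mapA Algebra.TensorProduct.includeRight x) = (1 : P) ⊗ₜ[R] x := by
  induction x using TensorProduct.induction_on with
  | zero => simp
  | tmul t a => simp [asc]
  | add u w hu hw => simp only [map_add, TensorProduct.tmul_add, hu, hw]

theorem asc_mapA2_includeRight (x : T ⊗[R] (A ⊗[R] A)) :
    asc P T (A ⊗[R] A) (mapA2 Algebra.TensorProduct.includeRight x) = (1 : P) ⊗ₜ[R] x := by
  induction x using TensorProduct.induction_on with
  | zero => simp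
  | tmul t a => simp [asc, mapA2]
  | add u w hu hw => simp only [map_add, TensorProduct.tmul_add, hu, hw]

theorem asc_two_right {Q : Type u} [CommRing Q] [Algebra R Q] (w : (Q ⊗[R] T) ⊗[R] A) :
    TensorProduct.congr (LinearEquiv.refl R P) (asc Q T A)
      (asc P (Q ⊗[R] T) A (mapA Algebra.TensorProduct.includeRight w)) = (1 : P) ⊗ₜ[R] asc Q T A w := by
  rw [asc_mapA_includeRight]
  exact TensorProduct.congr_tmul _ _ _ _

theorem asc_two_inc {Q : Type u} [CommRing Q] [Algebra R Q] (w : (P ⊗[R] T) ⊗[R] A) :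
    TensorProduct.congr (LinearEquiv.refl R P) (asc Q T A)
      (asc P (Q ⊗[R] T) A (mapA (Algebra.TensorProduct.map (AlgHom.id R P)
        (Algebra.TensorProduct.includeRight : T →ₐ[R] Q ⊗[R] T)) w)) =
      LinearMap.lTensor P (TensorProduct.mk R Q (T ⊗[R] A) 1) (asc P T A w) := by
  induction w using TensorProduct.induction_on with
  | zero => simp
  | add u w hu hw => simp only [map_add, hu, hw]
  | tmul pt a =>
    induction pt using TensorProduct.induction_on with
    | zero => simp
    | tmul p t => rfl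
    | add u w hu hw => simp only [TensorProduct.add_tmul, map_add, hu, hw]

end Tensor

/-- A chart after base change, with a formula. -/
theorem exists_chart_map {R' : Type u} [CommRing R'] [Algebra R R'] {M : Type u} [CommGroup M]
    (e : (R' ⊗[R] A) ≃ₐc[R'] MonoidAlgebra R' M) (T : Type u) [CommRing T] [Algebra R T] [Algebra R' T]
    [IsScalarTower R R' T] :
    ∃ eT : (T ⊗[R] A) ≃ₐc[T] MonoidAlgebra T M, ∀ (z : R' ⊗[R] A) (m : M),
      coefL m (eT (mapA (IsScalarTower.toAlgHom R R' T) z)) = algebraMap R' T (coefL m (e z)) := by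
  let F : (T ⊗[R'] (R' ⊗[R] A)) →ₐc[T] (T ⊗[R'] MonoidAlgebra R' M) :=
    Bialgebra.TensorProduct.map (BialgHom.id T T) (e : (R' ⊗[R] A) →ₐc[R'] MonoidAlgebra R' M)
  have hF : Function.Bijective F := by
    let G : (T ⊗[R'] MonoidAlgebra R' M) →ₐc[T] (T ⊗[R'] (R' ⊗[R] A)) :=
      Bialgebra.TensorProduct.map (BialgHom.id T T) (e.symm : MonoidAlgebra R' M →ₐc[R'] (R' ⊗[R] A))
    refine Function.bijective_iff_has_inverse.2 ⟨G, fun z => ?_, fun z => ?_⟩
    · induction z using TensorProduct.induction_on with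
      | zero => simp
      | tmul t x =>
        show t ⊗ₜ[R'] e.symm (e x) = t ⊗ₜ x
        rw [BialgEquiv.symm_apply_apply]
      | add u w hu hw => rw [map_add, map_add, hu, hw]
    · induction z using TensorProduct.induction_on with
      | zero => simp
      | tmul t x =>
        show t ⊗ₜ[R'] e (e.symm x) = t ⊗ₜ x
        rw [BialgEquiv.apply_symm_apply]
      | add u w hu hw => rw [map_add, map_add, hu, hw]
  refine ⟨((cancelEquiv (R := R) (A := A) R' T).symm.trans (BialgEquiv.ofBijective F hF)).trans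
    (scalarBialgEquiv R' T M), fun z m => ?_⟩
  have h1 : (cancelEquiv (R := R) (A := A) R' T).symm (mapA (IsScalarTower.toAlgHom R R' T) z) =
      (1 : T) ⊗ₜ[R'] z := by
    refine EquivLike.injective (cancelEquiv (R := R) (A := A) R' T) ?_
    rw [BialgEquiv.apply_symm_apply]
    induction z using TensorProduct.induction_on with
    | zero => simp
    | tmul r a =>
      show _ = Algebra.TensorProduct.cancelBaseChange R R' T T A ((1 : T) ⊗ₜ (r ⊗ₜ a))
      rw [Algebra.TensorProduct.cancelBaseChange_tmul]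
      simp [Algebra.smul_def]
    | add u w hu hw => simp only [map_add, TensorProduct.tmul_add, hu, hw]
  show coefL m (MonoidAlgebra.scalarTensorEquiv R' T (F
    ((cancelEquiv (R := R) (A := A) R' T).symm (mapA (IsScalarTower.toAlgHom R R' T) z)))) = _
  rw [h1, show F ((1 : T) ⊗ₜ[R'] z) = (1 : T) ⊗ₜ[R'] e z from rfl]
  induction e z using MonoidAlgebra.induction_linear with
  | zero => simp
  | add u w hu hw => simp only [map_add, TensorProduct.tmul_add, hu, hw]
  | single x r =>
    classical
    rw [MonoidAlgebra.scalarTensorEquiv_tmul]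
    simp [Algebra.smul_def]
    split <;> simp

variable {T T₀ : Type u} [CommRing T] [Algebra R T] [CommRing T₀] [Algebra R T₀]

/-- Group-like elements agreeing modulo a nil ideal are equal. -/
theorem eq_of_isGL (h : SGA3b.IsMultType R A) (g : T →ₐ[R] T₀) (hg : Function.Surjective g)
    (hker : ∀ x ∈ RingHom.ker g, IsNilpotent x) {x y : T ⊗[R] A} (hx : IsGL x) (hy : IsGL y)
    (hxy : mapA g x = mapA g y) : x = y := by
  refine sub_eq_zero.1 (eq_zero_of_charts (R := R) (x - y) fun p => ?_)
  obtain ⟨R', _, _, hfl, hp, N, _, ⟨e⟩⟩ := exists_chart h p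
  refine ⟨R', inferInstance, inferInstance, hfl, hp, ?_⟩
  rw [TensorProduct.tmul_sub, sub_eq_zero, ← asc_mapA_includeRight, ← asc_mapA_includeRight]
  congr 1
  let S := R' ⊗[R] T
  obtain ⟨eS, -⟩ := exists_chart_map e S
  let gS : S →ₐ[R] R' ⊗[R] T₀ := Algebra.TensorProduct.map (AlgHom.id R R') g
  set x' : S ⊗[R] A := mapA Algebra.TensorProduct.includeRight x
  set y' : S ⊗[R] A := mapA Algebra.TensorProduct.includeRight y
  have hk : x' - y' ∈ RingHom.ker (mapA (A := A) gS) := by
    rw [RingHom.mem_ker, map_sub, mapA_mapA, mapA_mapA,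
      show gS.comp Algebra.TensorProduct.includeRight =
        (Algebra.TensorProduct.includeRight : T₀ →ₐ[R] R' ⊗[R] T₀).comp g from AlgHom.ext fun t => rfl,
      ← mapA_mapA, ← mapA_mapA, hxy, sub_self]
  rw [mapA, Algebra.TensorProduct.rTensor_ker gS (mapId_surjective hg)] at hk
  apply EquivLike.injective eS
  refine groupLike_eq_of_isNilpotent (((isGL_iff _).1 (hx.map _)).map eS) (((isGL_iff _).1 (hy.map _)).map eS)
    fun m => isNilpotent_of_mem_ker_mapId hg hker _ ?_
  rw [← map_sub, ← map_sub]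
  exact linearMap_mem_of_mem_map ((coefL m).comp (AlgEquivClass.toAlgEquiv eS : S ⊗[R] A ≃ₐ[S] _).toLinearMap) hk

/-- Group-like elements lift along nilpotent thickenings. -/
theorem exists_isGL_lift (h : SGA3b.IsMultType R A) (g : T →ₐ[R] T₀) (hg : Function.Surjective g)
    (hker : ∀ x ∈ RingHom.ker g, IsNilpotent x) {x₀ : T₀ ⊗[R] A} (hx₀ : IsGL x₀) :
    ∃ x : T ⊗[R] A, IsGL x ∧ mapA g x = x₀ := by
  obtain ⟨n, P, _, _, hfl, hcov, hd⟩ := exists_finite_charts h
  haveI := hfl
  have hloc : ∀ i, ∃ x : (P i ⊗[R] T) ⊗[R] A, IsGL x ∧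
      mapA (Algebra.TensorProduct.map (AlgHom.id R (P i)) g) x = mapA Algebra.TensorProduct.includeRight x₀ := by
    intro i
    obtain ⟨N, _, ⟨e⟩⟩ := hd i
    let S := P i ⊗[R] T
    let S₀ := P i ⊗[R] T₀
    let gS : S →ₐ[R] S₀ := Algebra.TensorProduct.map (AlgHom.id R (P i)) g
    letI : Algebra S S₀ := gS.toRingHom.toAlgebra
    haveI : IsScalarTower R S S₀ := IsScalarTower.of_algebraMap_eq fun r => (gS.commutes r).symm
    obtain ⟨eS, -⟩ := exists_chart_map e S
    obtain ⟨eS₀, he₀⟩ := exists_chart_map eS S₀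
    set x₁ : S₀ ⊗[R] A := mapA Algebra.TensorProduct.includeRight x₀
    obtain ⟨y, hy, hy₀⟩ := exists_groupLike_lift gS.toRingHom (mapId_surjective hg)
      (isNilpotent_of_mem_ker_mapId hg hker) (((isGL_iff x₁).1 (hx₀.map _)).map eS₀)
    refine ⟨eS.symm y, (isGL_iff _).2 (hy.map eS.symm), ?_⟩
    show mapA (IsScalarTower.toAlgHom R S S₀) (eS.symm y) = x₁
    refine EquivLike.injective eS₀ (ext_coef fun m => ?_)
    rw [he₀, BialgEquiv.apply_symm_apply]
    exact hy₀ m
  choose x hx hxg using hloc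
  obtain ⟨z, hz⟩ := exists_of_family P hcov (fun i => asc (P i) T A (x i)) fun i j => by
    let Q := P i ⊗[R] (P j ⊗[R] T)
    let κ : Q ⊗[R] A ≃ₗ[R] P i ⊗[R] (P j ⊗[R] (T ⊗[R] A)) :=
      (asc (P i) (P j ⊗[R] T) A).trans (TensorProduct.congr (LinearEquiv.refl R (P i)) (asc (P j) T A))
    let inc : P i ⊗[R] T →ₐ[R] Q :=
      Algebra.TensorProduct.map (AlgHom.id R (P i)) Algebra.TensorProduct.includeRight
    have h1 : ∀ w, κ (mapA Algebra.TensorProduct.includeRight w) = (1 : P i) ⊗ₜ[R] asc (P j) T A w := by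
      intro w
      exact asc_two_right w
    have h2 : ∀ w, κ (mapA inc w) =
        LinearMap.lTensor (P i) (TensorProduct.mk R (P j) (T ⊗[R] A) 1) (asc (P i) T A w) :=
      fun w => asc_two_inc w
    show (1 : P i) ⊗ₜ[R] asc (P j) T A (x j) = _
    rw [← h1, ← h2]
    congr 1
    refine eq_of_isGL h (Algebra.TensorProduct.map (AlgHom.id R (P i))
      (Algebra.TensorProduct.map (AlgHom.id R (P j)) g)) (mapId_surjective (mapId_surjective hg))
      (isNilpotent_of_mem_ker_mapId (mapId_surjective hg) (isNilpotent_of_mem_ker_mapId hg hker))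
      ((hx j).map _) ((hx i).map _) ?_
    rw [mapA_mapA, mapA_mapA,
      show (Algebra.TensorProduct.map (AlgHom.id R (P i))
          (Algebra.TensorProduct.map (AlgHom.id R (P j)) g)).comp Algebra.TensorProduct.includeRight =
        (Algebra.TensorProduct.includeRight : P j ⊗[R] T₀ →ₐ[R] P i ⊗[R] (P j ⊗[R] T₀)).comp
          (Algebra.TensorProduct.map (AlgHom.id R (P j)) g) from AlgHom.ext fun t => rfl,
      show (Algebra.TensorProduct.map (AlgHom.id R (P i))
          (Algebra.TensorProduct.map (AlgHom.id R (P j)) g)).comp inc =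
        (Algebra.TensorProduct.map (AlgHom.id R (P i))
          (Algebra.TensorProduct.includeRight : T₀ →ₐ[R] P j ⊗[R] T₀)).comp
          (Algebra.TensorProduct.map (AlgHom.id R (P i)) g) from
        Algebra.TensorProduct.ext' fun a b => rfl,
      ← mapA_mapA, ← mapA_mapA, hxg, hxg, mapA_mapA, mapA_mapA]
    congr 1
  have hzi : ∀ i, mapA Algebra.TensorProduct.includeRight z = x i := fun i =>
    (asc (P i) T A).injective (by rw [asc_mapA_includeRight, hz i])
  refine ⟨z, ⟨?_, ?_⟩, ?_⟩
  · refine sub_eq_zero.1 (eq_zero_of_charts (R := R) (counit (R := T) z - 1) fun p => ?_)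
    obtain ⟨i, hp⟩ := hcov p
    refine ⟨P i, inferInstance, inferInstance, hfl i, hp, ?_⟩
    have := counit_mapA (Algebra.TensorProduct.includeRight : T →ₐ[R] P i ⊗[R] T) z
    rw [hzi, (hx i).1] at this
    rw [TensorProduct.tmul_sub, sub_eq_zero]
    exact this.symm
  · refine sub_eq_zero.1 (eq_zero_of_charts (R := R) (comulT T z - inl2 T z * inr2 T z) fun p => ?_)
    obtain ⟨i, hp⟩ := hcov p
    refine ⟨P i, inferInstance, inferInstance, hfl i, hp, ?_⟩
    rw [TensorProduct.tmul_sub, sub_eq_zero, ← asc_mapA2_includeRight, ← asc_mapA2_includeRight, ← comulT_mapA,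
      map_mul, ← inl2_mapA, ← inr2_mapA, hzi, (hx i).2]
  · refine sub_eq_zero.1 (eq_zero_of_charts (R := R) (mapA g z - x₀) fun p => ?_)
    obtain ⟨i, hp⟩ := hcov p
    refine ⟨P i, inferInstance, inferInstance, hfl i, hp, ?_⟩
    rw [TensorProduct.tmul_sub, sub_eq_zero, ← asc_mapA_includeRight, ← asc_mapA_includeRight, mapA_mapA,
      show (Algebra.TensorProduct.includeRight : T₀ →ₐ[R] P i ⊗[R] T₀).comp g =
        (Algebra.TensorProduct.map (AlgHom.id R (P i)) g).comp Algebra.TensorProduct.includeRight from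
        AlgHom.ext fun t => by simp,
      ← mapA_mapA, hzi, hxg]

end Groth.Agent.H19Mult
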