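import Groth.Agent.H19Mult.HopfModel
import Groth.Agent.H19Mult.Charts
import Groth.Agent.H19Mult.BaseChange
import Groth.Agent.H19Mult.Field
import Groth.Agent.H06EGA11.Colimit

/-!
Descent of a finitely presented Hopf algebra over a local ring, flat along a closed fibre of
multiplicative type, to a Noetherian local ring.
-/

set_option autoImplicit false
set_option linter.style.haveILetI false
set_option backward.isDefEq.respectTransparency false

universe u

open TensorProduct

namespace Groth.Agent.H19Mult.LocalDescent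

open HopfModel

/-- A finitely presented algebra flat along the closed fibre is flat on a principal open containing it. -/
theorem exists_flat_away {R : Type u} [CommRing R] [IsLocalRing R] {C : Type u} [CommRing C] [Algebra R C]
    [Algebra.FinitePresentation R C]
    (hfl : ∀ (q : Ideal C) [q.IsPrime], Ideal.map (algebraMap R C) (IsLocalRing.maximalIdeal R) ≤ q →
      Module.Flat R (Localization.AtPrime q)) :
    ∃ g : C, 1 - g ∈ Ideal.map (algebraMap R C) (IsLocalRing.maximalIdeal R) ∧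
      Module.Flat R (Localization.Away g) := by
  obtain ⟨J, hJ⟩ := (PrimeSpectrum.isClosed_iff_zeroLocus_ideal _).1
    (H06EGA11.isOpen_flatLocus (A := R) (B := C) (M := C)).isClosed_compl
  set mC := Ideal.map (algebraMap R C) (IsLocalRing.maximalIdeal R)
  have hiso : ∀ (q : Ideal C) [q.IsPrime], (Localization.AtPrime q) ≃ₗ[C] LocalizedModule q.primeCompl C := fun q _ =>
    (IsLocalizedModule.iso q.primeCompl (Algebra.linearMap C (Localization.AtPrime q))).symm
  have htop : J ⊔ mC = ⊤ := by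
    by_contra h
    obtain ⟨q, hq, hle⟩ := Ideal.exists_le_maximal _ h
    haveI := hfl q (le_sup_right.trans hle)
    have hmem : (⟨q, hq.isPrime⟩ : PrimeSpectrum C) ∈ H06EGA11.flatLocus R C C :=
      Module.Flat.of_linearEquiv ((hiso q).restrictScalars R).symm
    have : (⟨q, hq.isPrime⟩ : PrimeSpectrum C) ∈ (H06EGA11.flatLocus R C C)ᶜ := by
      rw [hJ]; exact le_sup_left.trans hle
    exact this hmem
  obtain ⟨g, hg, u, hu, hgu⟩ := Submodule.mem_sup.1 ((Ideal.eq_top_iff_one _).1 htop)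
  refine ⟨g, by rw [← hgu, add_sub_cancel_left]; exact hu, ?_⟩
  haveI : Module.Flat R (LocalizedModule (Submonoid.powers g) C) := by
    refine H06EGA11.flat_localizedModule _ fun I x hx => ?_
    let A : Ideal C := LinearMap.ker (LinearMap.toSpanSingleton C (C ⊗[R] I) x)
    have hgA : g ∈ A.radical := by
      rw [Ideal.radical_eq_sInf, Ideal.mem_sInf]
      rintro q ⟨hAq, hq⟩
      by_contra hgq
      haveI := hq
      haveI : Module.Flat R (LocalizedModule q.primeCompl C) := by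
        by_contra hflat
        have : (⟨q, hq⟩ : PrimeSpectrum C) ∈ PrimeSpectrum.zeroLocus (J : Set C) := hJ ▸ hflat
        exact hgq (this hg)
      obtain ⟨t, ht, htx⟩ := H06EGA11.exists_smul_eq_zero_of_flat q.primeCompl I.subtype
        Subtype.val_injective x hx
      exact ht (hAq htx)
    obtain ⟨n, hn⟩ := hgA
    exact ⟨g ^ n, ⟨n, rfl⟩, hn⟩
  exact Module.Flat.of_linearEquiv ((IsLocalizedModule.iso (Submonoid.powers g)
    (Algebra.linearMap C (Localization.Away g))).restrictScalars R).symm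

/-- The base change of a principal localisation. -/
theorem nonempty_away_baseChange {R₀ : Type u} [CommRing R₀] {R : Type u} [CommRing R] [Algebra R₀ R]
    {C₀ : Type u} [CommRing C₀] [Algebra R₀ C₀] {C : Type u} [CommRing C] [Algebra R C]
    (E : (R ⊗[R₀] C₀) ≃ₐ[R] C) (g₀ : C₀) (g : C) (hg : E ((1 : R) ⊗ₜ g₀) = g) :
    Nonempty ((R ⊗[R₀] Localization.Away g₀) ≃ₐ[R] Localization.Away g) := by
  letI : Algebra R₀ C := ((algebraMap R C).comp (algebraMap R₀ R)).toAlgebra
  haveI : IsScalarTower R₀ R C := IsScalarTower.of_algebraMap_eq' rfl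
  let ι : C₀ →ₐ[R₀] C := (E.toAlgHom.restrictScalars R₀).comp Algebra.TensorProduct.includeRight
  let a : C₀ →ₐ[R₀] Localization.Away g := (IsScalarTower.toAlgHom R₀ C (Localization.Away g)).comp ι
  have ha : IsUnit (a g₀) := by
    show IsUnit (algebraMap C (Localization.Away g) (E ((1 : R) ⊗ₜ g₀)))
    rw [hg]
    exact IsLocalization.Away.algebraMap_isUnit g
  have hu : ∀ y : Submonoid.powers g₀, IsUnit (a y) := by
    rintro ⟨y, n, rfl⟩
    rw [map_pow]
    exact ha.pow n
  let fw : R ⊗[R₀] Localization.Away g₀ →ₐ[R] Localization.Away g :=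
    bc R (IsLocalization.liftAlgHom (M := Submonoid.powers g₀) (f := a) hu)
  let b : C →ₐ[R] R ⊗[R₀] Localization.Away g₀ :=
    (Algebra.TensorProduct.map (AlgHom.id R R) (IsScalarTower.toAlgHom R₀ C₀ (Localization.Away g₀))).comp E.symm.toAlgHom
  have hb : ∀ c₀, b (E ((1 : R) ⊗ₜ c₀)) = (1 : R) ⊗ₜ algebraMap C₀ (Localization.Away g₀) c₀ := fun c₀ => by
    show Algebra.TensorProduct.map _ _ (E.symm (E _)) = _
    rw [E.symm_apply_apply]
    rfl
  have hbu : ∀ y : Submonoid.powers g, IsUnit (b y) := by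
    rintro ⟨y, n, rfl⟩
    rw [map_pow, ← hg, hb]
    exact ((IsLocalization.Away.algebraMap_isUnit (S := Localization.Away g₀) g₀).map
      (Algebra.TensorProduct.includeRight : Localization.Away g₀ →ₐ[R₀] R ⊗[R₀] Localization.Away g₀)).pow n
  let bw : Localization.Away g →ₐ[R] R ⊗[R₀] Localization.Away g₀ :=
    IsLocalization.liftAlgHom (M := Submonoid.powers g) (f := b) hbu
  refine ⟨AlgEquiv.ofAlgHom fw bw ?_ ?_⟩
  · refine IsLocalization.algHom_ext (Submonoid.powers g) (AlgHom.ext fun c => ?_)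
    show fw (bw (algebraMap C _ c)) = algebraMap C _ c
    rw [show bw (algebraMap C (Localization.Away g) c) = b c from IsLocalization.lift_eq hbu c]
    obtain ⟨z, rfl⟩ := E.surjective c
    show fw (Algebra.TensorProduct.map _ _ (E.symm (E z))) = _
    rw [E.symm_apply_apply]
    induction z using TensorProduct.induction_on with
    | zero => simp
    | add p q hp hq => simp only [map_add, hp, hq]
    | tmul r c₀ =>
      show fw (r ⊗ₜ algebraMap C₀ _ c₀) = _
      rw [bc_tmul, show IsLocalization.liftAlgHom (M := Submonoid.powers g₀) (f := a) hu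
        (algebraMap C₀ (Localization.Away g₀) c₀) = a c₀ from IsLocalization.lift_eq hu c₀,
        show r ⊗ₜ[R₀] c₀ = algebraMap R (R ⊗[R₀] C₀) r * ((1 : R) ⊗ₜ c₀) by
          rw [Algebra.TensorProduct.algebraMap_apply, Algebra.algebraMap_self, RingHom.id_apply,
            Algebra.TensorProduct.tmul_mul_tmul, mul_one, one_mul],
        map_mul, E.commutes, map_mul, ← IsScalarTower.algebraMap_apply]
      rfl
  · refine Algebra.TensorProduct.ext (Subsingleton.elim _ _)
      (IsLocalization.algHom_ext (Submonoid.powers g₀) (AlgHom.ext fun c₀ => ?_))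
    show bw (fw ((1 : R) ⊗ₜ algebraMap C₀ (Localization.Away g₀) c₀)) = (1 : R) ⊗ₜ algebraMap C₀ (Localization.Away g₀) c₀
    rw [bc_one_tmul, show IsLocalization.liftAlgHom (M := Submonoid.powers g₀) (f := a) hu
      (algebraMap C₀ (Localization.Away g₀) c₀) = a c₀ from IsLocalization.lift_eq hu c₀]
    show bw (algebraMap C (Localization.Away g) (E ((1 : R) ⊗ₜ c₀))) = _
    rw [show bw (algebraMap C (Localization.Away g) (E ((1 : R) ⊗ₜ c₀))) = b (E ((1 : R) ⊗ₜ c₀)) from
      IsLocalization.lift_eq hbu _]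
    exact hb c₀

/-- Elements of `I·(R⊗C₀)` come from a stage. -/
theorem exists_stage_mem_map {R₀ : Type u} [CommRing R₀] {R : Type u} [CommRing R] [Algebra R₀ R]
    {C₀ : Type u} [CommRing C₀] [Algebra R₀ C₀] (I : Ideal R) (x : R ⊗[R₀] C₀)
    (hx : x ∈ I.map (algebraMap R (R ⊗[R₀] C₀))) :
    ∃ T : Subalgebra R₀ R, T.FG ∧ ∀ T' : Subalgebra R₀ R, T ≤ T' → ∃ w : T' ⊗[R₀] C₀,
      w ∈ (I.comap T'.val.toRingHom).map (algebraMap T' (T' ⊗[R₀] C₀)) ∧
        Algebra.TensorProduct.map T'.val (AlgHom.id R₀ C₀) w = x := by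
  classical
  induction hx using Submodule.span_induction with
  | mem y hy =>
    obtain ⟨a, ha, rfl⟩ := hy
    refine ⟨Algebra.adjoin R₀ ({a} : Finset R), Subalgebra.fg_adjoin_finset _, fun T' hT' => ?_⟩
    have haT : a ∈ T' := hT' (Algebra.subset_adjoin (by simp))
    exact ⟨algebraMap T' (T' ⊗[R₀] C₀) ⟨a, haT⟩,
      Ideal.mem_map_of_mem _ (show (⟨a, haT⟩ : T') ∈ I.comap T'.val.toRingHom from ha), rfl⟩
  | zero => exact ⟨⊥, Subalgebra.fg_bot, fun T' _ => ⟨0, zero_mem _, map_zero _⟩⟩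
  | add p q _ _ hp hq =>
    obtain ⟨T₁, h₁, H₁⟩ := hp
    obtain ⟨T₂, h₂, H₂⟩ := hq
    refine ⟨T₁ ⊔ T₂, h₁.sup h₂, fun T' hT' => ?_⟩
    obtain ⟨w₁, hw₁, e₁⟩ := H₁ T' (le_sup_left.trans hT')
    obtain ⟨w₂, hw₂, e₂⟩ := H₂ T' (le_sup_right.trans hT')
    exact ⟨w₁ + w₂, add_mem hw₁ hw₂, by rw [map_add, e₁, e₂]⟩
  | smul c p _ hp =>
    obtain ⟨T₁, h₁, H₁⟩ := hp
    obtain ⟨T₂, h₂, u, hu⟩ := TensorProduct.Algebra.exists_of_fg c
    refine ⟨T₁ ⊔ T₂, h₁.sup h₂, fun T' hT' => ?_⟩
    obtain ⟨w₁, hw₁, e₁⟩ := H₁ T' (le_sup_left.trans hT')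
    refine ⟨Algebra.TensorProduct.map (Subalgebra.inclusion (le_sup_right.trans hT')) (AlgHom.id R₀ C₀) u * w₁,
      Ideal.mul_mem_left _ _ hw₁, ?_⟩
    rw [map_mul, e₁, smul_eq_mul]
    congr 1
    rw [← hu]
    clear hu
    induction u using TensorProduct.induction_on with
    | zero => simp
    | tmul a v => rfl
    | add a b ha hb => simp only [map_add, ha, hb]

/-- The unit-minus element condition descends to a stage. -/
theorem exists_stage_one_sub {R₀ : Type u} [CommRing R₀] {R : Type u} [CommRing R] [Algebra R₀ R]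
    {C₀ : Type u} [CommRing C₀] [Algebra R₀ C₀] (I : Ideal R) (g : R ⊗[R₀] C₀)
    (hg : 1 - g ∈ I.map (algebraMap R (R ⊗[R₀] C₀))) :
    ∃ T : Subalgebra R₀ R, T.FG ∧ ∃ g₁ : T ⊗[R₀] C₀,
      Algebra.TensorProduct.map T.val (AlgHom.id R₀ C₀) g₁ = g ∧
        1 - g₁ ∈ (I.comap (algebraMap T R)).map (algebraMap T (T ⊗[R₀] C₀)) := by
  obtain ⟨T₁, h₁, H₁⟩ := exists_stage_mem_map I _ hg
  obtain ⟨w, hw, e⟩ := H₁ T₁ le_rfl
  exact ⟨T₁, h₁, 1 - w, by rw [map_sub, map_one, e, sub_sub_cancel], by rw [sub_sub_cancel]; exact hw⟩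

section

attribute [local instance] Algebra.TensorProduct.rightAlgebra

/-- Flatness of `R ⊗ B₀` descends to all large stages. -/
theorem exists_stage_flat' {R₀ : Type u} [CommRing R₀] [IsNoetherianRing R₀] {R : Type u} [CommRing R] [Algebra R₀ R]
    {B₀ : Type u} [CommRing B₀] [Algebra R₀ B₀] [Algebra.FiniteType R₀ B₀] [Module.Flat R (R ⊗[R₀] B₀)] :
    ∃ T : Subalgebra R₀ R, T.FG ∧ Module.Flat T (T ⊗[R₀] B₀) := by
  haveI : Module.Flat R (H06EGA11.BC R₀ B₀ B₀ R) :=
    Module.Flat.of_linearEquiv (H06EGA11.isBaseChange_toBC (R₀ := R₀) (B₀ := B₀) (M₀ := B₀) (R' := R)).equiv.symm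
  obtain ⟨T, hT, H⟩ := H06EGA11.exists_stage_flat (R₀ := R₀) (B₀ := B₀) (M₀ := B₀) (A := R)
  haveI := H T le_rfl hT
  exact ⟨T, hT, Module.Flat.of_linearEquiv
    (H06EGA11.isBaseChange_toBC (R₀ := R₀) (B₀ := B₀) (M₀ := B₀) (R' := T)).equiv⟩

end

/-- Multiplicative type over a field descends along field extensions. -/
theorem isMultType_of_fieldExtension {k : Type u} [Field k] {K : Type u} [Field K] [Algebra k K]
    {A : Type u} [CommRing A] [HopfAlgebra k A] (h : SGA3b.IsMultType K (K ⊗[k] A)) : SGA3b.IsMultType k A := by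
  obtain ⟨T, _, _, -, ⟨q, hq⟩, hd⟩ := exists_chart h ⟨⊥, Ideal.isPrime_bot⟩
  letI : Algebra k T := ((algebraMap K T).comp (algebraMap k K)).toAlgebra
  haveI : IsScalarTower k K T := IsScalarTower.of_algebraMap_eq' rfl
  refine isMultType_of_charts (ι := Fin 1) (fun _ => T)
    (fun p => ⟨0, q,
      Subsingleton.elim _ _⟩) fun _ => (isDiag_cancel (R := k) (A := A) K T).1 hd

/-- Base change of an isomorphism of bialgebras. -/
noncomputable def bcEquiv {R : Type u} [CommRing R] {A A' : Type u} [CommRing A] [Bialgebra R A] [CommRing A'] [Bialgebra R A']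
    (T : Type u) [CommRing T] [Algebra R T] (φ : A ≃ₐc[R] A') : (T ⊗[R] A) ≃ₐc[T] (T ⊗[R] A') :=
  BialgEquiv.ofBijective (Bialgebra.TensorProduct.map (BialgHom.id T T) (φ : A →ₐc[R] A')) (by
    have h : (Bialgebra.TensorProduct.map (BialgHom.id T T) (φ : A →ₐc[R] A') : (T ⊗[R] A) → _) =
        Algebra.TensorProduct.congr (AlgEquiv.refl : T ≃ₐ[T] T) (φ : A ≃ₐ[R] A') := by
      funext z
      induction z using TensorProduct.induction_on with
      | zero => simp
      | tmul t a => rfl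
      | add u w hu hw => rw [map_add, map_add, hu, hw]
    rw [h]
    exact AlgEquiv.bijective _)

theorem bcEquiv_tmul {R : Type u} [CommRing R] {A A' : Type u} [CommRing A] [Bialgebra R A] [CommRing A'] [Bialgebra R A']
    (T : Type u) [CommRing T] [Algebra R T] (φ : A ≃ₐc[R] A') (t : T) (a : A) :
    bcEquiv T φ (t ⊗ₜ a) = t ⊗ₜ φ a := rfl

/-- Multiplicative type is invariant under isomorphisms. -/
theorem isMultType_congr {R : Type u} [CommRing R] {A A' : Type u} [CommRing A] [HopfAlgebra R A] [CommRing A'] [HopfAlgebra R A']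
    (φ : A ≃ₐc[R] A') (h : SGA3b.IsMultType R A') : SGA3b.IsMultType R A := by
  obtain ⟨s, hs, h⟩ := h
  refine ⟨s, hs, fun f hf => ?_⟩
  obtain ⟨T, _, _, hff, M, _, ⟨e⟩⟩ := h f hf
  exact ⟨T, inferInstance, inferInstance, hff, M, inferInstance, ⟨(bcEquiv T (bcEquiv (Localization.Away f) φ)).trans e⟩⟩

/-- The flat stage, localised. -/
theorem local_stage {R : Type u} [CommRing R] [IsLocalRing R] {C : Type u} [CommRing C] [HopfAlgebra R C]
    (hs : SGA3b.IsMultType (IsLocalRing.ResidueField R) (IsLocalRing.ResidueField R ⊗[R] C))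
    {T₁ : Type u} [CommRing T₁] [Algebra T₁ R] {C₁ : Type u} [CommRing C₁] [HopfAlgebra T₁ C₁]
    (hft : Algebra.FiniteType T₁ C₁) (φ : (R ⊗[T₁] C₁) ≃ₐc[R] C) (g₁ : C₁)
    (hg : 1 - g₁ ∈ ((IsLocalRing.maximalIdeal R).comap (algebraMap T₁ R)).map (algebraMap T₁ C₁))
    {T₂ : Type u} [CommRing T₂] [IsNoetherianRing T₂] [Algebra T₁ T₂] [Algebra T₂ R] [IsScalarTower T₁ T₂ R]
    [Module.Flat T₂ (T₂ ⊗[T₁] Localization.Away g₁)] :
    ∃ (R₀ : Type u) (_ : CommRing R₀) (_ : IsNoetherianRing R₀) (_ : IsLocalRing R₀) (_ : Algebra R₀ R)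
      (_ : IsLocalHom (algebraMap R₀ R)) (C₀ : Type u) (_ : CommRing C₀) (_ : HopfAlgebra R₀ C₀),
      Algebra.FiniteType R₀ C₀ ∧ Nonempty ((R ⊗[R₀] C₀) ≃ₐc[R] C) ∧
      (∀ (q : Ideal C₀) [q.IsPrime], Ideal.map (algebraMap R₀ C₀) (IsLocalRing.maximalIdeal R₀) ≤ q →
        Module.Flat R₀ (Localization.AtPrime q)) ∧
      SGA3b.IsMultType (IsLocalRing.ResidueField R₀) (IsLocalRing.ResidueField R₀ ⊗[R₀] C₀) := by
  let m := IsLocalRing.maximalIdeal R
  let P : Ideal T₂ := m.comap (algebraMap T₂ R)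
  haveI : P.IsPrime := Ideal.IsPrime.comap _
  let R₀ := Localization.AtPrime P
  have hu : ∀ y : P.primeCompl, IsUnit (algebraMap T₂ R y) := fun y => by
    by_contra h
    exact y.2 ((IsLocalRing.mem_maximalIdeal _).2 h)
  letI : Algebra R₀ R := (IsLocalization.lift (M := P.primeCompl) (g := algebraMap T₂ R) hu).toAlgebra
  haveI : IsScalarTower T₂ R₀ R := IsScalarTower.of_algebraMap_eq fun x => (IsLocalization.lift_eq hu x).symm
  haveI : IsScalarTower T₁ R₀ R := IsScalarTower.of_algebraMap_eq fun x => by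
    rw [IsScalarTower.algebraMap_apply T₁ T₂ R₀, ← IsScalarTower.algebraMap_apply T₂ R₀ R,
      ← IsScalarTower.algebraMap_apply T₁ T₂ R]
  haveI : IsNoetherianRing R₀ := IsLocalization.isNoetherianRing P.primeCompl R₀ inferInstance
  haveI hloc : IsLocalHom (algebraMap R₀ R) := ⟨fun x hx => by
    obtain ⟨⟨a, b⟩, rfl⟩ := IsLocalization.mk'_surjective P.primeCompl x
    refine IsLocalization.AtPrime.isUnit_mk'_iff R₀ P a b |>.2 fun ha => ?_
    have h2 : algebraMap R₀ R (IsLocalization.mk' R₀ a b) * algebraMap T₂ R (b : T₂) = algebraMap T₂ R a := by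
      rw [IsScalarTower.algebraMap_apply T₂ R₀ R (b : T₂), ← map_mul, IsLocalization.mk'_spec,
        ← IsScalarTower.algebraMap_apply]
    have h3 : IsUnit (algebraMap T₂ R a) := h2 ▸ hx.mul (hu b)
    exact (IsLocalRing.mem_maximalIdeal _).1 ha h3⟩
  let C₀ := R₀ ⊗[T₁] C₁
  let g₀ : C₀ := (1 : R₀) ⊗ₜ g₁
  refine ⟨R₀, inferInstance, inferInstance, inferInstance, inferInstance, hloc, C₀, inferInstance, inferInstance,
    inferInstance, ⟨(cancelEquiv (R := T₁) (A := C₁) R₀ R).trans φ⟩, ?_, ?_⟩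
  · intro q _ hq
    have hg₀ : g₀ ∉ q := fun hgq => by
      have h1 : 1 - g₀ ∈ q := by
        have h2 := Ideal.mem_map_of_mem (Algebra.TensorProduct.includeRight : C₁ →ₐ[T₁] C₀).toRingHom hg
        rw [Ideal.map_map, AlgHom.toRingHom_eq_coe, map_sub, map_one, AlgHom.comp_algebraMap] at h2
        refine hq ((Ideal.map_le_iff_le_comap.2 fun a ha => ?_) h2)
        show algebraMap T₁ C₀ a ∈ Ideal.map (algebraMap R₀ C₀) (IsLocalRing.maximalIdeal R₀)
        rw [IsScalarTower.algebraMap_apply T₁ R₀ C₀]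
        refine Ideal.mem_map_of_mem _ ((IsLocalRing.mem_maximalIdeal _).2 fun h => ?_)
        have h4 := h.map (algebraMap R₀ R)
        rw [← IsScalarTower.algebraMap_apply] at h4
        exact (IsLocalRing.mem_maximalIdeal _).1 ha h4
      have h5 := q.add_mem h1 hgq
      rw [sub_add_cancel] at h5
      exact Ideal.IsPrime.ne_top' ((Ideal.eq_top_iff_one q).2 h5)
    obtain ⟨eAway⟩ := nonempty_away_baseChange (R₀ := T₁) (R := R₀) (C := C₀) AlgEquiv.refl g₁ g₀ rfl
    haveI : Module.Flat R₀ (R₀ ⊗[T₂] (T₂ ⊗[T₁] Localization.Away g₁)) := inferInstance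
    haveI : Module.Flat R₀ (R₀ ⊗[T₁] Localization.Away g₁) := Module.Flat.of_linearEquiv
      (TensorProduct.AlgebraTensorModule.cancelBaseChange T₁ T₂ R₀ R₀ (Localization.Away g₁)).symm
    haveI : Module.Flat R₀ (Localization.Away g₀) := Module.Flat.of_linearEquiv eAway.toLinearEquiv.symm
    haveI : Module.Flat R₀ (LocalizedModule (Submonoid.powers g₀) C₀) := Module.Flat.of_linearEquiv
      ((IsLocalizedModule.iso (Submonoid.powers g₀) (Algebra.linearMap C₀ (Localization.Away g₀))).restrictScalars R₀)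
    haveI : Module.Flat R₀ (LocalizedModule q.primeCompl C₀) :=
      H06EGA11.flat_localizedModule_of_le (Submonoid.powers g₀) q.primeCompl
        (Submonoid.powers_le.2 hg₀)
    exact Module.Flat.of_linearEquiv
      ((IsLocalizedModule.iso q.primeCompl (Algebra.linearMap C₀ (Localization.AtPrime q))).restrictScalars R₀).symm
  · let κ₀ := IsLocalRing.ResidueField R₀
    let κ := IsLocalRing.ResidueField R
    haveI : IsScalarTower R₀ κ₀ κ := IsScalarTower.of_algebraMap_eq fun x => rfl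
    refine isMultType_of_fieldExtension (k := κ₀) (K := κ) (isMultType_congr ?_ hs)
    exact (cancelEquiv (R := R₀) (A := C₀) κ₀ κ).trans (((cancelEquiv (R := R₀) (A := C₀) R κ).symm).trans
      (bcEquiv κ ((cancelEquiv (R := T₁) (A := C₁) R₀ R).trans φ)))

/-- A model with a flatness witness at a stage. -/
theorem exists_witness_stage {R : Type u} [CommRing R] [IsLocalRing R] {C : Type u} [CommRing C] [HopfAlgebra R C]
    {A : Type u} [CommRing A] [IsNoetherianRing A] [Algebra A R] {C₀ : Type u} [CommRing C₀] [HopfAlgebra A C₀]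
    (hft : Algebra.FiniteType A C₀) (φ : (R ⊗[A] C₀) ≃ₐc[R] C) (g : C)
    (hg : 1 - g ∈ Ideal.map (algebraMap R C) (IsLocalRing.maximalIdeal R)) :
    ∃ (T₁ : Type u) (_ : CommRing T₁) (_ : IsNoetherianRing T₁) (_ : Algebra T₁ R)
      (C₁ : Type u) (_ : CommRing C₁) (_ : HopfAlgebra T₁ C₁) (ψ : (R ⊗[T₁] C₁) ≃ₐc[R] C) (g₁ : C₁),
      Algebra.FiniteType T₁ C₁ ∧ ψ ((1 : R) ⊗ₜ g₁) = g ∧
        1 - g₁ ∈ ((IsLocalRing.maximalIdeal R).comap (algebraMap T₁ R)).map (algebraMap T₁ C₁) := by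
  let E : (R ⊗[A] C₀) ≃ₐ[R] C := φ
  have hg' : 1 - E.symm g ∈ (IsLocalRing.maximalIdeal R).map (algebraMap R (R ⊗[A] C₀)) := by
    have h := Ideal.mem_map_of_mem E.symm.toAlgHom.toRingHom hg
    rw [Ideal.map_map, AlgHom.toRingHom_eq_coe, AlgHom.comp_algebraMap, map_sub, map_one] at h
    exact h
  obtain ⟨T, hT, g₁, hg₁, hmem⟩ := exists_stage_one_sub _ _ hg'
  haveI : Algebra.FiniteType A T := T.fg_iff_finiteType.1 hT
  refine ⟨T, inferInstance, Algebra.FiniteType.isNoetherianRing A T, inferInstance, T ⊗[A] C₀, inferInstance,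
    inferInstance, (cancelEquiv (R := A) (A := C₀) T R).trans φ, g₁, inferInstance, ?_, hmem⟩
  show φ ((cancelEquiv (R := A) (A := C₀) T R) ((1 : R) ⊗ₜ g₁)) = g
  rw [show (cancelEquiv (R := A) (A := C₀) T R) ((1 : R) ⊗ₜ g₁) = E.symm g from ?_]
  · exact E.apply_symm_apply g
  rw [← hg₁]
  clear hg₁ hmem
  induction g₁ using TensorProduct.induction_on with
  | zero => simp
  | add a b ha hb => simp only [TensorProduct.tmul_add, map_add, ha, hb]
  | tmul t c =>
    show Algebra.TensorProduct.cancelBaseChange A T R R C₀ _ = _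
    rw [Algebra.TensorProduct.cancelBaseChange_tmul, Algebra.smul_def, mul_one]
    rfl

/-- A finitely presented Hopf algebra over a local ring, flat along a closed fibre of multiplicative type,
comes from a Noetherian local ring. -/
theorem exists_local_model (R : Type u) [CommRing R] [IsLocalRing R] (C : Type u) [CommRing C] [HopfAlgebra R C]
    [Algebra.FinitePresentation R C]
    (hfl : ∀ (q : Ideal C) [q.IsPrime], Ideal.map (algebraMap R C) (IsLocalRing.maximalIdeal R) ≤ q →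
      Module.Flat R (Localization.AtPrime q))
    (hs : SGA3b.IsMultType (IsLocalRing.ResidueField R) (IsLocalRing.ResidueField R ⊗[R] C)) :
    ∃ (R₀ : Type u) (_ : CommRing R₀) (_ : IsNoetherianRing R₀) (_ : IsLocalRing R₀) (_ : Algebra R₀ R)
      (_ : IsLocalHom (algebraMap R₀ R)) (C₀ : Type u) (_ : CommRing C₀) (_ : HopfAlgebra R₀ C₀),
      Algebra.FiniteType R₀ C₀ ∧ Nonempty ((R ⊗[R₀] C₀) ≃ₐc[R] C) ∧
      (∀ (q : Ideal C₀) [q.IsPrime], Ideal.map (algebraMap R₀ C₀) (IsLocalRing.maximalIdeal R₀) ≤ q →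
        Module.Flat R₀ (Localization.AtPrime q)) ∧
      SGA3b.IsMultType (IsLocalRing.ResidueField R₀) (IsLocalRing.ResidueField R₀ ⊗[R₀] C₀) := by
  obtain ⟨g, hg, hflat⟩ := exists_flat_away hfl
  obtain ⟨A, _, _, _, C₀, _, _, hft, ⟨φ⟩⟩ := exists_noetherian_hopf_model R C
  obtain ⟨T₁, _, _, _, C₁, _, _, ψ, g₁, hft₁, hψ, hmem⟩ := exists_witness_stage hft φ g hg
  haveI := hft₁
  obtain ⟨eAway⟩ := nonempty_away_baseChange (ψ : (R ⊗[T₁] C₁) ≃ₐ[R] C) g₁ g hψ
  haveI := hflat
  haveI : Module.Flat R (R ⊗[T₁] Localization.Away g₁) := Module.Flat.of_linearEquiv eAway.toLinearEquiv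
  haveI : Algebra.FiniteType T₁ (Localization.Away g₁) :=
    Algebra.FiniteType.trans hft₁ (IsLocalization.finiteType_of_monoid_fg (Submonoid.powers g₁) _)
  obtain ⟨T, hT, hflatT⟩ := exists_stage_flat' (R₀ := T₁) (R := R) (B₀ := Localization.Away g₁)
  haveI : Algebra.FiniteType T₁ T := T.fg_iff_finiteType.1 hT
  haveI : IsNoetherianRing T := Algebra.FiniteType.isNoetherianRing T₁ T
  haveI := hflatT
  exact local_stage hs hft₁ ψ g₁ hmem (T₂ := T)

end Groth.Agent.H19Mult.LocalDescent
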