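import Mathlib

/-!
Effective descent of modules along a finite flat family of algebras.
-/

set_option autoImplicit false
set_option linter.style.haveILetI false
set_option backward.isDefEq.respectTransparency false

universe u

open TensorProduct

namespace Groth.Agent.H19Mult.ModDesc

variable {R : Type u} [CommRing R] {ι : Type} (T : ι → Type u) [∀ i, CommRing (T i)] [∀ i, Algebra R (T i)]
  (V : ι → Type u) [∀ i, AddCommGroup (V i)] [∀ i, Module R (V i)] [∀ i, Module (T i) (V i)]
  [∀ i, IsScalarTower R (T i) (V i)]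

variable (ρ : ∀ i j, V i →ₗ[T i] T i ⊗[R] V j)

/-- The difference of the two maps of a descent datum. -/
noncomputable def dmap : (∀ i, V i) →ₗ[R] (∀ p : ι × ι, T p.1 ⊗[R] V p.2) :=
  LinearMap.pi fun p => ((ρ p.1 p.2).restrictScalars R).comp (LinearMap.proj p.1) -
    (TensorProduct.mk R (T p.1) (V p.2) 1).comp (LinearMap.proj p.2)

theorem dmap_apply (x : ∀ i, V i) (i j : ι) :
    dmap T V ρ x (i, j) = ρ i j (x i) - (1 : T i) ⊗ₜ[R] x j := rfl

/-- The descended module. -/
noncomputable def desc : Submodule R (∀ i, V i) := LinearMap.ker (dmap T V ρ)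

theorem mem_desc_iff {x : ∀ i, V i} : x ∈ desc T V ρ ↔ ∀ i j, ρ i j (x i) = (1 : T i) ⊗ₜ[R] x j := by
  refine ⟨fun h i j => ?_, fun h => LinearMap.mem_ker.2 (funext fun p => ?_)⟩
  · have := congrFun (LinearMap.mem_ker.1 h) (i, j)
    rwa [dmap_apply, Pi.zero_apply, sub_eq_zero] at this
  · obtain ⟨i, j⟩ := p
    rw [dmap_apply, h, sub_self]
    rfl

/-- The comparison map. -/
noncomputable def compare (i : ι) : T i ⊗[R] desc T V ρ →ₗ[T i] V i :=
  ((LinearMap.proj i).comp (desc T V ρ).subtype).liftBaseChange (T i)

theorem compare_tmul (i : ι) (t : T i) (x : desc T V ρ) : compare T V ρ i (t ⊗ₜ x) = t • (x : ∀ i, V i) i := by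
  simp [compare]

theorem compare_bijective [Fintype ι] [DecidableEq ι] [∀ i, Module.Flat R (T i)]
    (hunit : ∀ i x, (LinearMap.id : V i →ₗ[R] V i).liftBaseChange (T i) (ρ i i x) = x)
    (hco : ∀ i j k x, LinearMap.lTensor (T i) ((ρ j k).restrictScalars R) (ρ i j x) =
      LinearMap.lTensor (T i) (TensorProduct.mk R (T j) (V k) 1) (ρ i k x)) (i : ι) :
    Function.Bijective (compare T V ρ i) := by
  have hex : Function.Exact (LinearMap.lTensor (T i) (desc T V ρ).subtype) (LinearMap.lTensor (T i) (dmap T V ρ)) :=
    Module.Flat.lTensor_exact (T i) (LinearMap.exact_subtype_ker_map (dmap T V ρ))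
  have hinj : Function.Injective (LinearMap.lTensor (T i) (desc T V ρ).subtype) :=
    Module.Flat.lTensor_preserves_injective_linearMap _ Subtype.val_injective
  let P := TensorProduct.piRight R R (T i) V
  have key : ∀ z j, P (LinearMap.lTensor (T i) (desc T V ρ).subtype z) j = ρ i j (compare T V ρ i z) := by
    intro z j
    induction z using TensorProduct.induction_on with
    | zero => simp
    | tmul t x =>
      rw [compare_tmul, map_smul, (mem_desc_iff T V ρ).1 x.2 i j, LinearMap.lTensor_tmul]
      simp [P, TensorProduct.smul_tmul', TensorProduct.piRightHom_tmul]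
    | add a b ha hb => simp only [map_add, Pi.add_apply, ha, hb]
  refine ⟨(injective_iff_map_eq_zero _).2 fun z hz => hinj ?_, fun x => ?_⟩
  · rw [map_zero]
    refine P.injective (funext fun j => ?_)
    rw [key, hz, map_zero, map_zero]
    rfl
  · let w := P.symm fun j => ρ i j x
    have hdw : ∀ w' : T i ⊗[R] (∀ j, V j), ∀ j k,
        TensorProduct.piRight R R (T i) (fun p : ι × ι => T p.1 ⊗[R] V p.2)
          (LinearMap.lTensor (T i) (dmap T V ρ) w') (j, k) =
        LinearMap.lTensor (T i) ((ρ j k).restrictScalars R) (P w' j) -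
          LinearMap.lTensor (T i) (TensorProduct.mk R (T j) (V k) 1) (P w' k) := by
      intro w' j k
      induction w' using TensorProduct.induction_on with
      | zero => simp
      | tmul t y =>
        simp [P, TensorProduct.piRightHom_tmul, dmap_apply, TensorProduct.tmul_sub]
      | add a b ha hb => simp only [map_add, Pi.add_apply, ha, hb]; abel
    obtain ⟨z, hz⟩ := (hex w).1 (by
      refine (TensorProduct.piRight R R (T i) fun p : ι × ι => T p.1 ⊗[R] V p.2).injective (funext fun p => ?_)
      obtain ⟨j, k⟩ := p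
      rw [hdw, map_zero, Pi.zero_apply, LinearEquiv.apply_symm_apply, sub_eq_zero]
      exact hco i j k x)
    refine ⟨z, ?_⟩
    rw [← hunit i (compare T V ρ i z), ← key, hz, LinearEquiv.apply_symm_apply, hunit]

end Groth.Agent.H19Mult.ModDesc
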