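import Groth.Agent.H19Mult.Basic

/-! A monomorphism out of a diagonalisable group is a closed immersion. -/

set_option autoImplicit false
set_option linter.style.haveILetI false
set_option backward.isDefEq.respectTransparency false

universe u v

open TensorProduct WithConv Coalgebra

namespace Groth.Agent.H19Mult

theorem surjective_of_mono_diag {R : Type u} [CommRing R] {C : Type v} [CommRing C] [HopfAlgebra R C]
    {M : Type u} [CommGroup M] (χ : C →ₐc[R] MonoidAlgebra R M)
    (hmono : ∀ (T : Type u) [CommRing T] [Algebra R T] (x y : MonoidAlgebra R M →ₐ[R] T),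
      (∀ c, x (χ c) = y (χ c)) → x = y) : Function.Surjective χ := by
  classical
  have hmax : ∀ (P : Ideal R), P.IsMaximal → ∀ m : M, ∃ c u, u ∉ P ∧ χ c = MonoidAlgebra.single m u := by
    intro P hP
    let H : Subgroup M :=
      { carrier := {m | ∃ c u, u ∉ P ∧ χ c = MonoidAlgebra.single m u}
        one_mem' := ⟨1, 1, fun h => hP.ne_top ((Ideal.eq_top_iff_one _).2 h), by
          rw [map_one, MonoidAlgebra.one_def]⟩
        mul_mem' := by
          rintro a b ⟨c, u, hu, hc⟩ ⟨d, w, hw, hd⟩
          exact ⟨c * d, u * w, fun h => (hP.isPrime.mem_or_mem h).elim hu hw, by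
            rw [map_mul, hc, hd, MonoidAlgebra.single_mul_single]⟩
        inv_mem' := by
          rintro a ⟨c, u, hu, hc⟩
          refine ⟨HopfAlgebra.antipode R c, u, hu, ?_⟩
          rw [map_antipode, hc, MonoidAlgebra.antipode_single]
          simp }
    intro m
    by_contra hm
    let T := MonoidAlgebra (R ⧸ P) (M ⧸ H)
    let x : MonoidAlgebra R M →ₐ[R] T :=
      MonoidAlgebra.lift R T M ((MonoidAlgebra.of (R ⧸ P) (M ⧸ H)).comp (QuotientGroup.mk' H))
    let y : MonoidAlgebra R M →ₐ[R] T := MonoidAlgebra.lift R T M 1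
    have hxy : x = y := hmono T x y fun c => by
      rw [← MonoidAlgebra.sum_coeff_single (χ c), map_finsuppSum, map_finsuppSum]
      refine Finsupp.sum_congr fun a _ => ?_
      by_cases ha : a ∈ H
      · simp only [x, y, MonoidAlgebra.lift_single]
        congr 1
        show MonoidAlgebra.of (R ⧸ P) (M ⧸ H) (QuotientGroup.mk' H a) = 1
        rw [QuotientGroup.mk'_apply, (QuotientGroup.eq_one_iff a).2 ha, map_one]
      · obtain ⟨c', hc'⟩ := exists_single_mem_range χ a c
        have hP' : (χ c).coeff a ∈ P := by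
          by_contra hne
          exact ha ⟨c', _, hne, hc'⟩
        have h0 : algebraMap R T ((χ c).coeff a) = 0 := by
          rw [IsScalarTower.algebraMap_apply R (R ⧸ P) T, Ideal.Quotient.algebraMap_eq,
            Ideal.Quotient.eq_zero_iff_mem.2 hP', map_zero]
        simp [x, y, MonoidAlgebra.lift_single, Algebra.smul_def, h0]
    have h := DFunLike.congr_fun hxy (MonoidAlgebra.single m 1)
    simp only [x, y, MonoidAlgebra.lift_single, one_smul] at h
    change (MonoidAlgebra.single (QuotientGroup.mk m : M ⧸ H) (1 : R ⧸ P)) = MonoidAlgebra.single 1 1 at h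
    haveI : Nontrivial (R ⧸ P) := Ideal.Quotient.nontrivial_iff.2 hP.ne_top
    exact hm ((QuotientGroup.eq_one_iff m).1
      ((MonoidAlgebra.single_left_injective (one_ne_zero (α := R ⧸ P))) h))
  intro z
  induction z using MonoidAlgebra.induction_linear with
  | zero => exact ⟨0, map_zero _⟩
  | add a b ha hb =>
    obtain ⟨p, rfl⟩ := ha
    obtain ⟨q, rfl⟩ := hb
    exact ⟨p + q, map_add _ _ _⟩
  | single m r =>
    let a : Ideal R :=
      { carrier := {u | ∃ c, χ c = MonoidAlgebra.single m u}
        zero_mem' := ⟨0, by simp⟩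
        add_mem' := by
          rintro u w ⟨c, hc⟩ ⟨d, hd⟩
          exact ⟨c + d, by rw [map_add, hc, hd, ← MonoidAlgebra.single_add]⟩
        smul_mem' := by
          rintro r u ⟨c, hc⟩
          exact ⟨r • c, by rw [map_smul, hc, MonoidAlgebra.smul_single]⟩ }
    have ha : a = ⊤ := by
      by_contra hne
      obtain ⟨P, hP, hle⟩ := Ideal.exists_le_maximal a hne
      obtain ⟨c, u, hu, hc⟩ := hmax P hP m
      exact hu (hle ⟨c, hc⟩)
    have : r ∈ a := ha ▸ Submodule.mem_top
    exact this

theorem surjective_of_mono {R : Type u} [CommRing R] {A : Type u} [CommRing A] [HopfAlgebra R A]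
    (h : SGA3b.IsMultType R A) {C : Type u} [CommRing C] [HopfAlgebra R C] (φ : C →ₐc[R] A)
    (hmono : ∀ (T : Type u) [CommRing T] [Algebra R T],
      Function.Injective (fun x : A →ₐ[R] T => x.comp (φ : C →ₐ[R] A))) :
    Function.Surjective φ := by
  intro a
  let f : C →ₗ[R] A := (φ : C →ₐ[R] A).toLinearMap
  suffices a ∈ LinearMap.range f from this
  rw [← Submodule.Quotient.mk_eq_zero]
  refine eq_of_isMultType h _ _ fun R' _ _ _ hd => ?_
  obtain ⟨M, _, ⟨e⟩⟩ := hd
  have hs : Function.Surjective (chartHom e φ) := by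
    refine surjective_of_mono_diag _ fun T _ _ x y hxy => ?_
    letI : Algebra R T := ((algebraMap R' T).comp (algebraMap R R')).toAlgebra
    haveI : IsScalarTower R R' T := IsScalarTower.of_algebraMap_eq' rfl
    let X := ((x.comp (e : (R' ⊗[R] A) →ₐ[R'] MonoidAlgebra R' M)).restrictScalars R).comp
      Algebra.TensorProduct.includeRight
    let Y := ((y.comp (e : (R' ⊗[R] A) →ₐ[R'] MonoidAlgebra R' M)).restrictScalars R).comp
      Algebra.TensorProduct.includeRight
    have hXY : X = Y := hmono T (AlgHom.ext fun c => hxy ((1 : R') ⊗ₜ[R] c))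
    have he : x.comp (e : (R' ⊗[R] A) →ₐ[R'] MonoidAlgebra R' M) = y.comp (e : (R' ⊗[R] A) →ₐ[R'] MonoidAlgebra R' M) :=
      Algebra.TensorProduct.ext (Subsingleton.elim _ _) hXY
    refine AlgHom.ext fun z => ?_
    obtain ⟨w, rfl⟩ := e.surjective z
    exact DFunLike.congr_fun he w
  obtain ⟨w, hw⟩ := hs (e ((1 : R') ⊗ₜ[R] a))
  have hw' : f.lTensor R' w = (1 : R') ⊗ₜ[R] a := by
    refine EquivLike.injective e ?_
    rw [← hw]
    clear hw
    induction w using TensorProduct.induction_on with
    | zero => simp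
    | tmul r c => rfl
    | add p q hp hq => rw [map_add, map_add, map_add, hp, hq]
  rw [TensorProduct.tmul_zero]
  show (LinearMap.range f).mkQ.lTensor R' ((1 : R') ⊗ₜ[R] a) = 0
  rw [← hw', ← LinearMap.comp_apply, ← LinearMap.lTensor_comp,
    show (LinearMap.range f).mkQ ∘ₗ f = 0 from LinearMap.ext fun c => (Submodule.Quotient.mk_eq_zero _).2 ⟨c, rfl⟩]
  simp

end Groth.Agent.H19Mult
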