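import Groth.Agent.H19Mult.LiftDiag
import Groth.Agent.H19Mult.BaseChange

/-!
A flat Hopf algebra that is diagonalisable modulo a nilpotent ideal is diagonalisable.
-/

set_option autoImplicit false
set_option linter.style.haveILetI false
set_option backward.isDefEq.respectTransparency false

universe u

open TensorProduct Coalgebra

namespace Groth.Agent.H19Mult

/-- A family lifting a basis modulo a square-zero ideal is a basis of a flat module. -/
theorem bijective_linearCombination_of_sq_zero {R : Type u} [CommRing R] {A : Type u} [AddCommGroup A]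
    [Module R A] [Module.Flat R A] {R₀ : Type u} [CommRing R₀] [Algebra R R₀]
    (hg : Function.Surjective (algebraMap R R₀)) (h2 : (RingHom.ker (algebraMap R R₀)) ^ 2 = ⊥)
    {ι : Type u} (b₀ : Module.Basis ι R₀ (R₀ ⊗[R] A)) (x : ι → A) (hx : ∀ i, (1 : R₀) ⊗ₜ[R] x i = b₀ i) :
    Function.Bijective (Finsupp.linearCombination R x) := by
  classical
  set I := RingHom.ker (algebraMap R R₀)
  have hI2 : ∀ i ∈ I, ∀ j ∈ I, i * j = 0 := fun i hi j hj => by
    have : i * j ∈ I ^ 2 := by rw [sq]; exact Ideal.mul_mem_mul hi hj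
    rwa [h2] at this
  set Φ := Finsupp.linearCombination R x
  have hq : ∀ c : ι →₀ R, (1 : R₀) ⊗ₜ[R] Φ c = Finsupp.linearCombination R₀ b₀
      (c.mapRange (algebraMap R R₀) (map_zero _)) := by
    intro c
    rw [Finsupp.linearCombination_apply, Finsupp.linearCombination_apply, Finsupp.sum, TensorProduct.tmul_sum,
      Finsupp.sum_mapRange_index]
    · refine Finset.sum_congr rfl fun i _ => ?_
      show _ = algebraMap R R₀ (c i) • b₀ i
      rw [TensorProduct.tmul_smul, algebraMap_smul, hx]
    · intro i; exact zero_smul _ _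
  refine ⟨(injective_iff_map_eq_zero Φ).2 fun c hc => ?_, ?_⟩
  · have hcI : ∀ i, c i ∈ I := fun i => by
      have h1 := hq c
      rw [hc, TensorProduct.tmul_zero] at h1
      have := congrArg (fun w => b₀.repr w i) h1.symm
      simp only [b₀.repr_linearCombination, map_zero] at this
      simpa [I, RingHom.mem_ker] using this
    let f : c.support → R := fun i => c i.1
    let y : c.support → A := fun i => x i.1
    have hsum : ∑ i, f i • y i = 0 := by
      rw [Finset.univ_eq_attach]
      exact (Finset.sum_attach c.support (fun i => c i • x i)).trans ((Finsupp.linearCombination_apply R c).symm.trans hc)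
    obtain ⟨l, a, z, hy, hfa⟩ := Module.Flat.isTrivialRelation_of_sum_smul_eq_zero hsum
    choose t ht using fun j n => hg (b₀.repr ((1 : R₀) ⊗ₜ[R] z j) n)
    ext n
    by_cases hn : n ∈ c.support
    swap
    · exact Finsupp.notMem_support_iff.1 hn
    have key : ∀ i : c.support, f i * ((if i.1 = n then 1 else 0) - ∑ j, a i j * t j n) = 0 := by
      intro i
      refine hI2 _ (hcI _) _ ?_
      rw [RingHom.mem_ker, map_sub, map_sum, sub_eq_zero]
      have h3 := congrArg (fun w => b₀.repr ((1 : R₀) ⊗ₜ[R] w) n) (hy i)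
      simp only [y, hx, b₀.repr_self, Finsupp.single_apply, TensorProduct.tmul_sum, TensorProduct.tmul_smul,
        map_sum, Finsupp.finset_sum_apply] at h3
      rw [show (algebraMap R R₀) (if i.1 = n then 1 else 0) = if i.1 = n then 1 else 0 by split <;> simp, h3]
      refine Finset.sum_congr rfl fun j _ => ?_
      rw [← algebraMap_smul R₀, map_smul, Finsupp.smul_apply, smul_eq_mul, map_mul, ht]
    have hz : c n = ∑ i, f i * ∑ j, a i j * t j n := by
      have : ∑ i : c.support, f i * (if i.1 = n then 1 else 0) = ∑ i, f i * ∑ j, a i j * t j n :=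
        Finset.sum_congr rfl fun i _ => by linear_combination key i
      rw [← this, Finset.sum_eq_single ⟨n, hn⟩]
      · simp [f]
      · intro i _ hi
        rw [if_neg fun h => hi (Subtype.ext h), mul_zero]
      · simp
    rw [hz]
    simp only [Finset.mul_sum, ← mul_assoc]
    rw [Finset.sum_comm]
    exact Finset.sum_eq_zero fun j _ => by rw [← Finset.sum_mul, hfa j, zero_mul]
  · have hmod : ∀ w : A, w ∈ LinearMap.range Φ ⊔ I • (⊤ : Submodule R A) := by
      intro w
      obtain ⟨c, hc⟩ := Finsupp.mapRange_surjective (algebraMap R R₀) (map_zero _) hg (b₀.repr ((1 : R₀) ⊗ₜ w))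
      have h0 : (1 : R₀) ⊗ₜ[R] (w - Φ c) = 0 := by
        rw [TensorProduct.tmul_sub, hq, hc, b₀.linearCombination_repr, sub_self]
      have : w - Φ c ∈ I • (⊤ : Submodule R A) := by
        let e : (R ⧸ I) ≃ₐ[R] R₀ := Ideal.quotientKerAlgEquivOfSurjective (f := Algebra.ofId R R₀) hg
        rw [← Submodule.Quotient.mk_eq_zero]
        refine (TensorProduct.quotTensorEquivQuotSMul A I).symm.injective ?_
        rw [map_zero, TensorProduct.quotTensorEquivQuotSMul_symm_mk]
        refine (TensorProduct.congr e.toLinearEquiv (LinearEquiv.refl R A)).injective ?_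
        rw [map_zero, TensorProduct.congr_tmul]
        show e 1 ⊗ₜ[R] (w - Φ c) = 0
        rw [map_one]; exact h0
      rw [show w = Φ c + (w - Φ c) by abel]
      exact Submodule.add_mem_sup ⟨c, rfl⟩ this
    rw [← LinearMap.range_eq_top, Submodule.eq_top_iff']
    intro w
    refine (sup_le le_rfl ?_ : LinearMap.range Φ ⊔ I • (⊤ : Submodule R A) ≤ _) (hmod w)
    refine Submodule.smul_le.2 fun i hi v _ => ?_
    obtain ⟨p, hp, q, hq', rfl⟩ := Submodule.mem_sup.1 (hmod v)
    rw [smul_add]
    refine add_mem (Submodule.smul_mem _ _ hp) ?_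
    have : i • q = 0 := by
      refine Submodule.smul_induction_on hq' (fun j hj u _ => ?_) (fun u v hu hv => by rw [smul_add, hu, hv, add_zero])
      rw [smul_smul, hI2 i hi j hj, zero_smul]
    rw [this]
    exact zero_mem _

section Cocycle

variable {R : Type u} [CommRing R] {A : Type u} [AddCommGroup A] [Module R A] [Coalgebra R A]
  {ι : Type u} [DecidableEq ι]

theorem apply_eq_zero_of_sq_zero {I : Ideal R} (hI2 : ∀ i ∈ I, ∀ j ∈ I, i * j = 0) {V : Type u} [AddCommGroup V]
    [Module R V] {κ : Type u} (B : Module.Basis κ R V) (G : V →ₗ[R] R) (hG : ∀ i, G (B i) ∈ I) (z : V)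
    (hz : ∀ i, B.repr z i ∈ I) : G z = 0 := by
  rw [← B.linearCombination_repr z, Finsupp.linearCombination_apply, map_finsuppSum]
  exact Finset.sum_eq_zero fun i _ => by show G (_ • B i) = 0; rw [map_smul, smul_eq_mul]; exact hI2 _ (hz i) _ (hG i)

variable (b : Module.Basis ι R A) {I : Ideal R} (hI2 : ∀ i ∈ I, ∀ j ∈ I, i * j = 0)
  (hΔ : ∀ m p, (b.tensorProduct b).repr (comul (R := R) (b m) - b m ⊗ₜ b m) p ∈ I)

include hI2 hΔ

theorem cocycle (m a c d : ι) :
    (b.tensorProduct b).repr (comul (R := R) (b m) - b m ⊗ₜ b m) (a, c) * (if d = m then 1 else 0) +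
      (if a = c then 1 else 0) * (b.tensorProduct b).repr (comul (R := R) (b m) - b m ⊗ₜ b m) (a, d) =
    (if a = m then 1 else 0) * (b.tensorProduct b).repr (comul (R := R) (b m) - b m ⊗ₜ b m) (c, d) +
      (if c = d then 1 else 0) * (b.tensorProduct b).repr (comul (R := R) (b m) - b m ⊗ₜ b m) (a, c) := by
  let B2 := b.tensorProduct b
  let B3 := b.tensorProduct B2
  let L : A ⊗[R] (A ⊗[R] A) →ₗ[R] R := Finsupp.lapply (a, (c, d)) ∘ₗ B3.repr.toLinearMap
  have hL : ∀ u v w : A, L (u ⊗ₜ (v ⊗ₜ w)) = b.repr u a * b.repr v c * b.repr w d := fun u v w => by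
    simp [L, B3, B2, Module.Basis.tensorProduct_repr_tmul_apply]; ring
  let D : A →ₗ[R] A ⊗[R] A := comul
  set E := D (b m) - b m ⊗ₜ b m with hE
  let P : A ⊗[R] A →ₗ[R] R := L ∘ₗ (TensorProduct.assoc R A A A).toLinearMap ∘ₗ D.rTensor A
  let Q : A ⊗[R] A →ₗ[R] R := L ∘ₗ D.lTensor A
  have hP : ∀ u w : A, P (u ⊗ₜ w) = B2.repr (D u) (a, c) * b.repr w d := by
    intro u w
    show L (TensorProduct.assoc R A A A (D u ⊗ₜ w)) = _
    generalize D u = z
    induction z using TensorProduct.induction_on with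
    | zero => simp
    | tmul p q => rw [TensorProduct.assoc_tmul, hL]; simp [B2, Module.Basis.tensorProduct_repr_tmul_apply]; ring
    | add p q hp hq => simp only [TensorProduct.add_tmul, map_add, Finsupp.add_apply, hp, hq, add_mul]
  have hQ : ∀ u w : A, Q (u ⊗ₜ w) = b.repr u a * B2.repr (D w) (c, d) := by
    intro u w
    show L (u ⊗ₜ D w) = _
    generalize D w = z
    induction z using TensorProduct.induction_on with
    | zero => simp
    | tmul p q => rw [hL]; simp [B2, Module.Basis.tensorProduct_repr_tmul_apply]; ring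
    | add p q hp hq => simp only [TensorProduct.tmul_add, map_add, Finsupp.add_apply, hp, hq, mul_add]
  have hb2 : ∀ p i j, B2.repr (b p ⊗ₜ b p) (i, j) = (if p = i then 1 else 0) * (if p = j then 1 else 0) := by
    intro p i j
    simp [B2, Module.Basis.tensorProduct_repr_tmul_apply, Finsupp.single_apply] <;> split_ifs <;> rfl
  have hDb : ∀ p i j, B2.repr (D (b p)) (i, j) - (if p = i then 1 else 0) * (if p = j then 1 else 0) ∈ I := by
    intro p i j
    rw [← hb2, ← Finsupp.sub_apply, ← map_sub]
    exact hΔ p (i, j)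
  let C₁ : A ⊗[R] A →ₗ[R] R := (if a = c then (1 : R) else 0) • (Finsupp.lapply (a, d) ∘ₗ B2.repr.toLinearMap)
  let C₂ : A ⊗[R] A →ₗ[R] R := (if c = d then (1 : R) else 0) • (Finsupp.lapply (a, c) ∘ₗ B2.repr.toLinearMap)
  have hP0 : P E = C₁ E := by
    refine sub_eq_zero.1 (apply_eq_zero_of_sq_zero hI2 B2 (P - C₁) (fun pq => ?_) E (hΔ m))
    obtain ⟨p, q⟩ := pq
    have h := Ideal.mul_mem_right (if q = d then 1 else 0) I (hDb p a c)
    rw [LinearMap.sub_apply, Module.Basis.tensorProduct_apply, hP]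
    have h2 : C₁ (b p ⊗ₜ b q) = (if a = c then 1 else 0) * ((if p = a then 1 else 0) * (if q = d then 1 else 0)) := by
      simp only [C₁, LinearMap.smul_apply, LinearMap.comp_apply, LinearEquiv.coe_coe, Finsupp.lapply_apply, smul_eq_mul]
      simp [B2, Module.Basis.tensorProduct_repr_tmul_apply, Finsupp.single_apply] <;> split_ifs <;> rfl
    rw [h2, b.repr_self, Finsupp.single_apply]
    convert h using 1
    by_cases hpa : p = a <;> by_cases hac : a = c <;> by_cases hpc : p = c <;> simp_all <;> split_ifs <;> simp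
  have hQ0 : Q E = C₂ E := by
    refine sub_eq_zero.1 (apply_eq_zero_of_sq_zero hI2 B2 (Q - C₂) (fun pq => ?_) E (hΔ m))
    obtain ⟨p, q⟩ := pq
    have h := Ideal.mul_mem_left I (if p = a then 1 else 0) (hDb q c d)
    rw [LinearMap.sub_apply, Module.Basis.tensorProduct_apply, hQ]
    have h2 : C₂ (b p ⊗ₜ b q) = (if c = d then 1 else 0) * ((if p = a then 1 else 0) * (if q = c then 1 else 0)) := by
      simp only [C₂, LinearMap.smul_apply, LinearMap.comp_apply, LinearEquiv.coe_coe, Finsupp.lapply_apply, smul_eq_mul]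
      simp [B2, Module.Basis.tensorProduct_repr_tmul_apply, Finsupp.single_apply] <;> split_ifs <;> rfl
    rw [h2, b.repr_self, Finsupp.single_apply]
    convert h using 1
    by_cases hqc : q = c <;> by_cases hcd : c = d <;> by_cases hqd : q = d <;> simp_all <;> split_ifs <;> simp
  have hco : P (D (b m)) = Q (D (b m)) := congrArg L (Coalgebra.coassoc_apply (R := R) (b m))
  have hsplit : D (b m) = b m ⊗ₜ b m + E := by rw [hE]; abel
  have hm : ∀ i j, B2.repr (D (b m)) (i, j) = (if m = i then 1 else 0) * (if m = j then 1 else 0) + B2.repr E (i, j) := by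
    intro i j
    rw [hsplit, map_add, Finsupp.add_apply, hb2]
  rw [hsplit, map_add, map_add, hP0, hQ0, hP, hQ, hm, hm, b.repr_self] at hco
  simp only [C₁, C₂, Finsupp.single_apply, LinearMap.smul_apply, LinearMap.comp_apply, LinearEquiv.coe_coe,
    Finsupp.lapply_apply, smul_eq_mul] at hco
  simp only [eq_comm (a := d) (b := m), eq_comm (a := a) (b := m)]
  linear_combination hco

/-- Group-like lifts of an approximately group-like basis element. -/
theorem exists_comul_eq (m : ι) : ∃ h : A, (∀ i, b.repr h i ∈ I) ∧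
    comul (R := R) (b m + h) = (b m + h) ⊗ₜ (b m + h) := by
  let B2 := b.tensorProduct b
  let f : ι → ι → R := fun i j => B2.repr (comul (R := R) (b m) - b m ⊗ₜ b m) (i, j)
  have hc : ∀ i j k, f i j * (if k = m then 1 else 0) + (if i = j then 1 else 0) * f i k =
      (if i = m then 1 else 0) * f j k + (if j = k then 1 else 0) * f i j := fun i j k => cocycle b hI2 hΔ m i j k
  let g : ι → R := fun i => if i = m then f m m else -f i i
  have hfin : {i | g i ≠ 0}.Finite := by
    refine ((B2.repr (comul (R := R) (b m) - b m ⊗ₜ b m)).support.image Prod.fst).finite_toSet.subset fun i hi => ?_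
    refine Finset.mem_coe.2 (Finset.mem_image.2 ⟨(i, i), Finsupp.mem_support_iff.2 fun h0 => hi ?_, rfl⟩)
    show g i = 0
    by_cases him : i = m
    · subst him; simp only [g, if_pos rfl]; exact h0
    · simp only [g, if_neg him, neg_eq_zero]; exact h0
  let gc : ι →₀ R := Finsupp.ofSupportFinite g (hfin.subset fun i hi => hi)
  let h : A := Finsupp.linearCombination R b gc
  have hh : ∀ i, b.repr h i = g i := fun i => by
    rw [b.repr_linearCombination]; rfl
  have hhI : ∀ i, b.repr h i ∈ I := fun i => by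
    rw [hh]
    by_cases him : i = m
    · simp only [g, if_pos him]; exact hΔ m (m, m)
    · simp only [g, if_neg him]; exact neg_mem (hΔ m (i, i))
  refine ⟨h, hhI, B2.repr.injective (Finsupp.ext fun p => ?_)⟩
  obtain ⟨i, j⟩ := p
  have hlin : B2.repr (comul (R := R) h) (i, j) = (if i = j then 1 else 0) * g i := by
    let G : A →ₗ[R] R := Finsupp.lapply (i, j) ∘ₗ B2.repr.toLinearMap ∘ₗ comul -
      (if i = j then (1 : R) else 0) • (Finsupp.lapply i ∘ₗ b.repr.toLinearMap)
    have := apply_eq_zero_of_sq_zero hI2 b G (fun p => ?_) h hhI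
    · simp only [G, LinearMap.sub_apply, LinearMap.smul_apply, LinearMap.comp_apply, LinearEquiv.coe_coe,
        Finsupp.lapply_apply, smul_eq_mul, hh, sub_eq_zero] at this
      exact this
    · have h1 : B2.repr (comul (R := R) (b p) - b p ⊗ₜ b p) (i, j) ∈ I := hΔ p (i, j)
      rw [map_sub, Finsupp.sub_apply, show B2.repr (b p ⊗ₜ b p) (i, j) = (if p = i then 1 else 0) * (if p = j then 1 else 0)
        by simp [B2, Module.Basis.tensorProduct_repr_tmul_apply, Finsupp.single_apply] <;> split_ifs <;> rfl] at h1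
      convert h1 using 1
      by_cases hpi : p = i <;> by_cases hij : i = j <;> by_cases hpj : p = j <;> simp_all [G, Finsupp.single_apply]
  have hgg : g i * g j = 0 := by rw [← hh, ← hh]; exact hI2 _ (hhI i) _ (hhI j)
  have e1 : B2.repr (comul (R := R) (b m + h)) (i, j) =
      f i j + (if m = i then 1 else 0) * (if m = j then 1 else 0) + (if i = j then 1 else 0) * g i := by
    rw [map_add, map_add, Finsupp.add_apply, hlin]
    show _ = B2.repr (comul (R := R) (b m) - b m ⊗ₜ b m) (i, j) + _ + _
    rw [map_sub, Finsupp.sub_apply, show B2.repr (b m ⊗ₜ b m) (i, j) = (if m = i then 1 else 0) * (if m = j then 1 else 0)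
      by simp [B2, Module.Basis.tensorProduct_repr_tmul_apply, Finsupp.single_apply] <;> split_ifs <;> rfl]
    ring
  rw [e1]
  have e2 : B2.repr ((b m + h) ⊗ₜ (b m + h)) (i, j) =
      ((if m = i then 1 else 0) + g i) * ((if m = j then 1 else 0) + g j) := by
    simp [B2, Module.Basis.tensorProduct_repr_tmul_apply, Finsupp.single_apply, hh]; ring
  rw [e2]
  have key : f i j + (if i = j then 1 else 0) * g i = (if m = i then 1 else 0) * g j + (if m = j then 1 else 0) * g i := by
    by_cases him : i = m <;> by_cases hjm : j = m <;> by_cases hij : i = j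
    all_goals first
      | (exfalso; simp_all; done)
      | skip
    · subst him hjm; simp [g]
    · subst him
      have := hc i j j
      simp [g, hjm, hij, Ne.symm hij, Ne.symm hjm] at this ⊢
      first | linear_combination this | linear_combination -this
    · subst hjm
      have := hc i i j
      simp [g, him, hij, Ne.symm hij, Ne.symm him] at this ⊢
      first | linear_combination this | linear_combination -this
    · subst hij; simp [g, him, Ne.symm him]
    · have := hc i j j
      simp [g, him, hjm, hij, Ne.symm him, Ne.symm hjm] at this ⊢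
      first | linear_combination this | linear_combination -this
  linear_combination key - hgg

/-- Group-like elements congruent to a basis element are equal. -/
theorem groupLike_unique (m : ι) (u v : A) (hu : ∀ i, b.repr (u - b m) i ∈ I) (hv : ∀ i, b.repr (v - b m) i ∈ I)
    (hu' : comul (R := R) u = u ⊗ₜ u) (hv' : comul (R := R) v = v ⊗ₜ v) : u = v := by
  set w := u - v with hw
  have hwI : ∀ i, b.repr w i ∈ I := fun i => by
    rw [hw, show u - v = (u - b m) - (v - b m) by abel, map_sub, Finsupp.sub_apply]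
    exact sub_mem (hu i) (hv i)
  let B2 := b.tensorProduct b
  have key : ∀ i, (1 : R) * b.repr w i = (if m = i then 1 else 0) * b.repr w i + (if m = i then 1 else 0) * b.repr w i := by
    intro i
    let G : A →ₗ[R] R := Finsupp.lapply (i, i) ∘ₗ B2.repr.toLinearMap ∘ₗ comul - Finsupp.lapply i ∘ₗ b.repr.toLinearMap
    have h0 := apply_eq_zero_of_sq_zero hI2 b G (fun p => ?_) w hwI
    · have h1 : B2.repr (comul (R := R) w) (i, i) = b.repr w i := by
        simpa [G, sub_eq_zero] using h0
      rw [hw, map_sub, hu', hv', map_sub, Finsupp.sub_apply] at h1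
      simp [B2, Module.Basis.tensorProduct_repr_tmul_apply] at h1
      have eu := hu i
      have ev := hv i
      rw [map_sub, Finsupp.sub_apply, b.repr_self, Finsupp.single_apply] at eu ev
      have z1 := hI2 _ (hwI i) _ eu
      have z2 := hI2 _ (hwI i) _ ev
      simp only [hw, map_sub, Finsupp.sub_apply] at h1 z1 z2 ⊢
      linear_combination -h1 + z1 + z2
    · have h1 : B2.repr (comul (R := R) (b p) - b p ⊗ₜ b p) (i, i) ∈ I := hΔ p (i, i)
      rw [map_sub, Finsupp.sub_apply, show B2.repr (b p ⊗ₜ b p) (i, i) = (if p = i then 1 else 0)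
        by simp [B2, Module.Basis.tensorProduct_repr_tmul_apply, Finsupp.single_apply] <;> intro h1 h2 <;> exact absurd h2 h1] at h1
      simpa [G, Finsupp.single_apply] using h1
  refine sub_eq_zero.1 (b.repr.injective (Finsupp.ext fun i => ?_))
  rw [← hw, map_zero, Finsupp.zero_apply]
  have := key i
  split at this
  · linear_combination -this
  · simpa using this

end Cocycle

/-- Square-zero case. -/
theorem isDiag_flat_sq_zero {R : Type u} [CommRing R] {A : Type u} [CommRing A] [HopfAlgebra R A]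
    [Module.Flat R A] {R₀ : Type u} [CommRing R₀] [Algebra R R₀] (hg : Function.Surjective (algebraMap R R₀))
    (h2 : (RingHom.ker (algebraMap R R₀)) ^ 2 = ⊥) (h₀ : SGA3b.IsDiag R₀ (R₀ ⊗[R] A)) : SGA3b.IsDiag R A := by
  classical
  obtain ⟨M, _, ⟨e⟩⟩ := h₀
  set I := RingHom.ker (algebraMap R R₀)
  have hI2 : ∀ i ∈ I, ∀ j ∈ I, i * j = 0 := fun i hi j hj => by
    have : i * j ∈ I ^ 2 := by rw [sq]; exact Ideal.mul_mem_mul hi hj
    rwa [h2] at this
  let b₀ : Module.Basis M R₀ (R₀ ⊗[R] A) :=
    .ofRepr ((AlgEquivClass.toAlgEquiv e : R₀ ⊗[R] A ≃ₐ[R₀] _).toLinearEquiv.trans (MonoidAlgebra.coeffLinearEquiv R₀))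
  have hb₀ : ∀ m, b₀ m = e.symm (MonoidAlgebra.single m 1) := fun m => by
    apply b₀.repr.injective
    rw [b₀.repr_self]
    show _ = MonoidAlgebra.coeffLinearEquiv R₀ (e (e.symm (MonoidAlgebra.single m 1)))
    rw [BialgEquiv.apply_symm_apply]
    simp
  have hlift : ∀ z : R₀ ⊗[R] A, ∃ a : A, (1 : R₀) ⊗ₜ[R] a = z := fun z => by
    induction z using TensorProduct.induction_on with
    | zero => exact ⟨0, TensorProduct.tmul_zero _ _⟩
    | tmul r a =>
      obtain ⟨r, rfl⟩ := hg r
      exact ⟨r • a, by rw [← TensorProduct.smul_tmul, Algebra.smul_def, mul_one]⟩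
    | add u w hu hw =>
      obtain ⟨p, rfl⟩ := hu
      obtain ⟨q, rfl⟩ := hw
      exact ⟨p + q, TensorProduct.tmul_add _ _ _⟩
  choose x hx using fun m => hlift (b₀ m)
  let b : Module.Basis M R A :=
    .ofRepr (LinearEquiv.ofBijective _ (bijective_linearCombination_of_sq_zero hg h2 b₀ x hx)).symm
  have hb : ∀ m, b m = x m := fun m => by simp [b]
  have hrepr : ∀ a n, b₀.repr ((1 : R₀) ⊗ₜ[R] a) n = algebraMap R R₀ (b.repr a n) := fun a n => by
    have : Finsupp.lapply n ∘ₗ (b₀.repr.toLinearMap.restrictScalars R) ∘ₗ TensorProduct.mk R R₀ A 1 =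
        Algebra.linearMap R R₀ ∘ₗ Finsupp.lapply n ∘ₗ b.repr.toLinearMap := b.ext fun m => by
      simp [hb, hx]
      rw [← hb, b.repr_self]
      simp [Finsupp.single_apply]
    exact LinearMap.congr_fun this a
  have hΔ : ∀ m p, (b.tensorProduct b).repr (comul (R := R) (b m) - b m ⊗ₜ b m) p ∈ I := by
    intro m p
    obtain ⟨i, j⟩ := p
    let g : R →ₐ[R] R₀ := Algebra.ofId R R₀
    have hgl : IsGL (T := R₀) ((1 : R₀) ⊗ₜ[R] b m) := by
      rw [hb, hx, hb₀, isGL_iff]
      exact (MonoidAlgebra.isGroupLikeElem_single_one m).map e.symm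
    let F : R₀ ⊗[R] (A ⊗[R] A) →ₗ[R] R₀ :=
      TensorProduct.lift (LinearMap.compl₂ (LinearMap.mul R R₀)
        (Algebra.linearMap R R₀ ∘ₗ Finsupp.lapply (i, j) ∘ₗ (b.tensorProduct b).repr.toLinearMap))
    have h := congrArg F hgl.2
    have e1 : comulT R₀ ((1 : R₀) ⊗ₜ[R] b m) = (1 : R₀) ⊗ₜ comul (R := R) (b m) := rfl
    have e2 : inl2 R₀ ((1 : R₀) ⊗ₜ[R] b m) * inr2 R₀ ((1 : R₀) ⊗ₜ[R] b m) = (1 : R₀) ⊗ₜ[R] (b m ⊗ₜ[R] b m) := by
      simp [inl2, inr2]
    rw [e1, e2] at h
    simp [F] at h
    rw [RingHom.mem_ker, map_sub, Finsupp.sub_apply, map_sub, sub_eq_zero]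
    simpa [Module.Basis.tensorProduct_repr_tmul_apply] using h
  choose h hhI hhc using fun m => exists_comul_eq b hI2 hΔ m
  let y : M → A := fun m => b m + h m
  have hyI : ∀ m i, b.repr (y m - b m) i ∈ I := fun m i => by
    rw [show y m - b m = h m by simp [y]]
    exact hhI m i
  have hy0 : ∀ m, (1 : R₀) ⊗ₜ[R] y m = b₀ m := fun m => b₀.repr.injective (Finsupp.ext fun i => by
    rw [hrepr, show y m = b m + h m from rfl, map_add, Finsupp.add_apply, map_add, RingHom.mem_ker.1 (hhI m i),
      add_zero, b.repr_self, b₀.repr_self, Finsupp.single_apply, Finsupp.single_apply]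
    split <;> simp)
  have hε : ∀ m, counit (R := R) (y m) = 1 := by
    intro m
    have hkey := Coalgebra.rTensor_counit_comul (R := R) (y m)
    rw [hhc, LinearMap.rTensor_tmul] at hkey
    have hkey' := congrArg (fun w => b.repr (TensorProduct.lid R A w) m) hkey
    simp only [TensorProduct.lid_tmul, map_smul, Finsupp.smul_apply, smul_eq_mul, _root_.one_mul, one_smul] at hkey'
    have hu : IsUnit (b.repr (y m) m) := by
      have : b.repr (y m) m = 1 + b.repr (h m) m := by simp [y]
      rw [this]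
      refine IsNilpotent.isUnit_one_add ⟨2, ?_⟩
      rw [sq]; exact hI2 _ (hhI m m) _ (hhI m m)
    refine hu.mul_right_cancel ?_
    rw [_root_.one_mul]
    exact hkey'
  have hgl : ∀ m, IsGroupLikeElem R (y m) := fun m => ⟨hε m, hhc m⟩
  have huniq : ∀ m v, comul (R := R) v = v ⊗ₜ v → (1 : R₀) ⊗ₜ[R] v = b₀ m → v = y m := fun m v hv hv0 => by
    refine groupLike_unique b hI2 hΔ m v (y m) (fun i => ?_) (hyI m) hv (hhc m)
    rw [RingHom.mem_ker, ← hrepr, TensorProduct.tmul_sub, hv0, hb, hx, sub_self, map_zero, Finsupp.zero_apply]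
  let Y : M →* GroupLike R A :=
    { toFun m := ⟨y m, hgl m⟩
      map_one' := GroupLike.ext (huniq 1 1 (IsGroupLikeElem.one (R := R)).comul_eq_tmul_self (by
        rw [← Algebra.TensorProduct.one_def, hb₀, ← MonoidAlgebra.one_def, map_one])).symm
      map_mul' p q := GroupLike.ext (huniq (p * q) (y p * y q) ((hgl p).mul (hgl q)).comul_eq_tmul_self (by
        rw [show (1 : R₀) ⊗ₜ[R] (y p * y q) = ((1 : R₀) ⊗ₜ[R] y p) * ((1 : R₀) ⊗ₜ[R] y q) by simp, hy0, hy0, hb₀,
          hb₀, hb₀, ← map_mul, MonoidAlgebra.single_mul_single, _root_.one_mul])).symm }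
  refine ⟨M, inferInstance, ⟨(BialgEquiv.ofBijective (glHom Y) ?_).symm⟩⟩
  have heq : ⇑(glHom Y) = Finsupp.linearCombination R y ∘ MonoidAlgebra.coeffLinearEquiv R := by
    funext w
    show _ = Finsupp.linearCombination R y (MonoidAlgebra.coeffLinearEquiv R w)
    induction w using MonoidAlgebra.induction_linear with
    | zero => simp
    | add u v hu hv => simp only [map_add, hu, hv]
    | single m r => simp [glHom_single]; rfl
  rw [heq]
  exact (bijective_linearCombination_of_sq_zero hg h2 b₀ y hy0).comp (LinearEquiv.bijective _)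

/-- A flat Hopf algebra diagonalisable modulo a nilpotent ideal is diagonalisable. -/
theorem isDiag_flat_nilpotent {R : Type u} [CommRing R] (I : Ideal R) (hI : IsNilpotent I) :
    ∀ (R₀ : Type u) [CommRing R₀] [Algebra R R₀], Function.Surjective (algebraMap R R₀) →
      RingHom.ker (algebraMap R R₀) = I → ∀ (A : Type u) [CommRing A] [HopfAlgebra R A] [Module.Flat R A],
        SGA3b.IsDiag R₀ (R₀ ⊗[R] A) → SGA3b.IsDiag R A := by
  apply Ideal.IsNilpotent.induction_on (S := R) I hI <;> clear hI I
  · intro R _ I hI R₀ _ _ hs hk A _ _ _ h₀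
    exact isDiag_flat_sq_zero hs (by rw [hk]; exact hI) h₀
  · intro R _ I J hIJ h₁ h₂ R₀ _ _ hs hk A _ _ _ h₀
    let g : (R ⧸ I) →ₐ[R] R₀ := Ideal.Quotient.liftₐ I (Algebra.ofId R R₀) fun r hr =>
      RingHom.mem_ker.1 (show r ∈ RingHom.ker (algebraMap R R₀) by rw [hk]; exact hIJ hr)
    letI : Algebra (R ⧸ I) R₀ := g.toRingHom.toAlgebra
    haveI : IsScalarTower R (R ⧸ I) R₀ := IsScalarTower.of_algebraMap_eq fun r => (g.commutes r).symm
    refine h₁ (R ⧸ I) Ideal.Quotient.mk_surjective Ideal.mk_ker A ?_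
    refine h₂ R₀ (fun w => ?_) ?_ ((R ⧸ I) ⊗[R] A) ((isDiag_cancel (R ⧸ I) R₀).2 h₀)
    · obtain ⟨r, rfl⟩ := hs w
      exact ⟨algebraMap R _ r, (IsScalarTower.algebraMap_apply R (R ⧸ I) R₀ r).symm⟩
    · ext w
      obtain ⟨r, rfl⟩ := Ideal.Quotient.mk_surjective w
      rw [RingHom.mem_ker, ← Ideal.Quotient.algebraMap_eq, ← IsScalarTower.algebraMap_apply, Ideal.Quotient.algebraMap_eq,
        Ideal.mem_map_iff_of_surjective _ Ideal.Quotient.mk_surjective]
      refine ⟨fun hr => ⟨r, hk ▸ RingHom.mem_ker.2 hr, rfl⟩, ?_⟩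
      rintro ⟨s, hs', hsr⟩
      refine RingHom.mem_ker.1 (hk.symm ▸ ?_ : r ∈ RingHom.ker (algebraMap R R₀))
      have := Ideal.Quotient.eq.1 hsr
      rw [show r = s - (s - r) by ring]
      exact sub_mem hs' (hIJ this)

end Groth.Agent.H19Mult
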