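import Groth.Agent.H19Grp.HopfReduced
import Groth.Agent.H19Mult.LocalCriterion

/-!
A commutative quasi-finite affine group of finite presentation is killed by an integer.
-/

set_option autoImplicit false
set_option linter.style.haveILetI false
set_option backward.isDefEq.respectTransparency false

universe u

open TensorProduct WithConv Topology

namespace Groth.Agent.H19Mult.QFKilled

variable {R : Type u} [CommRing R] {C : Type u} [CommRing C] [HopfAlgebra R C]

theorem comp_powConv {E : Type u} [CommRing E] [Algebra R E] (f : C →ₐ[R] E) (n : ℕ) :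
    toConv (f.comp (SGA3b.powConv R C n)) = toConv f ^ n := by
  unfold SGA3b.powConv
  induction n with
  | zero =>
    rw [pow_zero, pow_zero]
    exact WithConv.ofConv_injective (AlgHom.ext fun c => f.commutes _)
  | succ n ih =>
    rw [pow_succ, pow_succ, ← ih]
    refine WithConv.ofConv_injective ?_
    show f.comp (_ * _ : WithConv (C →ₐ[R] C)).ofConv = _
    rw [AlgHom.comp_convMul_distrib]
    rfl

theorem powConv_mul (a b : ℕ) (c : C) :
    SGA3b.powConv R C (a * b) c = SGA3b.powConv R C a (SGA3b.powConv R C b c) := by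
  have h := comp_powConv (SGA3b.powConv R C a) b
  have h2 : toConv (SGA3b.powConv R C a) = (toConv (AlgHom.id R C)) ^ a := rfl
  rw [h2, ← pow_mul] at h
  exact (congrArg (fun w : WithConv (C →ₐ[R] C) => w.ofConv c) h).symm

theorem sub_counit_mem (c : C) :
    c - algebraMap R C (Coalgebra.counit (R := R) c) ∈ RingHom.ker (Bialgebra.counitAlgHom R C) := by
  show Bialgebra.counitAlgHom R C (c - algebraMap R C (Coalgebra.counit (R := R) c)) = 0
  rw [map_sub, AlgHom.commutes]
  exact sub_self _

theorem map_counit_map_counit {X : Type*} [AddCommMonoid X] [Module R X] (f : R →ₗ[R] X) (b : C) :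
    TensorProduct.map (f ∘ₗ Coalgebra.counit (R := R) (A := C)) (Coalgebra.counit (R := R) (A := C))
      (Coalgebra.comul (R := R) b) = f (Coalgebra.counit b) ⊗ₜ[R] (1 : R) := by
  rw [show TensorProduct.map (f ∘ₗ Coalgebra.counit (R := R) (A := C)) (Coalgebra.counit (R := R) (A := C)) =
    (LinearMap.rTensor R (f ∘ₗ Coalgebra.counit (R := R) (A := C))) ∘ₗ LinearMap.lTensor C (Coalgebra.counit (R := R) (A := C)) from
    (LinearMap.rTensor_comp_lTensor ..).symm, LinearMap.comp_apply, Coalgebra.lTensor_counit_comul, LinearMap.rTensor_tmul]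
  rfl

/-- To first order the power maps are scalar multiplications. -/
theorem powConv_sub_nsmul_mem_sq (k : ℕ) (c : C) (hc : c ∈ RingHom.ker (Bialgebra.counitAlgHom R C)) :
    SGA3b.powConv R C k c - k • c ∈ RingHom.ker (Bialgebra.counitAlgHom R C) ^ 2 := by
  let I := RingHom.ker (Bialgebra.counitAlgHom R C)
  let q : C →ₐ[R] C ⧸ I ^ 2 := Ideal.Quotient.mkₐ R (I ^ 2)
  let L : WithConv (C →ₗ[R] C ⧸ I ^ 2) := toConv q.toLinearMap
  let δ : WithConv (C →ₗ[R] C ⧸ I ^ 2) := L - 1
  have hδ : ∀ x, δ.ofConv x = Ideal.Quotient.mk _ (x - algebraMap R C (Coalgebra.counit (R := R) x)) := fun x => by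
    rw [map_sub]
    rfl
  have hδ2 : δ * δ = 0 := by
    refine WithConv.ofConv_injective (LinearMap.ext fun x => ?_)
    show LinearMap.mul' R (C ⧸ I ^ 2) (TensorProduct.map δ.ofConv δ.ofConv (Coalgebra.comul (R := R) x)) = 0
    generalize Coalgebra.comul (R := R) x = z
    induction z using TensorProduct.induction_on with
    | zero => simp
    | tmul u w =>
      rw [TensorProduct.map_tmul, LinearMap.mul'_apply, hδ, hδ, ← map_mul, Ideal.Quotient.eq_zero_iff_mem, pow_two]
      exact Ideal.mul_mem_mul (sub_counit_mem u) (sub_counit_mem w)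
    | add u w hu hw => rw [map_add, map_add, hu, hw, add_zero]
  have hpow : L ^ k = 1 + k • δ := by
    induction k with
    | zero => rw [pow_zero, zero_smul, add_zero]
    | succ k ih =>
      have h0 : ∀ X : WithConv (C →ₗ[R] C ⧸ I ^ 2), X * L = X + X * δ := fun X =>
        (congrArg (X * ·) (add_sub_cancel 1 L).symm).trans (mul_one_add X δ)
      refine (pow_succ L k).trans ((congrArg (· * L) ih).trans ?_)
      show (1 + k • δ) * L = _
      rw [h0, add_mul, one_mul, smul_mul_assoc, hδ2, smul_zero, add_zero, succ_nsmul]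
      abel
  have h1 : toConv (q.comp (SGA3b.powConv R C k)).toLinearMap = L ^ k := by
    refine (congrArg (fun w : WithConv (C →ₐ[R] C ⧸ I ^ 2) => toConv w.ofConv.toLinearMap) (comp_powConv q k)).trans ?_
    exact AlgHom.toLinearMap_convPow (toConv q) k
  rw [show L ^ k = _ from hpow] at h1
  have h2 := congrArg (fun w : WithConv (C →ₗ[R] C ⧸ I ^ 2) => w.ofConv c) h1
  rw [← Ideal.Quotient.eq_zero_iff_mem, map_sub, map_nsmul]
  have h3 : Ideal.Quotient.mk (I ^ 2) (SGA3b.powConv R C k c) =
      algebraMap R (C ⧸ I ^ 2) (Coalgebra.counit (R := R) c) + k • δ.ofConv c := h2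
  rw [h3, hδ, show Coalgebra.counit (R := R) c = 0 from hc, map_zero, map_zero, sub_zero, zero_add, sub_self]

/-- The conormal module of the unit section dies at points of characteristic zero. -/
theorem exists_smul_mem_sq_at [Algebra.FiniteType R C] [Algebra.QuasiFinite R C]
    (p : Ideal R) [p.IsPrime] (hp : ∀ k : ℕ, 0 < k → (k : R) ∉ p)
    [Module.Finite R (RingHom.ker (Bialgebra.counitAlgHom R C)).Cotangent] :
    ∃ s ∉ p, ∀ y : (RingHom.ker (Bialgebra.counitAlgHom R C)).Cotangent, s • y = 0 := by
  classical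
  set I := RingHom.ker (Bialgebra.counitAlgHom R C) with hI
  let Q := I.Cotangent
  let κ := p.ResidueField
  let K := AlgebraicClosure κ
  haveI : CharZero κ := charZero_of_inj_zero fun n hn => by
    by_contra h
    refine hp n (Nat.pos_of_ne_zero h) ?_
    rwa [← map_natCast (algebraMap R κ), Ideal.algebraMap_residueField_eq_zero] at hn
  haveI : CharZero K := charZero_of_injective_algebraMap (algebraMap κ K).injective
  let D := K ⊗[R] C
  haveI : IsReduced D := H19Grp.HopfReduced.isReduced (k := K) (A := D)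
  haveI : Module.Finite κ (κ ⊗[R] C) := inferInstance
  haveI : Module.Finite K D := Module.Finite.equiv (TensorProduct.AlgebraTensorModule.cancelBaseChange R κ K K C)
  haveI : IsArtinianRing D := IsArtinianRing.of_finite K D
  haveI : IsSemisimpleRing D := IsArtinianRing.isSemisimpleRing_of_isReduced _
  -- the augmentation ideal of the fibre is idempotent
  let ι : C →ₐ[R] D := Algebra.TensorProduct.includeRight
  let J : Ideal D := I.map ι
  obtain ⟨e, hee, heJ⟩ : ∃ e, IsIdempotentElem e ∧ J = Ideal.span {e} := IsSemisimpleRing.ideal_eq_span_idempotent J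
  let lam : C →ₗ[R] Q :=
    { toFun := fun c => I.toCotangent ⟨c - algebraMap R C (Coalgebra.counit (R := R) c), sub_counit_mem c⟩
      map_add' := fun a b => by
        rw [← map_add]; congr 1; ext; simp [map_add]; ring
      map_smul' := fun r a => by
        rw [RingHom.id_apply, ← LinearMap.map_smul_of_tower]
        congr 1; ext
        simp [Algebra.smul_def, mul_sub] }
  let Λ : D →ₗ[R] K ⊗[R] Q := LinearMap.lTensor K lam
  have hsurj : Function.Surjective Λ := LinearMap.lTensor_surjective K fun y => by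
    obtain ⟨⟨c, hc⟩, rfl⟩ := Ideal.toCotangent_surjective I y
    refine ⟨c, congrArg I.toCotangent (Subtype.ext ?_)⟩
    show c - algebraMap R C (Coalgebra.counit (R := R) c) = c
    rw [show Coalgebra.counit (R := R) c = 0 from hc, map_zero, sub_zero]
  have hlam2 : ∀ c ∈ I ^ 2, lam c = 0 := fun c hc => by
    refine (Ideal.toCotangent_eq_zero _ _).2 ?_
    show c - algebraMap R C (Coalgebra.counit (R := R) c) ∈ I ^ 2
    rwa [show Coalgebra.counit (R := R) c = 0 from Ideal.pow_le_self two_ne_zero hc, map_zero, sub_zero]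
  have hJ2 : ∀ x ∈ J, Λ x = 0 := by
    intro x hx
    have hx2 : x ∈ (I ^ 2).map ι := by
      rw [Ideal.map_pow, pow_two]
      show x ∈ J * J
      rw [heJ] at hx ⊢
      rwa [Ideal.span_singleton_mul_span_singleton, hee.eq]
    suffices h : ∀ d : D, Λ (d * x) = 0 by simpa using h 1
    clear hx
    induction hx2 using Submodule.span_induction with
    | mem y hy =>
      obtain ⟨c, hc, rfl⟩ := hy
      intro d
      induction d using TensorProduct.induction_on with
      | zero => simp
      | add u w hu hw => rw [add_mul, map_add, hu, hw, add_zero]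
      | tmul t b =>
        show Λ ((t ⊗ₜ[R] b) * ((1 : K) ⊗ₜ[R] c)) = 0
        rw [Algebra.TensorProduct.tmul_mul_tmul, mul_one]
        show t ⊗ₜ[R] lam (b * c) = 0
        rw [hlam2 _ (Ideal.mul_mem_left _ b hc), TensorProduct.tmul_zero]
    | zero => intro d; simp
    | add u w _ _ hu hw => intro d; rw [mul_add, map_add, hu, hw, add_zero]
    | smul b u _ hu => intro d; rw [smul_eq_mul, ← mul_assoc]; exact hu _
  have hall : ∀ d : D, Λ d = 0 := by
    intro d
    induction d using TensorProduct.induction_on with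
    | zero => simp
    | add u w hu hw => rw [map_add, hu, hw, add_zero]
    | tmul t c =>
      have e1 : t ⊗ₜ[R] c = (t ⊗ₜ[R] (1 : C)) * ι (c - algebraMap R C (Coalgebra.counit (R := R) c)) +
          t ⊗ₜ[R] algebraMap R C (Coalgebra.counit (R := R) c) := by
        show _ = (t ⊗ₜ[R] (1 : C)) * ((1 : K) ⊗ₜ[R] _) + _
        rw [Algebra.TensorProduct.tmul_mul_tmul, mul_one, one_mul, TensorProduct.tmul_sub, sub_add_cancel]
      rw [e1, map_add, hJ2 _ (Ideal.mul_mem_left _ _ (Ideal.mem_map_of_mem _ (sub_counit_mem c))), zero_add]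
      show t ⊗ₜ[R] lam (algebraMap R C (Coalgebra.counit (R := R) c)) = 0
      rw [show lam (algebraMap R C (Coalgebra.counit (R := R) c)) = 0 from
        (Ideal.toCotangent_eq_zero _ _).2 (by
          show algebraMap R C (Coalgebra.counit (R := R) c) -
            algebraMap R C (Coalgebra.counit (R := R) (algebraMap R C (Coalgebra.counit (R := R) c))) ∈ I ^ 2
          rw [Bialgebra.counit_algebraMap, sub_self]; exact zero_mem _), TensorProduct.tmul_zero]
  haveI : Subsingleton (K ⊗[R] Q) := ⟨fun a b => by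
    obtain ⟨x, rfl⟩ := hsurj a
    obtain ⟨y, rfl⟩ := hsurj b
    rw [hall, hall]⟩
  haveI : Subsingleton (κ ⊗[R] Q) := by
    haveI : Subsingleton (K ⊗[κ] (κ ⊗[R] Q)) :=
      (TensorProduct.AlgebraTensorModule.cancelBaseChange R κ K K Q).toEquiv.subsingleton
    exact Module.FaithfullyFlat.lTensor_reflects_triviality κ K _
  have hsupp : (⟨p, inferInstance⟩ : PrimeSpectrum R) ∉ Module.support R Q := fun h =>
    not_subsingleton_iff_nontrivial.2 ((Module.mem_support_iff_nontrivial_residueField_tensorProduct _).1 h) ‹_›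
  rw [Module.support_eq_zeroLocus, PrimeSpectrum.mem_zeroLocus, SetLike.coe_subset_coe, SetLike.not_le_iff_exists] at hsupp
  obtain ⟨s, hs, hsp⟩ := hsupp
  exact ⟨s, hsp, fun y => Module.mem_annihilator.1 hs y⟩

/-- An integer kills the conormal module of the unit section. -/
theorem exists_nsmul_mem_sq [Algebra.FiniteType R C] [Algebra.QuasiFinite R C] :
    ∃ k : ℕ, 0 < k ∧ ∀ x ∈ RingHom.ker (Bialgebra.counitAlgHom R C),
      k • x ∈ RingHom.ker (Bialgebra.counitAlgHom R C) ^ 2 := by
  classical
  set I := RingHom.ker (Bialgebra.counitAlgHom R C) with hI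
  obtain ⟨gens, hgens⟩ := (inferInstance : Algebra.FiniteType R C).out
  haveI : Module.Finite R I.Cotangent := by
    refine ⟨⟨gens.image fun g => I.toCotangent ⟨g - algebraMap R C (Coalgebra.counit (R := R) g), sub_counit_mem g⟩,
      eq_top_iff.2 fun y _ => ?_⟩⟩
    obtain ⟨⟨c, hc⟩, rfl⟩ := Ideal.toCotangent_surjective I y
    suffices h : ∀ c : C, I.toCotangent ⟨c - algebraMap R C (Coalgebra.counit (R := R) c), sub_counit_mem c⟩ ∈
        Submodule.span R (gens.image fun g =>
          I.toCotangent ⟨g - algebraMap R C (Coalgebra.counit (R := R) g), sub_counit_mem g⟩ : Set I.Cotangent) by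
      convert h c using 2
      exact Subtype.ext (by
        show c = c - algebraMap R C (Coalgebra.counit (R := R) c)
        rw [show Coalgebra.counit (R := R) c = 0 from hc, map_zero, sub_zero])
    intro c
    have hmem : c ∈ Algebra.adjoin R (gens : Set C) := by rw [hgens]; trivial
    induction hmem using Algebra.adjoin_induction with
    | mem x hx => exact Submodule.subset_span (Finset.mem_coe.2 (Finset.mem_image_of_mem _ hx))
    | algebraMap r =>
      rw [(Ideal.toCotangent_eq_zero _ _).2 (by
        show algebraMap R C r - algebraMap R C (Coalgebra.counit (R := R) (algebraMap R C r)) ∈ I ^ 2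
        rw [Bialgebra.counit_algebraMap, sub_self]; exact zero_mem _)]
      exact zero_mem _
    | add a b _ _ ha hb =>
      convert add_mem ha hb using 1
      rw [← map_add]; congr 1; ext; simp [map_add]; ring
    | mul a b _ _ ha hb =>
      have e1 : I.toCotangent ⟨a * b - algebraMap R C (Coalgebra.counit (R := R) (a * b)), sub_counit_mem _⟩ =
          Coalgebra.counit (R := R) b • I.toCotangent ⟨a - algebraMap R C (Coalgebra.counit (R := R) a), sub_counit_mem a⟩ +
          Coalgebra.counit (R := R) a • I.toCotangent ⟨b - algebraMap R C (Coalgebra.counit (R := R) b), sub_counit_mem b⟩ := by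
        rw [← LinearMap.map_smul_of_tower, ← LinearMap.map_smul_of_tower, ← map_add, Ideal.toCotangent_eq]
        show a * b - algebraMap R C (Coalgebra.counit (R := R) (a * b)) -
          (Coalgebra.counit (R := R) b • (a - algebraMap R C (Coalgebra.counit (R := R) a)) +
            Coalgebra.counit (R := R) a • (b - algebraMap R C (Coalgebra.counit (R := R) b))) ∈ I ^ 2
        rw [pow_two, Bialgebra.counit_mul, map_mul, Algebra.smul_def, Algebra.smul_def]
        convert Ideal.mul_mem_mul (sub_counit_mem a) (sub_counit_mem b) using 1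
        ring
      rw [e1]
      exact add_mem (Submodule.smul_mem _ _ ha) (Submodule.smul_mem _ _ hb)
  obtain ⟨k, hk, hkQ⟩ : ∃ k : ℕ, 0 < k ∧ ∀ y : I.Cotangent, (k : R) • y = 0 := by
    by_contra hne
    push Not at hne
    let A : Ideal R := Module.annihilator R I.Cotangent
    let Sn : Submonoid R :=
      { carrier := {t | ∃ k : ℕ, 0 < k ∧ (k : R) = t}
        one_mem' := ⟨1, one_pos, Nat.cast_one⟩
        mul_mem' := by
          rintro _ _ ⟨a, ha, rfl⟩ ⟨b, hb, rfl⟩
          exact ⟨a * b, Nat.mul_pos ha hb, Nat.cast_mul a b⟩ }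
    have hd : Disjoint (A : Set R) (Sn : Set R) := by
      rw [Set.disjoint_left]
      rintro _ hA ⟨k, hk, rfl⟩
      obtain ⟨y, hy⟩ := hne k hk
      exact hy (Module.mem_annihilator.1 hA y)
    obtain ⟨p, hp, hAp, hdp⟩ := Ideal.exists_le_prime_disjoint A Sn hd
    haveI := hp
    obtain ⟨s, hs, hsy⟩ := exists_smul_mem_sq_at (C := C) p fun k hk h => Set.disjoint_left.1 hdp h ⟨k, hk, rfl⟩
    exact hs (hAp (Module.mem_annihilator.2 hsy))
  refine ⟨k, hk, fun x hx => ?_⟩
  have h := hkQ (I.toCotangent ⟨x, hx⟩)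
  rw [← LinearMap.map_smul_of_tower, Ideal.toCotangent_eq_zero] at h
  simpa [Nat.cast_smul_eq_nsmul] using h

theorem isOpen_constructible {s : Set (PrimeSpectrum R)} (hs : IsConstructible s) :
    IsOpen[constructibleTopology (PrimeSpectrum R)] s := by
  obtain ⟨S, rfl⟩ := PrimeSpectrum.exists_constructibleSetData_iff.2 hs
  refine @isOpen_biUnion _ _ (constructibleTopology (PrimeSpectrum R)) _ _ fun B _ => ?_
  show IsOpen[constructibleTopology (PrimeSpectrum R)]
    (PrimeSpectrum.zeroLocus (Set.range B.g) ∩ (PrimeSpectrum.zeroLocus {B.f})ᶜ)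
  refine @IsOpen.inter _ (constructibleTopology (PrimeSpectrum R)) _ _ ?_ ?_
  · exact IsCompact.isOpen_constructibleTopology_of_isClosed
      (PrimeSpectrum.isRetrocompact_zeroLocus_compl (Set.finite_range B.g)).isCompact
      (PrimeSpectrum.isClosed_zeroLocus _)
  · rw [← PrimeSpectrum.basicOpen_eq_zeroLocus_compl]
    exact IsCompact.isOpen_constructibleTopology_of_isOpen (PrimeSpectrum.isCompact_basicOpen _)
      (PrimeSpectrum.isOpen_basicOpen)

/-- An integer kills all geometric points. -/
theorem exists_powConv_mem_nilradical [Algebra.FinitePresentation R C] [Algebra.QuasiFinite R C] :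
    ∃ n : ℕ, 0 < n ∧ ∀ x ∈ RingHom.ker (Bialgebra.counitAlgHom R C), IsNilpotent (SGA3b.powConv R C n x) := by
  classical
  haveI : Algebra.FiniteType R C := inferInstance
  set I := RingHom.ker (Bialgebra.counitAlgHom R C) with hI
  obtain ⟨G, hG⟩ : I.FG := Algebra.FinitePresentation.ker_fG_of_surjective (Bialgebra.counitAlgHom R C)
    fun r => ⟨algebraMap R C r, AlgHom.commutes _ r⟩
  let Good : ℕ → Set (PrimeSpectrum R) := fun n =>
    {p | ∀ q : PrimeSpectrum C, PrimeSpectrum.comap (algebraMap R C) q = p →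
      ∀ x ∈ I, SGA3b.powConv R C n x ∈ q.asIdeal}
  have hcons : ∀ n, IsOpen[constructibleTopology (PrimeSpectrum R)] (Good n) := by
    intro n
    let Z : Set (PrimeSpectrum C) := PrimeSpectrum.zeroLocus ((fun x => SGA3b.powConv R C n x) '' (G : Set C))
    have hZ : IsConstructible Z := by
      rw [← isConstructible_compl]
      exact (PrimeSpectrum.isRetrocompact_zeroLocus_compl ((Finset.finite_toSet G).image _)).isConstructible
        (PrimeSpectrum.isClosed_zeroLocus _).isOpen_compl
    have h1 : IsConstructible (PrimeSpectrum.comap (algebraMap R C) '' Zᶜ)ᶜ :=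
      (PrimeSpectrum.isConstructible_comap_image (RingHom.finitePresentation_algebraMap.2 ‹_›) hZ.compl).compl
    convert isOpen_constructible h1 using 1
    ext p
    simp only [Good, Set.mem_setOf_eq, Set.mem_compl_iff, Set.mem_image, not_exists, not_and]
    constructor
    · intro h q hq hqp
      refine hq ((PrimeSpectrum.mem_zeroLocus _ _).2 ?_)
      rintro _ ⟨x, hx, rfl⟩
      exact h q hqp x (hG ▸ Ideal.subset_span hx)
    · intro h q hqp x hx
      have hqZ : q ∈ Z := by_contra fun hh => h q hh hqp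
      have hle : I ≤ q.asIdeal.comap (SGA3b.powConv R C n) := by
        rw [← hG, Ideal.span_le]
        exact fun x hx => (PrimeSpectrum.mem_zeroLocus _ _).1 hqZ ⟨x, hx, rfl⟩
      exact hle hx
  have hmono : ∀ a b : ℕ, Good a ⊆ Good (a * b) := by
    intro a b p hp q hq x hx
    rw [powConv_mul]
    refine hp q hq _ ?_
    show Bialgebra.counitAlgHom R C (SGA3b.powConv R C b x) = 0
    have h := congrArg (fun w : WithConv (C →ₐ[R] R) => w.ofConv x) (comp_powConv (Bialgebra.counitAlgHom R C) b)
    rw [show toConv (Bialgebra.counitAlgHom R C) = (1 : WithConv (C →ₐ[R] R)) from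
      WithConv.ofConv_injective (AlgHom.ext fun c => by
        show Bialgebra.counitAlgHom R C c = algebraMap R R (Coalgebra.counit (R := R) c)
        rfl), one_pow] at h
    exact h.trans hx
  have hcov : ∀ p, ∃ n : ℕ, p ∈ Good (n + 1) := by
    intro p
    let κ := p.asIdeal.ResidueField
    let K := AlgebraicClosure κ
    haveI : Module.Finite κ (κ ⊗[R] C) := inferInstance
    haveI : Module.Finite K (K ⊗[R] C) := Module.Finite.equiv (TensorProduct.AlgebraTensorModule.cancelBaseChange R κ K K C)
    haveI : Finite ((K ⊗[R] C) →ₐ[K] K) := inferInstance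
    haveI : Finite (WithConv ((K ⊗[R] C) →ₐ[K] K)) := Finite.of_injective (fun f => f.ofConv) WithConv.ofConv_injective
    refine ⟨Nat.card (WithConv ((K ⊗[R] C) →ₐ[K] K)) - 1, fun q hq x hx => ?_⟩
    rw [Nat.sub_add_cancel (Nat.card_pos)]
    subst hq
    let L' := q.asIdeal.ResidueField
    letI : Algebra κ L' := (Ideal.ResidueField.map _ q.asIdeal (algebraMap R C) rfl).toAlgebra
    haveI : IsScalarTower R κ L' := IsScalarTower.of_algebraMap_eq fun r =>
      ((Ideal.ResidueField.mapₐ _ q.asIdeal (Algebra.ofId R C) rfl).commutes r).symm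
    let g : κ ⊗[R] C →ₐ[κ] L' := Algebra.TensorProduct.lift (Algebra.ofId κ L') (IsScalarTower.toAlgHom R C L')
      fun _ _ => Commute.all _ _
    have halg : ∀ z, z ∈ g.range → IsIntegral κ z := by
      rintro _ ⟨w, rfl⟩
      exact (IsIntegral.of_finite κ w).map g
    haveI : Algebra.IsAlgebraic κ L' := ⟨fun z => by
      obtain ⟨a, b, hb, rfl⟩ := IsFractionRing.div_surjective (A := C ⧸ q.asIdeal) z
      obtain ⟨a, rfl⟩ := Ideal.Quotient.mk_surjective a
      obtain ⟨b, rfl⟩ := Ideal.Quotient.mk_surjective b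
      have hg : ∀ c : C, IsIntegral κ (algebraMap C L' c) := fun c =>
        halg _ ⟨(1 : κ) ⊗ₜ c, by
          refine (Algebra.TensorProduct.lift_tmul _ _ _ _ _).trans ?_
          rw [map_one, one_mul]
          rfl⟩
      rw [div_eq_mul_inv]
      exact ((hg a).mul (hg b).inv).isAlgebraic⟩
    haveI : Module.IsTorsionFree κ L' := DivisionSemiring.to_moduleIsTorsionFree
    let σ : L' →ₐ[κ] K := IsAlgClosed.lift
    let pt : C →ₐ[R] K := (σ.restrictScalars R).comp (IsScalarTower.toAlgHom R C L')
    let pK : (K ⊗[R] C) →ₐ[K] K := Algebra.TensorProduct.lift (AlgHom.id K K) pt fun _ _ => Commute.all _ _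
    have hpt : toConv pK ^ Nat.card (WithConv ((K ⊗[R] C) →ₐ[K] K)) = 1 :=
      pow_card_eq_one' (G := WithConv ((K ⊗[R] C) →ₐ[K] K))
    rw [← comp_powConv] at hpt
    have h1 : σ (algebraMap C L' (SGA3b.powConv R C (Nat.card (WithConv ((K ⊗[R] C) →ₐ[K] K))) x)) = 0 := by
      have h2 : pK (SGA3b.powConv K (K ⊗[R] C) (Nat.card (WithConv ((K ⊗[R] C) →ₐ[K] K))) ((1 : K) ⊗ₜ[R] x)) = 0 := by
        refine (congrArg (fun w : WithConv ((K ⊗[R] C) →ₐ[K] K) => w.ofConv ((1 : K) ⊗ₜ[R] x)) hpt).trans ?_
        show algebraMap K K (Coalgebra.counit (R := K) ((1 : K) ⊗ₜ[R] x)) = 0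
        rw [TensorProduct.counit_tmul, show Coalgebra.counit (R := R) x = 0 from hx, zero_smul, map_zero]
      rw [LocalCriterion.powConv_baseChange] at h2
      refine Eq.trans ?_ h2
      refine Eq.symm ((Algebra.TensorProduct.lift_tmul _ _ _ _ _).trans ?_)
      rw [map_one, one_mul]
      rfl
    exact Ideal.algebraMap_residueField_eq_zero.1 ((map_eq_zero_iff _ σ.toRingHom.injective).1 h1)
  -- compactness in the constructible topology
  let e := WithTopology.toTopology (constructibleTopology (PrimeSpectrum R))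
  have hopen : ∀ n : ℕ, IsOpen (e '' Good (n + 1)) := fun n => by
    rw [WithConstructibleTopology.isOpen_iff, Set.preimage_image_eq _ (WithTopology.toTopology_injective _)]
    exact hcons _
  obtain ⟨t, ht⟩ := isCompact_univ.elim_finite_subcover _ hopen fun y _ => by
    obtain ⟨p, rfl⟩ := WithTopology.toTopology_surjective (constructibleTopology (PrimeSpectrum R)) y
    obtain ⟨n, hn⟩ := hcov p
    exact Set.mem_iUnion.2 ⟨n, p, hn, rfl⟩
  refine ⟨∏ n ∈ t, (n + 1), Finset.prod_pos fun n _ => Nat.succ_pos n, fun x hx => ?_⟩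
  refine nilpotent_iff_mem_prime.2 fun Q hQ => ?_
  let q : PrimeSpectrum C := ⟨Q, hQ⟩
  obtain ⟨n, hnt, p, hp, hpe⟩ := Set.mem_iUnion₂.1 (ht (Set.mem_univ (e (PrimeSpectrum.comap (algebraMap R C) q))))
  obtain rfl := WithTopology.toTopology_injective _ hpe
  obtain ⟨d, hd⟩ := Finset.dvd_prod_of_mem (fun n : ℕ => n + 1) hnt
  rw [hd]
  exact hmono (n + 1) d hp q rfl x hx

/-- Killed by an integer. -/
theorem exists_powConv_eq_counit [Algebra.FinitePresentation R C] [Algebra.QuasiFinite R C] :
    ∃ n : ℕ, 0 < n ∧ ∀ c : C, SGA3b.powConv R C n c = algebraMap R C (Coalgebra.counit c) := by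
  classical
  haveI : Algebra.FiniteType R C := inferInstance
  set I := RingHom.ker (Bialgebra.counitAlgHom R C) with hI
  obtain ⟨n, hn, hnil⟩ := exists_powConv_mem_nilradical (R := R) (C := C)
  obtain ⟨k, hk, hk2⟩ := exists_nsmul_mem_sq (R := R) (C := C)
  have hsq : I ≤ (I ^ 2).comap (SGA3b.powConv R C k) := fun x hx => by
    rw [Ideal.mem_comap, show SGA3b.powConv R C k x = (SGA3b.powConv R C k x - k • x) + k • x by abel]
    exact add_mem (powConv_sub_nsmul_mem_sq k x hx) (hk2 x hx)
  have hiter : ∀ j : ℕ, I ≤ (I ^ (2 ^ j)).comap (SGA3b.powConv R C (k ^ j)) := by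
    intro j
    induction j with
    | zero =>
      intro x hx
      rw [Ideal.mem_comap, pow_zero, pow_zero, pow_one]
      have h1 : SGA3b.powConv R C 1 x = x := by
        show ((toConv (AlgHom.id R C)) ^ 1).ofConv x = x
        rw [pow_one]
        rfl
      rw [h1]; exact hx
    | succ j ih =>
      intro x hx
      rw [Ideal.mem_comap, pow_succ' k, powConv_mul]
      have h1 := Ideal.mem_map_of_mem (SGA3b.powConv R C k) (show SGA3b.powConv R C (k ^ j) x ∈ I ^ (2 ^ j) from ih hx)
      rw [Ideal.map_pow] at h1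
      rw [pow_succ' 2, pow_mul]
      exact Ideal.pow_right_mono (Ideal.map_le_iff_le_comap.2 hsq) _ h1
  obtain ⟨c, hc⟩ : ∃ c, Ideal.map (SGA3b.powConv R C n) I ^ c ≤ ⊥ := by
    refine Ideal.exists_pow_le_of_le_radical_of_fg (Ideal.map_le_iff_le_comap.2 fun x hx => hnil x hx) ?_
    exact Ideal.FG.map (Algebra.FinitePresentation.ker_fG_of_surjective (Bialgebra.counitAlgHom R C)
      fun r => ⟨algebraMap R C r, AlgHom.commutes _ r⟩) _
  refine ⟨n * k ^ c, Nat.mul_pos hn (pow_pos hk c), fun x => ?_⟩
  have h1 : SGA3b.powConv R C (n * k ^ c) (x - algebraMap R C (Coalgebra.counit (R := R) x)) = 0 := by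
    rw [powConv_mul, ← Ideal.mem_bot]
    have h2 := Ideal.mem_map_of_mem (SGA3b.powConv R C n) (show SGA3b.powConv R C (k ^ c) (x - algebraMap R C (Coalgebra.counit (R := R) x)) ∈ I ^ (2 ^ c) from hiter c (sub_counit_mem x))
    rw [Ideal.map_pow] at h2
    exact hc (Ideal.pow_le_pow_right (Nat.lt_two_pow_self).le h2)
  rwa [map_sub, AlgHom.commutes, sub_eq_zero] at h1

end Groth.Agent.H19Mult.QFKilled
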