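import Groth.Agent.H19Mult.Spread
import Groth.Agent.H19Mult.SepClosedPt
import Groth.Agent.H19Mult.FPFlat
import Groth.Agent.H19Mult.HenselDiag
import Groth.Agent.H19Mult.SplitField
import Groth.Agent.H19Mult.Charts
import Groth.Agent.H9Hens.PtConstruct
import Mathlib.RingTheory.Spectrum.Prime.Chevalley

/-!
Groups of multiplicative type of finite type are quasi-isotrivial.
-/

set_option autoImplicit false
set_option linter.style.haveILetI false
set_option backward.isDefEq.respectTransparency false

universe u

open TensorProduct IsLocalRing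

namespace Groth.Agent.H19Mult

variable {R : Type u} [CommRing R] {A : Type u} [CommRing A] [HopfAlgebra R A]

/-- Around each point a group of multiplicative type of finite type is diagonalised by an étale algebra. -/
theorem exists_etale_chart (hft : Algebra.FiniteType R A) (h : SGA3b.IsMultType R A) (p : PrimeSpectrum R) :
    ∃ (S : Type u) (_ : CommRing S) (_ : Algebra R S), Algebra.Etale R S ∧
      p ∈ Set.range (PrimeSpectrum.comap (algebraMap R S)) ∧ SGA3b.IsDiag S (S ⊗[R] A) := by
  classical
  haveI := flat_of_isMultType h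
  let K := p.asIdeal.ResidueField
  obtain ⟨k, _, _, hk⟩ : ∃ (k : Type u) (_ : Field k) (_ : Algebra K k), IsSepClosure K k :=
    ⟨SeparableClosure K, inferInstance, inferInstance, inferInstance⟩
  haveI : IsSepClosed k := hk.sep_closed
  haveI : Algebra.IsSeparable K k := hk.separable
  letI : Algebra R k := ((algebraMap K k).comp (algebraMap R K)).toAlgebra
  haveI : IsScalarTower R K k := IsScalarTower.of_algebraMap_eq fun _ => rfl
  obtain ⟨H, _, _, π, hπ⟩ := H9Hens.exists_isPtColim R k
  haveI := hπ.isLocalRing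
  haveI := hπ.henselianLocalRing
  have hπs : Function.Surjective π := surjective_of_isPtColim p.asIdeal hπ
  let F := ResidueField H
  obtain ⟨k', _, _, hfin, hsep, M, _, hM, ⟨e⟩⟩ := exists_split_separable
    (A := k ⊗[R] A) inferInstance (isMultType_baseChange h k)
  haveI := hsep
  have hk' : Function.Bijective (algebraMap k k') :=
    ⟨(algebraMap k k').injective, IsSepClosed.algebraMap_surjective k k'⟩
  letI : Algebra R k' := ((algebraMap k k').comp (algebraMap R k)).toAlgebra
  haveI : IsScalarTower R k k' := IsScalarTower.of_algebraMap_eq fun _ => rfl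
  let e' := (cancelEquiv (R := R) (A := A) k k').symm.trans e
  let g : F →+* k := Ideal.Quotient.lift (maximalIdeal H) π.toRingHom fun x hx => by
    rw [hπ.maximalIdeal_eq] at hx; exact hx
  have hgs : Function.Surjective g := fun y => (hπs y).elim fun x hx => ⟨residue H x, hx⟩
  let eg : F ≃+* k := RingEquiv.ofBijective g ⟨g.injective, hgs⟩
  let rk : k →+* F := eg.symm.toRingHom
  have hrk : ∀ x, rk (π x) = residue H x := fun x => eg.symm_apply_apply (residue H x)
  let kk : k' →+* k := (RingEquiv.ofBijective (algebraMap k k') hk').symm.toRingHom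
  letI : Algebra k' F := (rk.comp kk).toAlgebra
  haveI : IsScalarTower R k' F := IsScalarTower.of_algebraMap_eq fun r => by
    show algebraMap R F r = rk (kk (algebraMap k k' (algebraMap R k r)))
    rw [show kk (algebraMap k k' (algebraMap R k r)) = algebraMap R k r from
      RingEquiv.symm_apply_apply (RingEquiv.ofBijective (algebraMap k k') hk') _, ← π.commutes, hrk]
    rfl
  obtain ⟨eF⟩ := isDiag_baseChange e' F
  obtain ⟨N, _, ⟨eH⟩⟩ := isDiag_of_henselian (R := H) (A := H ⊗[R] A) inferInstance (isMultType_baseChange h H)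
    ((isDiag_cancel (R := R) (A := A) H F).2 ⟨M, inferInstance, ⟨eF⟩⟩)
  haveI : Monoid.FG N := MonoidAlgebra.finiteType_iff_fg.1
    (Algebra.FiniteType.equiv (inferInstance : Algebra.FiniteType H (H ⊗[R] A))
      (AlgEquivClass.toAlgEquiv eH : H ⊗[R] A ≃ₐ[H] _))
  obtain ⟨S, _, _, hS, σ, hd⟩ := exists_etale_isDiag_of_colim (finitePresentation_of_isMultType hft h) hπ
    ⟨N, inferInstance, Group.fg_iff_monoid_fg.2 ‹_›, ⟨eH⟩⟩
  refine ⟨S, inferInstance, inferInstance, hS, ⟨⟨RingHom.ker (π.comp σ).toRingHom, RingHom.ker_isPrime _⟩,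
    PrimeSpectrum.ext ?_⟩, hd⟩
  show Ideal.comap (algebraMap R S) (RingHom.ker (π.comp σ).toRingHom) = p.asIdeal
  rw [RingHom.comap_ker, show (π.comp σ).toRingHom.comp (algebraMap R S) = algebraMap R k from (π.comp σ).comp_algebraMap,
    IsScalarTower.algebraMap_eq R K k,
    RingHom.ker_comp_of_injective _ (algebraMap K k).injective, Ideal.ker_algebraMap_residueField]

theorem isQuasiIsotrivial_of_isMultType (hft : Algebra.FiniteType R A) (h : SGA3b.IsMultType R A) :
    SGA3b.IsQuasiIsotrivial R A := by
  classical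
  refine ⟨{f | ∃ (S : Type u) (_ : CommRing S) (_ : Algebra R S), Algebra.Etale R S ∧ SGA3b.IsDiag S (S ⊗[R] A) ∧
    (PrimeSpectrum.basicOpen f : Set (PrimeSpectrum R)) ⊆ Set.range (PrimeSpectrum.comap (algebraMap R S))}, ?_, ?_⟩
  · by_contra hne
    obtain ⟨m, hm, hsm⟩ := Ideal.exists_le_maximal _ hne
    obtain ⟨S, _, _, hS, hp, hd⟩ := exists_etale_chart hft h ⟨m, hm.isPrime⟩
    haveI := hS
    obtain ⟨_, ⟨f, rfl⟩, hfp, hfr⟩ := PrimeSpectrum.isTopologicalBasis_basic_opens.exists_subset_of_mem_open hp
      (PrimeSpectrum.isOpenMap_comap_of_hasGoingDown_of_finitePresentation (R := R) (S := S)).isOpen_range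
    exact hfp (hsm (Ideal.subset_span ⟨S, inferInstance, inferInstance, hS, hd, hfr⟩))
  · rintro f ⟨S, _, _, hS, ⟨M, _, ⟨e⟩⟩, hfr⟩
    haveI := hS
    let Rf := Localization.Away f
    let U := Rf ⊗[R] S
    haveI : Algebra.Etale Rf U := inferInstance
    haveI : Module.FaithfullyFlat Rf U := Module.FaithfullyFlat.of_comap_surjective fun P => by
      obtain ⟨q, hq⟩ := hfr (show PrimeSpectrum.comap (algebraMap R Rf) P ∈ PrimeSpectrum.basicOpen f from
        fun hmem => P.isPrime.ne_top (Ideal.eq_top_of_isUnit_mem _ hmem (IsLocalization.Away.algebraMap_isUnit f)))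
      obtain ⟨Ω, _, gP, gQ, hg, hkP, -⟩ := exists_field_of_points (R := R) P q hq.symm
      letI : Algebra R Ω := (gP.comp (algebraMap R Rf)).toAlgebra
      let L : U →ₐ[R] Ω := Algebra.TensorProduct.lift { gP with commutes' := fun r => rfl }
        { gQ with commutes' := fun r => (RingHom.congr_fun hg r).symm } fun _ _ => Commute.all _ _
      refine ⟨⟨RingHom.ker L.toRingHom, RingHom.ker_isPrime _⟩, PrimeSpectrum.ext ?_⟩
      show Ideal.comap (algebraMap Rf U) (RingHom.ker L.toRingHom) = P.asIdeal
      rw [RingHom.comap_ker, ← hkP]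
      congr 1
      ext x
      show L (x ⊗ₜ[R] (1 : S)) = gP x
      rw [Algebra.TensorProduct.lift_tmul, map_one, mul_one]
      rfl
    letI : Algebra S U := Algebra.TensorProduct.rightAlgebra
    haveI : IsScalarTower R S U := IsScalarTower.of_algebraMap_eq fun r => by
      show algebraMap R U r = (1 : Rf) ⊗ₜ[R] algebraMap R S r
      rw [Algebra.TensorProduct.algebraMap_apply']
    obtain ⟨eU⟩ := isDiag_baseChange e U
    exact ⟨U, inferInstance, inferInstance, inferInstance, inferInstance,
      (isDiag_cancel (R := R) (A := A) Rf U).2 ⟨M, inferInstance, ⟨eU⟩⟩⟩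

end Groth.Agent.H19Mult
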