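import Groth.Agent.H19Mult.Basic

/-!
Rigidity of homomorphisms into groups of multiplicative type.
-/

set_option autoImplicit false
set_option linter.style.haveILetI false
set_option backward.isDefEq.respectTransparency false

universe u v w

open TensorProduct WithConv Coalgebra

namespace Groth.Agent.H19Mult

/-! ### Ideals extended to group algebras -/

section Ext

variable {S : Type u} [CommRing S]

theorem linearMap_mem_of_mem_map {B : Type v} [CommRing B] [Algebra S B] (L : B →ₗ[S] S) {Q : Ideal S} {x : B}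
    (hx : x ∈ Ideal.map (algebraMap S B) Q) : L x ∈ Q := by
  have hx' : x ∈ (Q • (⊤ : Submodule S B)) := by
    rw [Ideal.smul_top_eq_map, Submodule.restrictScalars_mem]; exact hx
  refine Submodule.smul_induction_on hx' (fun r hr b _ => ?_) (fun a b ha hb => ?_)
  · rw [map_smul, smul_eq_mul]; exact Ideal.mul_mem_right _ _ hr
  · rw [map_add]; exact add_mem ha hb

theorem mem_map_of_forall_coef_mem {M : Type w} [CommGroup M] {Q : Ideal S} {x : MonoidAlgebra S M}
    (h : ∀ m, coefL m x ∈ Q) : x ∈ Ideal.map (algebraMap S (MonoidAlgebra S M)) Q := by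
  rw [← MonoidAlgebra.sum_coeff_single x]
  refine Ideal.sum_mem _ fun m _ => ?_
  have : MonoidAlgebra.single m ((x.coeff : M →₀ S) m) =
      algebraMap S (MonoidAlgebra S M) (x.coeff m) * MonoidAlgebra.single m 1 := by
    simp [MonoidAlgebra.coe_algebraMap, MonoidAlgebra.single_mul_single]
  rw [this]
  exact Ideal.mul_mem_right _ _ (Ideal.mem_map_of_mem _ (h m))

end Ext

/-! ### Rigidity -/

section Rigid

variable {R : Type u} [CommRing R] {A : Type v} [CommRing A] [HopfAlgebra R A]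
  {C : Type v} [CommRing C] [HopfAlgebra R C]
  {R' : Type u} [CommRing R'] [Algebra R R'] {M : Type w} [CommGroup M]

/-- The difference of coefficients. -/
noncomputable def dcoef (e : (R' ⊗[R] A) ≃ₐc[R'] MonoidAlgebra R' M) (φ ψ : C →ₐc[R] A) (m : M) :
    WithConv ((R' ⊗[R] C) →ₗ[R'] R') :=
  coef (chartHom e φ) m - coef (chartHom e ψ) m

theorem dcoef_tmul (e : (R' ⊗[R] A) ≃ₐc[R'] MonoidAlgebra R' M) (φ ψ : C →ₐc[R] A) (m : M) (r : R') (c : C) :
    (dcoef e φ ψ m).ofConv (r ⊗ₜ c) = r * coefL m (e ((1 : R') ⊗ₜ[R] (φ c - ψ c))) := by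
  have h : ∀ a : A, e (r ⊗ₜ[R] a) = r • e ((1 : R') ⊗ₜ[R] a) := fun a => by
    rw [← map_smul, TensorProduct.smul_tmul', smul_eq_mul, mul_one]
  show coefL m (chartHom e φ (r ⊗ₜ c)) - coefL m (chartHom e ψ (r ⊗ₜ c)) = _
  rw [chartHom_tmul, chartHom_tmul, h, h, map_smul, map_smul, TensorProduct.tmul_sub, map_sub, map_sub,
    smul_eq_mul, smul_eq_mul, mul_sub]

theorem dcoef_mem (e : (R' ⊗[R] A) ≃ₐc[R'] MonoidAlgebra R' M) (φ ψ : C →ₐc[R] A) {Q : Ideal R'} (m : M)
    (h : ∀ c : C, coefL m (e ((1 : R') ⊗ₜ[R] (φ c - ψ c))) ∈ Q) (z : R' ⊗[R] C) :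
    (dcoef e φ ψ m).ofConv z ∈ Q := by
  induction z using TensorProduct.induction_on with
  | zero => rw [map_zero]; exact zero_mem _
  | tmul r c => rw [dcoef_tmul]; exact Ideal.mul_mem_left _ _ (h c)
  | add a b ha hb => rw [map_add]; exact add_mem ha hb

/-- The cube identity for differences of commuting idempotents. -/
theorem dcoef_cube (e : (R' ⊗[R] A) ≃ₐc[R'] MonoidAlgebra R' M) (φ ψ : C →ₐc[R] A) (m : M)
    (hc : Commute (coef (chartHom e φ) m) (coef (chartHom e ψ) m)) :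
    dcoef e φ ψ m = dcoef e φ ψ m * (dcoef e φ ψ m * dcoef e φ ψ m) := by
  classical
  have h1 : coef (chartHom e φ) m * coef (chartHom e φ) m = coef (chartHom e φ) m := by
    rw [coef_mul_coef, if_pos rfl]
  have h2 : coef (chartHom e ψ) m * coef (chartHom e ψ) m = coef (chartHom e ψ) m := by
    rw [coef_mul_coef, if_pos rfl]
  unfold dcoef
  generalize coef (chartHom e φ) m = a at h1 hc ⊢
  generalize coef (chartHom e ψ) m = b at h2 hc ⊢
  simp only [sub_mul, mul_sub]
  rw [h1, h2, ← hc.eq]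
  simp only [← mul_assoc, h1]
  rw [show b * a * b = a * b by rw [← hc.eq, mul_assoc, h2], h2]
  abel

/-- The coefficient functionals of the counit are central. -/
theorem commute_coef_trivial (e : (R' ⊗[R] A) ≃ₐc[R'] MonoidAlgebra R' M) (φ : C →ₐc[R] A) (m : M) :
    Commute (coef (chartHom e φ) m)
      (coef (chartHom e ((Bialgebra.unitBialgHom R A).comp (Bialgebra.counitBialgHom R C))) m) := by
  classical
  have h : coef (chartHom e ((Bialgebra.unitBialgHom R A).comp (Bialgebra.counitBialgHom R C))) m =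
      if (1 : M) = m then 1 else 0 := by
    refine WithConv.ofConv_injective (LinearMap.ext fun z => ?_)
    induction z using TensorProduct.induction_on with
    | zero => rw [map_zero, map_zero]
    | tmul r c =>
      rw [coef_apply, chartHom_tmul]
      have : (Bialgebra.unitBialgHom R A).comp (Bialgebra.counitBialgHom R C) c =
          algebraMap R A (counit (R := R) c) := rfl
      have e1 : r ⊗ₜ[R] algebraMap R A (counit (R := R) c) =
          algebraMap R' (R' ⊗[R] A) (algebraMap R R' (counit c) * r) := by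
        rw [Algebra.algebraMap_eq_smul_one, TensorProduct.tmul_smul, TensorProduct.smul_tmul', Algebra.smul_def]
        rfl
      rw [this, e1, AlgHomClass.commutes e, MonoidAlgebra.coe_algebraMap, Function.comp_apply, coefL_single]
      split
      · show _ = algebraMap R' R' (counit (R := R') (r ⊗ₜ[R] c))
        rw [TensorProduct.counit_tmul, CommSemiring.counit_apply]
        simp [Algebra.smul_def]
      · rfl
    | add a b ha hb => rw [map_add, map_add, ha, hb]
  rw [h]
  split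
  · exact Commute.one_right _
  · exact Commute.zero_right _

theorem one_tmul_eq_of_dcoef_eq_zero (e : (R' ⊗[R] A) ≃ₐc[R'] MonoidAlgebra R' M) (φ ψ : C →ₐc[R] A)
    (h : ∀ m, dcoef e φ ψ m = 0) (c : C) : (1 : R') ⊗ₜ[R] φ c = (1 : R') ⊗ₜ[R] ψ c := by
  refine e.injective (ext_coef fun m => ?_)
  have := congrArg (fun f : WithConv ((R' ⊗[R] C) →ₗ[R'] R') => f.ofConv ((1 : R') ⊗ₜ[R] c)) (h m)
  rw [show (0 : WithConv ((R' ⊗[R] C) →ₗ[R'] R')).ofConv ((1 : R') ⊗ₜ[R] c) = 0 from rfl] at this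
  rw [dcoef_tmul, one_mul, TensorProduct.tmul_sub, map_sub, map_sub] at this
  exact sub_eq_zero.1 this

theorem coef_mem_of_mem_map (e : (R' ⊗[R] A) ≃ₐc[R'] MonoidAlgebra R' M) {I : Ideal R} {x : A}
    (hx : x ∈ Ideal.map (algebraMap R A) I) (m : M) :
    coefL m (e ((1 : R') ⊗ₜ[R] x)) ∈ Ideal.map (algebraMap R R') I := by
  refine linearMap_mem_of_mem_map (coefL m ∘ₗ (e : (R' ⊗[R] A) →ₐ[R'] MonoidAlgebra R' M).toLinearMap) ?_
  have h : (Algebra.TensorProduct.includeRight : A →ₐ[R] R' ⊗[R] A) x ∈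
      Ideal.map (Algebra.TensorProduct.includeRight : A →ₐ[R] R' ⊗[R] A).toRingHom (Ideal.map (algebraMap R A) I) :=
    Ideal.mem_map_of_mem _ hx
  rw [Ideal.map_map] at h
  rw [Ideal.map_map]
  have e2 : (Algebra.TensorProduct.includeRight : A →ₐ[R] R' ⊗[R] A).toRingHom.comp (algebraMap R A) =
      (algebraMap R' (R' ⊗[R] A)).comp (algebraMap R R') := by
    refine RingHom.ext fun r => ?_
    exact ((Algebra.TensorProduct.includeRight : A →ₐ[R] R' ⊗[R] A).commutes r).trans
      (IsScalarTower.algebraMap_apply R R' (R' ⊗[R] A) r)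
  rw [e2] at h
  exact h

/-- Agreement modulo a nilpotent ideal is agreement. -/
theorem one_tmul_eq_of_nilpotent (e : (R' ⊗[R] A) ≃ₐc[R'] MonoidAlgebra R' M) (φ ψ : C →ₐc[R] A)
    {I : Ideal R} (hI : IsNilpotent I) (hc : ∀ m, Commute (coef (chartHom e φ) m) (coef (chartHom e ψ) m))
    (h : ∀ c, φ c - ψ c ∈ Ideal.map (algebraMap R A) I) (c : C) : (1 : R') ⊗ₜ[R] φ c = (1 : R') ⊗ₜ[R] ψ c := by
  obtain ⟨N, hN⟩ := hI
  refine one_tmul_eq_of_dcoef_eq_zero e φ ψ (fun m => WithConv.ofConv_injective (LinearMap.ext fun z => ?_)) c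
  set P := Ideal.map (algebraMap R R') I
  have h0 : ∀ z, (dcoef e φ ψ m).ofConv z ∈ P := dcoef_mem e φ ψ m fun c => coef_mem_of_mem_map e (h c) m
  have hpow : ∀ (j : ℕ) (z : R' ⊗[R] C), (dcoef e φ ψ m).ofConv z ∈ P ^ (j + 1) := by
    intro j
    induction j with
    | zero => simpa using h0
    | succ j ih =>
      intro z
      rw [dcoef_cube e φ ψ m (hc m)]
      refine (show P ^ (j + 1) * (P * P) ≤ P ^ (j + 2) from ?_) (convMul_mem _ _ ih (convMul_mem _ _ h0 h0) z)
      rw [pow_succ P (j + 1)]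
      exact Ideal.mul_mono_right Ideal.mul_le_right
  have := Ideal.pow_le_pow_right (Nat.le_succ N) (hpow N z)
  rw [← Ideal.map_pow, hN, show ((0 : Ideal R)) = ⊥ from rfl, Ideal.map_bot, Ideal.mem_bot] at this
  exact this

theorem mem_map_of_one_tmul_eq {I : Ideal R} {x y : A} (h : (1 : R ⧸ I) ⊗ₜ[R] x = (1 : R ⧸ I) ⊗ₜ[R] y) :
    x - y ∈ Ideal.map (algebraMap R A) I := by
  have h' : (1 : R ⧸ I) ⊗ₜ[R] (x - y) = 0 := by rw [TensorProduct.tmul_sub, h, sub_self]
  have := congrArg (TensorProduct.quotTensorEquivQuotSMul A I) h'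
  rw [map_zero] at this
  rw [show (1 : R ⧸ I) = Ideal.Quotient.mk I 1 from rfl, TensorProduct.quotTensorEquivQuotSMul_mk_tmul, one_smul,
    Submodule.Quotient.mk_eq_zero, Ideal.smul_top_eq_map, Submodule.restrictScalars_mem] at this
  exact this

theorem dcoef_adjoin (e : (R' ⊗[R] A) ≃ₐc[R'] MonoidAlgebra R' M) (φ ψ : C →ₐc[R] A) {b : Ideal R'}
    {s : Set C} (hs : Algebra.adjoin R s = ⊤) (h : ∀ c ∈ s, ∀ m, coefL m (e ((1 : R') ⊗ₜ[R] (φ c - ψ c))) ∈ b)
    (c : C) (m : M) : coefL m (e ((1 : R') ⊗ₜ[R] (φ c - ψ c))) ∈ b := by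
  refine linearMap_mem_of_mem_map (coefL m) (?_ : e ((1 : R') ⊗ₜ[R] (φ c - ψ c)) ∈ _)
  have hc : c ∈ Algebra.adjoin R s := hs ▸ Algebra.mem_top
  let B := Ideal.map (algebraMap R' (MonoidAlgebra R' M)) b
  have key : ∀ x y : A, e ((1 : R') ⊗ₜ[R] (x * y)) = e ((1 : R') ⊗ₜ[R] x) * e ((1 : R') ⊗ₜ[R] y) := fun x y => by
    rw [← map_mul, Algebra.TensorProduct.tmul_mul_tmul, one_mul]
  show e ((1 : R') ⊗ₜ[R] (φ c - ψ c)) ∈ B
  induction hc using Algebra.adjoin_induction with
  | mem x hx => exact mem_map_of_forall_coef_mem (h x hx)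
  | algebraMap r =>
    rw [AlgHomClass.commutes φ r, AlgHomClass.commutes ψ r, sub_self, TensorProduct.tmul_zero, map_zero]
    exact zero_mem _
  | add x y _ _ hx hy =>
    rw [map_add, map_add, add_sub_add_comm, TensorProduct.tmul_add, map_add]
    exact add_mem hx hy
  | mul x y _ _ hx hy =>
    rw [map_mul, map_mul, show φ x * φ y - ψ x * ψ y = (φ x - ψ x) * φ y + ψ x * (φ y - ψ y) by ring,
      TensorProduct.tmul_add, map_add, key, key]
    exact add_mem (Ideal.mul_mem_right _ _ hx) (Ideal.mul_mem_left _ _ hy)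

theorem coef_ne_zero_finite (e : (R' ⊗[R] A) ≃ₐc[R'] MonoidAlgebra R' M) (φ ψ : C →ₐc[R] A) (s : Finset C) :
    (Ideal.span {r : R' | ∃ c ∈ s, ∃ m, coefL m (e ((1 : R') ⊗ₜ[R] (φ c - ψ c))) = r}).FG := by
  classical
  refine ⟨s.biUnion (fun c => (e ((1 : R') ⊗ₜ[R] (φ c - ψ c))).coeff.frange), le_antisymm ?_ ?_⟩
  · refine Ideal.span_le.2 fun r hr => ?_
    obtain ⟨c, hc, hr⟩ := Finset.mem_biUnion.1 hr
    obtain ⟨hne, m, hm⟩ := Finsupp.mem_frange.1 hr
    exact Ideal.subset_span ⟨c, hc, m, hm⟩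
  · refine Ideal.span_le.2 ?_
    rintro r ⟨c, hc, m, rfl⟩
    show coefL m _ ∈ _
    by_cases h0 : coefL m (e ((1 : R') ⊗ₜ[R] (φ c - ψ c))) = 0
    · rw [h0]; exact zero_mem _
    · exact Ideal.subset_span (Finset.mem_biUnion.2 ⟨c, hc, Finsupp.mem_frange.2 ⟨h0, m, rfl⟩⟩)

/-- An element all of whose coefficients die in a faithfully flat algebra `L` is zero. -/
theorem eq_zero_of_coef_mem_ker (e : (R' ⊗[R] A) ≃ₐc[R'] MonoidAlgebra R' M) {L : Type u} [CommRing L]
    [Algebra R L] [Algebra R' L] [IsScalarTower R R' L] [Module.FaithfullyFlat R L] (a : A)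
    (h : ∀ m, algebraMap R' L (coefL m (e ((1 : R') ⊗ₜ[R] a))) = 0) : a = 0 := by
  set K := RingHom.ker (algebraMap R' L)
  have h1 : e ((1 : R') ⊗ₜ[R] a) ∈ Ideal.map (algebraMap R' (MonoidAlgebra R' M)) K :=
    mem_map_of_forall_coef_mem h
  have h2 : (1 : R') ⊗ₜ[R] a ∈ Ideal.map (algebraMap R' (R' ⊗[R] A)) K := by
    have h3 := Ideal.mem_map_of_mem (e.symm : MonoidAlgebra R' M →ₐ[R'] R' ⊗[R] A).toRingHom h1
    rw [Ideal.map_map] at h3
    have e3 : ((e.symm : MonoidAlgebra R' M →ₐ[R'] R' ⊗[R] A).toRingHom.comp (algebraMap R' (MonoidAlgebra R' M))) =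
        algebraMap R' (R' ⊗[R] A) := RingHom.ext fun r => (e.symm : MonoidAlgebra R' M →ₐ[R'] R' ⊗[R] A).commutes r
    rw [e3] at h3
    simpa using h3
  let F : R' ⊗[R] A →ₐ[R] L ⊗[R] A := Algebra.TensorProduct.map (IsScalarTower.toAlgHom R R' L) (AlgHom.id R A)
  have h4 : Ideal.map (algebraMap R' (R' ⊗[R] A)) K ≤ RingHom.ker F := Ideal.map_le_iff_le_comap.2 fun r hr => by
    rw [Ideal.mem_comap, RingHom.mem_ker]
    show F (r ⊗ₜ (1 : A)) = 0
    rw [Algebra.TensorProduct.map_tmul]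
    show algebraMap R' L r ⊗ₜ[R] (1 : A) = 0
    rw [show algebraMap R' L r = 0 from hr, TensorProduct.zero_tmul]
  have h5 : (1 : L) ⊗ₜ[R] a = 0 := by
    have := RingHom.mem_ker.1 (h4 h2)
    rwa [Algebra.TensorProduct.map_tmul, map_one, AlgHom.id_apply] at this
  exact Module.FaithfullyFlat.tensorProduct_mk_injective (B := L) A (h5.trans (TensorProduct.tmul_zero _ _).symm)

end Rigid

section Local

variable {R : Type u} [CommRing R] [IsLocalRing R] {A : Type u} [CommRing A] [HopfAlgebra R A]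
  {C : Type u} [CommRing C] [HopfAlgebra R C]

/-- Over a local ring there is a chart with a faithfully flat localisation. -/
theorem exists_local_chart (h : SGA3b.IsMultType R A) :
    ∃ (R' : Type u) (_ : CommRing R') (_ : Algebra R R') (q : Ideal R') (_ : q.IsPrime)
      (M : Type u) (_ : CommGroup M), Nonempty ((R' ⊗[R] A) ≃ₐc[R'] MonoidAlgebra R' M) ∧
      Ideal.map (algebraMap R R') (IsLocalRing.maximalIdeal R) ≤ q ∧
      Module.FaithfullyFlat R (Localization.AtPrime q) := by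
  obtain ⟨R', _, _, hflat, ⟨q, hq⟩, M, _, he⟩ := exists_chart h (IsLocalRing.closedPoint R)
  haveI := hflat
  refine ⟨R', inferInstance, inferInstance, q.asIdeal, q.isPrime, M, inferInstance, he, ?_, ?_⟩
  · rw [Ideal.map_le_iff_le_comap]
    exact le_of_eq (congrArg PrimeSpectrum.asIdeal hq).symm
  · haveI : Module.Flat R (Localization.AtPrime q.asIdeal) := Module.Flat.trans R R' _
    haveI : IsLocalHom (algebraMap R (Localization.AtPrime q.asIdeal)) := by
      refine ((IsLocalRing.local_hom_TFAE _).out 0 2).2 ?_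
      rw [Ideal.map_le_iff_le_comap, IsScalarTower.algebraMap_eq R R' (Localization.AtPrime q.asIdeal),
        ← Ideal.comap_comap, show Ideal.comap (algebraMap R' (Localization.AtPrime q.asIdeal))
          (IsLocalRing.maximalIdeal (Localization.AtPrime q.asIdeal)) = q.asIdeal from
          Localization.AtPrime.under_maximalIdeal]
      exact le_of_eq (congrArg PrimeSpectrum.asIdeal hq).symm
    exact Module.FaithfullyFlat.of_flat_of_isLocalHom

theorem algebraMap_eq_zero_of_le_smul {R' : Type u} [CommRing R'] (q : Ideal R') [q.IsPrime] (P K : Ideal R')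
    (hP : P ≤ q) (hK : K.FG) (h : K ≤ P * K) {r : R'} (hr : r ∈ K) :
    algebraMap R' (Localization.AtPrime q) r = 0 := by
  set L := Localization.AtPrime q
  have h1 : Ideal.map (algebraMap R' L) K = ⊥ := by
    refine Submodule.eq_bot_of_le_smul_of_le_jacobson_bot (Ideal.map (algebraMap R' L) P) _ (hK.map _) ?_ ?_
    · rw [smul_eq_mul, ← Ideal.map_mul]; exact Ideal.map_mono h
    · refine le_trans ?_ (IsLocalRing.maximalIdeal_le_jacobson _)
      rw [← Localization.AtPrime.map_eq_maximalIdeal]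
      exact Ideal.map_mono hP
  rw [← Ideal.mem_bot, ← h1]
  exact Ideal.mem_map_of_mem _ hr

/-- Rigidity over a local base. -/
theorem eq_of_agree_maximalIdeal (hA : SGA3b.IsMultType R A) (hC : Algebra.FiniteType R C) (φ ψ : C →ₐc[R] A)
    (hs : ∀ c, φ c - ψ c ∈ Ideal.map (algebraMap R A) (IsLocalRing.maximalIdeal R))
    (hcomm : ∀ (R' : Type u) [CommRing R'] [Algebra R R'] (M : Type u) [CommGroup M]
      (e : (R' ⊗[R] A) ≃ₐc[R'] MonoidAlgebra R' M) (m : M),
      Commute (coef (chartHom e φ) m) (coef (chartHom e ψ) m)) (c : C) : φ c = ψ c := by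
  classical
  obtain ⟨R', _, _, q, _, M, _, ⟨e⟩, hq, _⟩ := exists_local_chart hA
  obtain ⟨s, hs'⟩ := hC.out
  set b : Ideal R' := Ideal.span {r : R' | ∃ c ∈ s, ∃ m, coefL m (e ((1 : R') ⊗ₜ[R] (φ c - ψ c))) = r} with hb
  have hall : ∀ (c : C) (m : M), coefL m (e ((1 : R') ⊗ₜ[R] (φ c - ψ c))) ∈ b :=
    dcoef_adjoin e φ ψ hs' fun c hc m => Ideal.subset_span ⟨c, hc, m, rfl⟩
  have hbP : b ≤ Ideal.map (algebraMap R R') (IsLocalRing.maximalIdeal R) := by
    refine Ideal.span_le.2 ?_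
    rintro r ⟨c, -, m, rfl⟩
    exact coef_mem_of_mem_map e (hs c) m
  have hbb : b ≤ b * b := by
    refine Ideal.span_le.2 ?_
    rintro r ⟨c, -, m, rfl⟩
    have hd : ∀ z, (dcoef e φ ψ m).ofConv z ∈ b := dcoef_mem e φ ψ m fun c => hall c m
    have := convMul_mem _ _ hd (convMul_mem _ _ hd hd) ((1 : R') ⊗ₜ[R] c)
    rw [← dcoef_cube e φ ψ m (hcomm R' M e m), dcoef_tmul, one_mul] at this
    exact Ideal.mul_mono_right Ideal.mul_le_right this
  refine sub_eq_zero.1 (eq_zero_of_coef_mem_ker e (L := Localization.AtPrime q) _ fun m => ?_)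
  exact algebraMap_eq_zero_of_le_smul q _ b hq (coef_ne_zero_finite e φ ψ s)
    (hbb.trans (Ideal.mul_mono_left hbP)) (hall c m)

/-- Rigidity over a Noetherian local base, with no finiteness on the source. -/
theorem eq_of_agree_maximalIdeal_noetherian [IsNoetherianRing R] (hA : SGA3b.IsMultType R A)
    (hft : Algebra.FiniteType R A) (φ ψ : C →ₐc[R] A)
    (hs : ∀ c, φ c - ψ c ∈ Ideal.map (algebraMap R A) (IsLocalRing.maximalIdeal R))
    (hcomm : ∀ (R' : Type u) [CommRing R'] [Algebra R R'] (M : Type u) [CommGroup M]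
      (e : (R' ⊗[R] A) ≃ₐc[R'] MonoidAlgebra R' M) (m : M),
      Commute (coef (chartHom e φ) m) (coef (chartHom e ψ) m)) (c : C) : φ c = ψ c := by
  classical
  obtain ⟨R', _, _, q, _, M, _, ⟨e⟩, hq, hL⟩ := exists_local_chart hA
  haveI : IsNoetherianRing A := Algebra.FiniteType.isNoetherianRing R A
  set mI := IsLocalRing.maximalIdeal R
  set L := Localization.AtPrime q
  set P := Ideal.map (algebraMap R R') mI
  haveI : Module.FaithfullyFlat A (A ⊗[R] L) := inferInstance
  have hmem : ∀ (j : ℕ), φ c - ψ c ∈ Ideal.map (algebraMap R A) mI ^ (j + 1) := by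
    intro j
    have hv : ∀ (j : ℕ) (m : M) (c : C), coefL m (e ((1 : R') ⊗ₜ[R] (φ c - ψ c))) ∈ P ^ (j + 1) := by
      intro j
      induction j with
      | zero => exact fun m c => by rw [zero_add, pow_one]; exact coef_mem_of_mem_map e (hs c) m
      | succ j ih =>
        intro m c
        have h0 : ∀ z, (dcoef e φ ψ m).ofConv z ∈ P := dcoef_mem e φ ψ m fun c => coef_mem_of_mem_map e (hs c) m
        have := convMul_mem _ _ (dcoef_mem e φ ψ m fun c => ih m c) (convMul_mem _ _ h0 h0) ((1 : R') ⊗ₜ[R] c)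
        rw [← dcoef_cube e φ ψ m (hcomm R' M e m), dcoef_tmul, one_mul] at this
        rw [pow_succ P (j + 1)]
        exact Ideal.mul_mono_right Ideal.mul_le_right this
    have h1 : e ((1 : R') ⊗ₜ[R] (φ c - ψ c)) ∈ Ideal.map (algebraMap R' (MonoidAlgebra R' M)) (P ^ (j + 1)) :=
      mem_map_of_forall_coef_mem fun m => hv j m c
    let G : MonoidAlgebra R' M →+* A ⊗[R] L :=
      ((Algebra.TensorProduct.comm R L A).toAlgHom.toRingHom.comp
        (Algebra.TensorProduct.map (IsScalarTower.toAlgHom R R' L) (AlgHom.id R A)).toRingHom).comp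
        (e.symm : MonoidAlgebra R' M →ₐ[R'] R' ⊗[R] A).toRingHom
    have h2 := Ideal.mem_map_of_mem G h1
    have hGc : G (e ((1 : R') ⊗ₜ[R] (φ c - ψ c))) = algebraMap A (A ⊗[R] L) (φ c - ψ c) := by
      show Algebra.TensorProduct.comm R L A ((Algebra.TensorProduct.map (IsScalarTower.toAlgHom R R' L)
        (AlgHom.id R A)) ((e.symm : MonoidAlgebra R' M →ₐ[R'] R' ⊗[R] A) (e _))) = _
      rw [show (e.symm : MonoidAlgebra R' M →ₐ[R'] R' ⊗[R] A) (e ((1 : R') ⊗ₜ[R] (φ c - ψ c))) =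
        (1 : R') ⊗ₜ[R] (φ c - ψ c) from e.symm_apply_apply _, Algebra.TensorProduct.map_tmul, map_one,
        Algebra.TensorProduct.comm_tmul, AlgHom.id_apply]
      rfl
    have hcomp : (G.comp (algebraMap R' (MonoidAlgebra R' M))).comp (algebraMap R R') =
        (algebraMap A (A ⊗[R] L)).comp (algebraMap R A) := by
      refine RingHom.ext fun r => ?_
      show G (algebraMap R' (MonoidAlgebra R' M) (algebraMap R R' r)) = algebraMap R A r ⊗ₜ[R] (1 : L)
      have : (e.symm : MonoidAlgebra R' M →ₐ[R'] R' ⊗[R] A) (algebraMap R' (MonoidAlgebra R' M) (algebraMap R R' r)) =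
          algebraMap R R' r ⊗ₜ[R] (1 : A) := (e.symm : MonoidAlgebra R' M →ₐ[R'] R' ⊗[R] A).commutes _
      show Algebra.TensorProduct.comm R L A ((Algebra.TensorProduct.map (IsScalarTower.toAlgHom R R' L)
        (AlgHom.id R A)) ((e.symm : MonoidAlgebra R' M →ₐ[R'] R' ⊗[R] A) _)) = _
      rw [this, Algebra.TensorProduct.map_tmul, Algebra.TensorProduct.comm_tmul, AlgHom.id_apply, AlgHom.commutes]
      exact (TensorProduct.tmul_smul r (1 : A) (1 : L)).trans (TensorProduct.smul_tmul' r (1 : A) (1 : L)) |> fun h => by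
        rw [Algebra.algebraMap_eq_smul_one, Algebra.algebraMap_eq_smul_one]; exact h
    rw [hGc, Ideal.map_map, ← Ideal.map_pow, Ideal.map_map, hcomp, ← Ideal.map_map, ← Ideal.mem_comap,
      Ideal.comap_map_eq_self_of_faithfullyFlat, Ideal.map_pow] at h2
    exact h2
  obtain ⟨⟨r, hr⟩, hrx⟩ := (Ideal.mem_iInf_smul_pow_eq_bot_iff (Ideal.map (algebraMap R A) mI) (φ c - ψ c)).1 (by
    rw [Submodule.mem_iInf]
    intro j
    rw [smul_eq_mul, Ideal.mul_top]
    exact Ideal.pow_le_pow_right (Nat.le_succ j) (hmem j))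
  refine sub_eq_zero.1 (eq_zero_of_coef_mem_ker e (L := L) _ fun m => ?_)
  -- the content ideal
  set x := e ((1 : R') ⊗ₜ[R] (φ c - ψ c)) with hx
  set K : Ideal R' := Ideal.span (x.coeff.frange : Set R') with hK
  have hxK : ∀ m, coefL m x ∈ K := fun m => by
    by_cases h0 : coefL m x = 0
    · rw [h0]; exact zero_mem _
    · exact Ideal.subset_span (Finsupp.mem_frange.2 ⟨h0, m, rfl⟩)
  have hmul : x ∈ Ideal.map (algebraMap R' (MonoidAlgebra R' M)) (P * K) := by
    have h3 : x = e ((1 : R') ⊗ₜ[R] r) * x := by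
      rw [hx, ← map_mul, Algebra.TensorProduct.tmul_mul_tmul, one_mul, ← smul_eq_mul, hrx]
    rw [h3, Ideal.map_mul]
    exact Ideal.mul_mem_mul (mem_map_of_forall_coef_mem fun m => coef_mem_of_mem_map e hr m)
      (mem_map_of_forall_coef_mem hxK)
  refine algebraMap_eq_zero_of_le_smul q P K hq ⟨_, rfl⟩ (Ideal.span_le.2 fun y hy => ?_) (hxK m)
  obtain ⟨hy0, m', hm'⟩ := Finsupp.mem_frange.1 hy
  rw [← hm']
  exact linearMap_mem_of_mem_map (coefL m') hmul

end Local

end Groth.Agent.H19Mult
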