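import Groth.Agent.H19Mult.LiftDiag
import Groth.Agent.H19Mult.HenselSplit
import Groth.Agent.H19Mult.BaseChange
import Groth.Agent.H9Hens.PtColim

/-!
A chart over a colimit of étale algebras comes from one of the étale algebras.
-/

set_option autoImplicit false
set_option linter.style.haveILetI false
set_option backward.isDefEq.respectTransparency false

universe u

open TensorProduct Coalgebra

namespace Groth.Agent.H19Mult

variable {R : Type u} [CommRing R] {k : Type u} [CommRing k] [Algebra R k]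
  {H : Type u} [CommRing H] [Algebra R H] {π : H →ₐ[R] k}

/-- Finitely many elements of an étale stage that vanish in the colimit vanish at a later stage. -/
theorem exists_stage_zero_scalar (hH : H9Hens.IsPtColim π) {ι : Type*} (s : Finset ι) {S : Type u} [CommRing S]
    [Algebra R S] [Algebra.Etale R S] (φ : S →ₐ[R] H) (x : ι → S) (hx : ∀ i ∈ s, φ (x i) = 0) :
    ∃ (T : Type u) (_ : CommRing T) (_ : Algebra R T) (_ : Algebra.Etale R T) (ψ : S →ₐ[R] T) (φT : T →ₐ[R] H),
      φT.comp ψ = φ ∧ ∀ i ∈ s, ψ (x i) = 0 := by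
  classical
  induction s using Finset.induction with
  | empty => exact ⟨S, inferInstance, inferInstance, inferInstance, AlgHom.id R S, φ, AlgHom.comp_id φ,
      fun i hi => absurd hi (Finset.notMem_empty i)⟩
  | insert i s his ih =>
    obtain ⟨T, _, _, _, ψ, φT, hc, hz⟩ := ih fun j hj => hx j (Finset.mem_insert_of_mem hj)
    obtain ⟨T', _, _, _, ψ', φT', hc', hz'⟩ := hH.exists_eq_zero T φT (ψ (x i))
      (by rw [← AlgHom.comp_apply, hc]; exact hx i (Finset.mem_insert_self i s))
    refine ⟨T', inferInstance, inferInstance, inferInstance, ψ'.comp ψ, φT', by rw [← AlgHom.comp_assoc, hc', hc],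
      fun j hj => ?_⟩
    rcases Finset.mem_insert.1 hj with rfl | hj
    · exact hz'
    · rw [AlgHom.comp_apply, hz j hj, map_zero]

/-- The same with coefficients in a flat module. -/
theorem exists_stage_zero (hH : H9Hens.IsPtColim π) {V : Type u} [AddCommGroup V] [Module R V] [Module.Flat R V]
    {ι : Type*} (s : Finset ι) {S : Type u} [CommRing S] [Algebra R S] [Algebra.Etale R S] (φ : S →ₐ[R] H)
    (z : ι → S ⊗[R] V) (hz : ∀ i ∈ s, φ.toLinearMap.rTensor V (z i) = 0) :
    ∃ (T : Type u) (_ : CommRing T) (_ : Algebra R T) (_ : Algebra.Etale R T) (ψ : S →ₐ[R] T) (φT : T →ₐ[R] H),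
      φT.comp ψ = φ ∧ ∀ i ∈ s, ψ.toLinearMap.rTensor V (z i) = 0 := by
  classical
  have hex := Module.Flat.rTensor_exact V (LinearMap.exact_subtype_ker_map φ.toLinearMap)
  have hw : ∀ i ∈ s, ∃ c : Finset (LinearMap.ker φ.toLinearMap × V),
      z i = ∑ p ∈ c, (p.1 : S) ⊗ₜ[R] p.2 := by
    intro i hi
    obtain ⟨w, hw⟩ := (hex (z i)).1 (hz i hi)
    obtain ⟨c, hc⟩ := TensorProduct.exists_finset w
    exact ⟨c, by rw [← hw, hc, map_sum]; rfl⟩
  choose! c hc using hw
  obtain ⟨T, _, _, _, ψ, φT, hcomp, hψ⟩ := exists_stage_zero_scalar hH (s.biUnion c) φ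
    (fun p => (p.1 : S)) fun p _ => p.1.2
  refine ⟨T, inferInstance, inferInstance, inferInstance, ψ, φT, hcomp, fun i hi => ?_⟩
  rw [hc i hi, map_sum]
  refine Finset.sum_eq_zero fun p hp => ?_
  rw [LinearMap.rTensor_tmul, AlgHom.toLinearMap_apply, hψ p (Finset.mem_biUnion.2 ⟨i, hi, hp⟩),
    TensorProduct.zero_tmul]

variable {A : Type u} [CommRing A] [HopfAlgebra R A]

theorem mapA2_mapA2 {T T' T'' : Type u} [CommRing T] [Algebra R T] [CommRing T'] [Algebra R T']
    [CommRing T''] [Algebra R T''] (g : T →ₐ[R] T') (h : T' →ₐ[R] T'') (x : T ⊗[R] (A ⊗[R] A)) :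
    mapA2 h (mapA2 g x) = mapA2 (h.comp g) x := by
  induction x using TensorProduct.induction_on with
  | zero => simp
  | tmul t a => rfl
  | add u w hu hw => simp only [map_add, hu, hw]

omit [HopfAlgebra R A] in
theorem mapId_map_one {T T' M : Type u} [CommRing T] [Algebra R T] [CommRing T'] [Algebra R T'] [CommGroup M]
    (g : T →ₐ[R] T') (m : M) : MonoidAlgebra.mapRingHom M g.toRingHom (MonoidAlgebra.single m 1) =
      MonoidAlgebra.single m 1 := by
  simp

/-- A diagonalisable chart over a colimit of étale algebras comes from an étale algebra. -/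
theorem exists_etale_isDiag_of_colim [Module.Flat R A] (hfp : Algebra.FinitePresentation R A)
    (hH : H9Hens.IsPtColim π) (hD : SGA3b.IsDiagFT H (H ⊗[R] A)) :
    ∃ (S : Type u) (_ : CommRing S) (_ : Algebra R S) (_ : Algebra.Etale R S) (_ : S →ₐ[R] H),
      SGA3b.IsDiag S (S ⊗[R] A) := by
  classical
  obtain ⟨M, _, hM, ⟨e⟩⟩ := hD
  haveI := hM
  obtain ⟨nA, gA, hgA, hker⟩ := hfp.out
  obtain ⟨rels, hrels⟩ := hker
  let a : Fin nA → A := fun j => gA (MvPolynomial.X j)
  -- generators and relations of `M`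
  haveI : Module.Finite ℤ (Additive M) := Module.Finite.iff_addGroup_fg.2 inferInstance
  obtain ⟨n, pM, hpM⟩ := Module.Finite.exists_fin' ℤ (Additive M)
  obtain ⟨relM, hrelM⟩ : (LinearMap.ker pM).FG := IsNoetherian.noetherian _
  let m : Fin n → M := fun i => Additive.toMul (pM (Pi.single i 1))
  let mI : Fin n → M := fun i => (m i)⁻¹
  have hpm : ∀ c : Fin n → ℤ, Additive.toMul (pM c) = ∏ i, m i ^ c i := by
    intro c
    conv_lhs => rw [pi_eq_sum_univ c]
    rw [map_sum, toMul_sum]
    refine Finset.prod_congr rfl fun i _ => ?_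
    rw [map_smul, toMul_zsmul]
    congr 1
    exact congrArg (fun v => Additive.toMul (pM v)) (funext fun j => by simp [Pi.single_apply, eq_comm])
  -- polynomial preimages over `H`
  have hsurj : Function.Surjective (MvPolynomial.aeval (R := H) fun j => (1 : H) ⊗ₜ[R] a j) := by
    intro z
    induction z using TensorProduct.induction_on with
    | zero => exact ⟨0, map_zero _⟩
    | tmul h x =>
      obtain ⟨q, rfl⟩ := hgA x
      refine ⟨h • MvPolynomial.map (algebraMap R H) q, ?_⟩
      rw [map_smul, MvPolynomial.aeval_map_algebraMap,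
        show (MvPolynomial.aeval fun j => (1 : H) ⊗ₜ[R] a j) q = (1 : H) ⊗ₜ[R] gA q from by
          conv_rhs => rw [MvPolynomial.aeval_unique gA]
          induction q using MvPolynomial.induction_on with
          | C r => simp [TensorProduct.tmul_smul, Algebra.algebraMap_eq_smul_one, Algebra.TensorProduct.one_def]
          | add p q hp hq => simp only [map_add, TensorProduct.tmul_add, hp, hq]
          | mul_X p i hp => simp [hp, a],
        TensorProduct.smul_tmul', smul_eq_mul, _root_.mul_one]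
    | add u v hu hv =>
      obtain ⟨p, rfl⟩ := hu
      obtain ⟨q, rfl⟩ := hv
      exact ⟨p + q, map_add _ _ _⟩
  choose Q hQ using fun i => hsurj (e.symm (MonoidAlgebra.single (m i) 1))
  choose Q' hQ' using fun i => hsurj (e.symm (MonoidAlgebra.single (mI i) 1))
  let y : Fin nA → MonoidAlgebra H M := fun j => e ((1 : H) ⊗ₜ a j)
  let C : Finset H := (Finset.univ.biUnion fun i => (Q i).support.image fun d => (Q i).coeff d) ∪
    (Finset.univ.biUnion fun i => (Q' i).support.image fun d => (Q' i).coeff d) ∪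
    (Finset.univ.biUnion fun j => ((y j).coeff.support).image fun d => coefL d (y j))
  obtain ⟨S, _, _, _, φ, lift, hlift⟩ := hH.exists_rep_finset C id
  let QS : Fin n → MvPolynomial (Fin nA) S := fun i =>
    ∑ d ∈ (Q i).support, MvPolynomial.monomial d (lift ((Q i).coeff d))
  let QS' : Fin n → MvPolynomial (Fin nA) S := fun i =>
    ∑ d ∈ (Q' i).support, MvPolynomial.monomial d (lift ((Q' i).coeff d))
  let yS : Fin nA → MonoidAlgebra S M := fun j =>
    ∑ d ∈ (y j).coeff.support, MonoidAlgebra.single d (lift (coefL d (y j)))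
  have hQS : ∀ i, MvPolynomial.map φ.toRingHom (QS i) = Q i := fun i => by
    conv_rhs => rw [(Q i).as_sum]
    rw [map_sum]
    refine Finset.sum_congr rfl fun d hd => ?_
    rw [MvPolynomial.map_monomial]
    congr 1
    exact hlift _ (Finset.mem_union_left _ (Finset.mem_union_left _
      (Finset.mem_biUnion.2 ⟨i, Finset.mem_univ _, Finset.mem_image.2 ⟨d, hd, rfl⟩⟩)))
  have hQS' : ∀ i, MvPolynomial.map φ.toRingHom (QS' i) = Q' i := fun i => by
    conv_rhs => rw [(Q' i).as_sum]
    rw [map_sum]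
    refine Finset.sum_congr rfl fun d hd => ?_
    rw [MvPolynomial.map_monomial]
    congr 1
    exact hlift _ (Finset.mem_union_left _ (Finset.mem_union_right _
      (Finset.mem_biUnion.2 ⟨i, Finset.mem_univ _, Finset.mem_image.2 ⟨d, hd, rfl⟩⟩)))
  have hyS : ∀ j, MonoidAlgebra.mapRingHom M φ.toRingHom (yS j) = y j := fun j => by
    conv_rhs => rw [← MonoidAlgebra.sum_coeff_single (y j)]
    rw [map_sum, Finsupp.sum]
    refine Finset.sum_congr rfl fun d hd => ?_
    rw [MonoidAlgebra.mapRingHom_single]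
    congr 1
    exact hlift _ (Finset.mem_union_right _
      (Finset.mem_biUnion.2 ⟨j, Finset.mem_univ _, Finset.mem_image.2 ⟨d, hd, rfl⟩⟩))
  let ev : ∀ (T : Type u) [CommRing T] [Algebra R T], MvPolynomial (Fin nA) T →ₐ[T] T ⊗[R] A :=
    fun T _ _ => MvPolynomial.aeval fun j => (1 : T) ⊗ₜ[R] a j
  have hev : ∀ {T T' : Type u} [CommRing T] [Algebra R T] [CommRing T'] [Algebra R T'] (g : T →ₐ[R] T')
      (q : MvPolynomial (Fin nA) T), mapA g (ev T q) = ev T' (MvPolynomial.map g.toRingHom q) := by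
    intro T T' _ _ _ _ g q
    induction q using MvPolynomial.induction_on with
    | C r => simp [ev, Algebra.TensorProduct.algebraMap_apply]
    | add p q hp hq => simp only [map_add, hp, hq]
    | mul_X p i hp => simp only [map_mul, hp, MvPolynomial.map_X]; simp [ev]
  let X : Fin n → S ⊗[R] A := fun i => ev S (QS i)
  let X' : Fin n → S ⊗[R] A := fun i => ev S (QS' i)
  have hX : ∀ i, mapA φ (X i) = e.symm (MonoidAlgebra.single (m i) 1) := fun i => by rw [hev, hQS]; exact hQ i
  have hX' : ∀ i, mapA φ (X' i) = e.symm (MonoidAlgebra.single (mI i) 1) := fun i => by rw [hev, hQS']; exact hQ' i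
  -- the equations
  let v : (Fin n → ℤ) → S ⊗[R] A := fun c => ∏ i, (X i ^ (c i).toNat * X' i ^ (-c i).toNat)
  have hv : ∀ c, mapA φ (v c) = e.symm (MonoidAlgebra.single (∏ i, m i ^ c i) 1) := by
    intro c
    have h1 : ∀ i, mapA φ (X i ^ (c i).toNat * X' i ^ (-c i).toNat) =
        e.symm (MonoidAlgebra.of H M (m i ^ c i)) := fun i => by
      rw [map_mul, map_pow, map_pow, hX, hX']
      have hg : ∀ (x y : M) (p q : ℕ), e.symm (MonoidAlgebra.of H M x) ^ p * e.symm (MonoidAlgebra.of H M y) ^ q =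
          e.symm (MonoidAlgebra.of H M (x ^ p * y ^ q)) := fun x y p q => by
        rw [map_mul (MonoidAlgebra.of H M), map_mul e.symm, map_pow (MonoidAlgebra.of H M), map_pow e.symm,
          map_pow (MonoidAlgebra.of H M), map_pow e.symm]
      refine (hg (m i) (mI i) _ _).trans (congrArg (fun x => e.symm (MonoidAlgebra.of H M x)) ?_)
      show m i ^ (c i).toNat * (m i)⁻¹ ^ (-c i).toNat = _
      rw [inv_pow, ← zpow_natCast, ← zpow_natCast, ← zpow_neg, ← zpow_add]
      congr 1
      omega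
    rw [map_prod, Finset.prod_congr rfl fun i _ => h1 i, ← map_prod, ← map_prod, MonoidAlgebra.of_apply]
  choose cd hcd using fun d : M => hpM (Additive.ofMul d)
  have hcd' : ∀ d, ∏ i, m i ^ cd d i = d := fun d => by rw [← hpm, hcd]; rfl
  have hgH : ∀ q : MvPolynomial (Fin nA) R, ev H (MvPolynomial.map (algebraMap R H) q) = (1 : H) ⊗ₜ[R] gA q := by
    intro q
    induction q using MvPolynomial.induction_on with
    | C r =>
      rw [MvPolynomial.map_C, show gA (MvPolynomial.C r) = algebraMap R A r from gA.commutes r,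
        Algebra.algebraMap_eq_smul_one, Algebra.algebraMap_eq_smul_one (A := A), TensorProduct.tmul_smul]
      simp [ev, Algebra.TensorProduct.one_def, TensorProduct.smul_tmul']
    | add p q hp hq => simp only [map_add, TensorProduct.tmul_add, hp, hq]
    | mul_X p i hp => rw [map_mul, map_mul, hp, MvPolynomial.map_X, map_mul]; simp [ev, a]
  have hevy : ∀ q : MvPolynomial (Fin nA) H, MvPolynomial.aeval y q = e (ev H q) := fun q => by
    have := DFunLike.congr_fun (MvPolynomial.comp_aeval (fun j => (1 : H) ⊗ₜ[R] a j)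
      (e : (H ⊗[R] A) →ₐc[H] MonoidAlgebra H M).toAlgHom) q
    exact this.symm
  have hnat : ∀ q : MvPolynomial (Fin nA) S, MonoidAlgebra.mapRingHom M φ.toRingHom (MvPolynomial.aeval yS q) =
      MvPolynomial.aeval y (MvPolynomial.map φ.toRingHom q) := by
    intro q
    induction q using MvPolynomial.induction_on with
    | C r => simp
    | add p q hp hq => simp only [map_add, hp, hq]
    | mul_X p i hp => simp only [map_mul, hp, MvPolynomial.map_X, MvPolynomial.aeval_X, hyS]
  let relA : MvPolynomial (Fin nA) R → MonoidAlgebra S M := fun q => MvPolynomial.aeval yS q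
  let hit : Fin n → MonoidAlgebra S M := fun i => MvPolynomial.aeval yS (QS i) - MonoidAlgebra.single (m i) 1
  let D₁ : Finset S := (Finset.univ.image fun i => counit (R := S) (X i) - 1) ∪
    (Finset.univ.image fun i => counit (R := S) (X' i) - 1) ∪
    (rels.biUnion fun r => (relA r).coeff.frange) ∪ (Finset.univ.biUnion fun i => (hit i).coeff.frange)
  let D₂ : Finset (S ⊗[R] A) := (Finset.univ.image fun i => X i * X' i - 1) ∪ (relM.image fun c => v c - 1) ∪
    (Finset.univ.image fun j =>
      (∑ d ∈ (y j).coeff.support, lift (coefL d (y j)) • v (cd d)) - (1 : S) ⊗ₜ[R] a j)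
  let D₃ : Finset (S ⊗[R] (A ⊗[R] A)) :=
    (Finset.univ.image fun i => comulT S (X i) - inl2 S (X i) * inr2 S (X i)) ∪
    (Finset.univ.image fun i => comulT S (X' i) - inl2 S (X' i) * inr2 S (X' i))
  have hglH : ∀ d : M, IsGL (e.symm (MonoidAlgebra.single d 1)) := fun d => isGL_char e d
  have h1 : ∀ d ∈ D₁, φ d = 0 := by
    intro d hd
    simp only [D₁, Finset.mem_union, Finset.mem_image, Finset.mem_biUnion, Finset.mem_univ, true_and] at hd
    rcases hd with ((⟨i, rfl⟩ | ⟨i, rfl⟩) | ⟨r, hr, hd⟩) | ⟨i, hd⟩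
    · rw [map_sub, ← counit_mapA, hX, (hglH _).1, map_one, sub_self]
    · rw [map_sub, ← counit_mapA, hX', (hglH _).1, map_one, sub_self]
    · obtain ⟨-, d', rfl⟩ := Finsupp.mem_frange.1 hd
      show φ.toRingHom (coefL d' (relA r)) = 0
      rw [← coefL_mapRingHom φ.toRingHom]
      have h0 : MonoidAlgebra.mapRingHom M φ.toRingHom (relA r) = 0 := by
        show MonoidAlgebra.mapRingHom M φ.toRingHom (MvPolynomial.aeval yS r) = 0
        rw [← MvPolynomial.aeval_map_algebraMap S, hnat, MvPolynomial.map_map,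
          show φ.toRingHom.comp (algebraMap R S) = algebraMap R H from φ.comp_algebraMap, hevy, hgH,
          show gA r = 0 from by
            have : r ∈ RingHom.ker gA.toRingHom := hrels ▸ Ideal.subset_span hr
            exact this, TensorProduct.tmul_zero, map_zero]
      rw [h0, map_zero]
    · obtain ⟨-, d', rfl⟩ := Finsupp.mem_frange.1 hd
      show φ.toRingHom (coefL d' (hit i)) = 0
      rw [← coefL_mapRingHom φ.toRingHom, map_sub, hnat, hevy, hQS,
        show ev H (Q i) = e.symm (MonoidAlgebra.single (m i) 1) from hQ i, BialgEquiv.apply_symm_apply]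
      simp
  have h2 : ∀ z ∈ D₂, mapA φ z = 0 := by
    intro z hz
    simp only [D₂, Finset.mem_union, Finset.mem_image, Finset.mem_univ, true_and] at hz
    rcases hz with (⟨i, rfl⟩ | ⟨c, hc, rfl⟩) | ⟨j, rfl⟩
    · rw [map_sub, map_mul, hX, hX', map_one, ← map_mul, MonoidAlgebra.single_mul_single, _root_.one_mul]
      simp [mI, ← MonoidAlgebra.one_def]
    · rw [map_sub, hv, map_one, ← hpm, show pM c = 0 from by
        have : c ∈ LinearMap.ker pM := hrelM ▸ Submodule.subset_span hc
        exact this]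
      simp [← MonoidAlgebra.one_def]
    · rw [map_sub, map_sum, mapA_tmul, map_one]
      conv_lhs => arg 2; rw [← BialgEquiv.symm_apply_apply e ((1 : H) ⊗ₜ[R] a j)]
      rw [show e ((1 : H) ⊗ₜ[R] a j) = y j from rfl]
      conv_lhs => arg 2; rw [← MonoidAlgebra.sum_coeff_single (y j), Finsupp.sum, map_sum]
      rw [← Finset.sum_sub_distrib]
      refine Finset.sum_eq_zero fun d hd => ?_
      rw [Algebra.smul_def, map_mul, hv, hcd', show mapA φ (algebraMap S (S ⊗[R] A) (lift (coefL d (y j)))) =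
          algebraMap H (H ⊗[R] A) (φ (lift (coefL d (y j)))) from by simp [Algebra.TensorProduct.algebraMap_apply],
        hlift (coefL d (y j)) (Finset.mem_union_right _
          (Finset.mem_biUnion.2 ⟨j, Finset.mem_univ _, Finset.mem_image.2 ⟨d, hd, rfl⟩⟩)), ← Algebra.smul_def,
        ← map_smul, sub_eq_zero]
      simp [coefL]
  have h3 : ∀ z ∈ D₃, mapA2 φ z = 0 := by
    intro z hz
    simp only [D₃, Finset.mem_union, Finset.mem_image, Finset.mem_univ, true_and] at hz
    rcases hz with ⟨i, rfl⟩ | ⟨i, rfl⟩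
    · rw [map_sub, map_mul, ← comulT_mapA, ← inl2_mapA, ← inr2_mapA, hX, (hglH _).2, sub_self]
    · rw [map_sub, map_mul, ← comulT_mapA, ← inl2_mapA, ← inr2_mapA, hX', (hglH _).2, sub_self]
  obtain ⟨T₁, _, _, _, ψ₁, φ₁, hc₁, hz₁⟩ := exists_stage_zero_scalar hH D₁ φ id h1
  obtain ⟨T₂, _, _, _, ψ₂, φ₂, hc₂, hz₂⟩ := exists_stage_zero hH D₂ φ₁ (fun z => mapA ψ₁ z)
    fun z hz => by
      show mapA φ₁ (mapA ψ₁ z) = 0
      rw [mapA_mapA, hc₁, h2 z hz]
  obtain ⟨T, _, _, _, ψ₃, φT, hc₃, hz₃⟩ := exists_stage_zero hH D₃ φ₂ (fun z => mapA2 (ψ₂.comp ψ₁) z)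
    fun z hz => by
      show mapA2 φ₂ (mapA2 (ψ₂.comp ψ₁) z) = 0
      rw [mapA2_mapA2, ← h3 z hz, ← hc₁, ← hc₂, AlgHom.comp_assoc]
  let ψ : S →ₐ[R] T := ψ₃.comp (ψ₂.comp ψ₁)
  have hψ₁ : ∀ d ∈ D₁, ψ d = 0 := fun d hd => by
    show ψ₃ (ψ₂ (ψ₁ (id d))) = 0
    rw [hz₁ d hd, map_zero, map_zero]
  have hψ₂ : ∀ z ∈ D₂, mapA ψ z = 0 := fun z hz => by
    rw [← mapA_mapA (ψ₂.comp ψ₁) ψ₃, ← mapA_mapA ψ₁ ψ₂, show mapA ψ₂ (mapA ψ₁ z) = 0 from hz₂ z hz, map_zero]
  have hψ₃ : ∀ z ∈ D₃, mapA2 ψ z = 0 := fun z hz => by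
    rw [← mapA2_mapA2]
    exact hz₃ z hz
  have hgl : ∀ Z : S ⊗[R] A, ψ (counit (R := S) Z - 1) = 0 →
      mapA2 ψ (comulT S Z - inl2 S Z * inr2 S Z) = 0 → IsGL (mapA ψ Z) := fun Z hc hm => by
    refine ⟨?_, ?_⟩
    · rw [counit_mapA]; rwa [map_sub, map_one, sub_eq_zero] at hc
    · rw [comulT_mapA, inl2_mapA, inr2_mapA]; rwa [map_sub, map_mul, sub_eq_zero] at hm
  let G : Fin n → GroupLike T (T ⊗[R] A) := fun i => ⟨mapA ψ (X i), (isGL_iff _).1 (hgl (X i)
    (hψ₁ _ (Finset.mem_union_left _ (Finset.mem_union_left _ (Finset.mem_union_left _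
      (Finset.mem_image.2 ⟨i, Finset.mem_univ _, rfl⟩)))))
    (hψ₃ _ (Finset.mem_union_left _ (Finset.mem_image.2 ⟨i, Finset.mem_univ _, rfl⟩))))⟩
  let G' : Fin n → GroupLike T (T ⊗[R] A) := fun i => ⟨mapA ψ (X' i), (isGL_iff _).1 (hgl (X' i)
    (hψ₁ _ (Finset.mem_union_left _ (Finset.mem_union_left _ (Finset.mem_union_right _
      (Finset.mem_image.2 ⟨i, Finset.mem_univ _, rfl⟩)))))
    (hψ₃ _ (Finset.mem_union_right _ (Finset.mem_image.2 ⟨i, Finset.mem_univ _, rfl⟩))))⟩
  have hGG' : ∀ i, (G i)⁻¹ = G' i := fun i => inv_eq_of_mul_eq_one_right (GroupLike.ext (by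
    show mapA ψ (X i) * mapA ψ (X' i) = 1
    have := hψ₂ _ (Finset.mem_union_left _ (Finset.mem_union_left _
      (Finset.mem_image.2 ⟨i, Finset.mem_univ _, rfl⟩)) : X i * X' i - 1 ∈ D₂)
    rwa [map_sub, map_mul, map_one, sub_eq_zero] at this))
  let val : GroupLike T (T ⊗[R] A) →* T ⊗[R] A :=
    { toFun := GroupLike.val, map_one' := rfl, map_mul' := fun _ _ => rfl }
  have hGv : ∀ c : Fin n → ℤ, val (∏ i, G i ^ c i) = mapA ψ (v c) := by
    intro c
    rw [map_prod, map_prod]
    refine Finset.prod_congr rfl fun i _ => ?_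
    rw [map_mul, map_pow, map_pow, show G i ^ c i = G i ^ (c i).toNat * G' i ^ (-c i).toNat by
      rw [← hGG', inv_pow, ← zpow_natCast, ← zpow_natCast, ← zpow_neg, ← zpow_add]
      congr 1
      omega, map_mul, map_pow, map_pow]
    rfl
  let F : (Fin n → ℤ) →ₗ[ℤ] Additive (GroupLike T (T ⊗[R] A)) :=
    Fintype.linearCombination ℤ fun i => Additive.ofMul (G i)
  have hF : ∀ c, Additive.toMul (F c) = ∏ i, G i ^ c i := fun c => by
    simp [F, Fintype.linearCombination_apply, toMul_sum, toMul_zsmul]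
  have hFker : LinearMap.ker pM ≤ LinearMap.ker F := by
    rw [← hrelM, Submodule.span_le]
    intro c hc
    refine LinearMap.mem_ker.2 (Additive.toMul.injective ?_)
    rw [hF, toMul_zero]
    refine GroupLike.ext ?_
    show val _ = 1
    have := hψ₂ _ (Finset.mem_union_left _ (Finset.mem_union_right _
      (Finset.mem_image.2 ⟨c, hc, rfl⟩)) : v c - 1 ∈ D₂)
    rw [hGv, ← sub_eq_zero, ← map_one (mapA ψ), ← map_sub, this]
  have hFeq : ∀ c c', pM c = pM c' → F c = F c' := fun c c' h => sub_eq_zero.1 (by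
    rw [← map_sub]
    exact hFker (by rw [LinearMap.mem_ker, map_sub, h, sub_self]))
  let Y : M →* GroupLike T (T ⊗[R] A) :=
    { toFun := fun d => Additive.toMul (F (cd d))
      map_one' := by rw [hFeq (cd 1) 0 (by rw [hcd, map_zero]; rfl), map_zero, toMul_zero]
      map_mul' := fun d d' => by
        rw [hFeq (cd (d * d')) (cd d + cd d') (by rw [map_add, hcd, hcd, hcd]; rfl), map_add, toMul_add] }
  have hYv : ∀ d, (Y d).val = mapA ψ (v (cd d)) := fun d => by
    rw [← hGv, ← hF]
    rfl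
  have hYm : ∀ i, Y (m i) = G i := fun i => by
    show Additive.toMul (F (cd (m i))) = G i
    rw [hFeq (cd (m i)) (Pi.single i 1) (by rw [hcd]; rfl), hF, Finset.prod_eq_single i] <;>
      intros <;> simp_all
  let yT : Fin nA → MonoidAlgebra T M := fun j => MonoidAlgebra.mapRingHom M ψ.toRingHom (yS j)
  have hnatT : ∀ q : MvPolynomial (Fin nA) S, MonoidAlgebra.mapRingHom M ψ.toRingHom (MvPolynomial.aeval yS q) =
      MvPolynomial.aeval yT (MvPolynomial.map ψ.toRingHom q) := by
    intro q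
    induction q using MvPolynomial.induction_on with
    | C r => simp
    | add p q hp hq => simp only [map_add, hp, hq]
    | mul_X p i hp => simp only [map_mul, hp, MvPolynomial.map_X, MvPolynomial.aeval_X]; rfl
  have hkill : ∀ x : MonoidAlgebra S M, (∀ d ∈ x.coeff.frange, ψ d = 0) →
      MonoidAlgebra.mapRingHom M ψ.toRingHom x = 0 := fun x hx => ext_coef fun d => by
    rw [coefL_mapRingHom, map_zero]
    by_cases h0 : x.coeff d = 0
    · show ψ (x.coeff d) = 0
      rw [h0, map_zero]
    · exact hx _ (Finsupp.mem_frange.2 ⟨h0, d, rfl⟩)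
  have hkA : RingHom.ker gA.toRingHom ≤ RingHom.ker (MvPolynomial.aeval (R := R) yT).toRingHom := by
    rw [← hrels, Submodule.span_le]
    intro r hr
    have h0 := hkill (relA r) fun d hd => hψ₁ d (Finset.mem_union_left _ (Finset.mem_union_right _
      (Finset.mem_biUnion.2 ⟨r, hr, hd⟩)))
    show MvPolynomial.aeval yT r = 0
    rw [← MvPolynomial.aeval_map_algebraMap T, ← show ψ.toRingHom.comp (algebraMap R S) = algebraMap R T from
      ψ.comp_algebraMap, ← MvPolynomial.map_map, ← hnatT, MvPolynomial.aeval_map_algebraMap]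
    exact h0
  let ψ₀ : A →ₐ[R] MonoidAlgebra T M := AlgHom.liftOfSurjective gA hgA (MvPolynomial.aeval yT) hkA
  have hψ₀ : ∀ j, ψ₀ (a j) = yT j := fun j =>
    (AlgHom.liftOfSurjective_apply (f := gA) (hf := hgA) (g := MvPolynomial.aeval yT) (H := hkA) _).trans (MvPolynomial.aeval_X _ _)
  let Ψ : T ⊗[R] A →ₐ[T] MonoidAlgebra T M :=
    Algebra.TensorProduct.lift (Algebra.ofId T _) ψ₀ fun _ _ => Commute.all _ _
  have hΨa : ∀ j, Ψ ((1 : T) ⊗ₜ[R] a j) = yT j := fun j => by simp [Ψ, hψ₀, ← MonoidAlgebra.one_def]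
  have hΨev : ∀ q : MvPolynomial (Fin nA) T, Ψ (ev T q) = MvPolynomial.aeval yT q := fun q => by
    have := DFunLike.congr_fun (MvPolynomial.comp_aeval (fun j => (1 : T) ⊗ₜ[R] a j) Ψ) q
    rw [funext hΨa] at this
    exact this
  have hΨG : ∀ i, Ψ (val (G i)) = MonoidAlgebra.single (m i) 1 := fun i => by
    show Ψ (mapA ψ (X i)) = _
    rw [hev, hΨev, ← hnatT, ← sub_eq_zero, ← mapId_map_one ψ (m i), ← map_sub]
    exact hkill _ fun d hd => hψ₁ d (Finset.mem_union_right _
      (Finset.mem_biUnion.2 ⟨i, Finset.mem_univ _, hd⟩))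
  have hfy : ∀ j, glHom Y (yT j) = (1 : T) ⊗ₜ[R] a j := fun j => by
    have := hψ₂ _ (Finset.mem_union_right _ (Finset.mem_image.2 ⟨j, Finset.mem_univ _, rfl⟩) :
      (∑ d ∈ (y j).coeff.support, lift (coefL d (y j)) • v (cd d)) - (1 : S) ⊗ₜ[R] a j ∈ D₂)
    rw [map_sub, sub_eq_zero, map_sum, mapA_tmul, map_one] at this
    rw [← this]
    show glHom Y (MonoidAlgebra.mapRingHom M ψ.toRingHom (yS j)) = _
    rw [map_sum, map_sum]
    refine Finset.sum_congr rfl fun d _ => ?_
    rw [MonoidAlgebra.mapRingHom_single, glHom_single, hYv, Algebra.smul_def, Algebra.smul_def, map_mul]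
    congr 1
  refine ⟨T, inferInstance, inferInstance, inferInstance, φT, M, inferInstance,
    ⟨(BialgEquiv.ofBijective (glHom Y) ?_).symm⟩⟩
  have hΨf : ∀ w, Ψ (glHom Y w) = w := by
    intro w
    induction w using MonoidAlgebra.induction_linear with
    | zero => simp
    | add u w hu hw => simp only [map_add, hu, hw]
    | single d r =>
      have hh : (Ψ.toMonoidHom.comp (val.comp Y)).toHomUnits = (MonoidAlgebra.of T M).toHomUnits := by
        refine MonoidHom.ext fun d => ?_
        rw [← hcd' d, map_prod, map_prod]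
        refine Finset.prod_congr rfl fun i _ => ?_
        rw [map_zpow, map_zpow]
        congr 1
        refine Units.ext ?_
        show Ψ (val (Y (m i))) = _
        rw [hYm, hΨG]
        rfl
      have hd : Ψ (val (Y d)) = MonoidAlgebra.single d 1 := congrArg Units.val (DFunLike.congr_fun hh d)
      rw [glHom_single, map_smul]
      show r • Ψ (val (Y d)) = _
      rw [hd]
      simp
  have hfΨ : ∀ z, glHom Y (Ψ z) = z := by
    intro z
    induction z using TensorProduct.induction_on with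
    | zero => simp
    | add u w hu hw => simp only [map_add, hu, hw]
    | tmul t x =>
      obtain ⟨q, rfl⟩ := hgA x
      have hq : ∀ q, glHom Y (ψ₀ (gA q)) = (1 : T) ⊗ₜ[R] gA q := fun q => by
        induction q using MvPolynomial.induction_on with
        | C r =>
          rw [show gA (MvPolynomial.C r) = algebraMap R A r from gA.commutes r, AlgHom.commutes,
            IsScalarTower.algebraMap_apply R T (MonoidAlgebra T M), AlgHomClass.commutes,
            Algebra.TensorProduct.algebraMap_apply]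
          simp [Algebra.algebraMap_eq_smul_one, TensorProduct.smul_tmul]
        | add p q hp hq => simp only [map_add, TensorProduct.tmul_add, hp, hq]
        | mul_X p i hp =>
          rw [map_mul, map_mul, map_mul, hp, show gA (MvPolynomial.X i) = a i from rfl, hψ₀, hfy]
          simp
      rw [show Ψ (t ⊗ₜ[R] gA q) = t • ψ₀ (gA q) by simp [Ψ, Algebra.smul_def], map_smul, hq,
        TensorProduct.smul_tmul', smul_eq_mul, _root_.mul_one]
  exact ⟨fun u w h => by rw [← hΨf u, ← hΨf w, h], fun z => ⟨Ψ z, hfΨ z⟩⟩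

end Groth.Agent.H19Mult
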