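import Groth.Agent.H19Mult.LocalCriterion

/-!
Closed subgroups of diagonalisable groups over a local ring: triviality and torsion are detected on
the closed fibre.
-/

set_option autoImplicit false
set_option linter.style.haveILetI false
set_option backward.isDefEq.respectTransparency false

universe u

open TensorProduct

namespace Groth.Agent.H19Mult.SubgroupRigid

variable {T : Type u} [CommRing T] {M : Type u} [CommGroup M] {B : Type u} [CommRing B] [HopfAlgebra T B]
  (π : MonoidAlgebra T M →ₐc[T] B)

/-- The image of a character. -/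
noncomputable def ch : M →* B :=
  (π : MonoidAlgebra T M →ₐ[T] B).toMonoidHom.comp (MonoidAlgebra.of T M)

theorem ch_apply (m : M) : ch π m = π (MonoidAlgebra.single m 1) := rfl

theorem isGroupLikeElem_ch (m : M) : IsGroupLikeElem T (ch π m) :=
  (MonoidAlgebra.isGroupLikeElem_single_one (R := T) (A := T) m).map π

theorem counit_ch (m : M) : Coalgebra.counit (R := T) (ch π m) = 1 := (isGroupLikeElem_ch π m).counit_eq_one

theorem apply_eq_lift (x : MonoidAlgebra T M) : π x = MonoidAlgebra.lift T B M (ch π) x := by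
  induction x using MonoidAlgebra.induction_linear with
  | zero => simp
  | add u w hu hw => rw [map_add, map_add, hu, hw]
  | single m r =>
    rw [MonoidAlgebra.lift_single, ch_apply, ← map_smul, MonoidAlgebra.smul_single, smul_eq_mul, mul_one]

/-- Group-like elements stay group-like after base change. -/
theorem isGroupLikeElem_one_tmul {T K B : Type u} [CommRing T] [CommRing K] [Algebra T K] [CommRing B] [HopfAlgebra T B]
    {b : B} (hb : IsGroupLikeElem T b) : IsGroupLikeElem K ((1 : K) ⊗ₜ[T] b) := by
  refine ⟨?_, ?_⟩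
  · show Coalgebra.counit (R := K) ((1 : K) ⊗ₜ[T] b) = 1
    rw [TensorProduct.counit_tmul, hb.counit_eq_one, CommSemiring.counit_apply, one_smul]
  · show Coalgebra.comul (R := K) ((1 : K) ⊗ₜ[T] b) = ((1 : K) ⊗ₜ[T] b) ⊗ₜ ((1 : K) ⊗ₜ[T] b)
    rw [TensorProduct.comul_tmul, hb.comul_eq_tmul_self, CommSemiring.comul_apply,
      TensorProduct.AlgebraTensorModule.tensorTensorTensorComm_tmul]

/-- Group-like elements over a field satisfy only the trivial relations. -/
theorem mapDomain_eq_zero_of_lift {K D M : Type u} [Field K] [CommRing D] [HopfAlgebra K D] [Monoid M] (g : M →* D)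
    (hgl : ∀ x, IsGroupLikeElem K (g x)) (y : MonoidAlgebra K M) (hy : MonoidAlgebra.lift K D M g y = 0) :
    MonoidAlgebra.mapDomain g y = 0 := by
  classical
  apply (MonoidAlgebra.coeffLinearEquiv K).injective
  rw [map_zero]
  refine linearIndepOn_iff.1 (linearIndepOn_isGroupLikeElem (R := K) (A := D)) _ ?_ ?_
  · intro d hd
    obtain ⟨x, -, rfl⟩ := Finset.mem_image.1 (Finsupp.mapDomain_support hd)
    exact hgl x
  · show Finsupp.linearCombination K id (Finsupp.mapDomain g y.coeff) = 0
    rw [Finsupp.linearCombination_mapDomain, ← hy, MonoidAlgebra.lift_apply]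
    rfl

/-- If every relation among characters holds after reduction, so does the triviality of a character. -/
theorem eq_one_of_relations {T K κ E M : Type u} [CommRing T] [CommRing K] [CommRing κ] [Nontrivial κ] [CommMonoid E]
    [CommMonoid M] (g : M →* E) (f : T →+* K) (ε : T →+* κ) (hfε : ∀ t, f t = 0 → ε t = 0) (m : M)
    (z : MonoidAlgebra T M) (hz : MonoidAlgebra.mapRingHom M ε z = 0)
    (h : MonoidAlgebra.mapRingHom E f (MonoidAlgebra.mapDomainRingHom T g (MonoidAlgebra.single m 1 - 1 - z)) = 0) :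
    g m = 1 := by
  have hcomm : ∀ x : MonoidAlgebra T M, MonoidAlgebra.mapRingHom E ε (MonoidAlgebra.mapDomainRingHom T g x) =
      MonoidAlgebra.mapDomainRingHom κ g (MonoidAlgebra.mapRingHom M ε x) := by
    intro x
    induction x using MonoidAlgebra.induction_linear with
    | zero => simp only [map_zero]
    | add u w hu hw => simp only [map_add, hu, hw]
    | single y r =>
      rw [MonoidAlgebra.mapRingHom_single, MonoidAlgebra.mapDomainRingHom_apply, MonoidAlgebra.mapDomain_single,
        MonoidAlgebra.mapRingHom_single, MonoidAlgebra.mapDomainRingHom_apply, MonoidAlgebra.mapDomain_single]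
  have h' : MonoidAlgebra.mapRingHom E ε (MonoidAlgebra.mapDomainRingHom T g (MonoidAlgebra.single m 1 - 1 - z)) = 0 := by
    refine MonoidAlgebra.ext (Finsupp.ext fun y => ?_)
    have h2 := MonoidAlgebra.coeff_mapRingHom f (MonoidAlgebra.mapDomainRingHom T g (MonoidAlgebra.single m 1 - 1 - z)) y
    rw [h] at h2
    rw [MonoidAlgebra.coeff_mapRingHom]
    simp only [MonoidAlgebra.coeff_zero, Finsupp.zero_apply] at h2 ⊢
    exact hfε _ h2.symm
  rw [hcomm, map_sub, hz, sub_zero, map_sub, MonoidAlgebra.mapRingHom_single, map_one, map_one, map_sub, map_one,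
    MonoidAlgebra.mapDomainRingHom_apply, MonoidAlgebra.mapDomain_single, sub_eq_zero, MonoidAlgebra.one_def] at h'
  exact MonoidAlgebra.single_left_injective one_ne_zero h'

/-- The comparison of `T[M] → B` with a fibre. -/
theorem fibre_relation {K : Type u} [Field K] [Algebra T K] (g : M →* K ⊗[T] B) (hg : ∀ y, g y = (1 : K) ⊗ₜ[T] ch π y)
    (hgl : ∀ x, IsGroupLikeElem K (g x)) (x : MonoidAlgebra T M) (hx : π x = 0) :
    MonoidAlgebra.mapRingHom (K ⊗[T] B) (algebraMap T K) (MonoidAlgebra.mapDomainRingHom T g x) = 0 := by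
  have h1 : ∀ x : MonoidAlgebra T M, (1 : K) ⊗ₜ[T] π x =
      MonoidAlgebra.lift K (K ⊗[T] B) M g (MonoidAlgebra.mapRingHom M (algebraMap T K) x) := by
    intro x
    induction x using MonoidAlgebra.induction_linear with
    | zero => rw [map_zero, TensorProduct.tmul_zero, map_zero, map_zero]
    | add u w hu hw => simp only [map_add, TensorProduct.tmul_add, hu, hw]
    | single y r =>
      rw [MonoidAlgebra.mapRingHom_single, MonoidAlgebra.lift_single, apply_eq_lift, MonoidAlgebra.lift_single, hg,
        TensorProduct.tmul_smul, algebraMap_smul]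
  have h2 := mapDomain_eq_zero_of_lift g hgl _ (by rw [← h1, hx, TensorProduct.tmul_zero])
  have h3 : ∀ x : MonoidAlgebra T M, MonoidAlgebra.mapRingHom (K ⊗[T] B) (algebraMap T K) (MonoidAlgebra.mapDomainRingHom T g x) =
      MonoidAlgebra.mapDomain g (MonoidAlgebra.mapRingHom M (algebraMap T K) x) := by
    intro x
    induction x using MonoidAlgebra.induction_linear with
    | zero => simp
    | add u w hu hw => rw [map_add, map_add, hu, hw, map_add, MonoidAlgebra.mapDomain_add]
    | single y r => simp
  rw [h3, h2]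

/-- A character trivial on the closed fibre is trivial on every fibre. -/
theorem ch_fibre_eq_one [IsLocalRing T] (hπ : Function.Surjective π) (m : M)
    (hm : ch π m - 1 ∈ (IsLocalRing.maximalIdeal T).map (algebraMap T B)) (p : Ideal T) [p.IsPrime] :
    (1 : p.ResidueField) ⊗ₜ[T] ch π m = 1 := by
  let g : M →* p.ResidueField ⊗[T] B :=
    (Algebra.TensorProduct.includeRight : B →ₐ[T] p.ResidueField ⊗[T] B).toMonoidHom.comp (ch π)
  have hgl : ∀ x, IsGroupLikeElem p.ResidueField (g x) := fun x => isGroupLikeElem_one_tmul (isGroupLikeElem_ch π x)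
  obtain ⟨z, hz, hzm⟩ : ∃ z, π z = ch π m - 1 ∧ MonoidAlgebra.mapRingHom M (algebraMap T (IsLocalRing.ResidueField T)) z = 0 := by
    have hle : (IsLocalRing.maximalIdeal T).map (algebraMap T B) =
        ((IsLocalRing.maximalIdeal T).map (algebraMap T (MonoidAlgebra T M))).map
          (π : MonoidAlgebra T M →ₐ[T] B).toRingHom := by
      rw [Ideal.map_map, AlgHom.toRingHom_eq_coe, AlgHom.comp_algebraMap]
    rw [hle] at hm
    replace hm := (Ideal.mem_map_iff_of_surjective ((π : MonoidAlgebra T M →ₐ[T] B).toRingHom) hπ).1 hm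
    obtain ⟨z, hz, e⟩ := hm
    refine ⟨z, e, ?_⟩
    have h : (IsLocalRing.maximalIdeal T).map (algebraMap T (MonoidAlgebra T M)) ≤
        RingHom.ker (MonoidAlgebra.mapRingHom M (algebraMap T (IsLocalRing.ResidueField T))) :=
      Ideal.map_le_iff_le_comap.2 fun a ha => by
      show MonoidAlgebra.mapRingHom M _ (algebraMap T (MonoidAlgebra T M) a) = 0
      rw [MonoidAlgebra.coe_algebraMap, Function.comp_apply, MonoidAlgebra.mapRingHom_single,
        show algebraMap T (IsLocalRing.ResidueField T) (algebraMap T T a) = 0 from (IsLocalRing.residue_eq_zero_iff a).2 ha,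
        MonoidAlgebra.single_zero]
    exact h hz
  refine eq_one_of_relations g (algebraMap T p.ResidueField) (algebraMap T (IsLocalRing.ResidueField T)) (fun t ht => ?_)
    m z hzm ?_
  · exact (IsLocalRing.residue_eq_zero_iff t).2
      (IsLocalRing.le_maximalIdeal (Ideal.IsPrime.ne_top inferInstance) (Ideal.algebraMap_residueField_eq_zero.1 ht))
  · exact fibre_relation π g (fun _ => rfl) hgl _ (by rw [map_sub, hz, map_sub, map_one, ← ch_apply, sub_self])

/-- A character trivial on the closed fibre is unipotent. -/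
theorem isNilpotent_ch_sub_one [IsLocalRing T] (hπ : Function.Surjective π) (m : M)
    (hm : ch π m - 1 ∈ (IsLocalRing.maximalIdeal T).map (algebraMap T B)) : IsNilpotent (ch π m - 1) := by
  refine mem_nilradical.1 ?_
  rw [nilradical_eq_sInf, Ideal.mem_sInf]
  intro P hP
  haveI : P.IsPrime := hP
  let p := P.comap (algebraMap T B)
  let g : p.ResidueField →ₐ[T] P.ResidueField := Ideal.ResidueField.mapₐ p P (Algebra.ofId T B) rfl
  have h := congrArg (Algebra.TensorProduct.lift g (IsScalarTower.toAlgHom T B P.ResidueField) fun _ _ => Commute.all _ _)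
    (ch_fibre_eq_one π hπ m hm p)
  rw [Algebra.TensorProduct.lift_tmul, map_one, map_one, one_mul] at h
  have h2 : algebraMap B P.ResidueField (ch π m - 1) = 0 := by
    rw [map_sub, map_one, sub_eq_zero]
    exact h
  exact Ideal.algebraMap_residueField_eq_zero.1 h2

/-- An element vanishing in a fibre lies, up to a denominator, in the extended prime. -/
theorem exists_smul_mem_map_of_fibre_zero (p : Ideal T) [p.IsPrime] {b : B}
    (hb : (1 : p.ResidueField) ⊗ₜ[T] b = 0) : ∃ s ∉ p, s • b ∈ p.map (algebraMap T B) := by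
  let D := T ⧸ p
  let C := B ⧸ p.map (algebraMap T B)
  haveI : IsLocalization (nonZeroDivisors D) p.ResidueField := inferInstanceAs (IsFractionRing D p.ResidueField)
  have h1 : (1 : p.ResidueField) ⊗ₜ[D] (Ideal.Quotient.mk _ b : C) = 0 := by
    let g : B →ₐ[T] p.ResidueField ⊗[D] C :=
      ((Algebra.TensorProduct.includeRight : C →ₐ[D] p.ResidueField ⊗[D] C).restrictScalars T).comp (Ideal.Quotient.mkₐ T _)
    have h := congrArg (Algebra.TensorProduct.lift
      ((Algebra.TensorProduct.includeLeft : p.ResidueField →ₐ[D] p.ResidueField ⊗[D] C).restrictScalars T) g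
      fun _ _ => Commute.all _ _) hb
    rw [map_zero, Algebra.TensorProduct.lift_tmul, map_one, one_mul] at h
    exact h
  haveI : IsLocalizedModule (nonZeroDivisors D) (TensorProduct.mk D p.ResidueField C 1) :=
    (isLocalizedModule_iff_isBaseChange (nonZeroDivisors D) p.ResidueField _).2 (TensorProduct.isBaseChange D C p.ResidueField)
  obtain ⟨⟨d, hd⟩, hdb⟩ := (IsLocalizedModule.eq_zero_iff (nonZeroDivisors D) (TensorProduct.mk D p.ResidueField C 1)).1 h1
  obtain ⟨s, rfl⟩ := Ideal.Quotient.mk_surjective d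
  refine ⟨s, fun hs => nonZeroDivisors.ne_zero hd (Ideal.Quotient.eq_zero_iff_mem.2 hs), Ideal.Quotient.eq_zero_iff_mem.1 ?_⟩
  rw [Algebra.smul_def, map_mul]
  rw [Submonoid.smul_def, Algebra.smul_def] at hdb
  exact hdb

/-- The characters span, shifted, the augmentation ideal. -/
theorem aug_eq_span (hπ : Function.Surjective π) :
    RingHom.ker (Bialgebra.counitAlgHom T B) = Ideal.span (Set.range fun m => ch π m - 1) := by
  refine le_antisymm (fun b hb => ?_) (Ideal.span_le.2 ?_)
  · obtain ⟨x, rfl⟩ := hπ b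
    have hx : x ∈ RingHom.ker (Bialgebra.counitAlgHom T (MonoidAlgebra T M)) :=
      (CoalgHomClass.counit_comp_apply π x).symm.trans hb
    rw [aug_monoidAlgebra] at hx
    have h2 := Ideal.mem_map_of_mem (π : MonoidAlgebra T M →ₐ[T] B).toRingHom hx
    rw [Ideal.map_span, ← Set.range_comp] at h2
    refine Ideal.span_mono ?_ h2
    rintro _ ⟨m, rfl⟩
    exact ⟨m, by show ch π m - 1 = π (MonoidAlgebra.single m 1 - 1); rw [map_sub, map_one]; rfl⟩
  · rintro _ ⟨m, rfl⟩
    show Coalgebra.counit (R := T) (ch π m - 1) = 0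
    rw [map_sub, counit_ch, Bialgebra.counit_one, sub_self]

/-- A closed subgroup with trivial closed fibre is trivial. -/
theorem eq_algebraMap_counit [IsLocalRing T] [Algebra.FiniteType T B] (hπ : Function.Surjective π)
    (hcl : ∀ b : B, Coalgebra.counit (R := T) b = 0 → b ∈ (IsLocalRing.maximalIdeal T).map (algebraMap T B))
    (b : B) : b = algebraMap T B (Coalgebra.counit b) := by
  classical
  set aug := RingHom.ker (Bialgebra.counitAlgHom T B) with haug
  have hmem : ∀ m, ch π m - 1 ∈ (IsLocalRing.maximalIdeal T).map (algebraMap T B) := fun m =>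
    hcl _ (by rw [map_sub, counit_ch, Bialgebra.counit_one, sub_self])
  have hnil : ∀ x ∈ aug, IsNilpotent x := fun x hx => by
    have h : aug ≤ nilradical B := by
      rw [haug, aug_eq_span π hπ, Ideal.span_le]
      rintro _ ⟨m, rfl⟩
      exact isNilpotent_ch_sub_one π hπ m (hmem m)
    exact h hx
  have hdec : ∀ x : B, x - algebraMap T B (Coalgebra.counit x) ∈ aug := fun x => by
    show Bialgebra.counitAlgHom T B (x - algebraMap T B (Coalgebra.counit x)) = 0
    rw [map_sub, AlgHom.commutes]
    exact sub_self _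
  haveI : Algebra.IsIntegral T B := ⟨fun x => by
    have h : IsIntegral T (x - algebraMap T B (Coalgebra.counit x)) := by
      obtain ⟨k, hk⟩ := hnil _ (hdec x)
      exact IsIntegral.of_pow k.succ_pos (by rw [pow_succ, hk, zero_mul]; exact isIntegral_zero)
    simpa using h.add (isIntegral_algebraMap (x := Coalgebra.counit (R := T) x))⟩
  haveI : Module.Finite T B := Algebra.IsIntegral.finite
  let N : Submodule T B := LinearMap.ker (Bialgebra.counitAlgHom T B).toLinearMap
  have hcl' : ∀ x ∈ N, x ∈ (IsLocalRing.maximalIdeal T).map (algebraMap T B) := fun x hx => hcl x hx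
  let pr : B →ₗ[T] B := LinearMap.id - (Algebra.linearMap T B).comp (Bialgebra.counitAlgHom T B).toLinearMap
  have hN : N = LinearMap.range pr := by
    refine le_antisymm ?_ ?_
    · intro x hx
      refine ⟨x, ?_⟩
      show x - algebraMap T B (Bialgebra.counitAlgHom T B x) = x
      rw [show Bialgebra.counitAlgHom T B x = 0 from hx, map_zero, sub_zero]
    · rintro _ ⟨x, rfl⟩
      exact hdec x
  have hNfg : N.FG := by
    rw [hN, LinearMap.range_eq_map]
    exact Module.Finite.fg_top.map _
  have hle : N ≤ IsLocalRing.maximalIdeal T • N := by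
    intro x hx
    have h1 : x ∈ IsLocalRing.maximalIdeal T • (⊤ : Submodule T B) := by
      rw [Ideal.smul_top_eq_map]
      exact hcl' x hx
    have h2 := Submodule.mem_map_of_mem (f := pr) h1
    rw [Submodule.map_smul'', Submodule.map_top, ← hN] at h2
    have hpr : pr x = x := by
      show x - algebraMap T B (Bialgebra.counitAlgHom T B x) = x
      rw [show Bialgebra.counitAlgHom T B x = 0 from hx, map_zero, sub_zero]
    rwa [hpr] at h2
  have hbot := Submodule.eq_bot_of_le_smul_of_le_jacobson_bot _ N hNfg hle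
    (IsLocalRing.maximalIdeal_le_jacobson _)
  have h3 : b - algebraMap T B (Coalgebra.counit b) ∈ N := hdec b
  rw [hbot, Submodule.mem_bot, sub_eq_zero] at h3
  exact h3

/-- The power maps on characters. -/
theorem powConv_ch (n : ℕ) (m : M) : SGA3b.powConv T B n (ch π m) = ch π m ^ n := by
  induction n with
  | zero =>
    rw [pow_zero]
    show algebraMap T B (Coalgebra.counit (R := T) (ch π m)) = 1
    rw [counit_ch, map_one]
  | succ n ih =>
    unfold SGA3b.powConv at ih ⊢
    rw [pow_succ, pow_succ]
    show (_ * _ : WithConv (B →ₐ[T] B)) (ch π m) = _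
    rw [AlgHom.convMul_apply, (isGroupLikeElem_ch π m).comul_eq_tmul_self, Algebra.TensorProduct.lift_tmul, ih]
    rfl

/-- Over residue fields of characteristic zero, torsion characters are trivial to first order. -/
theorem exists_smul_mem_aug_sq [IsLocalRing T] [Group.FG M] (hπ : Function.Surjective π) (n : ℕ) (hn : 0 < n)
    (hcl : ∀ m, ch π m ^ n - 1 ∈ (IsLocalRing.maximalIdeal T).map (algebraMap T B)) :
    ∃ k : ℕ, 0 < k ∧ ∀ x ∈ RingHom.ker (Bialgebra.counitAlgHom T B),
      k • x ∈ RingHom.ker (Bialgebra.counitAlgHom T B) ^ 2 := by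
  classical
  set aug := RingHom.ker (Bialgebra.counitAlgHom T B) with haug
  let Q := aug.Cotangent
  obtain ⟨S, hS⟩ := Group.fg_def.1 (inferInstance : Group.FG M)
  have hg : ∀ m, ch π m - 1 ∈ aug := fun m => by
    rw [haug, aug_eq_span π hπ]; exact Ideal.subset_span ⟨m, rfl⟩
  let ξ : M → Q := fun m => aug.toCotangent ⟨ch π m - 1, hg m⟩
  have hscal : ∀ (b : B) (y : Q), b • y = algebraMap T B (Coalgebra.counit b) • y := fun b y => by
    rw [← sub_eq_zero, ← sub_smul]
    obtain ⟨z, rfl⟩ := Ideal.toCotangent_surjective aug y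
    rw [← map_smul, Ideal.toCotangent_eq_zero]
    have hb : b - algebraMap T B (Coalgebra.counit b) ∈ aug := by
      show Bialgebra.counitAlgHom T B (b - algebraMap T B (Coalgebra.counit b)) = 0
      rw [map_sub, AlgHom.commutes]
      exact sub_self _
    show (b - algebraMap T B (Coalgebra.counit b)) * (z : B) ∈ aug ^ 2
    rw [pow_two]
    exact Ideal.mul_mem_mul hb z.2
  have hξ : ∀ a b, ξ (a * b) = ξ a + ξ b := fun a b => by
    show aug.toCotangent _ = aug.toCotangent _ + aug.toCotangent _
    rw [← map_add, Ideal.toCotangent_eq]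
    show ch π (a * b) - 1 - (ch π a - 1 + (ch π b - 1)) ∈ aug ^ 2
    rw [map_mul, show ch π a * ch π b - 1 - (ch π a - 1 + (ch π b - 1)) = (ch π a - 1) * (ch π b - 1) by ring, pow_two]
    exact Ideal.mul_mem_mul (hg a) (hg b)
  let Ξ : Additive M →+ Q := AddMonoidHom.mk' (fun a => ξ (Additive.toMul a)) fun a b => hξ _ _
  -- the cotangent space is spanned by the generators
  have hspan : Submodule.span T (ξ '' (S : Set M)) = ⊤ := by
    refine eq_top_iff.2 fun y _ => ?_
    obtain ⟨⟨z, hz⟩, rfl⟩ := Ideal.toCotangent_surjective aug y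
    have hgen : ∀ m, ξ m ∈ Submodule.span T (ξ '' (S : Set M)) := fun m => by
      have hm : m ∈ Subgroup.closure (S : Set M) := by rw [hS]; trivial
      induction hm using Subgroup.closure_induction with
      | mem x hx => exact Submodule.subset_span ⟨x, hx, rfl⟩
      | one => rw [show ξ 1 = 0 from map_zero Ξ]; exact zero_mem _
      | mul x w _ _ hx hw => rw [hξ]; exact add_mem hx hw
      | inv x _ hx => rw [show ξ x⁻¹ = - ξ x from map_neg Ξ (Additive.ofMul x)]; exact neg_mem hx
    have hz' : z ∈ Submodule.span B (Set.range fun m => ch π m - 1) := by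
      have := hz; rw [haug, aug_eq_span π hπ] at this; exact this
    suffices h : ∀ w, w ∈ Submodule.span B (Set.range fun m => ch π m - 1) →
        ∃ hw : w ∈ aug, aug.toCotangent ⟨w, hw⟩ ∈ Submodule.span T (ξ '' (S : Set M)) from (h z hz').2
    intro w hw
    induction hw using Submodule.span_induction with
    | mem x hx =>
      obtain ⟨m, rfl⟩ := hx
      exact ⟨hg m, hgen m⟩
    | zero => exact ⟨zero_mem _, by rw [show (⟨0, _⟩ : aug) = 0 from rfl, map_zero]; exact zero_mem _⟩
    | add a b _ _ ha hb =>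
      obtain ⟨ha', ha⟩ := ha
      obtain ⟨hb', hb⟩ := hb
      refine ⟨add_mem ha' hb', ?_⟩
      rw [show (⟨a + b, _⟩ : aug) = ⟨a, ha'⟩ + ⟨b, hb'⟩ from rfl, map_add]
      exact add_mem ha hb
    | smul c a _ ha =>
      obtain ⟨ha', ha⟩ := ha
      refine ⟨Ideal.mul_mem_left _ c ha', ?_⟩
      rw [show (⟨c • a, _⟩ : aug) = c • (⟨a, ha'⟩ : aug) from rfl, map_smul, hscal, algebraMap_smul]
      exact Submodule.smul_mem _ _ ha
  haveI : Module.Finite T Q :=
    ⟨⟨S.image ξ, by rw [Finset.coe_image]; exact hspan⟩⟩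
  -- every point of characteristic zero
  have hchar : ∀ (p : Ideal T) [p.IsPrime], (∀ k : ℕ, 0 < k → (k : T) ∉ p) → ∃ s ∉ p, ∀ y : Q, s • y = 0 := by
    intro p _ hp
    have hx : ∀ m, ∃ s ∉ p, s • ξ m ∈ p • (⊤ : Submodule T Q) := fun m => by
      have h1 : (1 : p.ResidueField) ⊗ₜ[T] (ch π m ^ n - 1) = (0 : p.ResidueField ⊗[T] B) := by
        rw [TensorProduct.tmul_sub, ← map_pow, ch_fibre_eq_one π hπ _ (by rw [map_pow]; exact hcl m) p,
          Algebra.TensorProduct.one_def, sub_self]
      obtain ⟨s, hs, hsmem⟩ := exists_smul_mem_map_of_fibre_zero p h1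
      refine ⟨s * n, fun h => (Ideal.IsPrime.mem_or_mem inferInstance h).elim hs (hp n hn), ?_⟩
      have h2 : (n : T) • ξ m = ξ (m ^ n) := by
        rw [Nat.cast_smul_eq_nsmul T, ← show Ξ (n • Additive.ofMul m) = n • ξ m from map_nsmul Ξ _ _]
        rfl
      rw [mul_smul, h2, ← algebraMap_smul B s, ← map_smul]
      have hwq : ∀ w ∈ p.map (algebraMap T B), aug.toCotangent ⟨w - algebraMap T B (Coalgebra.counit w), by
          show Bialgebra.counitAlgHom T B (w - algebraMap T B (Coalgebra.counit w)) = 0
          rw [map_sub, AlgHom.commutes]; exact sub_self _⟩ ∈ p • (⊤ : Submodule T Q) := by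
        intro w hw
        induction hw using Submodule.span_induction with
        | mem x hx =>
          obtain ⟨a, -, rfl⟩ := hx
          have : (⟨algebraMap T B a - algebraMap T B (Coalgebra.counit (algebraMap T B a)), by simp⟩ : aug) = 0 := by
            ext; simp
          rw [this, map_zero]
          exact zero_mem _
        | zero =>
          have : (⟨(0 : B) - algebraMap T B (Coalgebra.counit (0 : B)), by simp⟩ : aug) = 0 := by ext; simp
          rw [this, map_zero]
          exact zero_mem _
        | add a b _ _ ha hb =>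
          convert add_mem ha hb using 1
          rw [← map_add]
          congr 1
          ext
          simp [map_add]
          ring
        | smul c a ha' ha =>
          have hεa : Coalgebra.counit (R := T) a ∈ p := by
            have h := Ideal.mem_map_of_mem (Bialgebra.counitAlgHom T B).toRingHom ha'
            rw [Ideal.map_span, ← Set.image_comp] at h
            refine Ideal.span_le.2 ?_ h
            rintro _ ⟨x, hx, rfl⟩
            show Bialgebra.counitAlgHom T B (algebraMap T B x) ∈ p
            rw [AlgHom.commutes]; exact hx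
          have hmem : ∀ y : B, y - algebraMap T B (Coalgebra.counit y) ∈ aug := fun y => by
            show Bialgebra.counitAlgHom T B (y - algebraMap T B (Coalgebra.counit y)) = 0
            rw [map_sub, AlgHom.commutes]; exact sub_self _
          have : (⟨c • a - algebraMap T B (Coalgebra.counit (c • a)), hmem _⟩ : aug) =
              c • (⟨a - algebraMap T B (Coalgebra.counit a), hmem _⟩ : aug) +
                algebraMap T B (Coalgebra.counit (R := T) a) • (⟨c - algebraMap T B (Coalgebra.counit c), hmem _⟩ : aug) := by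
            ext
            simp only [smul_eq_mul, Submodule.coe_add, Submodule.coe_smul, Bialgebra.counit_mul, map_mul]
            ring
          rw [this, map_add, map_smul, map_smul, hscal, algebraMap_smul, algebraMap_smul]
          exact add_mem (Submodule.smul_mem _ _ ha) (Submodule.smul_mem_smul hεa trivial)
      convert hwq _ hsmem using 1
      congr 1
      ext
      show algebraMap T B s * (ch π (m ^ n) - 1) = s • (ch π m ^ n - 1) - algebraMap T B (Coalgebra.counit (s • (ch π m ^ n - 1)))
      rw [map_smul, map_sub, ← map_pow, counit_ch, Bialgebra.counit_one, sub_self, smul_zero, map_zero, sub_zero,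
        Algebra.smul_def]
    choose sm hsm hsmx using hx
    let s := ∏ m ∈ S, sm m
    have hs : s ∉ p := fun h => by
      obtain ⟨m, -, hm⟩ := (Ideal.IsPrime.prod_mem_iff).1 h
      exact hsm m hm
    let f : Q →ₗ[T] Q := LinearMap.lsmul T Q s
    have hrange : LinearMap.range f ≤ p • (⊤ : Submodule T Q) := by
      rw [LinearMap.range_eq_map, ← hspan, Submodule.map_span, Submodule.span_le, hspan]
      rintro _ ⟨_, ⟨m, hm, rfl⟩, rfl⟩
      show s • ξ m ∈ _
      rw [show s = (∏ x ∈ S.erase m, sm x) * sm m from (Finset.prod_erase_mul S sm hm).symm, mul_smul]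
      exact Submodule.smul_mem _ _ (hsmx m)
    obtain ⟨P, hP, -, hcoef, hPf⟩ := LinearMap.exists_monic_and_coeff_mem_pow_and_aeval_eq_zero_of_range_le_smul T f p hrange
    refine ⟨P.eval s, ?_, fun y => ?_⟩
    · intro h
      rw [Polynomial.eval_eq_sum_range, Finset.sum_range_succ, hP.coeff_natDegree, one_mul] at h
      have h2 : ∑ i ∈ Finset.range P.natDegree, P.coeff i * s ^ i ∈ p := Ideal.sum_mem _ fun i hi =>
        Ideal.mul_mem_right _ _ (Ideal.pow_le_self (by rw [Finset.mem_range] at hi; omega) (hcoef i))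
      exact hs (Ideal.IsPrime.mem_of_pow_mem inferInstance _ ((Submodule.add_mem_iff_right _ h2).1 h))
    · have h := LinearMap.congr_fun hPf y
      rwa [show f = algebraMap T (Module.End T Q) s from rfl, Polynomial.aeval_algebraMap_apply,
        show ((algebraMap T (Module.End T Q)) (Polynomial.aeval s P)) y = Polynomial.aeval s P • y from rfl,
        Polynomial.coe_aeval_eq_eval] at h
  obtain ⟨k, hk, hkQ⟩ : ∃ k : ℕ, 0 < k ∧ ∀ y : Q, (k : T) • y = 0 := by
    by_contra hne
    push Not at hne
    let A : Ideal T := Module.annihilator T Q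
    let Sn : Submonoid T :=
      { carrier := {t | ∃ k : ℕ, 0 < k ∧ (k : T) = t}
        one_mem' := ⟨1, one_pos, Nat.cast_one⟩
        mul_mem' := by
          rintro _ _ ⟨a, ha, rfl⟩ ⟨b, hb, rfl⟩
          exact ⟨a * b, Nat.mul_pos ha hb, Nat.cast_mul a b⟩ }
    have hd : Disjoint (A : Set T) (Sn : Set T) := by
      rw [Set.disjoint_left]
      rintro _ hA ⟨k, hk, rfl⟩
      obtain ⟨y, hy⟩ := hne k hk
      exact hy (Module.mem_annihilator.1 hA y)
    obtain ⟨p, hp, hAp, hdp⟩ := Ideal.exists_le_prime_disjoint A Sn hd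
    haveI := hp
    obtain ⟨s, hs, hsy⟩ := hchar p fun k hk h => Set.disjoint_left.1 hdp h ⟨k, hk, rfl⟩
    exact hs (hAp (Module.mem_annihilator.2 hsy))
  refine ⟨k, hk, fun x hx => ?_⟩
  have h := hkQ (aug.toCotangent ⟨x, hx⟩)
  rw [← algebraMap_smul B (k : T), ← map_smul, Ideal.toCotangent_eq_zero] at h
  simpa [nsmul_eq_mul] using h

/-- Iterated powers of unipotent elements. -/
theorem pow_pow_sub_one_mem {I : Ideal B} {k : ℕ} (hk : ∀ x ∈ I, k • x ∈ I ^ 2) {y : B} (hy : y - 1 ∈ I) (j : ℕ) :
    y ^ k ^ j - 1 ∈ I ^ (j + 1) := by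
  induction j with
  | zero => simpa using hy
  | succ j ih =>
    set t := y ^ k ^ j - 1 with ht
    have h1 : y ^ k ^ (j + 1) = (1 + t) ^ k := by
      rw [show (1 : B) + t = y ^ k ^ j by rw [ht]; ring, ← pow_mul, pow_succ]
    rw [h1]
    have hkI : ∀ x ∈ I ^ (j + 1), k • x ∈ I ^ (j + 1 + 1) := by
      intro x hx
      rw [pow_succ] at hx
      refine Submodule.mul_induction_on hx (fun a ha b hb => ?_) fun a b ha hb => ?_
      · rw [show k • (a * b) = a * (k • b) by rw [mul_smul_comm], add_assoc, pow_add]
        exact Ideal.mul_mem_mul ha (hk b hb)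
      · rw [smul_add]; exact add_mem ha hb
    have h2 : ∀ i : ℕ, (1 + t) ^ i - 1 - i • t ∈ I ^ (j + 1 + 1) := by
      intro i
      induction i with
      | zero => simp
      | succ i hi =>
        have : (1 + t) ^ (i + 1) - 1 - (i + 1) • t = ((1 + t) ^ i - 1 - i • t) * (1 + t) + i • (t * t) := by
          simp only [nsmul_eq_mul, Nat.cast_add, Nat.cast_one]; ring
        rw [this]
        refine add_mem (Ideal.mul_mem_right _ _ hi) (nsmul_mem ?_ _)
        rw [show j + 1 + 1 = (j + 1) + 1 from rfl, pow_add, pow_one]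
        exact Ideal.mul_mem_mul ih (Ideal.pow_le_self (Nat.succ_ne_zero j) ih)
    have h3 := add_mem (h2 k) (hkI t ih)
    rwa [sub_add_cancel] at h3

/-- A closed subgroup with finite closed fibre is killed by an integer. -/
theorem exists_pow_eq_one [IsLocalRing T] [Group.FG M] (hπ : Function.Surjective π) (n : ℕ) (hn : 0 < n)
    (hcl : ∀ m, ch π m ^ n - 1 ∈ (IsLocalRing.maximalIdeal T).map (algebraMap T B)) :
    ∃ N : ℕ, 0 < N ∧ ∀ m, ch π m ^ N = 1 := by
  classical
  obtain ⟨k, hk, hkaug⟩ := exists_smul_mem_aug_sq π hπ n hn hcl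
  obtain ⟨S, hS⟩ := Group.fg_def.1 (inferInstance : Group.FG M)
  let I : Ideal B := Ideal.map (SGA3b.powConv T B n) (RingHom.ker (Bialgebra.counitAlgHom T B))
  have hI : I ≤ Ideal.span ((fun m => ch π m ^ n - 1) '' (S : Set M)) := by
    refine Ideal.map_le_iff_le_comap.2 ?_
    rw [aug_eq_span π hπ, Ideal.span_le]
    rintro _ ⟨m, rfl⟩
    show SGA3b.powConv T B n (ch π m - 1) ∈ Ideal.span ((fun m => ch π m ^ n - 1) '' (S : Set M))
    rw [map_sub, map_one, powConv_ch]
    have hm : m ∈ Subgroup.closure (S : Set M) := by rw [hS]; trivial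
    induction hm using Subgroup.closure_induction with
    | mem x hx => exact Ideal.subset_span ⟨x, hx, rfl⟩
    | one => rw [map_one, one_pow, sub_self]; exact zero_mem _
    | mul a b _ _ ha hb =>
      rw [map_mul, mul_pow, show ch π a ^ n * ch π b ^ n - 1 = ch π a ^ n * (ch π b ^ n - 1) + (ch π a ^ n - 1) by ring]
      exact add_mem (Ideal.mul_mem_left _ _ hb) ha
    | inv a _ ha =>
      rw [show ch π a⁻¹ ^ n - 1 = -(ch π a⁻¹ ^ n * (ch π a ^ n - 1)) by
        rw [mul_sub, ← mul_pow, ← map_mul, inv_mul_cancel, map_one, one_pow]; ring]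
      exact neg_mem (Ideal.mul_mem_left _ _ ha)
  obtain ⟨c, hc⟩ : ∃ c, Ideal.span ((fun m => ch π m ^ n - 1) '' (S : Set M)) ^ c ≤ ⊥ := by
    refine Ideal.exists_pow_le_of_le_radical_of_fg ?_ ⟨S.image fun m => ch π m ^ n - 1, by rw [Finset.coe_image]⟩
    rw [Ideal.span_le]
    rintro _ ⟨m, -, rfl⟩
    have h := isNilpotent_ch_sub_one π hπ (m ^ n) (by rw [map_pow]; exact hcl m)
    rw [map_pow] at h
    exact h
  have hkI : ∀ x ∈ I, k • x ∈ I ^ 2 := by
    intro x hx
    induction hx using Submodule.span_induction with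
    | mem y hy =>
      obtain ⟨a, ha, rfl⟩ := hy
      have h := Ideal.mem_map_of_mem (SGA3b.powConv T B n) (hkaug a ha)
      rw [Ideal.map_pow, map_nsmul] at h
      exact h
    | zero => simp
    | add a b _ _ ha hb => rw [smul_add]; exact add_mem ha hb
    | smul b a _ ha => rw [smul_comm]; exact Ideal.mul_mem_left _ b ha
  refine ⟨n * k ^ c, Nat.mul_pos hn (pow_pos hk c), fun m => sub_eq_zero.1 ?_⟩
  have h1 : ch π m ^ n - 1 ∈ I := by
    rw [← powConv_ch π n m, ← map_one (SGA3b.powConv T B n), ← map_sub]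
    exact Ideal.mem_map_of_mem _ (by rw [aug_eq_span π hπ]; exact Ideal.subset_span ⟨m, rfl⟩)
  have h2 := pow_pow_sub_one_mem hkI h1 c
  rw [← pow_mul] at h2
  exact (Submodule.mem_bot B).1 (hc (Ideal.pow_le_pow_right (Nat.le_succ c) (Ideal.pow_right_mono hI _ h2)))

end Groth.Agent.H19Mult.SubgroupRigid
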