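import Groth.Agent.H19Mult.Quotient
import Groth.Agent.H19Mult.Lift
import Groth.Agent.H19Mult.DatumFibre

/-!
Schematic density of the torsion of a group of multiplicative type, also in every distinguished open.
-/

set_option autoImplicit false
set_option linter.style.haveILetI false
set_option backward.isDefEq.respectTransparency false

universe u

open TensorProduct

namespace Groth.Agent.H19Mult.TorsionDense

/-- Reduction of exponents modulo `n`. -/
def red (r n : ℕ) : Multiplicative (Fin r → ℤ) →* Multiplicative (Fin r → ZMod n) :=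
  AddMonoidHom.toMultiplicative
    { toFun := fun x i => ((x i : ℤ) : ZMod n)
      map_zero' := by ext i; simp
      map_add' := fun x y => by ext i; simp }

theorem red_apply (r n : ℕ) (x : Multiplicative (Fin r → ℤ)) (i : Fin r) :
    (red r n x).toAdd i = ((x.toAdd i : ℤ) : ZMod n) := rfl

variable {r : ℕ}

/-- Over a field, vanishing on enough torsion means vanishing. -/
theorem mul_eq_zero_field {K : Type u} [Field K] (a b : MonoidAlgebra K (Multiplicative (Fin r → ℤ)))
    (h : ∀ n : ℕ, 0 < n → ∃ j : ℕ, MonoidAlgebra.mapDomainRingHom K (red r n) (a ^ j * b) = 0) : a * b = 0 := by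
  classical
  set c := a * b with hc
  let S := c.coeff.support
  let B := S.sup fun x => Finset.univ.sup fun i => (x.toAdd i).natAbs
  obtain ⟨n, hn, hp⟩ := Nat.exists_infinite_primes (2 * B + ringChar K + 1)
  haveI : Fact n.Prime := ⟨hp⟩
  haveI : NeZero n := ⟨hp.ne_zero⟩
  have hnK : (n : K) ≠ 0 := fun h0 => by
    rcases (Nat.dvd_prime hp).1 (ringChar.dvd h0) with h1 | h1
    · exact CharP.ringChar_ne_one h1
    · omega
  haveI : NeZero (Nat.card (Multiplicative (Fin r → ZMod n)) : K) := ⟨by
    rw [Nat.card_congr Multiplicative.toAdd, Nat.card_fun, Nat.card_zmod, Nat.card_fin, Nat.cast_pow]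
    exact pow_ne_zero _ hnK⟩
  obtain ⟨j, hj⟩ := h n hp.pos
  let q := MonoidAlgebra.mapDomainRingHom K (red r n)
  have hqc : q c = 0 := by
    refine IsReduced.eq_zero _ ⟨j + 1, ?_⟩
    rw [← map_pow, hc, mul_pow, pow_succ a, pow_succ b,
      show a ^ j * a * (b ^ j * b) = (a ^ j * b) * (a * b ^ j) by ring, map_mul, hj, zero_mul]
  have hinj : Set.InjOn (red r n) (S : Set (Multiplicative (Fin r → ℤ))) := by
    intro x hx y hy hxy
    refine Multiplicative.toAdd.injective (funext fun i => ?_)
    have h1 : ((x.toAdd i : ℤ) : ZMod n) = ((y.toAdd i : ℤ) : ZMod n) := by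
      rw [← red_apply, ← red_apply, hxy]
    rw [ZMod.intCast_eq_intCast_iff_dvd_sub] at h1
    have h2 : (x.toAdd i).natAbs ≤ B :=
      le_trans (Finset.le_sup (f := fun i => (x.toAdd i).natAbs) (Finset.mem_univ i))
        (Finset.le_sup (f := fun x => Finset.univ.sup fun i => (x.toAdd i).natAbs) hx)
    have h3 : (y.toAdd i).natAbs ≤ B :=
      le_trans (Finset.le_sup (f := fun i => (y.toAdd i).natAbs) (Finset.mem_univ i))
        (Finset.le_sup (f := fun x => Finset.univ.sup fun i => (x.toAdd i).natAbs) hy)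
    obtain ⟨t, ht⟩ := h1
    rcases eq_or_ne t 0 with rfl | ht0
    · omega
    · exfalso
      have h4 : (n : ℤ).natAbs ≤ (y.toAdd i - x.toAdd i).natAbs := by
        rw [ht, Int.natAbs_mul]
        exact Nat.le_mul_of_pos_right _ (Int.natAbs_pos.2 ht0)
      omega
  apply (MonoidAlgebra.coeffLinearEquiv K).injective
  rw [map_zero]
  refine Finsupp.mapDomain_injOn (S : Set (Multiplicative (Fin r → ℤ))) hinj (subset_rfl : (c.coeff.support : Set (Multiplicative (Fin r → ℤ))) ⊆ S) (by simp) ?_
  rw [Finsupp.mapDomain_zero]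
  exact congrArg (MonoidAlgebra.coeffLinearEquiv K) hqc

theorem mem_pow_eq_zero {L : Type u} [CommRing L] {P : Type*} [CommGroup P] {m : Ideal L} {N : ℕ} (hN : m ^ N = 0)
    {a : MonoidAlgebra L P} (ha : ∀ x, a.coeff x ∈ m) : a ^ N = 0 := by
  have h : a ∈ m.map (algebraMap L (MonoidAlgebra L P)) := mem_map_of_forall_coef_mem ha
  have h2 := Ideal.pow_mem_pow h N
  rw [← Ideal.map_pow, hN, Ideal.zero_eq_bot, Ideal.map_bot, Ideal.mem_bot] at h2
  exact h2

/-- Over an Artinian local ring. -/
theorem exists_pow_mul_eq_zero_artinian {L : Type u} [CommRing L] [IsLocalRing L] [IsArtinianRing L]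
    (a b : MonoidAlgebra L (Multiplicative (Fin r → ℤ)))
    (h : ∀ n : ℕ, 0 < n → ∃ j : ℕ, MonoidAlgebra.mapDomainRingHom L (red r n) (a ^ j * b) = 0) :
    ∃ k : ℕ, a ^ k * b = 0 := by
  classical
  let P := Multiplicative (Fin r → ℤ)
  let m := IsLocalRing.maximalIdeal L
  obtain ⟨N, hN⟩ : IsNilpotent m := (isArtinianRing_iff_isNilpotent_maximalIdeal L).1 ‹_›
  letI : Field (L ⧸ m) := Ideal.Quotient.field m
  let K := L ⧸ m
  let π : MonoidAlgebra L P →+* MonoidAlgebra K P := MonoidAlgebra.mapRingHom P (Ideal.Quotient.mk m)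
  by_cases ha : π a = 0
  · refine ⟨N, ?_⟩
    suffices hall : ∀ x, a.coeff x ∈ m by exact (congrArg (· * b) (mem_pow_eq_zero (P := P) (a := a) hN hall)).trans (zero_mul b)
    intro x
    have h1 := MonoidAlgebra.coeff_mapRingHom (Ideal.Quotient.mk m) a x
    rw [show MonoidAlgebra.mapRingHom P (Ideal.Quotient.mk m) a = 0 from ha] at h1
    exact Ideal.Quotient.eq_zero_iff_mem.1 h1.symm
  refine ⟨0, by_contra fun hb => ?_⟩
  rw [pow_zero, one_mul] at hb
  -- a nonzero multiple with coefficients killed by the maximal ideal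
  obtain ⟨t, htb, htm⟩ : ∃ t : L, t • b ≠ 0 ∧ ∀ s ∈ m, s • t • b = 0 := by
    by_contra hne
    push Not at hne
    have hall : ∀ i : ℕ, ∃ t ∈ m ^ i, t • b ≠ 0 := by
      intro i
      induction i with
      | zero => exact ⟨1, by simp, by simpa using hb⟩
      | succ i ih =>
        obtain ⟨t, ht, htb⟩ := ih
        obtain ⟨s, hs, hsb⟩ := hne t htb
        exact ⟨s * t, by rw [pow_succ']; exact Ideal.mul_mem_mul hs ht, by rw [mul_smul]; exact hsb⟩
    obtain ⟨t, ht, htb⟩ := hall N
    rw [hN, Ideal.zero_eq_bot, Ideal.mem_bot] at ht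
    exact htb (by rw [ht, zero_smul])
  set c := t • b with hc
  let Soc : Submodule L L := Submodule.torsionBySet L L m
  have hcS : ∀ x, c.coeff x ∈ Soc := fun x => by
    rw [Submodule.mem_torsionBySet_iff]
    intro s
    have h1 := congrArg (fun z : MonoidAlgebra L P => z.coeff x) (htm s.1 s.2)
    simpa using h1
  let β := Module.Free.chooseBasis K Soc
  let I := c.coeff.support.biUnion fun x => (β.repr ⟨c.coeff x, hcS x⟩).support
  choose lift hlift using fun y : K => Ideal.Quotient.mk_surjective y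
  let C : _ → MonoidAlgebra L P := fun i =>
    ∑ x ∈ c.coeff.support, MonoidAlgebra.single x (lift (β.repr ⟨c.coeff x, hcS x⟩ i))
  have hval : ∀ x ∈ c.coeff.support, c.coeff x = ∑ i ∈ I, lift (β.repr ⟨c.coeff x, hcS x⟩ i) * ((β i : Soc) : L) := by
    intro x hx
    have h1 := β.linearCombination_repr ⟨c.coeff x, hcS x⟩
    rw [Finsupp.linearCombination_apply_of_mem_supported K (s := I)
      (by rw [Finsupp.mem_supported]; exact Finset.coe_subset.2 fun i hi => Finset.mem_biUnion.2 ⟨x, hx, hi⟩)] at h1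
    have h2 := congrArg (fun z : Soc => (z : L)) h1
    simp only [Submodule.coe_sum] at h2
    refine h2.symm.trans (Finset.sum_congr rfl fun i _ => ?_)
    conv_lhs => rw [← hlift (β.repr ⟨c.coeff x, hcS x⟩ i)]
    rfl
  have hsum : c = ∑ i ∈ I, ((β i : Soc) : L) • C i := by
    conv_lhs => rw [← MonoidAlgebra.sum_coeff_single c]
    simp only [C, Finset.smul_sum, MonoidAlgebra.smul_single, smul_eq_mul]
    rw [Finset.sum_comm]
    refine Finset.sum_congr rfl fun x hx => ?_
    refine (congrArg (MonoidAlgebra.single x) (hval x hx)).trans ?_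
    refine (map_sum (MonoidAlgebra.singleAddHom x) _ _).trans ?_
    exact Finset.sum_congr rfl fun i _ => by rw [mul_comm]; rfl
  have hzero : ∀ i ∈ I, π (C i) = 0 := by
    intro i hi
    refine (mul_eq_zero.1 (mul_eq_zero_field (π a) (π (C i)) fun n hn => ?_)).resolve_left ha
    obtain ⟨j, hj⟩ := h n hn
    refine ⟨j, ?_⟩
    let q := MonoidAlgebra.mapDomainRingHom L (red r n)
    have hq : ∀ (s : L) (z : MonoidAlgebra L P), q (s • z) = s • q z := fun s z => MonoidAlgebra.mapDomain_smul _ _ _
    have h2 : ∑ i ∈ I, ((β i : Soc) : L) • q (a ^ j * C i) = 0 := by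
      have h3 : q (a ^ j * c) = 0 := by rw [hc, mul_smul_comm, hq, hj, smul_zero]
      rw [hsum, Finset.mul_sum, map_sum] at h3
      rw [← h3]
      refine Finset.sum_congr rfl fun i _ => ?_
      rw [mul_smul_comm, hq]
    have hcomm : ∀ z : MonoidAlgebra L P, MonoidAlgebra.mapDomainRingHom K (red r n) (π z) =
        MonoidAlgebra.mapRingHom _ (Ideal.Quotient.mk m) (q z) := fun z => by
      induction z using MonoidAlgebra.induction_linear with
      | zero => simp
      | add u w hu hw => rw [map_add, map_add, map_add, map_add, hu, hw]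
      | single x s => simp [π, q]; rfl
    rw [← map_pow, ← map_mul, hcomm]
    refine MonoidAlgebra.ext (Finsupp.ext fun g => ?_)
    rw [MonoidAlgebra.coeff_mapRingHom, MonoidAlgebra.coeff_zero, Finsupp.zero_apply]
    have h4 : ∑ k ∈ I, (Ideal.Quotient.mk m ((q (a ^ j * C k)).coeff g)) • (β k : Soc) = 0 := by
      apply Subtype.ext
      have h5 := congrArg (fun z : MonoidAlgebra L (Multiplicative (Fin r → ZMod n)) => z.coeff g) h2
      simp only [MonoidAlgebra.coeff_sum, Finsupp.coe_finsetSum, Finset.sum_apply, MonoidAlgebra.coeff_smul,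
        Finsupp.smul_apply, smul_eq_mul, MonoidAlgebra.coeff_zero, Finsupp.zero_apply] at h5
      rw [Submodule.coe_sum, Submodule.coe_zero, ← h5]
      exact Finset.sum_congr rfl fun k _ => mul_comm _ _
    exact linearIndependent_iff'.1 β.linearIndependent I _ h4 i hi
  apply htb
  refine MonoidAlgebra.ext (Finsupp.ext fun x => ?_)
  by_cases hx : x ∈ c.coeff.support
  · rw [hval x hx, MonoidAlgebra.coeff_zero, Finsupp.zero_apply]
    refine Finset.sum_eq_zero fun i hi => ?_
    have h1 : Ideal.Quotient.mk m (lift (β.repr ⟨c.coeff x, hcS x⟩ i)) = 0 := by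
      have h2 := congrArg (fun z : MonoidAlgebra K P => z.coeff x) (hzero i hi)
      simp only [π, C, MonoidAlgebra.coeff_mapRingHom, MonoidAlgebra.coeff_sum, Finsupp.coe_finsetSum, Finset.sum_apply,
        MonoidAlgebra.coeff_single, Finsupp.single_apply, Finset.sum_ite_eq', MonoidAlgebra.coeff_zero,
        Finsupp.zero_apply, if_pos hx] at h2
      exact h2
    have h3 := (Submodule.mem_torsionBySet_iff _ _).1 (β i).2 ⟨_, Ideal.Quotient.eq_zero_iff_mem.1 h1⟩
    exact h3
  · simpa using hx

theorem map_mapDomain_comm {T U : Type*} [CommRing T] [CommRing U] (g : T →+* U) {P Q : Type*} [CommMonoid P]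
    [CommMonoid Q] (q : P →* Q) (z : MonoidAlgebra T P) : MonoidAlgebra.mapDomainRingHom U q (MonoidAlgebra.mapRingHom P g z) =
      MonoidAlgebra.mapRingHom Q g (MonoidAlgebra.mapDomainRingHom T q z) := by
  induction z using MonoidAlgebra.induction_linear with
  | zero => simp
  | add u w hu hw => rw [map_add, map_add, map_add, map_add, hu, hw]
  | single x s => simp

/-- Over a Noetherian ring. -/
theorem exists_pow_mul_eq_zero_noetherian {T : Type u} [CommRing T] [IsNoetherianRing T]
    (a b : MonoidAlgebra T (Multiplicative (Fin r → ℤ)))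
    (h : ∀ n : ℕ, 0 < n → ∃ j : ℕ, MonoidAlgebra.mapDomainRingHom T (red r n) (a ^ j * b) = 0) :
    ∃ k : ℕ, a ^ k * b = 0 := by
  classical
  obtain ⟨t, ht, hprim⟩ : ∃ t : Finset (Ideal T), t.inf id = ⊥ ∧ ∀ ⦃q⦄, q ∈ t → q.IsPrimary :=
    Submodule.isLasker T T (⊥ : Submodule T T)
  have hq : ∀ q ∈ t, ∃ k : ℕ, MonoidAlgebra.mapRingHom _ (Ideal.Quotient.mk (q : Ideal T)) (a ^ k * b) = 0 := by
    intro q hq
    have hpr : Ideal.IsPrimary q := hprim hq
    haveI : q.radical.IsPrime := Ideal.isPrime_radical hpr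
    let T' := T ⧸ q
    let p' : Ideal T' := q.radical.map (Ideal.Quotient.mk q)
    haveI : p'.IsPrime := Ideal.map_isPrime_of_surjective Ideal.Quotient.mk_surjective
      (by rw [Ideal.mk_ker]; exact Ideal.le_radical)
    let L := Localization.AtPrime p'
    have hnil : ∃ N, p' ^ N = 0 := by
      obtain ⟨N, hN⟩ := Ideal.exists_radical_pow_le_of_fg q (IsNoetherian.noetherian _)
      exact ⟨N, by rw [← Ideal.map_pow, Ideal.zero_eq_bot, ← le_bot_iff]; exact (Ideal.map_mono hN).trans_eq (Ideal.map_quotient_self q)⟩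
    haveI : IsArtinianRing L := by
      refine (isArtinianRing_iff_isNilpotent_maximalIdeal L).2 ?_
      obtain ⟨N, hN⟩ := hnil
      refine ⟨N, ?_⟩
      rw [← Localization.AtPrime.map_eq_maximalIdeal, ← Ideal.map_pow, hN, Ideal.zero_eq_bot, Ideal.map_bot]
      rfl
    have hinjL : Function.Injective (algebraMap T' L) := (injective_iff_map_eq_zero _).2 fun x hx => by
      obtain ⟨s, hs⟩ := (IsLocalization.map_eq_zero_iff p'.primeCompl L x).1 hx
      obtain ⟨x, rfl⟩ := Ideal.Quotient.mk_surjective x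
      obtain ⟨y, hy⟩ := Ideal.Quotient.mk_surjective (s : T')
      rw [← hy, ← map_mul, Ideal.Quotient.eq_zero_iff_mem, mul_comm] at hs
      exact Ideal.Quotient.eq_zero_iff_mem.2 (((Ideal.isPrimary_iff.1 hpr).2 hs).resolve_right fun hyr =>
        s.2 (hy ▸ Ideal.mem_map_of_mem _ hyr))
    let g : T →+* L := (algebraMap T' L).comp (Ideal.Quotient.mk q)
    obtain ⟨k, hk⟩ := exists_pow_mul_eq_zero_artinian (MonoidAlgebra.mapRingHom _ g a) (MonoidAlgebra.mapRingHom _ g b)
      fun n hn => by
        obtain ⟨j, hj⟩ := h n hn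
        exact ⟨j, by rw [← map_pow, ← map_mul, map_mapDomain_comm, hj, map_zero]⟩
    refine ⟨k, MonoidAlgebra.ext (Finsupp.ext fun x => hinjL ?_)⟩
    rw [← map_pow, ← map_mul] at hk
    have h1 := congrArg (fun z : MonoidAlgebra L _ => z.coeff x) hk
    simp only [g, MonoidAlgebra.coeff_mapRingHom, MonoidAlgebra.coeff_zero, Finsupp.zero_apply, RingHom.comp_apply] at h1
    rw [MonoidAlgebra.coeff_mapRingHom, MonoidAlgebra.coeff_zero, Finsupp.zero_apply, map_zero]
    exact h1
  choose k hk using hq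
  refine ⟨t.attach.sup fun q => k q.1 q.2, MonoidAlgebra.ext (Finsupp.ext fun x => ?_)⟩
  rw [MonoidAlgebra.coeff_zero, Finsupp.zero_apply, ← Submodule.mem_bot T, ← ht, Submodule.mem_finsetInf]
  intro q hq
  have h0 : MonoidAlgebra.mapRingHom _ (Ideal.Quotient.mk (q : Ideal T))
      (a ^ (t.attach.sup fun q => k q.1 q.2) * b) = 0 := by
    rw [← Nat.sub_add_cancel (Finset.le_sup (f := fun q : {x // x ∈ t} => k q.1 q.2) (Finset.mem_attach _ ⟨q, hq⟩)),
      pow_add, mul_assoc, map_mul, hk q hq, mul_zero]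
  have h1 := congrArg (fun z : MonoidAlgebra (T ⧸ q) _ => z.coeff x) h0
  simp only [MonoidAlgebra.coeff_mapRingHom, MonoidAlgebra.coeff_zero, Finsupp.zero_apply] at h1
  exact Ideal.Quotient.eq_zero_iff_mem.1 h1

end Groth.Agent.H19Mult.TorsionDense
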