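import Groth.Agent.H19Mult.TorsionDense

/-!
Schematic density of torsion: general coefficients, general groups of characters, general bases.
-/

set_option autoImplicit false
set_option linter.style.haveILetI false
set_option backward.isDefEq.respectTransparency false

universe u

open TensorProduct

namespace Groth.Agent.H19Mult.TorsionDense

variable {r : ℕ}

/-- Over any ring. -/
theorem exists_pow_mul_eq_zero {T : Type u} [CommRing T] (a b : MonoidAlgebra T (Multiplicative (Fin r → ℤ)))
    (h : ∀ n : ℕ, 0 < n → ∃ j : ℕ, MonoidAlgebra.mapDomainRingHom T (red r n) (a ^ j * b) = 0) :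
    ∃ k : ℕ, a ^ k * b = 0 := by
  classical
  let s : Finset T := a.coeff.support.image a.coeff ∪ b.coeff.support.image b.coeff
  let T₀ := Algebra.adjoin ℤ (s : Set T)
  haveI : Algebra.FiniteType ℤ T₀ := (Subalgebra.fg_iff_finiteType _).1 ⟨s, rfl⟩
  haveI : IsNoetherianRing T₀ := Algebra.FiniteType.isNoetherianRing ℤ T₀
  let g : T₀ →+* T := T₀.val.toRingHom
  have hg : ∀ {Q : Type} [CommMonoid Q], Function.Injective (MonoidAlgebra.mapRingHom Q g) := fun {Q} _ =>
    (injective_iff_map_eq_zero _).2 fun z hz => MonoidAlgebra.ext (Finsupp.ext fun x => Subtype.ext (by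
      have h1 := congrArg (fun w : MonoidAlgebra T Q => w.coeff x) hz
      simpa [g] using h1))
  have hex : ∀ z : MonoidAlgebra T (Multiplicative (Fin r → ℤ)), (∀ x ∈ z.coeff.support, z.coeff x ∈ T₀) →
      ∃ z₀, MonoidAlgebra.mapRingHom _ g z₀ = z := fun z hz => ⟨∑ x ∈ z.coeff.support.attach,
        MonoidAlgebra.single (x : Multiplicative (Fin r → ℤ)) (⟨z.coeff x, hz x x.2⟩ : T₀), by
      rw [map_sum]
      simp only [MonoidAlgebra.mapRingHom_single]
      exact (Finset.sum_attach z.coeff.support fun x => MonoidAlgebra.single x (z.coeff x)).trans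
        (MonoidAlgebra.sum_coeff_single z)⟩
  obtain ⟨a₀, ha₀⟩ := hex a fun x hx => Algebra.subset_adjoin (Finset.mem_union_left _ (Finset.mem_image_of_mem _ hx))
  obtain ⟨b₀, hb₀⟩ := hex b fun x hx => Algebra.subset_adjoin (Finset.mem_union_right _ (Finset.mem_image_of_mem _ hx))
  obtain ⟨k, hk⟩ := exists_pow_mul_eq_zero_noetherian a₀ b₀ fun n hn => by
    obtain ⟨j, hj⟩ := h n hn
    refine ⟨j, hg ?_⟩
    rw [map_zero, ← map_mapDomain_comm, map_mul, map_pow, ha₀, hb₀, hj]
  refine ⟨k, ?_⟩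
  rw [← ha₀, ← hb₀, ← map_pow, ← map_mul, hk, map_zero]

/-- For an arbitrary finitely generated group of characters. -/
theorem exists_pow_mul_eq_zero_of_span {T : Type u} [CommRing T] {M : Type u} [CommGroup M] [Group.FG M]
    (a b : MonoidAlgebra T M) (h : ∀ n : ℕ, 0 < n → ∃ j : ℕ, a ^ j * b ∈
      Ideal.span ((fun h => MonoidAlgebra.single h (1 : T) - 1) '' ((powMonoidHom n : M →* M).range : Set M))) :
    ∃ k : ℕ, a ^ k * b = 0 := by
  classical
  obtain ⟨r, ι, _, p, hp, e, ⟨f⟩⟩ := AddCommGroup.equiv_free_prod_directSum_zmod (G := Additive M)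
  haveI : ∀ i, NeZero (p i ^ e i) := fun i => ⟨pow_ne_zero _ (hp i).ne_zero⟩
  let F := Multiplicative (DirectSum ι fun i => ZMod (p i ^ e i))
  haveI : Finite F := Finite.of_equiv _ (DirectSum.linearEquivFunOnFintype ℤ ι fun i => ZMod (p i ^ e i)).toEquiv.symm
  let P := Multiplicative (Fin r → ℤ)
  let E : M ≃* P × F :=
    (AddEquiv.toMultiplicativeRight (f.trans (AddEquiv.prodCongr (Finsupp.linearEquivFunOnFinite ℤ ℤ (Fin r)).toAddEquiv
      (AddEquiv.refl _)))).trans (MulEquiv.prodMultiplicative _ _)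
  let Ψ : MonoidAlgebra T M →+* MonoidAlgebra (MonoidAlgebra T F) P :=
    MonoidAlgebra.curryRingEquiv.toRingHom.comp (MonoidAlgebra.mapDomainRingHom T E.toMonoidHom)
  have hΨi : Function.Injective Ψ := fun x y hxy => by
    have h1 : MonoidAlgebra.mapDomain E x = MonoidAlgebra.mapDomain E y := MonoidAlgebra.curryRingEquiv.injective hxy
    exact MonoidAlgebra.mapDomain_injective E.injective h1
  have hF : ∀ x : F, x ^ Nat.card F = 1 := fun x => pow_card_eq_one'
  obtain ⟨k, hk⟩ := exists_pow_mul_eq_zero (Ψ a) (Ψ b) fun n hn => by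
    obtain ⟨j, hj⟩ := h (n * Nat.card F) (Nat.mul_pos hn Nat.card_pos)
    refine ⟨j, ?_⟩
    have hker : Ideal.span ((fun h => MonoidAlgebra.single h (1 : T) - 1) ''
        ((powMonoidHom (n * Nat.card F) : M →* M).range : Set M)) ≤
        RingHom.ker ((MonoidAlgebra.mapDomainRingHom (MonoidAlgebra T F) (red r n)).comp Ψ) := by
      rw [Ideal.span_le]
      rintro _ ⟨_, ⟨m, rfl⟩, rfl⟩
      have h2 : E (powMonoidHom (n * Nat.card F) m) = ((E m).1 ^ (n * Nat.card F), 1) := by
        rw [powMonoidHom_apply, map_pow]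
        refine Prod.ext rfl ?_
        show (E m).2 ^ (n * Nat.card F) = 1
        rw [mul_comm, pow_mul, hF, one_pow]
      have h3 : red r n ((E m).1 ^ (n * Nat.card F)) = 1 := by
        refine Multiplicative.toAdd.injective (funext fun i => ?_)
        rw [map_pow, toAdd_pow, Pi.smul_apply, nsmul_eq_mul, Nat.cast_mul, ZMod.natCast_self, zero_mul, zero_mul]
        rfl
      show MonoidAlgebra.mapDomainRingHom (MonoidAlgebra T F) (red r n)
        (Ψ (MonoidAlgebra.single (powMonoidHom (n * Nat.card F) m) 1 - 1)) = 0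
      have h4 : Ψ (MonoidAlgebra.single (powMonoidHom (n * Nat.card F) m) (1 : T)) =
          MonoidAlgebra.single ((E m).1 ^ (n * Nat.card F)) (MonoidAlgebra.single (1 : F) (1 : T)) := by
        show MonoidAlgebra.curryRingEquiv (MonoidAlgebra.mapDomain E (MonoidAlgebra.single (powMonoidHom (n * Nat.card F) m) (1 : T))) = _
        rw [MonoidAlgebra.mapDomain_single, h2, MonoidAlgebra.curryRingEquiv_single]
      rw [map_sub, h4, map_one, map_sub, map_one, MonoidAlgebra.mapDomainRingHom_apply, MonoidAlgebra.mapDomain_single, h3]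
      rw [← MonoidAlgebra.one_def, ← MonoidAlgebra.one_def, sub_self]
    have h5 := RingHom.mem_ker.1 (hker hj)
    rw [RingHom.comp_apply, map_mul, map_pow] at h5
    exact h5
  exact ⟨k, hΨi (by rw [map_zero, map_mul, map_pow, hk])⟩

/-- An element killed by a power of `a` on every torsion subgroup is killed by a power of `a`. -/
theorem exists_pow_mul_eq_zero_torsion {R A : Type u} [CommRing R] [CommRing A] [HopfAlgebra R A]
    (hft : Algebra.FiniteType R A) (h : SGA3b.IsMultType R A) (a b : A)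
    (hT : ∀ n : ℕ, 0 < n → ∃ j : ℕ, a ^ j * b ∈ SGA3b.torsionIdeal R A n) : ∃ k : ℕ, a ^ k * b = 0 := by
  classical
  obtain ⟨N, P, _, _, hfl, hcov, hd⟩ := exists_finite_charts h
  haveI := hfl
  have hloc : ∀ i, ∃ k : ℕ, (1 : P i) ⊗ₜ[R] (a ^ k * b) = 0 := by
    intro i
    rcases subsingleton_or_nontrivial (P i) with hP | hP
    · haveI : Subsingleton (P i ⊗[R] A) := Module.subsingleton (P i) _
      exact ⟨0, Subsingleton.elim _ _⟩
    obtain ⟨M, _, ⟨e⟩⟩ := hd i
    haveI := fg_of_chart hft e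
    obtain ⟨k, hk⟩ := exists_pow_mul_eq_zero_of_span (gmap e a) (gmap e b) fun n hn => by
      obtain ⟨j, hj⟩ := hT n hn
      refine ⟨j, ?_⟩
      rw [← map_pow, ← map_mul, ← map_gmap_torsionIdeal e n]
      exact Ideal.mem_map_of_mem _ hj
    refine ⟨k, EquivLike.injective e ?_⟩
    rw [map_zero, ← gmap_apply, map_mul, map_pow, hk]
  choose k hk using hloc
  exact ⟨Finset.univ.sup k, ext_of_charts hcov fun i => by
    have h1 : k i ≤ Finset.univ.sup k := Finset.le_sup (Finset.mem_univ i)
    obtain ⟨d, hd'⟩ := Nat.exists_eq_add_of_le h1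
    rw [TensorProduct.tmul_zero, hd', add_comm, pow_add, mul_assoc, ← one_mul (1 : P i),
      ← Algebra.TensorProduct.tmul_mul_tmul, hk, mul_zero]⟩

/-- The torsion of a group of multiplicative type is schematically dense in every distinguished open. -/
theorem iInf_map_torsionIdeal_eq_bot {R A : Type u} [CommRing R] [CommRing A] [HopfAlgebra R A]
    (hft : Algebra.FiniteType R A) (h : SGA3b.IsMultType R A) (a : A) :
    ⨅ n : {n : ℕ // 0 < n}, Ideal.map (algebraMap A (Localization.Away a)) (SGA3b.torsionIdeal R A n.1) = ⊥ := by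
  classical
  rw [eq_bot_iff]
  intro x hx
  rw [Submodule.mem_iInf] at hx
  obtain ⟨⟨b, s⟩, hbs⟩ := IsLocalization.surj (Submonoid.powers a) x
  obtain ⟨i, hi⟩ := s.2
  have hT : ∀ n : ℕ, 0 < n → ∃ j : ℕ, a ^ j * b ∈ SGA3b.torsionIdeal R A n := by
    intro n hn
    obtain ⟨⟨⟨y, hy⟩, t⟩, hyt⟩ := (IsLocalization.mem_map_algebraMap_iff (Submonoid.powers a) (Localization.Away a)).1
      (hx ⟨n, hn⟩)
    have h2 : algebraMap A (Localization.Away a) (b * (t : A)) = algebraMap A (Localization.Away a) (y * (s : A)) := by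
      rw [map_mul, map_mul, ← hbs, ← hyt]
      ring
    obtain ⟨⟨c, l, hc⟩, hc2⟩ := (IsLocalization.eq_iff_exists (Submonoid.powers a) (Localization.Away a)).1 h2
    obtain ⟨tl, htl⟩ := t.2
    refine ⟨l + tl, ?_⟩
    simp only at hc2 hc htl
    rw [pow_add, hc, htl, mul_assoc, mul_comm (t : A) b, hc2]
    exact Ideal.mul_mem_left _ _ (Ideal.mul_mem_right _ _ hy)
  obtain ⟨k, hab⟩ := exists_pow_mul_eq_zero_torsion hft h a b hT
  rw [Ideal.mem_bot]
  have hb0 : algebraMap A (Localization.Away a) b = 0 :=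
    (IsLocalization.map_eq_zero_iff (Submonoid.powers a) _ _).2 ⟨⟨_, _, rfl⟩, hab⟩
  rw [hb0] at hbs
  exact (IsLocalization.map_units (Localization.Away a) s).mul_left_eq_zero.1 hbs

end Groth.Agent.H19Mult.TorsionDense
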