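import Groth.Agent.H19Mult.TorsionDense2
import Groth.Agent.H19Mult.TorsionFill
import Groth.Agent.H19Mult.SplitField
import Groth.Agent.H19Mult.BaseChange
import Groth.Agent.H19Mult.SubgroupLocal

/-!
Schematic density of torsion for a commutative algebraic group with a clopen subgroup of multiplicative type.
-/

set_option autoImplicit false
set_option linter.style.haveILetI false
set_option backward.isDefEq.respectTransparency false

universe u

open TensorProduct WithConv

namespace Groth.Agent.H19Mult.TorsionTranslates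

/-- Over an algebraically closed field, multiplicative type of finite type means diagonalisable. -/
theorem exists_chart_of_isAlgClosed {K : Type u} [Field K] [IsAlgClosed K] {A : Type u} [CommRing A] [HopfAlgebra K A]
    (hft : Algebra.FiniteType K A) (h : SGA3b.IsMultType K A) :
    ∃ (M : Type u) (_ : CommGroup M), Group.FG M ∧ Nonempty (A ≃ₐc[K] MonoidAlgebra K M) := by
  obtain ⟨M, _, hM, ⟨e⟩⟩ := exists_chart_algClosure hft h
  let L := AlgebraicClosure K
  let r : L →+* K := (RingEquiv.ofBijective (algebraMap K L) IsAlgClosed.algebraMap_bijective_of_isIntegral).symm.toRingHom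
  letI : Algebra L K := r.toAlgebra
  haveI : IsScalarTower K L K := IsScalarTower.of_algebraMap_eq fun x => by
    show x = r (algebraMap K L x)
    exact (RingEquiv.symm_apply_apply _ x).symm
  obtain ⟨eK⟩ := isDiag_baseChange e K
  exact ⟨M, inferInstance, hM, ⟨(Bialgebra.TensorProduct.lid K A).symm.trans eK⟩⟩

variable {K : Type u} [Field K] {C : Type u} [CommRing C] [HopfAlgebra K C]

/-- Translation by a point. -/
noncomputable def tau (g : WithConv (C →ₐ[K] K)) : C →ₐ[K] C :=
  (toConv ((Algebra.ofId K C).comp g.ofConv) * toConv (AlgHom.id K C)).ofConv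

theorem comp_ofId {E : Type u} [CommRing E] [Algebra K E] (f : C →ₐ[K] E) (g : C →ₐ[K] K) :
    f.comp ((Algebra.ofId K C).comp g) = (Algebra.ofId K E).comp g :=
  AlgHom.ext fun c => f.commutes (g c)

/-- Constant points. -/
noncomputable def const (E : Type u) [CommRing E] [Algebra K E] :
    WithConv (C →ₐ[K] K) →* WithConv (C →ₐ[K] E) where
  toFun g := toConv ((Algebra.ofId K E).comp g.ofConv)
  map_one' := WithConv.ofConv_injective (AlgHom.ext fun c => by
    show algebraMap K E (algebraMap K K (Coalgebra.counit (R := K) c)) = algebraMap K E (Coalgebra.counit (R := K) c)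
    rfl)
  map_mul' g h := WithConv.ofConv_injective (AlgHom.comp_convMul_distrib (Algebra.ofId K E) g h)

theorem comp_tau {E : Type u} [CommRing E] [Algebra K E] (f : C →ₐ[K] E) (g : WithConv (C →ₐ[K] K)) :
    toConv (f.comp (tau g)) = const E g * toConv f := by
  refine WithConv.ofConv_injective ?_
  have h := AlgHom.comp_convMul_distrib f (toConv ((Algebra.ofId K C).comp g.ofConv)) (toConv (AlgHom.id K C))
  refine h.trans ?_
  rw [AlgHom.comp_id, comp_ofId]
  rfl

theorem tau_tau_inv [Coalgebra.IsCocomm K C] (g : WithConv (C →ₐ[K] K)) (c : C) : tau g⁻¹ (tau g c) = c := by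
  have h : toConv ((tau g⁻¹).comp (tau g)) = toConv (AlgHom.id K C) := by
    rw [comp_tau]
    show const C g * (const C g⁻¹ * toConv (AlgHom.id K C)) = _
    rw [← mul_assoc, ← map_mul, mul_inv_cancel, map_one, one_mul]
  exact AlgHom.congr_fun (WithConv.toConv_injective h) c

theorem apply_tau (p g : WithConv (C →ₐ[K] K)) (c : C) : p.ofConv (tau g c) = (g * p).ofConv c := by
  have h := comp_tau p.ofConv g
  have h2 : const K g = g := WithConv.ofConv_injective (AlgHom.ext fun _ => rfl)
  rw [h2] at h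
  exact congrArg (fun w : WithConv (C →ₐ[K] K) => w.ofConv c) h

theorem comp_powConv' {E : Type u} [CommRing E] [Algebra K E] (f : C →ₐ[K] E) (n : ℕ) :
    toConv (f.comp (SGA3b.powConv K C n)) = toConv f ^ n := by
  unfold SGA3b.powConv
  induction n with
  | zero =>
    rw [pow_zero, pow_zero]
    exact WithConv.ofConv_injective (AlgHom.ext fun c => f.commutes _)
  | succ n ih =>
    rw [pow_succ, pow_succ, ← ih]
    refine WithConv.ofConv_injective ?_
    show f.comp (_ * _ : WithConv (C →ₐ[K] C)).ofConv = _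
    rw [AlgHom.comp_convMul_distrib]
    rfl

/-- The group of points of a diagonalisable group, mapped to the points of `C` through `ψ`. -/
noncomputable def charPts {M : Type u} [CommGroup M] (ψ : C →ₐc[K] MonoidAlgebra K M) :
    (M →* Kˣ) →* WithConv (C →ₐ[K] K) :=
  MonoidHom.mk' (fun h => toConv ((MonoidAlgebra.lift K K M ((Units.coeHom K).comp h)).comp
    (ψ : C →ₐ[K] MonoidAlgebra K M))) fun a b => by
    refine WithConv.ofConv_injective ?_
    have h := AlgHom.convMul_comp_bialgHom_distrib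
      (toConv (MonoidAlgebra.lift K K M ((Units.coeHom K).comp a)))
      (toConv (MonoidAlgebra.lift K K M ((Units.coeHom K).comp b))) ψ
    refine Eq.trans ?_ h
    show (MonoidAlgebra.lift K K M ((Units.coeHom K).comp (a * b))).comp _ = AlgHom.comp _ _
    congr 1
    refine MonoidAlgebra.algHom_ext (fun m => ?_) (AlgHom.ext fun r => ?_)
    · rw [MonoidAlgebra.lift_single, AlgHom.convMul_apply, MonoidAlgebra.comul_single, CommSemiring.comul_apply]
      simp [MonoidAlgebra.lift_single]
    · exact (AlgHom.commutes _ r).trans (AlgHom.commutes _ r).symm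

variable [IsAlgClosed K] [Coalgebra.IsCocomm K C] [Algebra.FiniteType K C]
  {e : C} (he : IsIdempotentElem e) [hH : (Ideal.span {e}).IsHopfIdeal K]

include he hH in
/-- Every point is a torsion translate of one in the clopen subgroup. -/
theorem exists_torsion_translate (hG : SGA3b.IsMultType K (C ⧸ Ideal.span {e})) (p : WithConv (C →ₐ[K] K)) :
    ∃ g : WithConv (C →ₐ[K] K), (∃ o : ℕ, 0 < o ∧ g ^ o = 1) ∧ (g⁻¹ * p).ofConv e = 0 := by
  obtain ⟨k, hk, hpk⟩ := exists_pow_apply_eq_zero he p
  obtain ⟨M, _, hM, ⟨ε⟩⟩ := exists_chart_of_isAlgClosed (A := C ⧸ Ideal.span {e}) inferInstance hG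
  let ψ : C →ₐc[K] MonoidAlgebra K M :=
    (ε : (C ⧸ Ideal.span {e}) →ₐc[K] MonoidAlgebra K M).comp (Bialgebra.Quotient.mkBialgHom (R := K) (Ideal.span {e}))
  have hψe : ψ e = 0 := by
    show ε (Ideal.Quotient.mk _ e) = 0
    rw [Ideal.Quotient.eq_zero_iff_mem.2 (Ideal.mem_span_singleton_self e), map_zero]
  have hpk' : ∀ c ∈ Ideal.span {e}, (p ^ k).ofConv c = 0 := fun c hc => by
    obtain ⟨d, rfl⟩ := Ideal.mem_span_singleton'.1 hc
    rw [map_mul, hpk, mul_zero]
  let pb : MonoidAlgebra K M →ₐ[K] K :=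
    (Ideal.Quotient.liftₐ _ (p ^ k).ofConv hpk').comp (ε.symm : MonoidAlgebra K M →ₐ[K] C ⧸ Ideal.span {e})
  let h : M →* Kˣ := ((MonoidAlgebra.lift K K M).symm pb).toHomUnits
  have hh : charPts ψ h = p ^ k := by
    refine WithConv.ofConv_injective (AlgHom.ext fun c => ?_)
    show MonoidAlgebra.lift K K M ((Units.coeHom K).comp h) (ε (Ideal.Quotient.mk _ c)) = (p ^ k).ofConv c
    rw [show (Units.coeHom K).comp h = (MonoidAlgebra.lift K K M).symm pb from MonoidHom.ext fun m => rfl,
      Equiv.apply_symm_apply]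
    show Ideal.Quotient.liftₐ _ (p ^ k).ofConv hpk' (ε.symm (ε (Ideal.Quotient.mk _ c))) = _
    rw [BialgEquiv.symm_apply_apply]
    rfl
  haveI := hM
  obtain ⟨t, ht, hroot⟩ := exists_root_monoidHom (M := M) K
  obtain ⟨h', hh'⟩ := hroot k hk h
  refine ⟨p * (charPts ψ h')⁻¹, ⟨k * t, Nat.mul_pos hk ht, ?_⟩, ?_⟩
  · rw [mul_pow, pow_mul, ← hh, ← map_pow, inv_pow, ← map_pow, hh', mul_inv_cancel]
  · rw [mul_inv_rev, inv_inv, mul_assoc, inv_mul_cancel, mul_one]
    show MonoidAlgebra.lift K K M ((Units.coeHom K).comp h') (ψ e) = 0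
    rw [hψe, map_zero]

include he hH in
/-- Torsion detects vanishing in a distinguished open. -/
theorem exists_pow_mul_eq_zero (hG : SGA3b.IsMultType K (C ⧸ Ideal.span {e})) (a b : C)
    (hT : ∀ n : ℕ, 0 < n → ∃ j : ℕ, a ^ j * b ∈ SGA3b.torsionIdeal K C n) : ∃ k : ℕ, a ^ k * b = 0 := by
  classical
  let Tor := {g : WithConv (C →ₐ[K] K) // ∃ o : ℕ, 0 < o ∧ g ^ o = 1}
  have hcov : Ideal.span (Set.range fun g : Tor => 1 - tau g.1⁻¹ e) = ⊤ := by
    by_contra hne
    obtain ⟨m, hm, hle⟩ := Ideal.exists_le_maximal _ hne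
    haveI := hm
    obtain ⟨p⟩ : Nonempty ((C ⧸ m) →ₐ[K] K) := by
      haveI : Module.Finite K (C ⧸ m) := by
        letI : Field (C ⧸ m) := Ideal.Quotient.field m
        haveI : Algebra.FiniteType K (C ⧸ m) := Algebra.FiniteType.of_surjective (Ideal.Quotient.mkₐ K m) Ideal.Quotient.mk_surjective
        exact finite_of_finite_type_of_isJacobsonRing K (C ⧸ m)
      letI : Field (C ⧸ m) := Ideal.Quotient.field m
      haveI : Algebra.IsAlgebraic K (C ⧸ m) := Algebra.IsAlgebraic.of_finite K _
      exact ⟨IsAlgClosed.lift⟩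
    obtain ⟨g, hg, hgp⟩ := exists_torsion_translate he hG (toConv (p.comp (Ideal.Quotient.mkₐ K m)))
    have h1 : p (Ideal.Quotient.mk m (1 - tau g⁻¹ e)) = 0 := by
      rw [Ideal.Quotient.eq_zero_iff_mem.2 (hle (Ideal.subset_span ⟨⟨g, hg⟩, rfl⟩)), map_zero]
    rw [← apply_tau] at hgp
    rw [map_sub, map_sub, map_one, map_one] at h1
    change 1 - p (Ideal.Quotient.mk m (tau g⁻¹ e)) = 0 at h1
    change p (Ideal.Quotient.mk m (tau g⁻¹ e)) = 0 at hgp
    rw [hgp, sub_zero] at h1
    exact one_ne_zero h1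
  obtain ⟨S, hS, hS1⟩ := Submodule.mem_span_finite_of_mem_span ((Ideal.eq_top_iff_one _).1 hcov)
  let π : C →ₐc[K] C ⧸ Ideal.span {e} := Bialgebra.Quotient.mkBialgHom (R := K) (Ideal.span {e})
  have hk : ∀ g : Tor, ∃ k : ℕ, (1 - tau g.1⁻¹ e) * (a ^ k * b) = 0 := by
    intro g
    obtain ⟨o, ho, hgo⟩ := g.2
    let f : C →ₐ[K] C ⧸ Ideal.span {e} := (π : C →ₐ[K] C ⧸ Ideal.span {e}).comp (tau g.1)
    have hsub : ∀ n : ℕ, ∀ c ∈ SGA3b.torsionIdeal K C (o * n), f c ∈ SGA3b.torsionIdeal K (C ⧸ Ideal.span {e}) n := by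
      intro n
      let Q := (C ⧸ Ideal.span {e}) ⧸ SGA3b.torsionIdeal K (C ⧸ Ideal.span {e}) n
      let q : C →ₐ[K] Q := (Ideal.Quotient.mkₐ K _).comp (π : C →ₐ[K] C ⧸ Ideal.span {e})
      let qg : C →ₐ[K] Q := (Ideal.Quotient.mkₐ K _).comp f
      have h1 : toConv qg = const Q g.1 * toConv q := by
        show toConv (q.comp (tau g.1)) = _
        exact comp_tau q g.1
      have h2 : toConv q ^ n = 1 := by
        rw [← comp_powConv']
        refine WithConv.ofConv_injective (AlgHom.ext fun c => ?_)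
        show Ideal.Quotient.mk _ (π (SGA3b.powConv K C n c)) = algebraMap K Q (Coalgebra.counit (R := K) c)
        rw [SubgroupLocal.powConv_comp π n c, IsScalarTower.algebraMap_apply K (C ⧸ Ideal.span {e}) Q,
          Ideal.Quotient.algebraMap_eq, Ideal.Quotient.eq,
          ← (SGA3b.powConv K (C ⧸ Ideal.span {e}) n).commutes (Coalgebra.counit (R := K) c), ← map_sub]
        refine Ideal.mem_map_of_mem _ ?_
        show Bialgebra.counitAlgHom K (C ⧸ Ideal.span {e}) _ = 0
        rw [map_sub, AlgHom.commutes]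
        exact sub_self _
      have h3 : toConv (qg.comp (SGA3b.powConv K C (o * n))) = 1 := by
        rw [comp_powConv', h1, mul_pow, pow_mul (toConv q), ← map_pow, pow_mul g.1, hgo, one_pow, map_one,
          one_mul, pow_right_comm, h2, one_pow]
      intro c hc
      have h4 : SGA3b.torsionIdeal K C (o * n) ≤ RingHom.ker qg := Ideal.map_le_iff_le_comap.2 fun b hb => by
        show qg.comp (SGA3b.powConv K C (o * n)) b = 0
        rw [show qg.comp (SGA3b.powConv K C (o * n)) = _ from congrArg WithConv.ofConv h3]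
        show algebraMap K Q (Coalgebra.counit (R := K) b) = 0
        rw [show Coalgebra.counit (R := K) b = 0 from hb, map_zero]
      exact Ideal.Quotient.eq_zero_iff_mem.1 (h4 hc)
    obtain ⟨k, hk⟩ := TorsionDense.exists_pow_mul_eq_zero_torsion (R := K) (A := C ⧸ Ideal.span {e}) inferInstance hG
      (f a) (f b) fun n hn => by
        obtain ⟨j, hj⟩ := hT (o * n) (Nat.mul_pos ho hn)
        exact ⟨j, by rw [← map_pow, ← map_mul]; exact hsub n _ hj⟩
    refine ⟨k, ?_⟩
    rw [← map_pow, ← map_mul] at hk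
    obtain ⟨d, hd⟩ := Ideal.mem_span_singleton'.1 (Ideal.Quotient.eq_zero_iff_mem.1 hk :
      tau g.1 (a ^ k * b) ∈ Ideal.span {e})
    rw [← tau_tau_inv g.1 (a ^ k * b), ← hd, map_mul, mul_comm (tau g.1⁻¹ d), ← mul_assoc, sub_mul, one_mul,
      ← map_mul (tau g.1⁻¹) e e, he.eq, sub_self, zero_mul]
  choose k hk using hk
  have hS' : ∀ s : S, ∃ g : Tor, (s : C) = 1 - tau g.1⁻¹ e := fun s => (hS s.2).imp fun g hg => hg.symm
  choose γ hγ using hS'
  refine ⟨Finset.univ.sup fun s : S => k (γ s), ?_⟩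
  have hall : (Ideal.span (S : Set C)) ≤ LinearMap.ker (LinearMap.mul C C |>.flip (a ^ (Finset.univ.sup fun s : S => k (γ s)) * b)) := by
    rw [Ideal.span_le]
    intro s hs
    show s * (a ^ _ * b) = 0
    obtain ⟨d, hd⟩ := Nat.exists_eq_add_of_le (Finset.le_sup (f := fun s : S => k (γ s)) (Finset.mem_univ ⟨s, hs⟩))
    rw [hd, pow_add, show ∀ x y : C, x * y * b = y * (x * b) from fun x y => by ring, mul_left_comm]
    exact (congrArg (fun z => a ^ d * z)
      ((congrArg (fun z => z * (a ^ k (γ ⟨s, hs⟩) * b)) (hγ ⟨s, hs⟩)).trans (hk _))).trans (mul_zero _)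
  have h1 := hall hS1
  have h2 : (1 : C) * (a ^ (Finset.univ.sup fun s : S => k (γ s)) * b) = 0 := h1
  rwa [one_mul] at h2

end Groth.Agent.H19Mult.TorsionTranslates
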