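import Groth.Agent.H19Mult.GlobalCriterion
import Groth.Agent.H19Mult.KerMult

/-!
Tori: connectedness over a field, and the criterion by fibres.
-/

set_option autoImplicit false
set_option linter.style.haveILetI false
set_option backward.isDefEq.respectTransparency false

universe u v w

open TensorProduct

namespace Groth.Agent.H19Mult

/-- Renaming the type of a group algebra, in arbitrary universes. -/
theorem nonempty_congr_type {T : Type u} [CommRing T] {B : Type u} [CommRing B] [Bialgebra T B] {M : Type v} {N : Type w}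
    [CommGroup M] [CommGroup N] (θ : M ≃* N) (e : B ≃ₐc[T] MonoidAlgebra T M) :
    Nonempty (B ≃ₐc[T] MonoidAlgebra T N) := by
  let f := MonoidAlgebra.mapDomainBialgHom T θ.toMonoidHom
  refine ⟨e.trans (BialgEquiv.ofBijective f (Function.bijective_iff_has_inverse.2
    ⟨MonoidAlgebra.mapDomainBialgHom T θ.symm.toMonoidHom, fun x => ?_, fun x => ?_⟩))⟩
  · induction x using MonoidAlgebra.induction_linear with
    | zero => simp
    | add u v hu hv => simp only [map_add, hu, hv]
    | single m r => simp [f]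
  · induction x using MonoidAlgebra.induction_linear with
    | zero => simp
    | add u v hu hv => simp only [map_add, hu, hv]
    | single m r => simp [f]

/-- The group algebra of `ℤ^n` with type in the universe of the base. -/
abbrev LatType (n : ℕ) : Type u := ULift.{u} (Multiplicative (Fin n → ℤ))

theorem isMultType_of_isTorus {R : Type u} [CommRing R] {A : Type u} [CommRing A] [HopfAlgebra R A]
    (h : SGA3b.IsTorus R A) : SGA3b.IsMultType R A := by
  obtain ⟨s, hs, h⟩ := h
  refine ⟨s, hs, fun f hf => ?_⟩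
  obtain ⟨T, _, _, hff, n, ⟨e⟩⟩ := h f hf
  obtain ⟨e'⟩ := nonempty_congr_type (MulEquiv.ulift.symm : Multiplicative (Fin n → ℤ) ≃* LatType.{u} n) e
  exact ⟨T, inferInstance, inferInstance, hff, _, inferInstance, ⟨e'⟩⟩

/-- A torus over a field has a lattice chart over some nonzero algebra. -/
theorem exists_lattice_chart {k : Type u} [Field k] {A : Type u} [CommRing A] [HopfAlgebra k A]
    (h : SGA3b.IsTorus k A) :
    ∃ (T : Type u) (_ : CommRing T) (_ : Algebra k T) (_ : Nontrivial T) (n : ℕ),
      Nonempty ((T ⊗[k] A) ≃ₐc[T] MonoidAlgebra T (LatType.{u} n)) := by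
  obtain ⟨s, hs, h⟩ := h
  obtain ⟨f, hf, hf0⟩ : ∃ f ∈ s, f ≠ (0 : k) := by
    by_contra hc
    push Not at hc
    exact bot_ne_top ((Ideal.span_eq_bot.2 hc).symm.trans hs)
  obtain ⟨T, _, _, hff, n, ⟨e⟩⟩ := h f hf
  let L := Localization.Away f
  haveI : Nontrivial L := (IsLocalization.Away.lift f (g := RingHom.id k) hf0.isUnit).domain_nontrivial
  haveI := hff
  haveI : Nontrivial T := by
    obtain ⟨P, hP⟩ := Ideal.exists_maximal L
    obtain ⟨q, -⟩ := PrimeSpectrum.comap_surjective_of_faithfullyFlat (A := L) (B := T) ⟨P, hP.isPrime⟩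
    exact PrimeSpectrum.nonempty_iff_nontrivial.1 ⟨q⟩
  letI : Algebra k T := ((algebraMap L T).comp (algebraMap k L)).toAlgebra
  haveI : IsScalarTower k L T := IsScalarTower.of_algebraMap_eq' rfl
  exact ⟨T, inferInstance, inferInstance, inferInstance, n, nonempty_congr_type MulEquiv.ulift.symm
    ((cancelEquiv (R := k) (A := A) L T).symm.trans e)⟩

/-- A torus over a field is connected. -/
theorem connectedSpace_of_isTorus {k : Type u} [Field k] {A : Type u} [CommRing A] [HopfAlgebra k A]
    (h : SGA3b.IsTorus k A) : ConnectedSpace (PrimeSpectrum A) := by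
  obtain ⟨T, _, _, _, n, ⟨e⟩⟩ := exists_lattice_chart h
  obtain ⟨m, hm⟩ := Ideal.exists_maximal T
  haveI := hm
  obtain ⟨eK⟩ := isDiag_baseChange e (T ⧸ m)
  obtain ⟨eK'⟩ := nonempty_congr_type MulEquiv.ulift eK
  letI : Field (T ⧸ m) := Ideal.Quotient.field m
  let g : A →+* MonoidAlgebra (T ⧸ m) (Multiplicative (Fin n → ℤ)) :=
    ((eK' : ((T ⧸ m) ⊗[k] A) →ₐ[T ⧸ m] MonoidAlgebra (T ⧸ m) (Multiplicative (Fin n → ℤ))).toRingHom).comp
      (Algebra.TensorProduct.includeRight : A →ₐ[k] (T ⧸ m) ⊗[k] A).toRingHom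
  have hinj : Function.Injective g := (EquivLike.injective eK').comp
    (Algebra.TensorProduct.includeRight_injective (algebraMap k (T ⧸ m)).injective)
  haveI : IsDomain (MonoidAlgebra (T ⧸ m) (Multiplicative (Fin n → ℤ))) := NoZeroDivisors.to_isDomain _
  haveI : IsDomain A := hinj.isDomain g
  infer_instance

/-- A group over a zero ring is a torus of rank zero. -/
theorem nonempty_lattice_zero {T : Type u} [CommRing T] [Subsingleton T] (B : Type u) [CommRing B] [HopfAlgebra T B] :
    Nonempty (B ≃ₐc[T] MonoidAlgebra T (Multiplicative (Fin 0 → ℤ))) := by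
  haveI : Subsingleton B := Module.subsingleton T _
  haveI : Subsingleton (MonoidAlgebra T (Multiplicative (Fin 0 → ℤ))) := Module.subsingleton T _
  exact ⟨BialgEquiv.ofBijective
    ((Bialgebra.unitBialgHom T (MonoidAlgebra T (Multiplicative (Fin 0 → ℤ)))).comp (Bialgebra.counitBialgHom T B))
    ⟨fun _ _ _ => Subsingleton.elim _ _, fun y => ⟨0, Subsingleton.elim _ _⟩⟩⟩

/-- The primes of an algebra over a residue field lie over the prime. -/
theorem comap_eq_of_residueField {R : Type u} [CommRing R] (p : PrimeSpectrum R) {T : Type u} [CommRing T] [Algebra R T]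
    [Algebra p.asIdeal.ResidueField T] [IsScalarTower R p.asIdeal.ResidueField T] (q : PrimeSpectrum T) :
    PrimeSpectrum.comap (algebraMap R T) q = p := by
  refine PrimeSpectrum.ext ?_
  ext r
  show algebraMap R T r ∈ q.asIdeal ↔ r ∈ p.asIdeal
  rw [IsScalarTower.algebraMap_apply R p.asIdeal.ResidueField T]
  refine ⟨fun h => by_contra fun hr => q.isPrime.ne_top (Ideal.eq_top_of_isUnit_mem _ h ?_), fun hr => ?_⟩
  · refine IsUnit.map _ (isUnit_iff_ne_zero.2 fun h0 => hr ?_)
    exact Ideal.algebraMap_residueField_eq_zero.1 h0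
  · rw [Ideal.algebraMap_residueField_eq_zero.2 hr, map_zero]
    exact zero_mem _

/-- Flat finitely presented groups with torus fibres are tori. -/
theorem isTorus_of_fibres {R : Type u} [CommRing R] {A : Type u} [CommRing A] [HopfAlgebra R A] [Module.Flat R A]
    (hfp : Algebra.FinitePresentation R A)
    (hfib : ∀ (p : Ideal R) [p.IsPrime], SGA3b.IsTorus p.ResidueField (p.ResidueField ⊗[R] A)) : SGA3b.IsTorus R A := by
  obtain ⟨s, hs, h⟩ := LocalCriterion.isMultType_of_connected_fibres hfp
    fun p _ => ⟨isMultType_of_isTorus (hfib p), connectedSpace_of_isTorus (hfib p)⟩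
  refine ⟨s, hs, fun f hf => ?_⟩
  obtain ⟨T, _, _, hff, M, _, ⟨e⟩⟩ := h f hf
  rcases subsingleton_or_nontrivial T with hT | hT
  · exact ⟨T, inferInstance, inferInstance, hff, 0, nonempty_lattice_zero _⟩
  obtain ⟨m, hm⟩ := Ideal.exists_maximal T
  let L := Localization.Away f
  letI : Algebra R T := ((algebraMap L T).comp (algebraMap R L)).toAlgebra
  haveI : IsScalarTower R L T := IsScalarTower.of_algebraMap_eq' rfl
  let p : PrimeSpectrum R := PrimeSpectrum.comap (algebraMap R T) ⟨m, hm.isPrime⟩
  obtain ⟨T', _, _, _, n, ⟨e'⟩⟩ := exists_lattice_chart (hfib p.asIdeal)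
  obtain ⟨m', hm'⟩ := Ideal.exists_maximal T'
  letI : Algebra R T' := ((algebraMap p.asIdeal.ResidueField T').comp (algebraMap R p.asIdeal.ResidueField)).toAlgebra
  haveI : IsScalarTower R p.asIdeal.ResidueField T' := IsScalarTower.of_algebraMap_eq' rfl
  obtain ⟨θ⟩ := nonempty_mulEquiv_of_points (R := R) (A := A) ((cancelEquiv (R := R) (A := A) L T).symm.trans e)
    ((cancelEquiv (R := R) (A := A) p.asIdeal.ResidueField T').symm.trans e') ⟨m, hm.isPrime⟩ ⟨m', hm'.isPrime⟩
    (comap_eq_of_residueField p _).symm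
  exact ⟨T, inferInstance, inferInstance, hff, n, nonempty_congr_type (θ.trans MulEquiv.ulift) e⟩

end Groth.Agent.H19Mult
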